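import Groth.Agent.Lib.AlgSpDescent.SchemeSource
import Mathlib.RingTheory.Etale.StandardEtale
import Mathlib.RingTheory.Unramified.LocalStructure
import Mathlib.RingTheory.Etale.Descent
import Mathlib.AlgebraicGeometry.Morphisms.Smooth

/-!
# Smoothness descends along étale surjections of the source
-/

universe u

open TensorProduct Polynomial

namespace Groth.Agent.AlgSpace

section Pair

variable {R : Type u} [CommRing R]

/-- A standard étale pair lifts along a surjection, up to a power of `g`. -/
theorem exists_lift_pair {B : Type u} [CommRing B] (φ : R →+* B) (hφ : Function.Surjective φ)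
    (P : StandardEtalePair B) :
    ∃ (P₀ : StandardEtalePair R) (n : ℕ), (P₀.map φ).f = P.f ∧ (P₀.map φ).g = P.g ^ (n + 1) := by
  obtain ⟨p₁, p₂, n, e⟩ := P.cond
  obtain ⟨f₀, hf₀, hmon⟩ : ∃ f₀ : R[X], f₀.map φ = P.f ∧ f₀.Monic := by
    cases subsingleton_or_nontrivial B
    · exact ⟨1, Subsingleton.elim _ _, monic_one⟩
    · exact (Polynomial.lifts_and_degree_eq_and_monic (Polynomial.map_surjective φ hφ P.f)
        P.monic_f).imp fun q hq => ⟨hq.1, hq.2.2⟩
  obtain ⟨q₁, rfl⟩ := Polynomial.map_surjective φ hφ p₁
  obtain ⟨q₂, rfl⟩ := Polynomial.map_surjective φ hφ p₂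
  obtain ⟨g₀, hg₀⟩ := Polynomial.map_surjective φ hφ P.g
  refine ⟨⟨f₀, hmon, g₀ * (derivative f₀ * q₁ + f₀ * q₂), g₀ * q₁, g₀ * q₂, 1, by ring⟩, n,
    hf₀, ?_⟩
  simp [StandardEtalePair.map, Polynomial.map_mul, Polynomial.map_add, derivative_map, hf₀, hg₀,
    pow_succ', ← e, ← Polynomial.derivative_map]

/-- Replacing `g` by a power does not change the standard étale algebra. -/
theorem nonempty_ringEquiv_of_pow (P Q : StandardEtalePair R) (hf : Q.f = P.f) {n : ℕ}
    (hg : Q.g = P.g ^ (n + 1)) : Nonempty (Q.Ring ≃ₐ[R] P.Ring) := by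
  have h₁ : Q.HasMap P.X := ⟨hf ▸ P.hasMap_X.1, by
    rw [hg, map_pow]; exact P.hasMap_X.2.pow _⟩
  have h₂ : P.HasMap Q.X := ⟨hf ▸ Q.hasMap_X.1, by
    have := Q.hasMap_X.2
    rw [hg, map_pow] at this
    exact (isUnit_pow_iff n.succ_ne_zero).1 this⟩
  refine ⟨AlgEquiv.ofAlgHom (Q.lift P.X h₁) (P.lift Q.X h₂) ?_ ?_⟩
  · exact P.hom_ext (by simp)
  · exact Q.hom_ext (by simp)

end Pair

section BaseChange

/-- The kernel of a flat base change is the base change of the kernel. -/
theorem bijective_liftBaseChange {R S : Type u} [CommRing R] [CommRing S] [Algebra R S]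
    [Module.Flat R S] {I : Ideal R} {J : Ideal S} (g : I →ₗ[R] J)
    (hg : ∀ i, (g i : S) = algebraMap R S i) (hJ : J ≤ I.map (algebraMap R S)) :
    Function.Bijective (g.liftBaseChange S) := by
  have key : ∀ z, (g.liftBaseChange S z : S) =
      TensorProduct.rid R S (LinearMap.lTensor S I.subtype z) := by
    intro z
    induction z with
    | zero => simp
    | add a b ha hb => simp [map_add, ha, hb]
    | tmul a b => simp [hg, Algebra.smul_def, mul_comm]
  refine ⟨fun x y hxy => Module.Flat.lTensor_preserves_injective_linearMap (M := S) I.subtype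
    I.subtype_injective ((TensorProduct.rid R S).injective
      ((key x).symm.trans ((congrArg Subtype.val hxy).trans (key y)))), fun x => ?_⟩
  have hx := hJ x.2
  rw [Ideal.map, Ideal.span] at hx
  suffices h : ∃ z, (g.liftBaseChange S z : S) = x.1 from h.imp fun z hz => Subtype.ext hz
  refine Submodule.span_induction (p := fun y _ => ∃ z, (g.liftBaseChange S z : S) = y)
    ?_ ⟨0, by simp⟩ ?_ ?_ hx
  · rintro _ ⟨i, hi, rfl⟩
    exact ⟨(1 : S) ⊗ₜ ⟨i, hi⟩, by simp [hg]⟩
  · rintro a b - - ⟨z, hz⟩ ⟨w, hw⟩
    exact ⟨z + w, by simp [map_add, hz, hw]⟩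
  · rintro r a - ⟨z, hz⟩
    exact ⟨r • z, by simp [map_smul, hz]⟩

end BaseChange

section Ring

variable (A : Type u) [CommRing A] {B : Type u} [CommRing B] [Algebra A B]

/-- The first cotangent homology dies after tensoring with a smooth standard étale algebra. -/
theorem subsingleton_tensor_h1Cotangent_of_isStandardEtale (T : Type u) [CommRing T] [Algebra B T]
    [Algebra A T] [IsScalarTower A B T] [Algebra.IsStandardEtale B T]
    [Algebra.FormallySmooth A T] : Subsingleton (T ⊗[B] Algebra.H1Cotangent A B) := by
  classical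
  let Pr : StandardEtalePresentation B T :=
    Algebra.IsStandardEtale.nonempty_standardEtalePresentation.some
  let P : Algebra.Extension.{u} A B := (Algebra.Generators.self A B).toExtension
  obtain ⟨P₀, n, hf, hg⟩ := exists_lift_pair (algebraMap P.Ring B) P.algebraMap_surjective Pr.P
  let S₀ := P₀.Ring
  let T' := B ⊗[P.Ring] S₀
  let P₀' : StandardEtalePresentation P.Ring S₀ :=
    ⟨P₀, P₀.X, P₀.hasMap_X, by rw [StandardEtalePair.lift_X_left]; exact Function.bijective_id⟩
  letI : Algebra A S₀ := ((algebraMap P.Ring S₀).comp (algebraMap A P.Ring)).toAlgebra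
  haveI : IsScalarTower A P.Ring S₀ := .of_algebraMap_eq' rfl
  obtain ⟨e₁⟩ := nonempty_ringEquiv_of_pow Pr.P (P₀.map (algebraMap P.Ring B)) hf hg
  let e : T' ≃ₐ[B] T :=
    ((P₀'.baseChange (T := B)).equivRing.trans e₁).trans Pr.equivRing.symm
  have : Algebra.FormallySmooth A P.Ring :=
    inferInstanceAs (Algebra.FormallySmooth A (MvPolynomial B A))
  have : Algebra.FormallySmooth A T' := .of_equiv (e.restrictScalars A).symm
  have : Algebra.FormallySmooth A S₀ := .comp A P.Ring S₀
  let inR : S₀ →ₐ[P.Ring] T' := Algebra.TensorProduct.includeRight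
  have hsurj : Function.Surjective inR :=
    Algebra.TensorProduct.includeRight_surjective S₀ P.algebraMap_surjective
  let Q : Algebra.Extension.{u} A T' := .ofSurjective (inR.restrictScalars A) hsurj
  let f : P.Hom Q :=
  { toRingHom := algebraMap P.Ring S₀
    toRingHom_algebraMap := fun x => (IsScalarTower.algebraMap_apply A P.Ring S₀ x).symm
    algebraMap_toRingHom := fun x => by
      change inR (algebraMap P.Ring S₀ x) = algebraMap B T' (algebraMap P.Ring B x)
      rw [AlgHom.commutes, ← IsScalarTower.algebraMap_apply] }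
  letI : Algebra P.Ring Q.Ring := (inferInstance : Algebra P.Ring S₀)
  have : Algebra.FormallySmooth A Q.Ring := ‹Algebra.FormallySmooth A S₀›
  have H₁ : f.toRingHom.FormallyEtale :=
    RingHom.formallyEtale_algebraMap.mpr (inferInstance : Algebra.FormallyEtale P.Ring S₀)
  have H₂ : Function.Bijective ((f.mapKer rfl).liftBaseChange Q.Ring) := by
    have : Module.Flat P.Ring Q.Ring := (inferInstance : Module.Flat P.Ring S₀)
    exact bijective_liftBaseChange (f.mapKer rfl) (fun i => rfl)
      (fun x hx => AlgSpDescent.mem_map_ker_of_includeRight_eq_zero (D := P.Ring) (B := B)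
        (C := S₀) P.algebraMap_surjective x hx)
  have : Subsingleton (T' ⊗[B] P.H1Cotangent) :=
    ((Algebra.Extension.tensorH1CotangentOfFormallyEtale f rfl H₁ H₂).trans
      (Algebra.Extension.equivH1CotangentOfFormallySmooth Q)).subsingleton
  exact ((TensorProduct.congr e.toLinearEquiv (LinearEquiv.refl B P.H1Cotangent)).symm).subsingleton

variable {A}

/-- Formal smoothness descends along étale faithfully flat extensions of the source. -/
theorem smooth_of_etale_source (A B C : Type u) [CommRing A] [CommRing B] [CommRing C] [Algebra A B]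
    [Algebra B C] [Algebra A C] [IsScalarTower A B C] [Module.FaithfullyFlat B C]
    [Algebra.Etale B C] [Algebra.Smooth A C] : Algebra.Smooth A B := by
  have hfp : Algebra.FinitePresentation A B :=
    AlgSpDescent.finitePresentation_of_smooth_faithfullyFlat A B C
  refine ⟨?_, hfp⟩
  rw [Algebra.formallySmooth_iff]
  constructor
  · have : Module.Flat C (C ⊗[B] Ω[B⁄A]) :=
      Module.Flat.of_linearEquiv (KaehlerDifferential.tensorKaehlerEquivOfFormallyEtale A B C)
    have : Module.Flat B Ω[B⁄A] := Module.Flat.of_flat_tensorProduct _ _ C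
    exact Module.Flat.projective_of_finitePresentation
  · suffices Subsingleton (C ⊗[B] Algebra.H1Cotangent A B) from
      Module.FaithfullyFlat.lTensor_reflects_triviality B C _
    refine subsingleton_of_forall_eq 0 fun x => ?_
    by_contra hx
    obtain ⟨m, hm, hle⟩ := Ideal.exists_le_maximal
      (LinearMap.ker (LinearMap.toSpanSingleton C _ x)) (fun h => hx (by
        have : (1 : C) ∈ LinearMap.ker (LinearMap.toSpanSingleton C _ x) := by
          rw [h]; trivial
        simpa using this))
    obtain ⟨g, hgm, hg⟩ := Algebra.IsEtaleAt.exists_isStandardEtale (R := B) m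
    have : Algebra.FormallySmooth C (Localization.Away g) := .of_isLocalization (.powers g)
    have : Algebra.FormallySmooth A (Localization.Away g) := .comp A C (Localization.Away g)
    have h0 := subsingleton_tensor_h1Cotangent_of_isStandardEtale A (B := B) (Localization.Away g)
    have hz : (TensorProduct.mk C (Localization.Away g) (C ⊗[B] Algebra.H1Cotangent A B) 1) x = 0 :=
      (TensorProduct.AlgebraTensorModule.cancelBaseChange B C (Localization.Away g)
        (Localization.Away g) (Algebra.H1Cotangent A B)).injective (Subsingleton.elim _ _)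
    have hloc : IsLocalizedModule (.powers g)
        (TensorProduct.mk C (Localization.Away g) (C ⊗[B] Algebra.H1Cotangent A B) 1) :=
      (isLocalizedModule_iff_isBaseChange _ (Localization.Away g) _).mpr
        (TensorProduct.isBaseChange C _ (Localization.Away g))
    obtain ⟨⟨_, k, rfl⟩, hk⟩ := (IsLocalizedModule.eq_zero_iff (.powers g) _).1 hz
    exact hgm (hm.isPrime.mem_of_pow_mem k (hle (by simpa [Submonoid.smul_def] using hk)))

end Ring

open CategoryTheory AlgebraicGeometry in
theorem descendsEtaleSource_smooth : AlgSpDescent.DescendsEtaleSource @Smooth.{u} :=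
  AlgSpDescent.descendsEtaleSource_of_ring _ fun A B C _ _ _ _ _ _ _ _ _ h => by
    rw [RingHom.smooth_algebraMap] at h ⊢
    exact smooth_of_etale_source A B C

end Groth.Agent.AlgSpace
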