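import Groth.Agent.Lib.AlgSpace.Space
import Groth.Agent.Lib.AlgSpace.SmoothSource
import Groth.Agent.Lib.AlgSpDescent.Instances
import Mathlib.AlgebraicGeometry.Morphisms.Smooth

/-!
# Properties checked on étale charts

For a class `P` of morphisms of schemes which is étale local on the source and target, `LocP P`
can be read on a single chart.
-/

universe u

set_option backward.isDefEq.respectTransparency.types false
set_option linter.unusedVariables false

open CategoryTheory CategoryTheory.Limits AlgebraicGeometry Opposite MorphismProperty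

namespace Groth.Agent.AlgSpace

open AlgSp AlgSpDescent

/-- What is used of a property étale local on the source and target. -/
class EtaleLocal (P : MorphismProperty Scheme.{u}) : Prop
    extends P.IsStableUnderBaseChange, P.IsStableUnderComposition where
  etale_le : (@Etale : MorphismProperty Scheme.{u}) ≤ P
  descends : DescendsEtaleSource P
  fppf : P.IsLocalAtTarget Scheme.fppfPrecoverage

instance etaleLocal_inf (P Q : MorphismProperty Scheme.{u}) [EtaleLocal P] [EtaleLocal Q] :
    EtaleLocal (P ⊓ Q) where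
  toIsStableUnderBaseChange := MorphismProperty.IsStableUnderBaseChange.inf
  etale_le := le_inf EtaleLocal.etale_le EtaleLocal.etale_le
  descends := descendsEtaleSource_inf EtaleLocal.descends EtaleLocal.descends
  fppf := by
    have := EtaleLocal.fppf (P := P)
    have := EtaleLocal.fppf (P := Q)
    exact inferInstance

instance etaleLocal_lft : EtaleLocal @LocallyOfFiniteType.{u} where
  etale_le := etale_le_lft
  descends := descendsEtaleSource_locallyOfFiniteType
  fppf := isLocalAtTarget_fppf _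

instance etaleLocal_lfp : EtaleLocal @LocallyOfFinitePresentation.{u} where
  etale_le := etale_le_lfp'
  descends := descendsEtaleSource_locallyOfFinitePresentation
  fppf := isLocalAtTarget_fppf _

instance etaleLocal_flat : EtaleLocal @Flat.{u} where
  etale_le := etale_le_flat'
  descends := descendsEtaleSource_flat
  fppf := isLocalAtTarget_fppf _

instance etaleLocal_smooth : EtaleLocal @Smooth.{u} where
  etale_le := fun _ _ _ _ => inferInstance
  descends := descendsEtaleSource_smooth
  fppf := isLocalAtTarget_fppf _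

instance etaleLocal_etale : EtaleLocal @Etale.{u} where
  etale_le := le_rfl
  descends := descendsEtaleSource_etale
  fppf := isLocalAtTarget_fppf _

instance etaleLocal_formallyUnramified : EtaleLocal @FormallyUnramified.{u} where
  etale_le := etale_le_fu
  descends := descendsEtaleSource_formallyUnramified
  fppf := isLocalAtTarget_fppf _

instance etaleLocal_locallyQuasiFinite : EtaleLocal @LocallyQuasiFinite.{u} where
  etale_le := etale_le_lqf
  descends := descendsEtaleSource_locallyQuasiFinite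
  fppf := isLocalAtTarget_fppf _

/-- The seven classes of the statements. -/
theorem etaleLocal_of_cases {P : MorphismProperty Scheme.{u}}
    (hP : P = @LocallyOfFiniteType ∨ P = @LocallyOfFinitePresentation ∨ P = @Flat ∨ P = @Smooth ∨ P = @Etale ∨
      (∀ ⦃A B : Scheme.{u}⦄ (g : A ⟶ B), P g ↔ (LocallyQuasiFinite g ∧ LocallyOfFiniteType g)) ∨
      (∀ ⦃A B : Scheme.{u}⦄ (g : A ⟶ B), P g ↔ (LocallyOfFiniteType g ∧ FormallyUnramified g))) :
    EtaleLocal P := by
  rcases hP with rfl | rfl | rfl | rfl | rfl | h | h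
  iterate 5 infer_instance
  · obtain rfl : P = (@LocallyQuasiFinite ⊓ @LocallyOfFiniteType : MorphismProperty Scheme.{u}) := by
      ext A B g; exact h g
    infer_instance
  · obtain rfl : P = (@LocallyOfFiniteType ⊓ @FormallyUnramified : MorphismProperty Scheme.{u}) := by
      ext A B g; exact h g
    infer_instance

section Cancel

variable (P : MorphismProperty Scheme.{u}) [EtaleLocal P]

theorem EtaleLocal.comp_etale {A B C : Scheme.{u}} {f : A ⟶ B} {g : B ⟶ C} (hf : P f) (hg : Etale g) :
    P (f ≫ g) := P.comp_mem _ _ hf (EtaleLocal.etale_le (P := P) _ _ g hg)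

theorem EtaleLocal.etale_comp {A B C : Scheme.{u}} {f : A ⟶ B} {g : B ⟶ C} (hf : Etale f) (hg : P g) :
    P (f ≫ g) := P.comp_mem _ _ (EtaleLocal.etale_le (P := P) _ _ f hf) hg

/-- Cancellation of an étale map on the target. -/
instance EtaleLocal.isMultiplicative : P.IsMultiplicative where
  id_mem X := EtaleLocal.etale_le (P := P) _ _ _ (inferInstanceAs (Etale (𝟙 X)))

theorem EtaleLocal.of_postcomp_etale {A B C : Scheme.{u}} (g : A ⟶ B) (e : B ⟶ C) (he : Etale e)
    (h : P (g ≫ e)) : P g := by
  have : P.HasOfPostcompProperty @Etale.{u} :=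
    MorphismProperty.hasOfPostcompProperty_iff_le_diagonal.2 fun X Y f (hf : Etale f) =>
      EtaleLocal.etale_le (P := P) _ _ _ (inferInstanceAs (Etale (pullback.diagonal f)))
  exact P.of_postcomp g e he h

end Cancel

variable {S : Scheme.{u}} {P Q : MorphismProperty Scheme.{u}}

theorem locP_mono (h : P ≤ Q) {X Y : Sp S} {f : X ⟶ Y} (hf : LocP P f) : LocP Q f :=
  fun _ _ a b k ha hb w => h _ (hf a b k ha hb w)

theorem locP_inf {X Y : Sp S} {f : X ⟶ Y} (hP : LocP P f) (hQ : LocP Q f) : LocP (P ⊓ Q) f :=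
  fun _ _ a b k ha hb w => ⟨hP a b k ha hb w, hQ a b k ha hb w⟩

/-- One chart diagram with surjective source chart suffices. -/
theorem locP_of_one_chart [EtaleLocal P] {X Y : Sp S} {f : X ⟶ Y} {U V : Over S}
    (a : (yon S).obj U ⟶ X) (b : (yon S).obj V ⟶ Y) (h : U ⟶ V) (ha : RepWith @Etale a)
    (has : RepWith @Surjective a) (hb : RepWith @Etale b) (comm : a ≫ f = (yon S).map h ≫ b)
    (hh : P h.left) : LocP P f := by
  intro U' V' a' b' h' ha' hb' comm'
  have sqW := ha.1.isPullback' a'
  have sqV := hb.1.isPullback' b'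
  have hW₂ : Etale (ha.1.snd a').left := ha.2 a' _ _ (ha.1.isPullback a')
  have hW₃ : Surjective (ha.1.snd a').left := has.2 a' _ _ (ha.1.isPullback a')
  have hW₁ : Etale (ha.1.fst' a').left := ha'.2 a _ _ sqW.flip
  have hV₂ : Etale (hb.1.snd b').left := hb.2 b' _ _ (hb.1.isPullback b')
  have hV₁ : Etale (hb.1.fst' b').left := hb'.2 b _ _ sqV.flip
  refine EtaleLocal.descends (P := P) (ha.1.snd a').left h'.left hW₂ hW₃ ?_
  obtain ⟨k, hk₁, hk₂⟩ : ∃ k : ha.1.pullback a' ⟶ hb.1.pullback b',
      k ≫ hb.1.fst' b' = ha.1.fst' a' ≫ h ∧ k ≫ hb.1.snd b' = ha.1.snd a' ≫ h' := by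
    refine ⟨(yon S).preimage (sqV.lift ((yon S).map (ha.1.fst' a' ≫ h))
      ((yon S).map (ha.1.snd a' ≫ h')) ?_), ?_, ?_⟩
    · rw [Functor.map_comp, Functor.map_comp, Category.assoc, Category.assoc, ← comm, ← comm',
        ← Category.assoc, sqW.w, Category.assoc]
    · apply (yon S).map_injective
      rw [Functor.map_comp, (yon S).map_preimage, sqV.lift_fst]
    · apply (yon S).map_injective
      rw [Functor.map_comp, (yon S).map_preimage, sqV.lift_snd]
  have hk : P k.left := by
    refine EtaleLocal.of_postcomp_etale P _ _ hV₁ ?_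
    rw [← Over.comp_left, hk₁, Over.comp_left]
    exact EtaleLocal.etale_comp P hW₁ hh
  rw [← Over.comp_left, ← hk₂, Over.comp_left]
  exact EtaleLocal.comp_etale P hk hV₂

/-- Surjective charts compatible with a morphism. -/
theorem exists_chart_square {X Y : Sp S} (hX : IsAlgSpace X) (hY : IsAlgSpace Y) (f : X ⟶ Y) :
    ∃ (U V : Over S) (a : (yon S).obj U ⟶ X) (b : (yon S).obj V ⟶ Y) (h : U ⟶ V),
      RepWith @Etale a ∧ RepWith @Surjective a ∧ RepWith @Etale b ∧ RepWith @Surjective b ∧
      a ≫ f = (yon S).map h ≫ b := by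
  obtain ⟨V, b, hbe, hbs⟩ := hY.atlas
  obtain ⟨U, a, h, hae, has, w⟩ := exists_chart_over hX hY f b hbe hbs
  exact ⟨U, V, a, b, h, hae, has, hbe, hbs, w⟩

theorem locP_comp [EtaleLocal P] {X Y Z : Sp S} (hX : IsAlgSpace X) (hY : IsAlgSpace Y)
    (hZ : IsAlgSpace Z) {f : X ⟶ Y} {g : Y ⟶ Z} (hf : LocP P f) (hg : LocP P g) :
    LocP P (f ≫ g) := by
  obtain ⟨V, W, b, c, k, hbe, hbs, hce, hcs, wg⟩ := exists_chart_square hY hZ g
  obtain ⟨U, a, h, hae, has, wf⟩ := exists_chart_over hX hY f b hbe hbs
  refine locP_of_one_chart a c (h ≫ k) hae has hce ?_ ?_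
  · rw [Functor.map_comp, Category.assoc, ← wg, ← Category.assoc, wf, Category.assoc]
  · rw [Over.comp_left]
    exact P.comp_mem _ _ (hf a b h hae hbe wf) (hg b c k hbe hce wg)

theorem locP_of_isPullback [EtaleLocal P] {X Y X' Y' : Sp S} (hX : IsAlgSpace X) (hY : IsAlgSpace Y)
    (hY' : IsAlgSpace Y') {fst : X' ⟶ X} {f' : X' ⟶ Y'} {f : X ⟶ Y} {g : Y' ⟶ Y}
    (sq : IsPullback fst f' f g) (hf : LocP P f) : LocP P f' := by
  obtain ⟨V', V, b', b, c, hb'e, hb's, hbe, hbs, wg⟩ := exists_chart_square hY' hY g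
  have sqU := IsPullback.of_hasPullback f b
  obtain ⟨U, r, hre, hrs⟩ := (isAlgSpace_pullback hY hX (IsAlgSpace.yon_obj V) sqU).atlas
  obtain ⟨h, hh⟩ := (yon S).map_surjective (r ≫ pullback.snd f b)
  have hP : P h.left := hf (r ≫ pullback.fst f b) b h
    (repWith_comp hre (repWith_of_isPullback sqU.flip hbe)) hbe
    (by rw [hh, Category.assoc, Category.assoc, pullback.condition])
  have sq₁ := IsPullback.of_hasPullback f' b'
  have sqX : IsPullback (pullback.fst f' b' ≫ fst) (pullback.snd f' b') f ((yon S).map c ≫ b) := by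
    rw [← wg]; exact sq₁.paste_horiz sq
  let m : pullback f' b' ⟶ pullback f b :=
    sqU.lift (pullback.fst f' b' ≫ fst) (pullback.snd f' b' ≫ (yon S).map c)
      (by rw [Category.assoc (pullback.snd f' b')]; exact sqX.w)
  have sqm : IsPullback m (pullback.snd f' b') (pullback.snd f b) ((yon S).map c) :=
    IsPullback.of_right (by simpa [m] using sqX) (by simp [m]) sqU
  have sqW := (IsPullback.of_hasPullback h c).map (yon S)
  let aW : (yon S).obj (Limits.pullback h c) ⟶ pullback f' b' :=
    sqm.lift ((yon S).map (pullback.fst h c) ≫ r) ((yon S).map (pullback.snd h c))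
      (by rw [Category.assoc, ← hh]; exact sqW.w)
  have haW : IsPullback ((yon S).map (pullback.fst h c)) aW r m :=
    IsPullback.of_bot (by simpa [aW, ← hh] using sqW) (by simp [aW]) sqm
  refine locP_of_one_chart (aW ≫ pullback.fst f' b') b' (pullback.snd h c)
    (repWith_comp (repWith_of_isPullback haW hre) (repWith_of_isPullback sq₁.flip hb'e))
    (repWith_comp (repWith_of_isPullback haW hrs) (repWith_of_isPullback sq₁.flip hb's)) hb'e ?_
    (MorphismProperty.of_isPullback ((IsPullback.of_hasPullback h c).map (Over.forget S)) hP)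
  rw [Category.assoc, pullback.condition, ← Category.assoc]
  simp [aW]

theorem locP_of_repWith [EtaleLocal P] {X Y : Sp S} (hY : IsAlgSpace Y) {f : X ⟶ Y}
    (hf : RepWith P f) : LocP P f := by
  obtain ⟨V, b, hbe, hbs⟩ := hY.atlas
  have sq := hf.1.isPullback b
  exact locP_of_one_chart (hf.1.fst b) b (hf.1.snd b) (repWith_of_isPullback sq.flip hbe)
    (repWith_of_isPullback sq.flip hbs) hbe sq.w (hf.2 b _ _ sq)

theorem repWith_of_locP [EtaleLocal P] {X Y : Sp S} (hY : IsAlgSpace Y) {f : X ⟶ Y}
    (hrep : Representable f) (hf : LocP P f) : RepWith P f := by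
  obtain ⟨V, b, hbe, hbs⟩ := hY.atlas
  have := isLocallySurjective_of_etale hbe hbs
  have := EtaleLocal.fppf (P := P)
  have sq := hrep.isPullback b
  refine repWith_of_locallySurjective hrep sq P ((repWith_yon_map_iff P _).2 ?_)
  exact hf (hrep.fst b) b (hrep.snd b) (repWith_of_isPullback sq.flip hbe) hbe sq.w

/-- The chart property on one surjective étale chart of the source. -/
theorem locP_of_source_cover [EtaleLocal P] {X Y : Sp S} (hY : IsAlgSpace Y) {f : X ⟶ Y}
    {U : Over S} {φ : (yon S).obj U ⟶ X} (hφ : RepWith @Etale φ) (hφs : RepWith @Surjective φ)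
    (h : LocP P (φ ≫ f)) : LocP P f := by
  obtain ⟨V, b, hbe, hbs⟩ := hY.atlas
  obtain ⟨U', a, k, hae, has, w⟩ := exists_chart_over (IsAlgSpace.yon_obj U) hY (φ ≫ f) b hbe hbs
  exact locP_of_one_chart (a ≫ φ) b k (repWith_comp hae hφ) (repWith_comp has hφs) hbe
    (by rw [Category.assoc, w]) (h a b k hae hbe w)

/-- The chart property after one surjective étale base change of the target. -/
theorem locP_of_target_cover [EtaleLocal P] {X Y : Sp S} (hX : IsAlgSpace X) (hY : IsAlgSpace Y)
    {f : X ⟶ Y} {V : Over S} {p : (yon S).obj V ⟶ Y} (hp : RepWith @Etale p)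
    (hps : RepWith @Surjective p) {F : Sp S} {fst : F ⟶ X} {snd : F ⟶ (yon S).obj V}
    (sq : IsPullback fst snd f p) (h : LocP P snd) : LocP P f := by
  obtain ⟨U, r, hre, hrs⟩ := (isAlgSpace_pullback hY hX (IsAlgSpace.yon_obj V) sq).atlas
  obtain ⟨k, hk⟩ := (yon S).map_surjective (r ≫ snd)
  refine locP_of_one_chart (r ≫ fst) p k (repWith_comp hre (repWith_of_isPullback sq.flip hp))
    (repWith_comp hrs (repWith_of_isPullback sq.flip hps)) hp (by simp [hk, sq.w]) ?_
  exact h r (𝟙 _) k hre (repWith_id _ V) (by rw [Category.comp_id, hk])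

/-- Cancellation: from properties of `f ≫ g` and `g` to a property of `f`. -/
theorem locP_of_comp [EtaleLocal P] {Q' R : MorphismProperty Scheme.{u}}
    (hcancel : ∀ ⦃A B C : Scheme.{u}⦄ (k : A ⟶ B) (l : B ⟶ C), Q' (k ≫ l) → R l → P k)
    {X Y Z : Sp S} (hX : IsAlgSpace X) (hY : IsAlgSpace Y) (hZ : IsAlgSpace Z) {f : X ⟶ Y}
    {g : Y ⟶ Z} (hfg : LocP Q' (f ≫ g)) (hg : LocP R g) : LocP P f := by
  obtain ⟨V, W, b, c, k, hbe, hbs, hce, hcs, wg⟩ := exists_chart_square hY hZ g
  obtain ⟨U, a, h, hae, has, wf⟩ := exists_chart_over hX hY f b hbe hbs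
  refine locP_of_one_chart a b h hae has hbe wf (hcancel h.left k.left ?_ (hg b c k hbe hce wg))
  rw [← Over.comp_left]
  exact hfg a c (h ≫ k) hae hce (by
    rw [Functor.map_comp, Category.assoc, ← wg, ← Category.assoc, wf, Category.assoc])

theorem locP_top {X Y : Sp S} (f : X ⟶ Y) : LocP ⊤ f := fun _ _ _ _ _ _ _ _ => trivial

theorem locP_id [EtaleLocal P] {X : Sp S} (hX : IsAlgSpace X) : LocP P (𝟙 X) := by
  obtain ⟨U, a, hae, has⟩ := hX.atlas
  exact locP_of_one_chart a a (𝟙 U) hae has hae (by simp)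
    (EtaleLocal.etale_le (P := P) _ _ _ (inferInstanceAs (Etale (𝟙 U.left))))

section IsEtaleMor

theorem locP_of_isEtaleMor [EtaleLocal P] {X Y : Sp S} {f : X ⟶ Y} (hf : IsEtaleMor f) :
    LocP P f :=
  locP_mono EtaleLocal.etale_le (locP_etale_of_isEtaleMor hf)

end IsEtaleMor

end Groth.Agent.AlgSpace
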