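import Groth.Agent.Lib.AlgSpace.Presheaf
import Mathlib.AlgebraicGeometry.Gluing

/-!
# Gluing along Zariski coverings

Maps out of representable sheaves glue along open covers, and a sheaf covered by representable
open subfunctors is representable.
-/

universe u

set_option backward.isDefEq.respectTransparency.types false
set_option linter.unusedVariables false

open CategoryTheory CategoryTheory.Limits AlgebraicGeometry Opposite

namespace Groth.Agent.AlgSpace

open AlgSp

variable {S : Scheme.{u}}

section Maps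

variable {T : Over S} {κ : Type u} {T' : κ → Over S} (π : ∀ k, T' k ⟶ T)

/-- A jointly surjective family of open immersions is a covering. -/
lemma mem_J_of_openImmersions (hπ : ∀ k, IsOpenImmersion (π k).left)
    (hc : ∀ t : ↥T.left, ∃ k v, (π k).left v = t) :
    Sieve.generate (Presieve.ofArrows T' π) ∈ AlgSp.J S T := by
  let 𝒰 : T.left.Cover Scheme.fppfPrecoverage.{u} :=
    Scheme.Cover.mkOfCovers κ (fun k => (T' k).left) (fun k => (π k).left) hc
      (fun k => ⟨inferInstance, inferInstance⟩)
  refine (mem_J_iff _).2 ⟨𝒰, fun k => ?_⟩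
  rw [overEquiv_arrow]
  refine ⟨T' k, Over.homMk (𝟙 (T' k).left) (by simp [𝒰]; exact (Over.w (π k)).symm), π k, ⟨k⟩, ?_⟩
  apply Over.OverMorphism.ext
  exact Category.id_comp _

/-- Gluing maps out of a representable sheaf along an open cover. -/
lemma existsUnique_glue (hπ : ∀ k, IsOpenImmersion (π k).left)
    (hc : ∀ t : ↥T.left, ∃ k v, (π k).left v = t) {F : Sp S} (l : ∀ k, (yon S).obj (T' k) ⟶ F)
    (hl : ∀ i j (W : Over S) (a : W ⟶ T' i) (b : W ⟶ T' j), a ≫ π i = b ≫ π j →
      (yon S).map a ≫ l i = (yon S).map b ≫ l j) :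
    ∃! g : (yon S).obj T ⟶ F, ∀ k, (yon S).map (π k) ≫ g = l k := by
  have hF := (isSheaf_iff_isSheaf_of_type _ _).1 F.property
  have h := (Presieve.isSheafFor_iff_generate _).2 (hF _ (mem_J_of_openImmersions π hπ hc))
  obtain ⟨x, hx, hx'⟩ := (Presieve.isSheafFor_arrows_iff _ _).1 h (fun k => sect (l k))
    (fun i j W a b e => by
      simp only [GrothendieckTopology.uliftYonedaEquiv_naturality]
      exact congrArg sect (hl i j W a b e))
  refine ⟨sect.symm x, fun k => sect.injective ?_, fun g hg => sect.injective ?_⟩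
  · rw [← GrothendieckTopology.uliftYonedaEquiv_naturality, Equiv.apply_symm_apply]
    exact hx k
  · rw [Equiv.apply_symm_apply]
    exact hx' _ fun k => by
      change F.obj.map (π k).op (sect g) = sect (l k)
      rw [GrothendieckTopology.uliftYonedaEquiv_naturality, ← hg k]

lemma hom_ext_glue (hπ : ∀ k, IsOpenImmersion (π k).left)
    (hc : ∀ t : ↥T.left, ∃ k v, (π k).left v = t) {F : Sp S} {g g' : (yon S).obj T ⟶ F}
    (h : ∀ k, (yon S).map (π k) ≫ g = (yon S).map (π k) ≫ g') : g = g' :=
  (existsUnique_glue π hπ hc (fun k => (yon S).map (π k) ≫ g') fun i j W a b e => by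
    rw [← Functor.map_comp_assoc, ← Functor.map_comp_assoc, e]).unique h fun _ => rfl

end Maps

section Representable

variable {F : Sp S} {κ : Type u} {U : κ → Over S} {w : ∀ k, (yon S).obj (U k) ⟶ F}
  (hw : ∀ k, RepWith @IsOpenImmersion (w k))

/-- The transition map of the gluing datum. -/
lemma exists_transition (i j k : κ) :
    ∃ p : pullback ((hw i).1.fst' (w j)).left ((hw i).1.fst' (w k)).left ⟶
        ((hw j).1.pullback (w k)).left,
      p ≫ ((hw j).1.fst' (w k)).left = pullback.fst _ _ ≫ ((hw i).1.snd (w j)).left ∧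
      p ≫ ((hw j).1.snd (w k)).left = pullback.snd _ _ ≫ ((hw i).1.snd (w k)).left := by
  let W : Over S := Over.mk (pullback.fst ((hw i).1.fst' (w j)).left ((hw i).1.fst' (w k)).left ≫
    ((hw i).1.pullback (w j)).hom)
  let a : W ⟶ (hw i).1.pullback (w j) := Over.homMk (pullback.fst _ _) rfl
  let b : W ⟶ (hw i).1.pullback (w k) := Over.homMk (pullback.snd _ _) (by
    change _ = pullback.fst _ _ ≫ _
    rw [← Over.w ((hw i).1.fst' (w j)), ← Category.assoc, pullback.condition, Category.assoc,
      Over.w ((hw i).1.fst' (w k))])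
  have hab : a ≫ (hw i).1.fst' (w j) = b ≫ (hw i).1.fst' (w k) :=
    Over.OverMorphism.ext pullback.condition
  have e : (yon S).map (a ≫ (hw i).1.snd (w j)) ≫ w j =
      (yon S).map (b ≫ (hw i).1.snd (w k)) ≫ w k := by
    rw [Functor.map_comp_assoc, Functor.map_comp_assoc, ← ((hw i).1.isPullback' (w j)).w,
      ← ((hw i).1.isPullback' (w k)).w, ← Functor.map_comp_assoc, ← Functor.map_comp_assoc, hab]
  exact ⟨((hw j).1.lift' _ _ e).left,
    congrArg Over.Hom.left ((hw j).1.lift'_fst _ _ e),
    congrArg Over.Hom.left ((hw j).1.lift'_snd _ _ e)⟩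

include hw in
lemma isOpenImmersion_fst' (i j : κ) : IsOpenImmersion ((hw i).1.fst' (w j)).left :=
  (hw j).2 (w i) _ _ ((hw i).1.isPullback' (w j)).flip

/-- The gluing datum of a family of open subfunctors. -/
noncomputable def openGlueData : Scheme.GlueData.{u} where
  J := κ
  U k := (U k).left
  V p := ((hw p.1).1.pullback (w p.2)).left
  f i j := ((hw i).1.fst' (w j)).left
  f_mono i j :=
    have := isOpenImmersion_fst' hw i j
    inferInstance
  f_id i := by
    have : IsOpenImmersion ((hw i).1.fst' (w i)).left := isOpenImmersion_fst' hw i i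
    have : Mono (w i) := mono_of_repWith _ (repWith_mono
      (fun _ _ g (_ : IsOpenImmersion g) => (inferInstance : Mono g)) (hw i))
    have := ((hw i).1.isPullback' (w i)).isIso_fst_of_mono
    have : IsIso ((hw i).1.fst' (w i)) := isIso_of_reflects_iso _ (yon S)
    exact inferInstanceAs (IsIso ((Over.forget S).map ((hw i).1.fst' (w i))))
  t i j := ((hw i).1.symmetry (hw j).1).left
  t_id i := by
    have : Mono (w i) := mono_of_repWith _ (repWith_mono
      (fun _ _ g (_ : IsOpenImmersion g) => (inferInstance : Mono g)) (hw i))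
    have e : (hw i).1.fst' (w i) = (hw i).1.snd (w i) := (yon S).map_injective
      ((cancel_mono (w i)).1 ((hw i).1.isPullback' (w i)).w)
    have : (hw i).1.symmetry (hw i).1 = 𝟙 _ := (hw i).1.hom_ext' (by simp [e]) (by simp [e])
    rw [this]; rfl
  t' i j k := pullback.lift (exists_transition hw i j k).choose
    (pullback.fst _ _ ≫ ((hw i).1.symmetry (hw j).1).left) (by
      rw [(exists_transition hw i j k).choose_spec.1, Category.assoc]
      exact congrArg (pullback.fst _ _ ≫ ·)
        (congrArg Over.Hom.left ((hw i).1.symmetry_fst (hw j).1)).symm)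
  t_fac i j k := pullback.lift_snd _ _ _
  cocycle i j k := by
    have hm := isOpenImmersion_fst' hw i j
    have hm' := isOpenImmersion_fst' hw i k
    have : Mono ((hw i).1.fst' (w k)).left := inferInstance
    rw [← cancel_mono (pullback.fst _ _ ≫ ((hw i).1.fst' (w j)).left)]
    · have h₃ := (exists_transition hw k i j).choose_spec.1
      have h₂ := (exists_transition hw j k i).choose_spec.2
      have hs := congrArg Over.Hom.left ((hw i).1.symmetry_snd (hw j).1)
      rw [Over.comp_left] at hs
      simp only [Category.assoc, pullback.lift_fst_assoc, Category.id_comp]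
      rw [h₃, pullback.lift_fst_assoc, h₂, pullback.lift_snd_assoc, Category.assoc, hs]
  f_open i j := isOpenImmersion_fst' hw i j

/-- The glued scheme over the base. -/
noncomputable def openGlued : Over S :=
  Over.mk (X := S) (Y := (openGlueData hw).glued)
    (Multicoequalizer.desc (openGlueData hw).toGlueData.diagram S (fun k => (U k).hom)
      (fun ⟨i, j⟩ => (Over.w ((hw i).1.fst' (w j))).trans
        (Over.w ((hw i).1.symmetry (hw j).1 ≫ (hw j).1.fst' (w i))).symm))

/-- The members inside the glued scheme. -/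
noncomputable def openGluedι (k : κ) : U k ⟶ openGlued hw :=
  Over.homMk ((openGlueData hw).ι k) (by exact Multicoequalizer.π_desc (openGlueData hw).toGlueData.diagram S (fun k => (U k).hom) _ k)

lemma openGluedι_condition {W : Over S} {i j : κ} (a : W ⟶ U i) (b : W ⟶ U j) :
    a ≫ openGluedι hw i = b ≫ openGluedι hw j ↔ (yon S).map a ≫ w i = (yon S).map b ≫ w j := by
  constructor
  · intro e
    have e' : a.left ≫ (openGlueData hw).ι i = b.left ≫ (openGlueData hw).ι j :=
      congrArg Over.Hom.left e
    have hlim := (openGlueData hw).vPullbackConeIsLimit i j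
    let c := PullbackCone.IsLimit.lift hlim a.left b.left e'
    have h₁ : c ≫ ((hw i).1.fst' (w j)).left = a.left := PullbackCone.IsLimit.lift_fst hlim _ _ _
    have h₂ : c ≫ ((hw i).1.symmetry (hw j).1).left ≫ ((hw j).1.fst' (w i)).left = b.left :=
      PullbackCone.IsLimit.lift_snd hlim _ _ _
    have hs := congrArg Over.Hom.left ((hw i).1.symmetry_fst (hw j).1)
    rw [Over.comp_left] at hs
    replace h₂ : c ≫ ((hw i).1.snd (w j)).left = b.left :=
      (congrArg (c ≫ ·) hs).symm.trans h₂
    let cO : W ⟶ (hw i).1.pullback (w j) := Over.homMk c (by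
      exact (congrArg (c ≫ ·) (Over.w ((hw i).1.fst' (w j)))).symm.trans
        ((Category.assoc _ _ _).symm.trans ((congrArg (· ≫ (U i).hom) h₁).trans (Over.w a))))
    have ha : a = cO ≫ (hw i).1.fst' (w j) := Over.OverMorphism.ext h₁.symm
    have hb : b = cO ≫ (hw i).1.snd (w j) := Over.OverMorphism.ext h₂.symm
    rw [ha, hb, Functor.map_comp_assoc, Functor.map_comp_assoc, ((hw i).1.isPullback' (w j)).w]
  · intro e
    have hc : openGluedι hw i = openGluedι hw i := rfl
    let c := (hw i).1.lift' a b e
    refine (congrArg (· ≫ openGluedι hw i) ((hw i).1.lift'_fst a b e)).symm.trans (Eq.trans ?_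
      (congrArg (· ≫ openGluedι hw j) ((hw i).1.lift'_snd a b e)))
    refine (Category.assoc _ _ _).trans (Eq.trans ?_ (Category.assoc _ _ _).symm)
    congr 1
    apply Over.OverMorphism.ext
    have := (openGlueData hw).glue_condition i j
    have hs := congrArg Over.Hom.left ((hw i).1.symmetry_fst (hw j).1)
    rw [Over.comp_left] at hs ⊢
    rw [Over.comp_left]
    change ((hw i).1.fst' (w j)).left ≫ (openGlueData hw).ι i = _
    rw [← hs, Category.assoc]
    exact this.symm

include hw in
/-- A sheaf covered by representable open subfunctors is representable. -/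
theorem exists_iso_yon_of_openCover
    (hcov : ∀ ⦃T : Over S⦄ (g : (yon S).obj T ⟶ F) (t : ↥T.left),
      ∃ k v, ((hw k).1.snd g).left v = t) :
    ∃ G : Over S, Nonempty ((yon S).obj G ≅ F) := by
  have hι : ∀ k, IsOpenImmersion (openGluedι hw k).left := fun k =>
    inferInstanceAs (IsOpenImmersion ((openGlueData hw).ι k))
  have hιc : ∀ x : ↥(openGlued hw).left, ∃ k v, (openGluedι hw k).left v = x :=
    fun x => (openGlueData hw).ι_jointly_surjective x
  obtain ⟨Φ, hΦ, -⟩ := existsUnique_glue (openGluedι hw) hι hιc w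
    (fun i j W a b => (openGluedι_condition hw a b).1)
  refine ⟨openGlued hw, ?_⟩
  have inj : ∀ ⦃T : Over S⦄ (α β : T ⟶ openGlued hw),
      (yon S).map α ≫ Φ = (yon S).map β ≫ Φ → α = β := by
    intro T α β h
    choose i vi hi using fun t => hιc (α.left t)
    choose j vj hj using fun t => hιc (β.left t)
    let O : ↥T.left → T.left.Opens := fun t =>
      α.left ⁻¹ᵁ (openGluedι hw (i t)).left.opensRange ⊓
        β.left ⁻¹ᵁ (openGluedι hw (j t)).left.opensRange
    have hO : ∀ t, t ∈ O t := fun t => ⟨⟨vi t, hi t⟩, ⟨vj t, hj t⟩⟩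
    let π : ∀ t, Over.mk ((O t).ι ≫ T.hom) ⟶ T := fun t => overArrow (O t).ι
    apply (yon S).map_injective
    refine hom_ext_glue π (fun t => inferInstanceAs (IsOpenImmersion (O t).ι))
      (fun t => ⟨t, ⟨t, hO t⟩, rfl⟩) fun t => ?_
    rw [← Functor.map_comp, ← Functor.map_comp]
    congr 1
    have ra : Set.range ((π t).left ≫ α.left) ⊆ Set.range (openGluedι hw (i t)).left := by
      rintro _ ⟨x, rfl⟩; exact x.2.1
    have rb : Set.range ((π t).left ≫ β.left) ⊆ Set.range (openGluedι hw (j t)).left := by
      rintro _ ⟨x, rfl⟩; exact x.2.2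
    let a : Over.mk ((O t).ι ≫ T.hom) ⟶ U (i t) :=
      Over.homMk (IsOpenImmersion.lift (openGluedι hw (i t)).left _ ra) (by
        rw [← Over.w (openGluedι hw (i t)), IsOpenImmersion.lift_fac_assoc, Category.assoc,
          Over.w α]
        exact Over.w (π t))
    let b : Over.mk ((O t).ι ≫ T.hom) ⟶ U (j t) :=
      Over.homMk (IsOpenImmersion.lift (openGluedι hw (j t)).left _ rb) (by
        rw [← Over.w (openGluedι hw (j t)), IsOpenImmersion.lift_fac_assoc, Category.assoc,
          Over.w β]
        exact Over.w (π t))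
    have ha : a ≫ openGluedι hw (i t) = π t ≫ α :=
      Over.OverMorphism.ext (IsOpenImmersion.lift_fac _ _ ra)
    have hb : b ≫ openGluedι hw (j t) = π t ≫ β :=
      Over.OverMorphism.ext (IsOpenImmersion.lift_fac _ _ rb)
    rw [← ha, ← hb, openGluedι_condition, ← hΦ, ← hΦ, ← Functor.map_comp_assoc,
      ← Functor.map_comp_assoc, ha, hb, Functor.map_comp_assoc, Functor.map_comp_assoc, h]
  have surj : ∀ ⦃T : Over S⦄ (g : (yon S).obj T ⟶ F), ∃ α, (yon S).map α ≫ Φ = g := by
    intro T g
    let π : ∀ k, (hw k).1.pullback g ⟶ T := fun k => (hw k).1.snd g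
    have hπ : ∀ k, IsOpenImmersion (π k).left := fun k => (hw k).2 g _ _ ((hw k).1.isPullback g)
    obtain ⟨α', hα', -⟩ := existsUnique_glue π hπ (hcov g)
      (fun k => (yon S).map ((hw k).1.fst' g ≫ openGluedι hw k)) fun i j W a b e => by
        rw [← Functor.map_comp, ← Functor.map_comp]
        congr 1
        rw [← Category.assoc, ← Category.assoc, openGluedι_condition, Functor.map_comp_assoc,
          Functor.map_comp_assoc, ((hw i).1.isPullback' g).w, ((hw j).1.isPullback' g).w,
          ← Functor.map_comp_assoc, ← Functor.map_comp_assoc, e]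
    obtain ⟨α, rfl⟩ := (yon S).map_surjective α'
    refine ⟨α, hom_ext_glue π hπ (hcov g) fun k => ?_⟩
    rw [← Category.assoc, hα', Functor.map_comp_assoc, hΦ, ((hw k).1.isPullback' g).w]
  have : Mono Φ := mono_of_yon Φ fun T x y h => by
    obtain ⟨x, rfl⟩ := (yon S).map_surjective x
    obtain ⟨y, rfl⟩ := (yon S).map_surjective y
    rw [inj x y h]
  have : IsIso ((sheafToPresheaf _ _).map Φ) := by
    rw [NatTrans.isIso_iff_isIso_app]
    rintro ⟨T⟩
    rw [isIso_iff_bijective]
    refine ⟨fun x y h => ?_, fun x => ?_⟩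
    · obtain ⟨x, rfl⟩ := (sect (T := T)).surjective x
      obtain ⟨y, rfl⟩ := (sect (T := T)).surjective y
      refine congrArg sect ((cancel_mono Φ).1 (sect.injective ?_))
      rw [GrothendieckTopology.uliftYonedaEquiv_comp, GrothendieckTopology.uliftYonedaEquiv_comp]
      exact h
    · obtain ⟨α, hα⟩ := surj (sect.symm x)
      refine ⟨sect ((yon S).map α), ?_⟩
      have := GrothendieckTopology.uliftYonedaEquiv_comp (AlgSp.J S) ((yon S).map α) Φ
      rw [hα, Equiv.apply_symm_apply] at this
      exact this.symm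
  have : IsIso Φ := isIso_of_reflects_iso _ (sheafToPresheaf _ _)
  exact ⟨asIso Φ⟩

end Representable

section Local

/-- A map is representable when, Zariski locally on every test scheme, its fibre product is. -/
theorem representable_of_zariski {F G : Sp S} (f : F ⟶ G)
    (h : ∀ ⦃T : Over S⦄ (g : (yon S).obj T ⟶ G) (t : ↥T.left), ∃ (O : T.left.Opens),
      t ∈ O ∧ ∃ (W : Over S) (snd : W ⟶ Over.mk (O.ι ≫ T.hom)) (fst : (yon S).obj W ⟶ F),
        IsPullback fst ((yon S).map snd) f ((yon S).map (overArrow O.ι) ≫ g)) :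
    Representable f := by
  intro T g
  choose O hO W snd fst sq using h g
  have sqP := IsPullback.of_hasPullback f g
  let w : ∀ t, (yon S).obj (W t) ⟶ pullback f g := fun t =>
    sqP.lift (fst t) ((yon S).map (snd t) ≫ (yon S).map (overArrow (O t).ι))
      (by rw [Category.assoc]; exact (sq t).w)
  have sqw : ∀ t, IsPullback (w t) ((yon S).map (snd t)) (pullback.snd f g)
      ((yon S).map (overArrow (O t).ι)) := fun t =>
    IsPullback.of_right (by simpa [w] using sq t) (by simp [w]) sqP
  have hw : ∀ t, RepWith @IsOpenImmersion (w t) := fun t =>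
    repWith_of_isPullback (sqw t).flip
      ((repWith_yon_map_iff _ _).2 (inferInstanceAs (IsOpenImmersion (O t).ι)))
  obtain ⟨G', ⟨e⟩⟩ := exists_iso_yon_of_openCover hw fun T' g' t' => by
    obtain ⟨m, hm⟩ := (yon S).map_surjective (g' ≫ pullback.snd f g)
    refine ⟨m.left t', ?_⟩
    have sqA : IsPullback (((hw (m.left t')).1.fst' g') ≫ snd (m.left t'))
        ((hw (m.left t')).1.snd g') (overArrow (O (m.left t')).ι) m := by
      apply IsPullback.of_map (yon S)
      · apply (yon S).map_injective
        simp only [Functor.map_comp, Category.assoc, ← (sqw _).w, hm]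
        rw [← Category.assoc, ((hw (m.left t')).1.isPullback' g').w, Category.assoc]
      · simpa [hm] using ((hw (m.left t')).1.isPullback' g').paste_horiz (sqw (m.left t')).flip
    obtain ⟨v, -, hv⟩ := Scheme.exists_preimage_of_isPullback (sqA.map (Over.forget S))
      (⟨m.left t', hO _⟩ : ↥(O (m.left t')).toScheme) t' rfl
    exact ⟨v, hv⟩
  refine ⟨G', (yon S).preimage (e.hom ≫ pullback.snd f g), e.hom ≫ pullback.fst f g, ?_⟩
  rw [(yon S).map_preimage]
  exact IsPullback.of_iso sqP e.symm (Iso.refl _) (Iso.refl _) (Iso.refl _)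
    (by simp) (by simp) (by simp) (by simp)

/-- A sheaf over a scheme which is representable Zariski locally on it is representable. -/
theorem exists_iso_yon_of_zariski {F : Sp S} {T : Over S} (p : F ⟶ (yon S).obj T)
    (h : ∀ t : ↥T.left, ∃ (O : T.left.Opens),
      t ∈ O ∧ ∃ (W : Over S) (snd : W ⟶ Over.mk (O.ι ≫ T.hom)) (fst : (yon S).obj W ⟶ F),
        IsPullback fst ((yon S).map snd) p ((yon S).map (overArrow O.ι))) :
    ∃ G : Over S, Nonempty ((yon S).obj G ≅ F) := by
  have hp : Representable p := representable_of_zariski p fun T' g t' => by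
    obtain ⟨m, rfl⟩ := (yon S).map_surjective g
    obtain ⟨O, hO, W, snd, fst, sq⟩ := h (m.left t')
    let O' : T'.left.Opens := m.left ⁻¹ᵁ O
    let m' : Over.mk (O'.ι ≫ T'.hom) ⟶ Over.mk (O.ι ≫ T.hom) :=
      Over.homMk (m.left ∣_ O) (by
        change _ ≫ _ ≫ _ = _
        rw [morphismRestrict_ι_assoc, Over.w m]; rfl)
    refine ⟨O', hO, Limits.pullback snd m', pullback.snd snd m',
      (yon S).map (pullback.fst snd m') ≫ fst, ?_⟩
    have e : (yon S).map (overArrow O'.ι) ≫ (yon S).map m =
        (yon S).map m' ≫ (yon S).map (overArrow O.ι) := by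
      rw [← Functor.map_comp, ← Functor.map_comp]
      congr 1
      exact Over.OverMorphism.ext (morphismRestrict_ι m.left O).symm
    rw [e]
    exact ((IsPullback.of_hasPullback snd m').map (yon S)).paste_horiz sq
  obtain ⟨G, q, r, sq⟩ := hp (𝟙 _)
  have := sq.isIso_fst_of_isIso
  exact ⟨G, ⟨asIso r⟩⟩

end Local

end Groth.Agent.AlgSpace
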