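import Groth.Agent.Lib.AlgSpace.Presheaf

/-!
# Maps representable by algebraic spaces
-/

universe u v

set_option linter.unusedVariables false

open CategoryTheory CategoryTheory.Limits AlgebraicGeometry Opposite

namespace Groth.Agent.AlgSpace

section General

variable {C : Type u} [Category.{v} C]

/-- The graph of `a` is a base change of the diagonal of `b`. -/
lemma isPullback_graph {F G H : C} (a : F ⟶ G) (b : G ⟶ H) [HasPullbacks C]
    {L : F ⟶ pullback (a ≫ b) b} (hL₁ : L ≫ pullback.fst (a ≫ b) b = 𝟙 F)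
    (hL₂ : L ≫ pullback.snd (a ≫ b) b = a) {M : pullback (a ≫ b) b ⟶ pullback b b}
    (hM₁ : M ≫ pullback.fst b b = pullback.fst (a ≫ b) b ≫ a)
    (hM₂ : M ≫ pullback.snd b b = pullback.snd (a ≫ b) b) :
    IsPullback a L (pullback.diagonal b) M := by
  refine IsPullback.of_isLimit (PullbackCone.IsLimit.mk ?_
    (fun s => s.snd ≫ pullback.fst _ _) (fun s => ?_) (fun s => ?_) ?_)
  · apply pullback.hom_ext
    · rw [Category.assoc, pullback.diagonal_fst, Category.comp_id, Category.assoc, hM₁,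
        reassoc_of% hL₁]
    · rw [Category.assoc, pullback.diagonal_snd, Category.comp_id, Category.assoc, hM₂, hL₂]
  · have h1 := s.condition =≫ pullback.fst b b
    simp [hM₁] at h1
    simp [h1]
  · have h1 := s.condition =≫ pullback.fst b b
    have h2 := s.condition =≫ pullback.snd b b
    simp [hM₁] at h1
    simp [hM₂] at h2
    apply pullback.hom_ext
    · simp [hL₁]
    · simp [hL₂, ← h1, ← h2]
  · intro s m hm₁ hm₂
    rw [← hm₂, Category.assoc, hL₁, Category.comp_id]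

/-- The fibre of a diagonal over a test map is the equalizer of the two induced sections. -/
lemma isPullback_diagonal_sections [HasPullbacks C] {F G T P Q : C} {a : F ⟶ G}
    {ξ : T ⟶ pullback a a} {p : P ⟶ F} {q : P ⟶ T}
    (sqP : IsPullback p q a ((ξ ≫ pullback.fst a a) ≫ a)) {σ₁ σ₂ : T ⟶ P}
    (hp₁ : σ₁ ≫ p = ξ ≫ pullback.fst a a) (hq₁ : σ₁ ≫ q = 𝟙 T)
    (hp₂ : σ₂ ≫ p = ξ ≫ pullback.snd a a) (hq₂ : σ₂ ≫ q = 𝟙 T)
    {e₁ e₂ : Q ⟶ T} (sq : IsPullback e₁ e₂ σ₁ σ₂) :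
    IsPullback (e₁ ≫ ξ ≫ pullback.fst a a) e₁ (pullback.diagonal a) ξ := by
  have he : e₁ = e₂ := by simpa [hq₁, hq₂] using sq.w =≫ q
  refine IsPullback.of_isLimit (PullbackCone.IsLimit.mk ?_ (fun s => sq.lift s.snd s.snd ?_)
    (fun s => ?_) (fun s => sq.lift_fst _ _ _) ?_)
  · apply pullback.hom_ext
    · simp
    · subst he
      simpa [hp₁, hp₂] using sq.w =≫ p
  · apply sqP.hom_ext
    · have h1 := s.condition =≫ pullback.fst a a
      have h2 := s.condition =≫ pullback.snd a a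
      simp at h1 h2
      simp [hp₁, hp₂, ← h1, ← h2]
    · simp [hq₁, hq₂]
  · have h1 := s.condition =≫ pullback.fst a a
    simp at h1
    simp [h1]
  · intro s m hm₁ hm₂
    apply sq.hom_ext
    · simp [← hm₂]
    · simp [← hm₂, he]

variable {D : Type*} [Category D]

/-- Fibre product over `F` from fibre products over `G` and in the fibre. -/
lemma isPullback_fibre_sections (Φ : C ⥤ D) {F G P : D} {a : F ⟶ G} {A B W₁ W : C}
    {u : Φ.obj A ⟶ F} {v : Φ.obj B ⟶ F} {x : W₁ ⟶ A} {y : W₁ ⟶ B}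
    (sq₁ : IsPullback (Φ.map x) (Φ.map y) (u ≫ a) (v ≫ a)) {p : P ⟶ F} {q : P ⟶ Φ.obj W₁}
    (sqP : IsPullback p q a (Φ.map x ≫ u ≫ a)) {σ₁ σ₂ : Φ.obj W₁ ⟶ P}
    (hp₁ : σ₁ ≫ p = Φ.map x ≫ u) (hq₁ : σ₁ ≫ q = 𝟙 _)
    (hp₂ : σ₂ ≫ p = Φ.map y ≫ v) (hq₂ : σ₂ ≫ q = 𝟙 _)
    {e₁ e₂ : W ⟶ W₁} (sq : IsPullback (Φ.map e₁) (Φ.map e₂) σ₁ σ₂) :
    IsPullback (Φ.map (e₁ ≫ x)) (Φ.map (e₁ ≫ y)) u v := by
  have he : Φ.map e₁ = Φ.map e₂ := by simpa [hq₁, hq₂] using sq.w =≫ q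
  refine IsPullback.of_isLimit (PullbackCone.IsLimit.mk ?_
    (fun s => sq.lift (sq₁.lift s.fst s.snd (by simp [s.condition_assoc]))
      (sq₁.lift s.fst s.snd (by simp [s.condition_assoc])) ?_) (fun s => ?_) (fun s => ?_) ?_)
  · have := sq.w =≫ p
    rw [← he] at this
    simpa [hp₁, hp₂] using this
  · apply sqP.hom_ext
    · simp [hp₁, hp₂, s.condition]
    · simp [hq₁, hq₂]
  · simp
  · simp
  · intro s m hm₁ hm₂
    apply sq.hom_ext <;> apply sq₁.hom_ext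
    · simp [← hm₁]
    · simp [← hm₂]
    · simp [← hm₁, he]
    · simp [← hm₂, he]

lemma isPullback_prod_map_left [HasBinaryProducts C] {F₁ G₁ : C} (a : F₁ ⟶ G₁) (F₂ : C) :
    IsPullback (prod.fst : F₁ ⨯ F₂ ⟶ F₁) (prod.map a (𝟙 F₂)) a (prod.fst : G₁ ⨯ F₂ ⟶ G₁) := by
  refine IsPullback.of_isLimit (PullbackCone.IsLimit.mk (prod.map_fst _ _).symm
    (fun s => prod.lift s.fst (s.snd ≫ prod.snd)) (fun s => prod.lift_fst _ _) (fun s => ?_) ?_)
  · apply Limits.prod.hom_ext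
    · rw [Category.assoc, prod.map_fst, ← Category.assoc, prod.lift_fst, s.condition]
    · rw [Category.assoc, prod.map_snd, Category.comp_id, prod.lift_snd]
  · intro s m hm₁ hm₂
    apply Limits.prod.hom_ext
    · rw [prod.lift_fst, hm₁]
    · rw [prod.lift_snd, ← hm₂, Category.assoc, prod.map_snd, Category.comp_id]

lemma isPullback_prod_map_right [HasBinaryProducts C] {F₂ G₂ : C} (a : F₂ ⟶ G₂) (F₁ : C) :
    IsPullback (prod.snd : F₁ ⨯ F₂ ⟶ F₂) (prod.map (𝟙 F₁) a) a (prod.snd : F₁ ⨯ G₂ ⟶ G₂) := by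
  refine IsPullback.of_isLimit (PullbackCone.IsLimit.mk (prod.map_snd _ _).symm
    (fun s => prod.lift (s.snd ≫ prod.fst) s.fst) (fun s => prod.lift_snd _ _) (fun s => ?_) ?_)
  · apply Limits.prod.hom_ext
    · rw [Category.assoc, prod.map_fst, Category.comp_id, prod.lift_fst]
    · rw [Category.assoc, prod.map_snd, ← Category.assoc, prod.lift_snd, s.condition]
  · intro s m hm₁ hm₂
    apply Limits.prod.hom_ext
    · rw [prod.lift_fst, ← hm₂, Category.assoc, prod.map_fst, Category.comp_id]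
    · rw [prod.lift_snd, hm₁]

attribute [local simp] prod.lift_fst prod.lift_snd in
lemma isPullback_prod_diag [HasBinaryProducts C] {F T P Q : C} {g : T ⟶ F ⨯ F}
    {a b : P ⟶ T} (sqP : IsPullback a b (g ≫ prod.fst) (g ≫ prod.snd))
    {c : Q ⟶ P} {d : Q ⟶ T} (sq : IsPullback c d (prod.lift a b) (Limits.diag T)) :
    IsPullback (d ≫ g ≫ prod.fst) d (Limits.diag F) g := by
  have hc₁ : c ≫ a = d := by simpa using sq.w =≫ prod.fst
  have hc₂ : c ≫ b = d := by simpa using sq.w =≫ prod.snd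
  refine IsPullback.of_isLimit (PullbackCone.IsLimit.mk ?_
    (fun s => sq.lift (sqP.lift s.snd s.snd ?_) s.snd ?_) (fun s => ?_)
    (fun s => sq.lift_snd _ _ _) ?_)
  · apply Limits.prod.hom_ext
    · simp
    · have := c ≫= sqP.w
      simp only [← Category.assoc, hc₁, hc₂] at this
      simpa using this
  · have h1 := s.condition =≫ prod.fst
    have h2 := s.condition =≫ prod.snd
    simp at h1 h2
    rw [← h1, ← h2]
  · apply Limits.prod.hom_ext <;> simp
  · have h1 := s.condition =≫ prod.fst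
    simp at h1
    simp [h1]
  · intro s m hm₁ hm₂
    apply sq.hom_ext
    · apply sqP.hom_ext
      · simp [hc₁, hm₂]
      · simp [hc₂, hm₂]
    · simp [hm₂]

end General

open AlgSp

variable {S : Scheme.{u}}

lemma isSheaf_of_isPullback' {P X Y Z : PSp S} {fst : P ⟶ X} {snd : P ⟶ Y} {f : X ⟶ Z} {g : Y ⟶ Z}
    (h : IsPullback fst snd f g) (hX : Presheaf.IsSheaf (AlgSp.J S) X)
    (hY : Presheaf.IsSheaf (AlgSp.J S) Y) (hZ : Presheaf.IsSheaf (AlgSp.J S) Z) :
    Presheaf.IsSheaf (AlgSp.J S) P :=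
  AlgSp.isSheaf_of_isPullback (F := ⟨X, hX⟩) (G := ⟨Z, hZ⟩) (H := ⟨Y, hY⟩) h

lemma isAlgSpaceP_pyon (U : Over S) : IsAlgSpaceP ((pyon S).obj U) :=
  (isAlgSpaceP_obj_iff ((yon S).obj U)).2 (IsAlgSpace.yon_obj U)

lemma isAlgSpaceP_pullback {P X Y Z : PSp S} {fst : P ⟶ X} {snd : P ⟶ Y} {f : X ⟶ Z} {g : Y ⟶ Z}
    (h : IsPullback fst snd f g) (hX : IsAlgSpaceP X) (hY : IsAlgSpaceP Y) (hZ : IsAlgSpaceP Z) :
    IsAlgSpaceP P := by
  obtain ⟨hX, hX'⟩ := hX
  obtain ⟨hY, hY'⟩ := hY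
  obtain ⟨hZ, hZ'⟩ := hZ
  have hP := isSheaf_of_isPullback' h hX hY hZ
  exact ⟨hP, isAlgSpace_pullback (P := ⟨P, hP⟩) (X := ⟨X, hX⟩) (Y := ⟨Y, hY⟩) (Z := ⟨Z, hZ⟩) hZ' hX' hY'
    (fst := ObjectProperty.homMk fst) (snd := ObjectProperty.homMk snd)
    (f := ObjectProperty.homMk f) (g := ObjectProperty.homMk g)
    (IsPullback.of_map_of_faithful (sheafToPresheaf (AlgSp.J S) (Type (u + 1))) h)⟩

/-- The source of a map representable by algebraic spaces to an algebraic space is an algebraic space. -/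
theorem isAlgSpace_of_repBySp {F G : Sp S} (a : F ⟶ G) (ha : RepBySp a.hom) (hG : IsAlgSpace G) :
    IsAlgSpace F where
  diag := by
    refine representable_diag_iff.2 fun A B u v => ?_
    obtain ⟨W₁, x, y, sq₁⟩ := representable_diag_iff.1 hG.diag (u ≫ a) (v ≫ a)
    have sqP := IsPullback.of_hasPullback a ((yon S).map x ≫ u ≫ a)
    have hP := (repBySp_hom_iff a).1 ha _ _ _ sqP
    let σ₁ := sqP.lift ((yon S).map x ≫ u) (𝟙 _) (by rw [Category.id_comp, Category.assoc])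
    let σ₂ := sqP.lift ((yon S).map y ≫ v) (𝟙 _) (by rw [Category.id_comp, Category.assoc, sq₁.w])
    obtain ⟨W, e₁, e₂, sq⟩ := representable_diag_iff.1 hP.diag σ₁ σ₂
    exact ⟨W, _, _, isPullback_fibre_sections (yon S) sq₁ sqP (sqP.lift_fst _ _ _) (sqP.lift_snd _ _ _)
      (sqP.lift_fst _ _ _) (sqP.lift_snd _ _ _) sq⟩
  atlas := by
    obtain ⟨U, p, he, hs⟩ := hG.atlas
    have sq := IsPullback.of_hasPullback a p
    obtain ⟨V, r, hre, hrs⟩ := ((repBySp_hom_iff a).1 ha _ _ _ sq).atlas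
    exact ⟨V, r ≫ pullback.fst a p, repWith_comp hre (repWith_of_isPullback sq.flip he),
      repWith_comp hrs (repWith_of_isPullback sq.flip hs)⟩

theorem isAlgSpaceP_of_repBySp {F G : PSp S} (a : F ⟶ G) (ha : RepBySp a) (hG : IsAlgSpaceP G) :
    IsAlgSpaceP F := by
  obtain ⟨hG, hG'⟩ := hG
  exact ⟨isSheaf_of_repBySp' a ha hG,
    isAlgSpace_of_repBySp (F := ⟨F, isSheaf_of_repBySp' a ha hG⟩) (G := ⟨G, hG⟩)
      (ObjectProperty.homMk a) ha hG'⟩

theorem repBySp_of_isPullback {F G F' G' : PSp S} {f : F ⟶ G} {f' : F' ⟶ G'} {a : F' ⟶ F} {b : G' ⟶ G}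
    (sq : IsPullback a f' f b) (hf : RepBySp f) : RepBySp f' :=
  fun U ξ F'' fst snd sq' => hf (ξ ≫ b) (fst ≫ a) snd (sq'.paste_horiz sq)

theorem repBySp_diagonal {F G : PSp S} (a : F ⟶ G) (ha : RepBySp a) :
    RepBySp (pullback.diagonal a) := by
  intro U ξ F' fst snd sq
  have sqP := IsPullback.of_hasPullback a ((ξ ≫ pullback.fst a a) ≫ a)
  have hP := ha _ _ _ sqP
  let σ₁ := sqP.lift (ξ ≫ pullback.fst a a) (𝟙 _) (by simp)
  let σ₂ := sqP.lift (ξ ≫ pullback.snd a a) (𝟙 _) (by simp [pullback.condition])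
  have sqQ := IsPullback.of_hasPullback σ₁ σ₂
  have key := isPullback_diagonal_sections sqP (sqP.lift_fst _ _ _) (sqP.lift_snd _ _ _)
    (sqP.lift_fst _ _ _) (sqP.lift_snd _ _ _) sqQ
  exact (isAlgSpaceP_pullback sqQ (isAlgSpaceP_pyon U) (isAlgSpaceP_pyon U) hP).of_iso
    (key.isoIsPullback _ _ sq)

theorem repBySp_comp {F G H : PSp S} (a : F ⟶ G) (b : G ⟶ H) (ha : RepBySp a) (hb : RepBySp b) :
    RepBySp (a ≫ b) := by
  intro U ξ F' fst snd sq
  have sqG := IsPullback.of_hasPullback b ξ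
  have sqF := IsPullback.of_hasPullback a (pullback.fst b ξ)
  exact (isAlgSpaceP_of_repBySp _ (repBySp_of_isPullback sqF ha) (hb _ _ _ sqG)).of_iso
    ((sqF.paste_vert sqG).isoIsPullback _ _ sq)

theorem repBySp_of_comp {F G H : PSp S} (a : F ⟶ G) (b : G ⟶ H) (hΔ : RepBySp (pullback.diagonal b))
    (hab : RepBySp (a ≫ b)) : RepBySp a := by
  have sq := isPullback_graph a b (L := pullback.lift (𝟙 F) a (by simp))
    (M := pullback.lift (pullback.fst (a ≫ b) b ≫ a) (pullback.snd (a ≫ b) b)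
      (by rw [Category.assoc, pullback.condition]))
    (pullback.lift_fst _ _ _) (pullback.lift_snd _ _ _) (pullback.lift_fst _ _ _) (pullback.lift_snd _ _ _)
  have h₁ := repBySp_of_isPullback sq hΔ
  have h₂ : RepBySp (pullback.snd (a ≫ b) b) :=
    repBySp_of_isPullback (IsPullback.of_hasPullback (a ≫ b) b) hab
  exact (pullback.lift_snd _ _ _ : pullback.lift (𝟙 F) a _ ≫ pullback.snd (a ≫ b) b = a) ▸ repBySp_comp _ _ h₁ h₂

theorem repBySp_diag_iff (F : PSp S) :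
    RepBySp (Limits.diag F) ↔ ∀ (T : Over S) (ξ : (pyon S).obj T ⟶ F), RepBySp ξ := by
  constructor
  · intro h T ξ U η F' fst snd sq
    have sqd := isPullback_diag_gen sq
    let e := PreservesLimitPair.iso (pyon S) T U
    have := IsPullback.of_iso (e₁ := Iso.refl F') (e₂ := Iso.refl F) (e₃ := e.symm)
      (e₄ := Iso.refl (F ⨯ F)) (fst' := fst ≫ ξ) (snd' := prod.lift fst snd ≫ e.inv)
      (f' := Limits.diag F) (g' := e.hom ≫ prod.map ξ η) sqd
      (by simp) (by simp) (by simp) (by simp)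
    exact h _ _ _ this
  · intro h U ξ F' fst snd sq
    have sqP := IsPullback.of_hasPullback (ξ ≫ prod.fst) (ξ ≫ prod.snd)
    have hP := h U (ξ ≫ prod.fst) (ξ ≫ prod.snd) _ _ sqP
    have sqQ := IsPullback.of_hasPullback
      (prod.lift (pullback.fst (ξ ≫ prod.fst) (ξ ≫ prod.snd)) (pullback.snd (ξ ≫ prod.fst) (ξ ≫ prod.snd)))
      (Limits.diag ((pyon S).obj U))
    have key := isPullback_prod_diag sqP sqQ
    exact (isAlgSpaceP_pullback sqQ hP (isAlgSpaceP_pyon U)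
      ((isAlgSpaceP_pyon (U ⨯ U)).of_iso (PreservesLimitPair.iso (pyon S) U U))).of_iso
      (key.isoIsPullback _ _ sq)

theorem relRep_diagonal {F G : PSp S} (a : F ⟶ G) (ha : (pyon S).relativelyRepresentable a) :
    (pyon S).relativelyRepresentable (pullback.diagonal a) := by
  intro U ξ
  have sqP := ha.isPullback ((ξ ≫ pullback.fst a a) ≫ a)
  let σ₁ := ha.lift (g := (ξ ≫ pullback.fst a a) ≫ a) (ξ ≫ pullback.fst a a) (𝟙 U) (by simp)
  let σ₂ := ha.lift (g := (ξ ≫ pullback.fst a a) ≫ a) (ξ ≫ pullback.snd a a) (𝟙 U)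
    (by simp [pullback.condition])
  have sqQ := (IsPullback.of_hasPullback σ₁ σ₂).map (pyon S)
  exact ⟨_, pullback.fst σ₁ σ₂, _, isPullback_diagonal_sections sqP (ha.lift_fst _ _ _)
    (by rw [← (pyon S).map_comp, ha.lift_snd]; exact (pyon S).map_id U) (ha.lift_fst _ _ _)
    (by rw [← (pyon S).map_comp, ha.lift_snd]; exact (pyon S).map_id U) sqQ⟩

end Groth.Agent.AlgSpace
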