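import Groth.Agent.Lib.AlgSpace.Space
import Groth.Agent.Lib.AlgSpace.Rep
import Mathlib.AlgebraicGeometry.Morphisms.QuasiFinite

/-!
# Properties of the diagonal of a sheaf
-/

universe u v

set_option linter.unusedVariables false

open CategoryTheory CategoryTheory.Limits AlgebraicGeometry Opposite

namespace Groth.Agent.AlgSpace

section General

variable {C : Type*} [Category C] {D : Type*} [Category D] (Φ : C ⥤ D) [HasBinaryProducts C]
  [HasBinaryProducts D] [PreservesLimitsOfShape (Discrete WalkingPair) Φ]

attribute [local simp] prod.lift_fst prod.lift_snd in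
lemma isPullback_prod_diag_map {F : D} {T W Q : C} {g : Φ.obj T ⟶ F ⨯ F} {x y : W ⟶ T}
    (sqW : IsPullback (Φ.map x) (Φ.map y) (g ≫ prod.fst) (g ≫ prod.snd)) {c : Q ⟶ W} {d : Q ⟶ T}
    (sq : IsPullback (Φ.map c) (Φ.map d) (Φ.map (prod.lift x y)) (Φ.map (Limits.diag T))) :
    IsPullback (Φ.map d ≫ g ≫ prod.fst) (Φ.map d) (Limits.diag F) g := by
  have hc₁ : Φ.map c ≫ Φ.map x = Φ.map d := by
    simpa [← Functor.map_comp] using sq.w =≫ Φ.map prod.fst
  have hc₂ : Φ.map c ≫ Φ.map y = Φ.map d := by
    simpa [← Functor.map_comp] using sq.w =≫ Φ.map prod.snd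
  refine IsPullback.of_isLimit (PullbackCone.IsLimit.mk ?_
    (fun s => sq.lift (sqW.lift s.snd s.snd ?_) s.snd ?_) (fun s => ?_)
    (fun s => sq.lift_snd _ _ _) ?_)
  · apply Limits.prod.hom_ext
    · simp
    · have := Φ.map c ≫= sqW.w
      simp only [← Category.assoc, hc₁, hc₂] at this
      simpa using this
  · have h1 := s.condition =≫ prod.fst
    have h2 := s.condition =≫ prod.snd
    simp at h1 h2
    rw [← h1, ← h2]
  · apply map_prod_hom_ext Φ
    · simp [← Functor.map_comp]
    · simp [← Functor.map_comp]
  · have h1 := s.condition =≫ prod.fst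
    simp at h1
    simp [h1]
  · intro s m hm₁ hm₂
    apply sq.hom_ext
    · apply sqW.hom_ext
      · simp [hc₁, hm₂]
      · simp [hc₂, hm₂]
    · simp [hm₂]

end General

open AlgSp

variable {S : Scheme.{u}}

lemma repWith_prod_map {P : MorphismProperty Scheme.{u}} [P.IsStableUnderComposition] {F₁ F₂ G₁ G₂ : Sp S}
    {f₁ : F₁ ⟶ G₁} {f₂ : F₂ ⟶ G₂} (h₁ : RepWith P f₁) (h₂ : RepWith P f₂) :
    RepWith P (prod.map f₁ f₂) := by
  have := repWith_comp (repWith_of_isPullback (isPullback_prod_map_left f₁ F₂) h₁)
    (repWith_of_isPullback (isPullback_prod_map_right f₂ G₁) h₂)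
  rwa [prod.map_map, Category.comp_id, Category.id_comp] at this

/-- `RepWith P (diag F)` from the pairwise fibre products. -/
theorem repWith_diag_of_squares {F : Sp S} {P : MorphismProperty Scheme.{u}} [P.IsStableUnderBaseChange]
    (h : ∀ ⦃T : Over S⦄ (a b : (yon S).obj T ⟶ F), ∃ (W : Over S) (x y : W ⟶ T),
      IsPullback ((yon S).map x) ((yon S).map y) a b ∧ P (prod.lift x y).left) :
    RepWith P (Limits.diag F) :=
  repWith_mk fun T g => by
    obtain ⟨W, x, y, sqW, hP⟩ := h (g ≫ prod.fst) (g ≫ prod.snd)
    have sq := IsPullback.of_hasPullback (prod.lift x y) (Limits.diag T)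
    exact ⟨_, _, _, isPullback_prod_diag_map (yon S) sqW (sq.map (yon S)),
      P.of_isPullback (sq.map (Over.forget S)) hP⟩

/-- The projection of a fibre product over `F` to the product, composed with the comparison map. -/
lemma lift_comparison {A B W : Over S} (x : W ⟶ A) (y : W ⟶ B) :
    (yon S).map (prod.lift x y) ≫ prodComparison (yon S) A B =
      prod.lift ((yon S).map x) ((yon S).map y) := by
  apply Limits.prod.hom_ext
  · rw [Category.assoc, prodComparison_fst, ← (yon S).map_comp, prod.lift_fst, prod.lift_fst]
  · rw [Category.assoc, prodComparison_snd, ← (yon S).map_comp, prod.lift_snd, prod.lift_snd]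

/-- The map of a fibre product over `F` to the product inherits the properties of the diagonal. -/
theorem prop_lift_of_repWith_diag {F : Sp S} {P : MorphismProperty Scheme.{u}} [P.IsStableUnderBaseChange]
    (hd : RepWith P (Limits.diag F)) {A B W : Over S} {x : W ⟶ A} {y : W ⟶ B}
    {a : (yon S).obj A ⟶ F} {b : (yon S).obj B ⟶ F}
    (sq : IsPullback ((yon S).map x) ((yon S).map y) a b) : P (prod.lift x y).left := by
  have h := repWith_of_isPullback (isPullback_diag sq) hd
  rw [← lift_comparison, repWith_respectsIso_right] at h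
  exact (repWith_yon_map_iff P _).1 h

/-- Properties of the diagonal can be checked on a chart. -/
theorem repWith_diag_of_chart {F : Sp S} (hd : Representable (Limits.diag F))
    {P : MorphismProperty Scheme.{u}} [P.IsStableUnderBaseChange]
    [P.IsLocalAtTarget Scheme.fppfPrecoverage] {U R : Over S} {p : (yon S).obj U ⟶ F}
    (he : RepWith @Etale p) (hs : RepWith @Surjective p) {t s : R ⟶ U}
    (sq : IsPullback ((yon S).map t) ((yon S).map s) p p) (hP : P (prod.lift t s).left) :
    RepWith P (Limits.diag F) := by
  have := isLocallySurjective_of_etale (repWith_prod_map he he) (repWith_prod_map hs hs)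
  refine repWith_of_locallySurjective hd (isPullback_diag sq) P ?_
  rw [← lift_comparison, repWith_respectsIso_right]
  exact (repWith_yon_map_iff P _).2 hP

/-- The diagonal of a sheaf with representable diagonal has monomorphic base changes. -/
theorem repWith_diag_mono {F : Sp S} (hd : Representable (Limits.diag F)) :
    RepWith (MorphismProperty.monomorphisms Scheme.{u}) (Limits.diag F) := by
  refine ⟨hd, fun T V g fst snd sq => ?_⟩
  have : Mono ((yon S).map snd) :=
    (MorphismProperty.monomorphisms (Sp S)).of_isPullback sq (inferInstanceAs (Mono (Limits.diag F)))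
  have : Mono snd := (yon S).mono_of_mono_map this
  exact inferInstanceAs (Mono ((Over.forget S).map snd))

theorem repWith_diag_isSeparated {F : Sp S} (hd : Representable (Limits.diag F)) :
    RepWith @IsSeparated (Limits.diag F) :=
  repWith_mono (fun _ _ g hg => by
    have : Mono g := hg
    show IsSeparated g
    infer_instance) (repWith_diag_mono hd)

/-- The projection of a product of schemes over `S` is a base change of the structure map. -/
lemma isPullback_fst_left (A B : Over S) :
    IsPullback (prod.fst : A ⨯ B ⟶ A).left (prod.snd : A ⨯ B ⟶ B).left A.hom B.hom :=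
  Over.isPullback_of_binaryFan_isLimit (BinaryFan.mk prod.fst prod.snd) (prodIsProd A B)

lemma lift_left_fst {A B W : Over S} (x : W ⟶ A) (y : W ⟶ B) :
    (prod.lift x y).left ≫ (prod.fst : A ⨯ B ⟶ A).left = x.left := by
  rw [← Over.comp_left, prod.lift_fst]

lemma lift_left_snd {A B W : Over S} (x : W ⟶ A) (y : W ⟶ B) :
    (prod.lift x y).left ≫ (prod.snd : A ⨯ B ⟶ B).left = y.left := by
  rw [← Over.comp_left, prod.lift_snd]

theorem repWith_diag_lft {F : Sp S} (hF : IsAlgSpace F) :
    RepWith @LocallyOfFiniteType (Limits.diag F) := by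
  obtain ⟨U, p, he, hs⟩ := hF.atlas
  obtain ⟨R, t, s, sq⟩ := representable_diag_iff.1 hF.diag p p
  have := isLocalAtTarget_fppf (@LocallyOfFiniteType : MorphismProperty Scheme.{u})
  refine repWith_diag_of_chart hF.diag he hs sq ?_
  have : Etale t.left := he.2 p _ _ sq.flip
  have : LocallyOfFiniteType ((prod.lift t s).left ≫ (prod.fst : U ⨯ U ⟶ U).left) := by
    rw [lift_left_fst]; infer_instance
  exact locallyOfFiniteType_of_comp _ (prod.fst : U ⨯ U ⟶ U).left

theorem repWith_diag_lqf {F : Sp S} (hF : IsAlgSpace F) :
    RepWith @LocallyQuasiFinite (Limits.diag F) :=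
  repWith_mono (fun _ _ g hg => by
    have : LocallyOfFiniteType g := hg.1
    have : Mono g := hg.2
    show LocallyQuasiFinite g
    exact .of_injective g.injective)
    (repWith_inf (repWith_diag_lft hF) (repWith_diag_mono hF.diag))

/-- Zariski local properties of representable maps can be checked on affine test schemes. -/
theorem repWith_of_affine {F G : Sp S} {f : F ⟶ G} (hf : Representable f)
    {P : MorphismProperty Scheme.{u}} [P.IsStableUnderBaseChange] [IsZariskiLocalAtTarget P]
    (h : ∀ ⦃T : Over S⦄, IsAffine T.left → ∀ g : (yon S).obj T ⟶ G,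
      ∃ (V : Over S) (fst : (yon S).obj V ⟶ F) (snd : V ⟶ T),
        IsPullback fst ((yon S).map snd) f g ∧ P snd.left) : RepWith P f := by
  refine ⟨hf, fun T V g fst snd sq => ?_⟩
  refine (IsZariskiLocalAtTarget.iff_of_openCover (P := P) T.left.affineCover).2 fun i => ?_
  let ι : Over.mk (T.left.affineCover.f i ≫ T.hom) ⟶ T := overArrow (T.left.affineCover.f i)
  obtain ⟨V', fst', snd', sq', hP⟩ := h (T := Over.mk (T.left.affineCover.f i ≫ T.hom))
    (inferInstanceAs (IsAffine (T.left.affineCover.X i))) ((yon S).map ι ≫ g)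
  have sq₁ := IsPullback.of_hasPullback snd ι
  have sq₂ := (sq₁.map (yon S)).paste_horiz sq
  let e := (yon S).preimageIso (sq₂.isoIsPullback _ _ sq')
  have he : e.hom ≫ snd' = pullback.snd snd ι := (yon S).map_injective (by simp [e])
  have h₁ : P (pullback.snd snd ι).left := by
    rw [← he]
    have : IsIso e.hom.left := inferInstanceAs (IsIso ((Over.forget S).map e.hom))
    exact (P.cancel_left_of_respectsIso e.hom.left _).2 hP
  let e' := (sq₁.map (Over.forget S)).isoPullback
  have he' : e'.hom ≫ pullback.snd snd.left (T.left.affineCover.f i) = (pullback.snd snd ι).left :=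
    (sq₁.map (Over.forget S)).isoPullback_hom_snd
  rw [← he'] at h₁
  exact (P.cancel_left_of_respectsIso e'.hom _).1 h₁

/-- Over an affine test scheme the diagonal is tested on the map to the product. -/
theorem repWith_diag_of_affine {F : Sp S} (hd : Representable (Limits.diag F))
    {P : MorphismProperty Scheme.{u}} [P.IsStableUnderBaseChange] [IsZariskiLocalAtTarget P]
    (h : ∀ ⦃T : Over S⦄, IsAffine T.left → ∀ (a b : (yon S).obj T ⟶ F) (W : Over S) (x y : W ⟶ T),
      IsPullback ((yon S).map x) ((yon S).map y) a b → P (prod.lift x y).left) :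
    RepWith P (Limits.diag F) :=
  repWith_of_affine hd fun T hT g => by
    obtain ⟨W, x, y, sqW⟩ := representable_diag_iff.1 hd (g ≫ prod.fst) (g ≫ prod.snd)
    have sq := IsPullback.of_hasPullback (prod.lift x y) (Limits.diag T)
    exact ⟨_, _, _, isPullback_prod_diag_map (yon S) sqW (sq.map (yon S)),
      P.of_isPullback (sq.map (Over.forget S)) (h hT _ _ W x y sqW)⟩

/-- A scheme over `S` mapping to a separated scheme has separated products. -/
lemma isSeparated_prod_left (A B : Over S) [A.left.IsSeparated] [B.left.IsSeparated] :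
    (A ⨯ B).left.IsSeparated := by
  have : IsSeparated B.hom := inferInstance
  have : IsSeparated (prod.fst : A ⨯ B ⟶ A).left :=
    MorphismProperty.of_isPullback (P := @IsSeparated) (isPullback_fst_left A B).flip inferInstance
  rw [Scheme.isSeparated_iff, show terminal.from (A ⨯ B).left =
    (prod.fst : A ⨯ B ⟶ A).left ≫ terminal.from A.left from terminal.hom_ext _ _]
  infer_instance

end Groth.Agent.AlgSpace
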