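import Groth.Agent.Lib.AlgSpace.LocP
import Groth.Agent.Lib.AlgSpace.Rep
import Groth.Agent.Lib.AlgSpace.Diag
import Groth.Agent.Lib.FpqcDesc.Basic
import Groth.Prelude.Def_AlgSp4

/-!
# The diagonal of a morphism; separation properties of morphisms
-/

universe u

set_option linter.unusedVariables false

open CategoryTheory CategoryTheory.Limits AlgebraicGeometry Opposite MorphismProperty

namespace Groth.Agent.AlgSpace

section General

variable {C : Type*} [Category C] [HasPullbacks C]

attribute [local simp] pullback.lift_fst pullback.lift_snd prod.lift_fst prod.lift_snd limit.lift_π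
  pullback.lift_fst_assoc pullback.lift_snd_assoc limit.lift_π_assoc

/-- The diagonal of a morphism is a base change of the diagonal of its source. -/
lemma isPullback_diagonal_diag [HasBinaryProducts C] {F G : C} (f : F ⟶ G) :
    IsPullback (𝟙 F) (pullback.diagonal f) (Limits.diag F)
      (prod.lift (pullback.fst f f) (pullback.snd f f)) := by
  refine IsPullback.of_isLimit (PullbackCone.IsLimit.mk ?_ (fun s => s.fst)
    (fun s => Category.comp_id _) (fun s => ?_) fun s m hm₁ hm₂ => by simpa using hm₁)
  · apply Limits.prod.hom_ext <;> simp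
  · have h1 := s.condition =≫ prod.fst
    have h2 := s.condition =≫ prod.snd
    simp only [Category.assoc, prod.lift_fst, prod.lift_snd, Category.comp_id] at h1 h2
    apply pullback.hom_ext <;> simp [← h1, ← h2]

/-- The diagonal of a base change is a base change of the diagonal. -/
lemma isPullback_diagonal_baseChange {X Y X' Y' : C} {fst : X' ⟶ X} {snd : X' ⟶ Y'} {f : X ⟶ Y}
    {g : Y' ⟶ Y} (sq : IsPullback fst snd f g) :
    IsPullback fst (pullback.diagonal snd) (pullback.diagonal f)
      (pullback.map snd snd f f fst fst g sq.w.symm sq.w.symm) := by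
  have key : ∀ s : PullbackCone (pullback.diagonal f)
      (pullback.map snd snd f f fst fst g sq.w.symm sq.w.symm),
      s.snd ≫ pullback.fst snd snd ≫ fst = s.fst ∧
      s.snd ≫ pullback.fst snd snd = s.snd ≫ pullback.snd snd snd := by
    intro s
    have h1 := s.condition =≫ pullback.fst f f
    have h2 := s.condition =≫ pullback.snd f f
    simp only [Category.assoc, pullback.diagonal_fst, pullback.diagonal_snd, Category.comp_id,
      pullback.lift_fst, pullback.lift_snd] at h1 h2
    refine ⟨h1.symm, sq.hom_ext ?_ ?_⟩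
    · rw [Category.assoc, Category.assoc, ← h1, ← h2]
    · rw [Category.assoc, Category.assoc, pullback.condition]
  refine IsPullback.of_isLimit (PullbackCone.IsLimit.mk ?_ (fun s => s.snd ≫ pullback.fst snd snd)
    (fun s => (Category.assoc _ _ _).trans (key s).1) (fun s => ?_) fun s m hm₁ hm₂ => ?_)
  · apply pullback.hom_ext <;> simp
  · apply pullback.hom_ext <;> simp [(key s).2]
  · simp [← hm₂]

/-- The comparison map of the self fibre products is a base change. -/
lemma isPullback_map_self {X Y X' Y' : C} {fst : X' ⟶ X} {snd : X' ⟶ Y'} {f : X ⟶ Y}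
    {g : Y' ⟶ Y} (sq : IsPullback fst snd f g) :
    IsPullback (pullback.map snd snd f f fst fst g sq.w.symm sq.w.symm)
      (pullback.fst snd snd ≫ snd) (pullback.fst f f ≫ f) g := by
  refine IsPullback.of_isLimit (PullbackCone.IsLimit.mk (by simp [sq.w]) (fun s => pullback.lift
    (sq.lift (s.fst ≫ pullback.fst f f) s.snd (by simp [s.condition]))
    (sq.lift (s.fst ≫ pullback.snd f f) s.snd (by simp [← pullback.condition, s.condition]))
    (by simp)) (fun s => ?_) (fun s => by simp) fun s m hm₁ hm₂ => ?_)
  · apply pullback.hom_ext <;> simp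
  · apply pullback.hom_ext <;> apply sq.hom_ext
    · simp [← hm₁]
    · simp [← hm₂]
    · simp [← hm₁]
    · simp [← hm₂, pullback.condition]

/-- A section is a base change of the diagonal. -/
lemma isPullback_section {X T : C} (f : X ⟶ T) (s : T ⟶ X) (hs : s ≫ f = 𝟙 T) :
    IsPullback s s (pullback.diagonal f)
      (pullback.lift (𝟙 X) (f ≫ s) (by simp [hs])) := by
  have key : ∀ c : PullbackCone (pullback.diagonal f) (pullback.lift (𝟙 X) (f ≫ s) (by simp [hs])),
      c.fst = c.snd ∧ c.snd ≫ f ≫ s = c.snd := by
    intro c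
    have h1 := c.condition =≫ pullback.fst f f
    have h2 := c.condition =≫ pullback.snd f f
    simp only [Category.assoc, pullback.diagonal_fst, pullback.diagonal_snd, Category.comp_id,
      pullback.lift_fst, pullback.lift_snd] at h1 h2
    exact ⟨h1, h2.symm.trans h1⟩
  refine IsPullback.of_isLimit (PullbackCone.IsLimit.mk ?_ (fun c => c.snd ≫ f)
    (fun c => ?_) (fun c => ?_) fun c m hm₁ hm₂ => ?_)
  · apply pullback.hom_ext <;> simp [reassoc_of% hs]
  · exact (Category.assoc _ _ _).trans ((key c).2.trans (key c).1.symm)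
  · exact (Category.assoc _ _ _).trans (key c).2
  · exact (Category.comp_id m).symm.trans ((congrArg (m ≫ ·) hs.symm).trans
      ((Category.assoc _ _ _).symm.trans (congrArg (· ≫ f) hm₂)))

end General

open AlgSp

attribute [local simp] pullback.lift_fst pullback.lift_snd prod.lift_fst prod.lift_snd limit.lift_π
  pullback.lift_fst_assoc pullback.lift_snd_assoc limit.lift_π_assoc

variable {S : Scheme.{u}}

section Diagonal

variable {P : MorphismProperty Scheme.{u}}

lemma repWith_diagonal_of_diag {F G : Sp S} (f : F ⟶ G) (h : RepWith P (Limits.diag F)) :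
    RepWith P (pullback.diagonal f) :=
  repWith_of_isPullback (isPullback_diagonal_diag f) h

lemma representable_diagonal {F G : Sp S} (hF : IsAlgSpace F) (f : F ⟶ G) :
    Representable (pullback.diagonal f) :=
  representable_of_isPullback (isPullback_diagonal_diag f) hF.diag

theorem repWith_diagonal_lft {F G : Sp S} (hF : IsAlgSpace F) (f : F ⟶ G) :
    RepWith @LocallyOfFiniteType (pullback.diagonal f) :=
  repWith_diagonal_of_diag f (repWith_diag_lft hF)

theorem repWith_diagonal_lqf {F G : Sp S} (hF : IsAlgSpace F) (f : F ⟶ G) :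
    RepWith (@LocallyQuasiFinite ⊓ @LocallyOfFiniteType) (pullback.diagonal f) :=
  repWith_diagonal_of_diag f (repWith_inf (repWith_diag_lqf hF) (repWith_diag_lft hF))

theorem repWith_diagonal_mono {F G : Sp S} (hF : IsAlgSpace F) (f : F ⟶ G) :
    RepWith (MorphismProperty.monomorphisms Scheme.{u}) (pullback.diagonal f) :=
  repWith_diagonal_of_diag f (repWith_diag_mono hF.diag)

theorem repWith_diagonal_isSeparated {F G : Sp S} (hF : IsAlgSpace F) (f : F ⟶ G) :
    RepWith @IsSeparated (pullback.diagonal f) :=
  repWith_diagonal_of_diag f (repWith_diag_isSeparated hF.diag)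

end Diagonal

section Separation

variable {P : MorphismProperty Scheme.{u}}

/-- Conditions on the diagonal pass to base changes. -/
lemma repWith_diagonal_of_isPullback {X Y X' Y' : Sp S} {fst : X' ⟶ X} {snd : X' ⟶ Y'} {f : X ⟶ Y}
    {g : Y' ⟶ Y} (sq : IsPullback fst snd f g) (h : RepWith P (pullback.diagonal f)) :
    RepWith P (pullback.diagonal snd) :=
  repWith_of_isPullback (isPullback_diagonal_baseChange sq) h

lemma isSeparatedMor_of_isPullback {X Y X' Y' : Sp S} {fst : X' ⟶ X} {snd : X' ⟶ Y'} {f : X ⟶ Y}
    {g : Y' ⟶ Y} (sq : IsPullback fst snd f g) (h : IsSeparatedMor f) : IsSeparatedMor snd :=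
  repWith_diagonal_of_isPullback sq h

lemma isQuasiSeparatedMor_of_isPullback {X Y X' Y' : Sp S} {fst : X' ⟶ X} {snd : X' ⟶ Y'} {f : X ⟶ Y}
    {g : Y' ⟶ Y} (sq : IsPullback fst snd f g) (h : IsQuasiSeparatedMor f) : IsQuasiSeparatedMor snd :=
  repWith_diagonal_of_isPullback sq h

theorem isLocalAtTarget_fppf_isClosedImmersion :
    MorphismProperty.IsLocalAtTarget (@IsClosedImmersion : MorphismProperty Scheme.{u})
      Scheme.fppfPrecoverage :=
  have := FpqcDesc.descendsAlong_isClosedImmersion.{u}
  isLocalAtTarget_fppf _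

theorem isLocalAtTarget_fppf_quasiCompact :
    MorphismProperty.IsLocalAtTarget (@QuasiCompact : MorphismProperty Scheme.{u})
      Scheme.fppfPrecoverage :=
  have := FpqcDesc.descendsAlong_quasiCompact.{u}
  isLocalAtTarget_fppf _

/-- Conditions on the diagonal descend along etale surjections from schemes. -/
lemma repWith_diagonal_of_etale_cover [P.IsStableUnderBaseChange]
    [P.IsLocalAtTarget Scheme.fppfPrecoverage] {X Y : Sp S} (hX : IsAlgSpace X) {f : X ⟶ Y}
    {V : Sp S} {p : V ⟶ Y} (hp : RepWith @Etale p) (hps : RepWith @Surjective p)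
    {X' : Sp S} {fst : X' ⟶ X} {snd : X' ⟶ V} (sq : IsPullback fst snd f p)
    (h : RepWith P (pullback.diagonal snd)) : RepWith P (pullback.diagonal f) := by
  have := isLocallySurjective_of_etale
    (repWith_of_isPullback (isPullback_map_self sq).flip hp)
    (repWith_of_isPullback (isPullback_map_self sq).flip hps)
  exact repWith_of_locallySurjective (representable_diagonal hX f)
    (isPullback_diagonal_baseChange sq) P h

/-- Conditions on the diagonal are checked over affine test schemes. -/
lemma repWith_diagonal_of_affine [P.IsStableUnderBaseChange] [IsZariskiLocalAtTarget P]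
    {X Y : Sp S} (hX : IsAlgSpace X) {f : X ⟶ Y}
    (h : ∀ (Z : Over S), IsAffine Z.left → ∀ (g : (yon S).obj Z ⟶ Y) (X' : Sp S) (fst : X' ⟶ X)
      (snd : X' ⟶ (yon S).obj Z), IsPullback fst snd f g → RepWith P (pullback.diagonal snd)) :
    RepWith P (pullback.diagonal f) := by
  refine repWith_of_affine (representable_diagonal hX f) fun T hT t => ?_
  have sq := IsPullback.of_hasPullback f (t ≫ pullback.fst f f ≫ f)
  have hd := h T hT _ _ _ _ sq
  let t' : (yon S).obj T ⟶ pullback (pullback.snd f (t ≫ pullback.fst f f ≫ f))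
      (pullback.snd f (t ≫ pullback.fst f f ≫ f)) :=
    pullback.lift (sq.lift (t ≫ pullback.fst f f) (𝟙 _) (by simp))
      (sq.lift (t ≫ pullback.snd f f) (𝟙 _) (by simp [pullback.condition]))
      (by rw [sq.lift_snd, sq.lift_snd])
  have ht : t' ≫ pullback.map _ _ f f _ _ _ sq.w.symm sq.w.symm = t := by
    apply pullback.hom_ext <;> simp [t']
  have sqd := (hd.1.isPullback t').paste_horiz (isPullback_diagonal_baseChange sq)
  rw [ht] at sqd
  exact ⟨_, _, _, sqd, hd.2 t' _ _ (hd.1.isPullback t')⟩

theorem isSeparatedMor_iff_of_representable {X Y : Sp S} (hX : IsAlgSpace X) (hY : IsAlgSpace Y)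
    {f : X ⟶ Y} (hf : Representable f) : IsSeparatedMor f ↔ RepWith @IsSeparated f := by
  refine ⟨fun h => ⟨hf, fun T W g fst snd sq =>
    (isSeparatedMor_yon_map_iff snd).1 (isSeparatedMor_of_isPullback sq h)⟩, fun h => ?_⟩
  obtain ⟨V, b, hbe, hbs⟩ := hY.atlas
  have sq := hf.isPullback b
  have := isLocalAtTarget_fppf_isClosedImmersion.{u}
  exact repWith_diagonal_of_etale_cover hX hbe hbs sq
    ((isSeparatedMor_yon_map_iff _).2 (h.2 b _ _ sq))

theorem isQuasiSeparatedMor_iff_of_representable {X Y : Sp S} (hX : IsAlgSpace X) (hY : IsAlgSpace Y)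
    {f : X ⟶ Y} (hf : Representable f) : IsQuasiSeparatedMor f ↔ RepWith @QuasiSeparated f := by
  refine ⟨fun h => ⟨hf, fun T W g fst snd sq =>
    (isQuasiSeparatedMor_yon_map_iff snd).1 (isQuasiSeparatedMor_of_isPullback sq h)⟩, fun h => ?_⟩
  obtain ⟨V, b, hbe, hbs⟩ := hY.atlas
  have sq := hf.isPullback b
  have := isLocalAtTarget_fppf_quasiCompact.{u}
  exact repWith_diagonal_of_etale_cover hX hbe hbs sq
    ((isQuasiSeparatedMor_yon_map_iff _).2 (h.2 b _ _ sq))

/-- Monomorphisms have invertible diagonal. -/
lemma repWith_diagonal_of_mono [P.IsStableUnderBaseChange] [P.IsMultiplicative] {X Y : Sp S}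
    (f : X ⟶ Y) [Mono f] : RepWith P (pullback.diagonal f) :=
  MorphismProperty.of_isIso (RepWith (S := S) P) (pullback.diagonal f)

/-- Conditions on the diagonal compose. -/
lemma repWith_diagonal_comp [P.IsStableUnderBaseChange] [P.IsStableUnderComposition] {X Y Z : Sp S}
    {f : X ⟶ Y} {g : Y ⟶ Z} (hf : RepWith P (pullback.diagonal f))
    (hg : RepWith P (pullback.diagonal g)) : RepWith P (pullback.diagonal (f ≫ g)) := by
  rw [pullback.diagonal_comp]
  refine repWith_comp hf ((repWith_respectsIso_left _).2 ?_)
  exact repWith_of_isPullback (IsPullback.of_hasPullback _ _) hg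

/-- A factor is the graph followed by a base change of the composite. -/
lemma repWith_of_comp_of_diagonal [P.IsStableUnderBaseChange] [P.IsStableUnderComposition]
    {X Y Z : Sp S} {f : X ⟶ Y} {g : Y ⟶ Z} (h : RepWith P (f ≫ g))
    (hg : RepWith P (pullback.diagonal g)) : RepWith P f := by
  let L : X ⟶ pullback (f ≫ g) g := pullback.lift (𝟙 X) f (by simp)
  have sqL := isPullback_graph f g (L := L) (pullback.lift_fst _ _ _) (pullback.lift_snd _ _ _)
    (M := pullback.map (f ≫ g) g g g f (𝟙 Y) (𝟙 Z) (by simp) (by simp))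
    (pullback.lift_fst _ _ _) (by rw [pullback.lift_snd, Category.comp_id])
  have h₁ : RepWith P L := repWith_of_isPullback sqL hg
  have h₂ : RepWith P (pullback.snd (f ≫ g) g) :=
    repWith_of_isPullback (IsPullback.of_hasPullback _ _) h
  rw [← pullback.lift_snd (𝟙 X) f (show 𝟙 X ≫ f ≫ g = f ≫ g by simp)]
  exact repWith_comp h₁ h₂

end Separation

end Groth.Agent.AlgSpace
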