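import Groth.Agent.Lib.AlgSpace.AffineDescent
import Groth.Agent.Lib.AlgSpace.Glue
import Groth.Agent.Lib.AlgSpace.MorDiag
import Groth.Agent.Lib.FpqcDesc.Basic
import Groth.Prelude.Def_AlgSp3

/-!
# Affine, integral and finite morphisms of sheaves

Properties tested on affine schemes over the target, their representability and their descent
along surjective étale maps from schemes.
-/

universe u

set_option backward.isDefEq.respectTransparency.types false
set_option linter.unusedVariables false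

open CategoryTheory CategoryTheory.Limits AlgebraicGeometry Opposite MorphismProperty

namespace Groth.Agent.AlgSpace

open AlgSp

variable {S : Scheme.{u}}

section Test

variable {P : MorphismProperty Scheme.{u}}

/-- A map whose base changes to affine schemes are representable by maps with a Zariski local
property is representable with that property. -/
theorem repWith_of_affine_family [P.IsStableUnderBaseChange] [IsZariskiLocalAtTarget P]
    {F G : Sp S} {f : F ⟶ G}
    (h : ∀ ⦃Z : Over S⦄, IsAffine Z.left → ∀ g : (yon S).obj Z ⟶ G,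
      ∃ (W : Over S) (i : W ⟶ Z) (fst : (yon S).obj W ⟶ F),
        IsPullback fst ((yon S).map i) f g ∧ P i.left) : RepWith P f := by
  refine repWith_of_affine (representable_of_zariski f fun T g t => ?_) fun T hT g => ?_
  · obtain ⟨O, hO, ht, -⟩ :=
      exists_isAffineOpen_mem_and_subset (X := T.left) (x := t) (U := ⊤) trivial
    obtain ⟨W, i, fst, sq, -⟩ := h (Z := Over.mk (O.ι ≫ T.hom)) hO
      ((yon S).map (overArrow O.ι) ≫ g)
    exact ⟨O, ht, W, i, fst, sq⟩
  · obtain ⟨W, i, fst, sq, hi⟩ := h hT g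
    exact ⟨W, fst, i, sq, hi⟩

theorem isAffineMor_iff_repWith {F G : Sp S} {f : F ⟶ G} :
    IsAffineMor f ↔ RepWith @IsAffineHom f := by
  refine ⟨fun h => repWith_of_affine_family fun Z hZ g => ?_, fun h Z hZ g => ?_⟩
  · obtain ⟨W, i, fst, sq, hW⟩ := h hZ g
    exact ⟨W, i, fst, sq, inferInstance⟩
  · have sq := h.1.isPullback g
    have : IsAffineHom (h.1.snd g).left := h.2 g _ _ sq
    exact ⟨_, _, _, sq, isAffine_of_isAffineHom (h.1.snd g).left⟩

theorem isIntegralMor_iff_repWith {F G : Sp S} {f : F ⟶ G} :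
    IsIntegralMor f ↔ RepWith @IsIntegralHom f := by
  refine ⟨fun h => repWith_of_affine_family fun Z hZ g => ?_, fun h Z hZ g => ?_⟩
  · obtain ⟨W, i, fst, sq, hW, hi⟩ := h hZ g
    exact ⟨W, i, fst, sq, hi⟩
  · have sq := h.1.isPullback g
    have : IsIntegralHom (h.1.snd g).left := h.2 g _ _ sq
    exact ⟨_, _, _, sq, isAffine_of_isAffineHom (h.1.snd g).left, this⟩

theorem isFiniteMor_iff_repWith {F G : Sp S} {f : F ⟶ G} :
    IsFiniteMor f ↔ RepWith @IsFinite f := by
  refine ⟨fun h => repWith_of_affine_family fun Z hZ g => ?_, fun h Z hZ g => ?_⟩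
  · obtain ⟨W, i, fst, sq, hW, hi⟩ := h hZ g
    exact ⟨W, i, fst, sq, hi⟩
  · have sq := h.1.isPullback g
    have : IsFinite (h.1.snd g).left := h.2 g _ _ sq
    exact ⟨_, _, _, sq, isAffine_of_isAffineHom (h.1.snd g).left, this⟩

lemma isClosedImmersion_le_isAffineHom :
    (@IsClosedImmersion : MorphismProperty Scheme.{u}) ≤ @IsAffineHom :=
  fun _ _ _ _ => inferInstance

theorem isFiniteMor_le_isIntegralMor {F G : Sp S} {f : F ⟶ G} (hf : IsFiniteMor f) :
    IsIntegralMor f := fun Z hZ g => by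
  obtain ⟨W, i, fst, sq, hW, hi⟩ := hf hZ g
  exact ⟨W, i, fst, sq, hW, inferInstance⟩

theorem isIntegralMor_le_isAffineMor {F G : Sp S} {f : F ⟶ G} (hf : IsIntegralMor f) :
    IsAffineMor f := fun Z hZ g => by
  obtain ⟨W, i, fst, sq, hW, -⟩ := hf hZ g
  exact ⟨W, i, fst, sq, hW⟩

end Test

section Descent

/-- An open surjective map onto an affine scheme is refined by an affine scheme mapping to the
source by a surjective family of affine opens. -/
lemma exists_affine_refinement {Q Z : Over S} (q : Q ⟶ Z) [IsAffine Z.left]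
    (ho : IsOpenMap q.left) [Surjective q.left] :
    ∃ (V' : Over S) (j : V' ⟶ Q), IsAffine V'.left ∧ Etale j.left ∧
      Surjective (j ≫ q).left := by
  let J := { U : Q.left.Opens // IsAffineOpen U }
  obtain ⟨s, hs⟩ := isCompact_univ.elim_finite_subcover
    (fun U : J => q.left '' (U.1 : Set ↥Q.left)) (fun U => ho _ U.1.2) fun z _ => by
      obtain ⟨x, rfl⟩ := q.left.surjective z
      obtain ⟨U, hU, hx, -⟩ :=
        exists_isAffineOpen_mem_and_subset (X := Q.left) (x := x) (U := ⊤) trivial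
      exact Set.mem_iUnion.2 ⟨⟨U, hU⟩, x, hx, rfl⟩
  have (k : s) : IsAffine k.1.1.toScheme := k.1.2
  let d : (∐ fun k : s => k.1.1.toScheme) ⟶ Q.left := Sigma.desc fun k : s => k.1.1.ι
  refine ⟨Over.mk (d ≫ Q.hom), Over.homMk d rfl,
    inferInstanceAs (IsAffine (∐ fun k : s => k.1.1.toScheme)), ?_, ⟨fun z => ?_⟩⟩
  · exact IsZariskiLocalAtSource.sigmaDesc (P := @Etale) fun k => (inferInstance : Etale k.1.1.ι)
  · obtain ⟨U, hU, x, hx, rfl⟩ := Set.mem_iUnion₂.1 (hs (Set.mem_univ z))
    refine ⟨Sigma.ι (fun k : s => k.1.1.toScheme) ⟨U, hU⟩ ⟨x, hx⟩, ?_⟩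
    have e : Sigma.ι (fun k : s => k.1.1.toScheme) ⟨U, hU⟩ ≫ d = U.1.ι :=
      Sigma.ι_desc (fun k : s => k.1.1.ι) ⟨U, hU⟩
    exact congrArg q.left (congrArg (fun m => m ⟨x, hx⟩) e)

variable {P : MorphismProperty Scheme.{u}}

/-- Descent of maps affine with a property along a surjective étale map from a scheme. -/
theorem exists_affine_square_of_etale_cover [P.IsStableUnderBaseChange]
    [P.DescendsAlong (@Surjective ⊓ @Flat ⊓ @QuasiCompact)] {F G : Sp S} (f : F ⟶ G) {V : Over S}
    (p : (yon S).obj V ⟶ G) (hp : RepWith @Etale p) (hps : RepWith @Surjective p) {Pf : Sp S}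
    {fst : Pf ⟶ F} {snd : Pf ⟶ (yon S).obj V} (sq : IsPullback fst snd f p)
    (h : ∀ ⦃Z : Over S⦄, IsAffine Z.left → ∀ g : (yon S).obj Z ⟶ (yon S).obj V,
      ∃ (W : Over S) (i : W ⟶ Z) (a : (yon S).obj W ⟶ Pf),
        IsPullback a ((yon S).map i) snd g ∧ IsAffine W.left ∧ P i.left)
    ⦃Z : Over S⦄ (hZ : IsAffine Z.left) (g : (yon S).obj Z ⟶ G) :
    ∃ (A : Over S) (i : A ⟶ Z) (a : (yon S).obj A ⟶ F),
      IsPullback a ((yon S).map i) f g ∧ IsAffine A.left ∧ P i.left := by
  have sqQ := hp.1.isPullback g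
  have : Etale (hp.1.snd g).left := hp.2 g _ _ sqQ
  have : Surjective (hp.1.snd g).left := hps.2 g _ _ sqQ
  obtain ⟨V', j, hV', hj, hjs⟩ := exists_affine_refinement (hp.1.snd g) (hp.1.snd g).left.isOpenMap
  have : Etale (j ≫ hp.1.snd g).left := by rw [Over.comp_left]; infer_instance
  obtain ⟨W, i, a, sqW, hW, hi⟩ := h hV' ((yon S).map j ≫ hp.1.fst g)
  have sqW' : IsPullback (a ≫ fst) ((yon S).map i) f ((yon S).map (j ≫ hp.1.snd g) ≫ g) := by
    have := sqW.paste_horiz sq
    rwa [Category.assoc, sqQ.w, ← Functor.map_comp_assoc] at this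
  obtain ⟨A, i', a', h', hA, sqA, sqh⟩ :=
    exists_affine_of_cover f g (j ≫ hp.1.snd g) i (a ≫ fst) sqW'
  refine ⟨A, i', a', sqA, hA, ?_⟩
  have hf : Flat (j ≫ hp.1.snd g).left := inferInstance
  have hc : QuasiCompact (j ≫ hp.1.snd g).left := inferInstance
  exact MorphismProperty.of_isPullback_of_descendsAlong
    (Q := (@Surjective ⊓ @Flat ⊓ @QuasiCompact : MorphismProperty Scheme.{u}))
    (sqh.map (Over.forget S)).flip ⟨⟨hjs, hf⟩, hc⟩ hi

theorem isAffineMor_of_etale_cover {F G : Sp S} (f : F ⟶ G) {V : Over S}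
    (p : (yon S).obj V ⟶ G) (hp : RepWith @Etale p) (hps : RepWith @Surjective p) {Pf : Sp S}
    {fst : Pf ⟶ F} {snd : Pf ⟶ (yon S).obj V} (sq : IsPullback fst snd f p)
    (h : IsAffineMor snd) : IsAffineMor f := fun Z hZ g => by
  have := FpqcDesc.descendsAlong_isAffineHom.{u}
  obtain ⟨A, i, a, sqA, hA, -⟩ := exists_affine_square_of_etale_cover (P := @IsAffineHom) f p hp
    hps sq (fun Z' hZ' g' => by
      obtain ⟨W, i, a, sqW, hW⟩ := h hZ' g'
      exact ⟨W, i, a, sqW, hW, inferInstance⟩) hZ g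
  exact ⟨A, i, a, sqA, hA⟩

theorem isIntegralMor_of_etale_cover {F G : Sp S} (f : F ⟶ G) {V : Over S}
    (p : (yon S).obj V ⟶ G) (hp : RepWith @Etale p) (hps : RepWith @Surjective p) {Pf : Sp S}
    {fst : Pf ⟶ F} {snd : Pf ⟶ (yon S).obj V} (sq : IsPullback fst snd f p)
    (h : IsIntegralMor snd) : IsIntegralMor f :=
  have := FpqcDesc.descendsAlong_isIntegralHom.{u}
  exists_affine_square_of_etale_cover (P := @IsIntegralHom) f p hp hps sq h

theorem isFiniteMor_of_etale_cover {F G : Sp S} (f : F ⟶ G) {V : Over S}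
    (p : (yon S).obj V ⟶ G) (hp : RepWith @Etale p) (hps : RepWith @Surjective p) {Pf : Sp S}
    {fst : Pf ⟶ F} {snd : Pf ⟶ (yon S).obj V} (sq : IsPullback fst snd f p)
    (h : IsFiniteMor snd) : IsFiniteMor f :=
  have := FpqcDesc.descendsAlong_isFinite.{u}
  exists_affine_square_of_etale_cover (P := @IsFinite) f p hp hps sq h

end Descent

end Groth.Agent.AlgSpace
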