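import Groth.Agent.Lib.AlgSpace.Sub
import Groth.Agent.Lib.AlgSpace.Glue
import Groth.Agent.Lib.AlgSpace.Diag
import Mathlib.CategoryTheory.Limits.MonoCoprod
import Mathlib.CategoryTheory.Extensive

/-!
# Coproducts of sheaves on the fppf site: components, disjointness
-/

universe w u

set_option backward.isDefEq.respectTransparency.types false
set_option linter.unusedVariables false

open CategoryTheory CategoryTheory.Limits AlgebraicGeometry Opposite

namespace Groth.Agent.AlgSpace

open AlgSp AlgSpDecent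

variable {S : Scheme.{u}}

attribute [local simp] prod.lift_fst prod.lift_snd prod.map_fst prod.map_snd limit.lift_π limit.lift_π_assoc

section Lifts

lemma exists_hom_of_isEmpty {T : Over S} [IsEmpty ↥T.left] (F : Sp S) :
    Nonempty ((yon S).obj T ⟶ F) := by
  obtain ⟨g, -, -⟩ := existsUnique_glue (T := T) (T' := fun k : PEmpty.{u + 1} => k.elim)
    (fun k => k.elim) (fun k => k.elim) (fun t => isEmptyElim t) (F := F) (fun k => k.elim)
    (fun i => i.elim)
  exact ⟨g⟩

lemma hom_ext_of_isEmpty {T : Over S} [IsEmpty ↥T.left] {F : Sp S}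
    (g g' : (yon S).obj T ⟶ F) : g = g' :=
  hom_ext_glue (T := T) (T' := fun k : PEmpty.{u + 1} => k.elim) (fun k => k.elim)
    (fun k => k.elim) (fun t => isEmptyElim t) (fun k => k.elim)

/-- Lifts along a monomorphism exist as soon as they exist locally. -/
lemma exists_lift_of_mono {A F : Sp S} (j : A ⟶ F) [Mono j] {T : Over S} (g : (yon S).obj T ⟶ F)
    (h : Presheaf.imageSieve j.hom (sect g) ∈ AlgSp.J S T) : ∃ l, l ≫ j = g := by
  have hinj : ∀ (V : Over S), Function.Injective (j.hom.app (op V)) := fun V x y e => by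
    apply (sect (T := V) (F := A)).symm.injective
    rw [← cancel_mono j]
    apply (sect (T := V) (F := F)).injective
    rwa [GrothendieckTopology.uliftYonedaEquiv_comp, GrothendieckTopology.uliftYonedaEquiv_comp,
      Equiv.apply_symm_apply, Equiv.apply_symm_apply]
  let x : Presieve.FamilyOfElements A.obj (Presheaf.imageSieve j.hom (sect g)).arrows :=
    fun V f hf => hf.choose
  have hx : ∀ ⦃V : Over S⦄ (f : V ⟶ T) (hf : Presheaf.imageSieve j.hom (sect g) f),
      j.hom.app _ (x f hf) = F.obj.map f.op (sect g) := fun V f hf => hf.choose_spec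
  have hc : x.Compatible := fun Y₁ Y₂ Z g₁ g₂ f₁ f₂ h₁ h₂ e => hinj Z (by
    rw [NatTrans.naturality_apply, NatTrans.naturality_apply, hx, hx, ← Functor.map_comp_apply,
      ← Functor.map_comp_apply, ← op_comp, ← op_comp, e])
  have hA := (isSheaf_iff_isSheaf_of_type _ _).1 A.property _ h
  refine ⟨sect.symm (hA.amalgamate x hc), sect.injective ?_⟩
  rw [GrothendieckTopology.uliftYonedaEquiv_comp, Equiv.apply_symm_apply]
  refine (((isSheaf_iff_isSheaf_of_type _ _).1 F.property) _ h).isSeparatedFor.ext fun V f hf => ?_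
  rw [← NatTrans.naturality_apply, hA.valid_glue hc f hf, hx]

/-- A property local at the source of a representable map out of a scheme is checked on an open
cover of that scheme. -/
lemma repWith_of_source_opens {P : MorphismProperty Scheme.{u}} [P.IsStableUnderBaseChange]
    [IsZariskiLocalAtSource P] {F : Sp S} {U : Over S} {p : (yon S).obj U ⟶ F}
    (hp : Representable p) {κ : Type u} (O : κ → U.left.Opens) (hO : ∀ u, ∃ k, u ∈ O k)
    (h : ∀ k, RepWith P ((yon S).map (overArrow (O k).ι) ≫ p)) : RepWith P p := by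
  refine ⟨hp, fun T V g fst snd sq => ?_⟩
  obtain ⟨m, hm⟩ := (yon S).map_surjective fst
  refine (IsZariskiLocalAtSource.iff_of_iSup_eq_top (P := P) (fun k => m.left ⁻¹ᵁ O k) ?_).2
    fun k => ?_
  · rw [eq_top_iff]
    intro v _
    obtain ⟨k, hk⟩ := hO (m.left v)
    exact TopologicalSpace.Opens.mem_iSup.2 ⟨k, hk⟩
  let m' : Over.mk ((m.left ⁻¹ᵁ O k).ι ≫ V.hom) ⟶ Over.mk ((O k).ι ≫ U.hom) :=
    Over.homMk (m.left ∣_ O k) (by
      change _ ≫ _ ≫ _ = _
      rw [morphismRestrict_ι_assoc, Over.w m]; rfl)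
  have sq₁ : IsPullback m' (overArrow (m.left ⁻¹ᵁ O k).ι) (overArrow (O k).ι) m :=
    IsPullback.of_map_of_faithful (Over.forget S) (isPullback_morphismRestrict m.left (O k))
  have sq₂ : IsPullback ((yon S).map m') ((yon S).map (overArrow (m.left ⁻¹ᵁ O k).ι ≫ snd))
      ((yon S).map (overArrow (O k).ι) ≫ p) g := by
    rw [Functor.map_comp]
    have sq₀ := sq₁.map (yon S)
    rw [hm] at sq₀
    exact sq₀.paste_vert sq
  exact (h k).2 g _ _ sq₂

end Lifts

section Cofan

variable {ι : Type w} {F : ι → Sp S} {c : Cofan F} (hc : IsColimit c)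

include hc in
/-- The coprojections of a coproduct are locally jointly surjective. -/
lemma exists_cover_lift_cofan {T : Over S} (g : (yon S).obj T ⟶ c.pt) :
    ∃ 𝒰 : Scheme.Cover.{u} Scheme.fppfPrecoverage.{u} T.left, ∀ k, ∃ (i : ι)
      (l : (yon S).obj (Over.mk (𝒰.f k ≫ T.hom)) ⟶ F i),
        l ≫ c.inj i = (yon S).map (overArrow (𝒰.f k)) ≫ g := by
  let G : Subfunctor c.pt.obj :=
    { obj := fun U => {s | ∃ (i : ι) (t : (F i).obj.obj U), (c.inj i).hom.app U t = s}
      map := by
        rintro U V a s ⟨i, t, rfl⟩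
        exact ⟨i, (F i).obj.map a t, NatTrans.naturality_apply _ _ _⟩ }
  have hX := (isSheaf_iff_isSheaf_of_type (AlgSp.J S) c.pt.obj).1 c.pt.property
  let T' : Sp S := ⟨(G.sheafify (AlgSp.J S)).toFunctor,
    (isSheaf_iff_isSheaf_of_type _ _).2 (Subfunctor.sheafify_isSheaf _ hX)⟩
  let j : T' ⟶ c.pt := ObjectProperty.homMk (G.sheafify (AlgSp.J S)).ι
  let a : ∀ i, F i ⟶ T' := fun i => ObjectProperty.homMk
    (Subfunctor.lift (c.inj i).hom (show Subfunctor.range (c.inj i).hom ≤ G.sheafify (AlgSp.J S) by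
      rintro U s ⟨t, ht⟩
      exact G.le_sheafify (AlgSp.J S) U ⟨i, t, ht⟩))
  have e : Cofan.IsColimit.desc hc a ≫ j = 𝟙 c.pt := Cofan.IsColimit.hom_ext hc _ _ fun i => by
    rw [← Category.assoc, Cofan.IsColimit.fac]
    exact ObjectProperty.hom_ext _ rfl
  have hs : sect g ∈ (G.sheafify (AlgSp.J S)).obj (op T) := by
    have h1 := ((Cofan.IsColimit.desc hc a).hom.app _ (sect g)).2
    have h2 : (j.hom.app _ ((Cofan.IsColimit.desc hc a).hom.app _ (sect g))) = sect g := by
      rw [← ConcreteCategory.comp_apply]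
      exact congrArg (fun m : c.pt ⟶ c.pt => m.hom.app _ (sect g)) e
    rw [← h2]; exact h1
  obtain ⟨𝒰, h𝒰⟩ := (mem_J_iff _).1 hs
  refine ⟨𝒰, fun k => ?_⟩
  obtain ⟨i, t, ht⟩ := (overEquiv_arrow _ _).1 (h𝒰 k)
  refine ⟨i, sect.symm t, sect.injective ?_⟩
  rw [GrothendieckTopology.uliftYonedaEquiv_comp, Equiv.apply_symm_apply,
    ← GrothendieckTopology.uliftYonedaEquiv_naturality]
  exact ht

variable [Small.{u} ι]

include hc in
lemma mono_cofan_inj (i : ι) : Mono (c.inj i) := by
  let K : Set ι := (Set.range fun _ : Unit => i)ᶜ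
  have : HasColimitsOfShape (Discrete K) (Sp S) :=
    hasColimitsOfShape_of_equivalence (Discrete.equivalence (equivShrink.{u} K).symm)
  exact MonoCoprod.mono_inj F c hc i

/-- The constant scheme on `ι`. -/
noncomputable def constScheme (ι : Type w) [Small.{u} ι] : Over S :=
  Over.mk (Sigma.desc fun _ : ι => 𝟙 S)

/-- The map from the coproduct to the constant scheme recording the component. -/
noncomputable def component : c.pt ⟶ (yon S).obj (constScheme ι) :=
  Cofan.IsColimit.desc hc fun i =>
    ((Over.mkIdTerminal (X := S)).isTerminalObj (yon S) _).from (F i) ≫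
      (yon S).map (Over.homMk (Sigma.ι (fun _ : ι => S) i) (Sigma.ι_desc _ _) :
        Over.mk (𝟙 S) ⟶ constScheme ι)

/-- The open part of a test scheme on which a section lies in a given component. -/
noncomputable def componentOpen {T : Over S} (g : (yon S).obj T ⟶ c.pt) (i : ι) : T.left.Opens :=
  ((yon S).preimage (g ≫ component hc)).left ⁻¹ᵁ (Sigma.ι (fun _ : ι => S) i).opensRange

lemma componentOpen_comp {T T' : Over S} (a : T' ⟶ T) (g : (yon S).obj T ⟶ c.pt) (i : ι)
    (t : ↥T'.left) :
    t ∈ componentOpen hc ((yon S).map a ≫ g) i ↔ a.left t ∈ componentOpen hc g i := by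
  have e : (yon S).preimage (((yon S).map a ≫ g) ≫ component hc) =
      a ≫ (yon S).preimage (g ≫ component hc) := (yon S).map_injective (by simp)
  simp only [componentOpen, e]
  rfl

lemma mem_componentOpen_inj {T : Over S} {i : ι} (l : (yon S).obj T ⟶ F i) (t : ↥T.left) :
    t ∈ componentOpen hc (l ≫ c.inj i) i := by
  let e : Over.mk (𝟙 S) ⟶ constScheme ι :=
    Over.homMk (Sigma.ι (fun _ : ι => S) i) (Sigma.ι_desc _ _)
  obtain ⟨m, hm⟩ := (yon S).map_surjective
    (l ≫ ((Over.mkIdTerminal (X := S)).isTerminalObj (yon S) _).from (F i))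
  have h : (yon S).preimage ((l ≫ c.inj i) ≫ component hc) = m ≫ e := (yon S).map_injective (by
    rw [Functor.map_preimage, Functor.map_comp, hm, Category.assoc, Category.assoc, component,
      Cofan.IsColimit.fac])
  rw [componentOpen, h]
  exact ⟨m.left t, rfl⟩

lemma componentOpen_disjoint {T : Over S} (g : (yon S).obj T ⟶ c.pt) {i j : ι} (hij : i ≠ j)
    {t : ↥T.left} (hi : t ∈ componentOpen hc g i) : t ∉ componentOpen hc g j := fun hj =>
  Set.disjoint_left.1 (TopologicalSpace.Opens.coe_disjoint.2 (disjoint_opensRange_sigmaι (fun _ : ι => S) i j hij)) hi hj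

lemma exists_mem_componentOpen {T : Over S} (g : (yon S).obj T ⟶ c.pt) (t : ↥T.left) :
    ∃ i, t ∈ componentOpen hc g i := by
  obtain ⟨i, y, hy⟩ := (sigmaOpenCover fun _ : ι => S).exists_eq
    (((yon S).preimage (g ≫ component hc)).left t)
  exact ⟨i, y, hy⟩

lemma isClosed_componentOpen {T : Over S} (g : (yon S).obj T ⟶ c.pt) (i : ι) :
    IsClosed (componentOpen hc g i : Set ↥T.left) := by
  have : (componentOpen hc g i : Set ↥T.left) =
      (⋃ j : {j // j ≠ i}, (componentOpen hc g j.1 : Set ↥T.left))ᶜ := by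
    ext t
    simp only [Set.mem_compl_iff, Set.mem_iUnion, SetLike.mem_coe, not_exists]
    refine ⟨fun h j => componentOpen_disjoint hc g j.2.symm h, fun h => ?_⟩
    obtain ⟨j, hj⟩ := exists_mem_componentOpen hc g t
    by_cases hji : j = i
    · exact hji ▸ hj
    · exact absurd hj (h ⟨j, hji⟩)
  rw [this, isClosed_compl_iff]
  exact isOpen_iUnion fun j => (componentOpen hc g j.1).isOpen

/-- A section lying in a single component comes from it. -/
lemma exists_lift_component {T : Over S} (g : (yon S).obj T ⟶ c.pt) {i : ι}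
    (h : ∀ t, t ∈ componentOpen hc g i) : ∃ l, l ≫ c.inj i = g := by
  have := mono_cofan_inj hc i
  refine exists_lift_of_mono (c.inj i) g ((mem_J_iff _).2 ?_)
  obtain ⟨𝒰, h𝒰⟩ := exists_cover_lift_cofan hc g
  refine ⟨𝒰, fun k => (overEquiv_arrow _ _).2 ?_⟩
  obtain ⟨j, l, hl⟩ := h𝒰 k
  by_cases hji : j = i
  · subst hji
    exact imageSieve_of_fac _ _ _ l hl
  · have : IsEmpty ↥(Over.mk (𝒰.f k ≫ T.hom)).left := ⟨fun v => by
      have h₁ := mem_componentOpen_inj hc l v
      rw [hl, componentOpen_comp] at h₁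
      exact componentOpen_disjoint hc g hji h₁ (h _)⟩
    obtain ⟨l'⟩ := exists_hom_of_isEmpty (T := Over.mk (𝒰.f k ≫ T.hom)) (F i)
    exact imageSieve_of_fac _ _ _ l' (hom_ext_of_isEmpty _ _)

/-- The fibre of a coprojection over a test scheme is the open and closed component. -/
lemma exists_isPullback_component {T : Over S} (g : (yon S).obj T ⟶ c.pt) (i : ι) :
    ∃ l : (yon S).obj (Over.mk ((componentOpen hc g i).ι ≫ T.hom)) ⟶ F i,
      IsPullback l ((yon S).map (overArrow (componentOpen hc g i).ι)) (c.inj i) g := by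
  let O := componentOpen hc g i
  let a : Over.mk (O.ι ≫ T.hom) ⟶ T := overArrow O.ι
  obtain ⟨l, hl⟩ := exists_lift_component hc (i := i) ((yon S).map a ≫ g) fun t => by
    rw [componentOpen_comp]
    change O.ι t ∈ (O : Set ↥T.left)
    rw [← O.range_ι]
    exact ⟨t, rfl⟩
  have := mono_cofan_inj hc i
  have : IsOpenImmersion a.left := inferInstanceAs (IsOpenImmersion O.ι)
  have : Mono a := (Over.forget S).mono_of_mono_map (inferInstanceAs (Mono O.ι))
  refine ⟨l, isPullback_of_mono_lifts hl fun T' y x e => ?_⟩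
  obtain ⟨m, rfl⟩ := (yon S).map_surjective y
  have hr : Set.range m.left ⊆ Set.range a.left := by
    rintro _ ⟨v, rfl⟩
    change m.left v ∈ Set.range O.ι
    rw [O.range_ι]
    change m.left v ∈ componentOpen hc g i
    rw [← componentOpen_comp, ← e]
    exact mem_componentOpen_inj hc x v
  let q : T' ⟶ Over.mk (O.ι ≫ T.hom) := Over.homMk (IsOpenImmersion.lift a.left m.left hr) (by
    change _ ≫ a.left ≫ T.hom = _
    rw [IsOpenImmersion.lift_fac_assoc, Over.w m])
  refine ⟨(yon S).map q, ?_⟩
  rw [← Functor.map_comp]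
  exact congrArg _ (Over.OverMorphism.ext (IsOpenImmersion.lift_fac _ _ _))

include hc in
theorem repWith_cofan_inj (i : ι) :
    RepWith (@IsOpenImmersion ⊓ @IsClosedImmersion : MorphismProperty Scheme.{u}) (c.inj i) :=
  repWith_mk fun T g => by
    obtain ⟨l, sq⟩ := exists_isPullback_component hc g i
    refine ⟨_, l, overArrow (componentOpen hc g i).ι, sq,
      inferInstanceAs (IsOpenImmersion (componentOpen hc g i).ι),
      IsClosedImmersion.of_isPreimmersion (componentOpen hc g i).ι ?_⟩
    rw [Scheme.Opens.range_ι]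
    exact isClosed_componentOpen hc g i

include hc in
lemma exists_point_component (x : Points c.pt) : ∃ i y, Points.map (c.inj i) y = x := by
  obtain ⟨T, g, t, rfl⟩ := exists_ofPt_eq x
  obtain ⟨i, hi⟩ := exists_mem_componentOpen hc g t
  obtain ⟨l, sq⟩ := exists_isPullback_component hc g i
  exact ⟨i, Points.ofPt l ⟨t, hi⟩, ofPt_sq sq.w ⟨t, hi⟩⟩

include hc in
/-- A coproduct of algebraic spaces is an algebraic space. -/
theorem isAlgSpace_cofan (h : ∀ i, IsAlgSpace (F i)) : IsAlgSpace c.pt := by
  have hinj := fun i => mono_cofan_inj hc i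
  have hdiag : Representable (Limits.diag c.pt) := representable_of_zariski _ fun T g t => by
    obtain ⟨i, hi⟩ := exists_mem_componentOpen hc (g ≫ Limits.prod.fst) t
    obtain ⟨j, hj⟩ := exists_mem_componentOpen hc (g ≫ Limits.prod.snd) t
    let O : T.left.Opens :=
      componentOpen hc (g ≫ Limits.prod.fst) i ⊓ componentOpen hc (g ≫ Limits.prod.snd) j
    refine ⟨O, ⟨hi, hj⟩, ?_⟩
    let g' := (yon S).map (overArrow O.ι) ≫ g
    have hmem : ∀ v : ↥(Over.mk (O.ι ≫ T.hom)).left,
        v ∈ componentOpen hc (g' ≫ Limits.prod.fst) i ∧ v ∈ componentOpen hc (g' ≫ Limits.prod.snd) j := by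
      intro v
      have hv : ((overArrow O.ι : _ ⟶ T)).left v ∈ O := by
        change O.ι v ∈ (O : Set ↥T.left)
        rw [← O.range_ι]
        exact ⟨v, rfl⟩
      simp only [g', Category.assoc, componentOpen_comp]
      exact ⟨hv.1, hv.2⟩
    by_cases hij : i = j
    · subst hij
      obtain ⟨a, ha⟩ := exists_lift_component hc (g' ≫ Limits.prod.fst) fun v => (hmem v).1
      obtain ⟨b, hb⟩ := exists_lift_component hc (g' ≫ Limits.prod.snd) fun v => (hmem v).2
      have := hinj i
      have sqd : IsPullback (c.inj i) (Limits.diag (F i)) (Limits.diag c.pt)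
          (prod.map (c.inj i) (c.inj i)) :=
        isPullback_of_mono_lifts (by apply Limits.prod.hom_ext <;> simp) fun T' y x e => by
          have h₁ := e =≫ Limits.prod.fst
          have h₂ := e =≫ Limits.prod.snd
          simp only [Category.assoc, prod.lift_fst, prod.lift_snd, Category.comp_id, prod.map_fst,
            prod.map_snd] at h₁ h₂
          have hy : y ≫ Limits.prod.fst = y ≫ Limits.prod.snd := by
            rw [← cancel_mono (c.inj i), Category.assoc, Category.assoc, ← h₁, h₂]
          exact ⟨y ≫ Limits.prod.fst, by apply Limits.prod.hom_ext <;> simp [hy]⟩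
      have hg : prod.lift a b ≫ prod.map (c.inj i) (c.inj i) = g' := by
        apply Limits.prod.hom_ext <;> simp [ha, hb]
      have sq := ((h i).diag.isPullback (prod.lift a b)).paste_horiz sqd
      rw [hg] at sq
      exact ⟨_, _, _, sq⟩
    · let W : Over S := Over.mk (((⊥ : O.toScheme.Opens)).ι ≫ O.ι ≫ T.hom)
      let r : W ⟶ Over.mk (O.ι ≫ T.hom) := Over.homMk (⊥ : O.toScheme.Opens).ι rfl
      have : IsEmpty ↥W.left := ⟨fun v => v.2⟩
      obtain ⟨l⟩ := exists_hom_of_isEmpty (T := W) c.pt
      have : Mono r := (Over.forget S).mono_of_mono_map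
        (inferInstanceAs (Mono (⊥ : O.toScheme.Opens).ι))
      refine ⟨W, r, l, isPullback_of_mono_lifts (hom_ext_of_isEmpty _ _) fun T' y x e => ?_⟩
      obtain ⟨m, rfl⟩ := (yon S).map_surjective y
      have hT' : IsEmpty ↥T'.left := ⟨fun v => by
        have h₁ : v ∈ componentOpen hc (((yon S).map m ≫ g') ≫ Limits.prod.fst) i := by
          rw [Category.assoc, componentOpen_comp]; exact (hmem _).1
        have h₂ : v ∈ componentOpen hc (((yon S).map m ≫ g') ≫ Limits.prod.snd) j := by
          rw [Category.assoc, componentOpen_comp]; exact (hmem _).2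
        rw [← e, Category.assoc, prod.lift_fst, Category.comp_id] at h₁
        rw [← e, Category.assoc, prod.lift_snd, Category.comp_id] at h₂
        exact componentOpen_disjoint hc x hij h₁ h₂⟩
      obtain ⟨p⟩ := exists_hom_of_isEmpty (T := T') ((yon S).obj W)
      exact ⟨p, hom_ext_of_isEmpty _ _⟩
  refine ⟨hdiag, ?_⟩
  choose U p hpe hps using fun i => (h i).atlas
  let e : ι ≃ Shrink.{u} ι := equivShrink ι
  let V : Over S := Over.mk (Sigma.desc fun k : Shrink.{u} ι => (U (e.symm k)).hom)
  let v : ∀ k, U (e.symm k) ⟶ V := fun k =>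
    Over.homMk (Sigma.ι (fun k => (U (e.symm k)).left) k) (Sigma.ι_desc _ _)
  obtain ⟨P, hP, -⟩ := existsUnique_glue (T := V) v
    (fun k => inferInstanceAs (IsOpenImmersion (Sigma.ι (fun k => (U (e.symm k)).left) k)))
    (fun x => by
      obtain ⟨k, y, hy⟩ := (sigmaOpenCover fun k => (U (e.symm k)).left).exists_eq x
      exact ⟨k, y, hy⟩)
    (fun k => p (e.symm k) ≫ c.inj (e.symm k))
    (fun k l W a b hab => by
      by_cases hkl : k = l
      · subst hkl
        have hm : Mono (v k) := (Over.forget S).mono_of_mono_map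
          (inferInstanceAs (Mono (Sigma.ι (fun k => (U (e.symm k)).left) k)))
        rw [(cancel_mono (v k)).1 hab]
      · have : IsEmpty ↥W.left := isEmpty_of_commSq_sigmaι_of_ne
          (g := fun k => (U (e.symm k)).left) (a := a.left) (b := b.left)
          ⟨congrArg CommaMorphism.left hab⟩ hkl
        exact hom_ext_of_isEmpty _ _)
  have hrepP : Representable P := Functor.relativelyRepresentable.of_diag hdiag P
  refine ⟨V, P, repWith_of_source_opens hrepP
    (fun k => (Sigma.ι (fun k => (U (e.symm k)).left) k).opensRange) ?_ ?_,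
    repWith_surjective_of_map hrepP fun x => ?_⟩
  · intro x
    obtain ⟨k, y, hy⟩ := (sigmaOpenCover fun k => (U (e.symm k)).left).exists_eq x
    exact ⟨k, y, hy⟩
  · intro k
    let σ := Sigma.ι (fun k => (U (e.symm k)).left) k
    let E : Over.mk (σ.opensRange.ι ≫ V.hom) ⟶ U (e.symm k) :=
      Over.homMk σ.isoOpensRange.inv (by
        change σ.isoOpensRange.inv ≫ (U (e.symm k)).hom = _
        rw [← Over.w (v k)]
        change σ.isoOpensRange.inv ≫ σ ≫ V.hom = _
        rw [Scheme.Hom.isoOpensRange_inv_comp_assoc]; rfl)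
    have hE : (overArrow σ.opensRange.ι : _ ⟶ V) = E ≫ v k :=
      Over.OverMorphism.ext (Scheme.Hom.isoOpensRange_inv_comp σ).symm
    have hEe : RepWith @Etale ((yon S).map E) :=
      (repWith_yon_map_iff _ _).2 (inferInstanceAs (Etale σ.isoOpensRange.inv))
    rw [hE, Functor.map_comp, Category.assoc, hP]
    exact repWith_comp hEe (repWith_comp (hpe _) (repWith_mono
      (fun _ _ g (hg : (@IsOpenImmersion ⊓ @IsClosedImmersion : MorphismProperty Scheme.{u}) g) => by
        have := hg.1
        infer_instance) (repWith_cofan_inj hc _)))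
  · obtain ⟨i, y, rfl⟩ := exists_point_component hc x
    obtain ⟨k, rfl⟩ := e.symm.surjective i
    obtain ⟨z, rfl⟩ := surjective_map_of_repWith (hps _) y
    refine ⟨Points.map ((yon S).map (v k)) z, ?_⟩
    rw [← Points.map_comp, ← Points.map_comp, hP]

end Cofan

end Groth.Agent.AlgSpace
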