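import Groth.Agent.Lib.AlgSpace.Points
import Groth.Agent.Lib.AlgSpace.MorDiag
import Groth.Prelude.Def_SGA1
import Groth.Prelude.Def_Flat
import Mathlib.AlgebraicGeometry.Morphisms.UniversallyInjective
import Mathlib.AlgebraicGeometry.Morphisms.UniversallyOpen

/-!
# Topological properties of morphisms, tested after base change
-/

universe u

set_option linter.unusedVariables false

open CategoryTheory CategoryTheory.Limits AlgebraicGeometry Opposite Topology

namespace Groth.Agent.AlgSpace

open AlgSp Groth.Agent.AlgSpDecent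

variable {S : Scheme.{u}}

lemma map_of_yon_eq {F : Sp S} {T : Over S} (g : (yon S).obj T ⟶ F) :
    Points.map g = Points.ofPt g ∘ (Points.schemeHomeo T).symm := by
  funext x
  obtain ⟨t, rfl⟩ := (Points.schemeHomeo T).surjective x
  simp only [Function.comp_apply, Homeomorph.symm_apply_apply]
  exact (Points.ofPt_eq_map_ofScheme g t).symm

/-- Etale maps from schemes are open. -/
lemma isOpenMap_map_of_etale {F : Sp S} {T : Over S} {g : (yon S).obj T ⟶ F}
    (hg : RepWith @Etale g) : IsOpenMap (Points.map g) := by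
  rw [map_of_yon_eq]
  exact (isOpenMap_ofPt g hg).comp (Homeomorph.isOpenMap _)

/-- Images and preimages commute in pullback squares. -/
lemma preimage_image_map {P X Y Z : Sp S} {fst : P ⟶ X} {snd : P ⟶ Z} {f : X ⟶ Y} {g : Z ⟶ Y}
    (sq : IsPullback fst snd f g) (O : Set (Points X)) :
    Points.map g ⁻¹' (Points.map f '' O) = Points.map snd '' (Points.map fst ⁻¹' O) := by
  ext z
  constructor
  · rintro ⟨x, hx, e⟩
    obtain ⟨w, hw₁, hw₂⟩ := exists_point_lift sq x z e
    exact ⟨w, by rw [Set.mem_preimage, hw₁]; exact hx, hw₂⟩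
  · rintro ⟨w, hw, rfl⟩
    exact ⟨_, hw, by rw [← Points.map_comp, sq.w, Points.map_comp]⟩

/-- Surjectivity on points is stable under base change. -/
lemma surjective_of_isPullback {P X Y Z : Sp S} {fst : P ⟶ X} {snd : P ⟶ Z} {f : X ⟶ Y} {g : Z ⟶ Y}
    (sq : IsPullback fst snd f g) (hf : Function.Surjective (Points.map f)) :
    Function.Surjective (Points.map snd) := fun z =>
  have ⟨x, hx⟩ := hf (Points.map g z)
  have ⟨w, _, hw⟩ := exists_point_lift sq x z hx
  ⟨w, hw⟩

section Family

variable {Z Z' : Sp S} {κ : Type u} {T : κ → Over S} {q : ∀ k, (yon S).obj (T k) ⟶ Z} {f : Z' ⟶ Z}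
  {W : κ → Sp S} {a : ∀ k, W k ⟶ Z'} {b : ∀ k, W k ⟶ (yon S).obj (T k)}
  (hj : ∀ z, ∃ k w, Points.map (q k) w = z) (sq : ∀ k, IsPullback (a k) (b k) f (q k))

include hj in
lemma isOpen_of_cover (hq : ∀ k, IsOpenMap (Points.map (q k))) {E : Set (Points Z)}
    (h : ∀ k, IsOpen (Points.map (q k) ⁻¹' E)) : IsOpen E := by
  have : E = ⋃ k, Points.map (q k) '' (Points.map (q k) ⁻¹' E) := by
    ext z
    refine ⟨fun hz => ?_, fun hz => ?_⟩
    · obtain ⟨k, w, rfl⟩ := hj z
      exact Set.mem_iUnion.2 ⟨k, w, hz, rfl⟩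
    · obtain ⟨k, w, hw, rfl⟩ := Set.mem_iUnion.1 hz
      exact hw
  rw [this]
  exact isOpen_iUnion fun k => hq k _ (h k)

include hj sq in
lemma isOpenMap_of_cover (hq : ∀ k, IsOpenMap (Points.map (q k)))
    (h : ∀ k, IsOpenMap (Points.map (b k))) : IsOpenMap (Points.map f) := fun O hO =>
  isOpen_of_cover hj hq fun k => by
    rw [preimage_image_map (sq k)]
    exact h k _ (hO.preimage (Points.continuous_map _))

include hj sq in
lemma isClosedMap_of_cover (hq : ∀ k, IsOpenMap (Points.map (q k)))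
    (h : ∀ k, IsClosedMap (Points.map (b k))) : IsClosedMap (Points.map f) := fun C hC =>
  ⟨isOpen_of_cover hj hq fun k => by
    rw [Set.preimage_compl, preimage_image_map (sq k), isOpen_compl_iff]
    exact h k _ (hC.preimage (Points.continuous_map _))⟩

include hj sq in
lemma surjective_of_cover (h : ∀ k, Function.Surjective (Points.map (b k))) :
    Function.Surjective (Points.map f) := fun z => by
  obtain ⟨k, w, rfl⟩ := hj z
  obtain ⟨v, rfl⟩ := h k w
  exact ⟨Points.map (a k) v, by rw [← Points.map_comp, (sq k).w, Points.map_comp]⟩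

include hj sq in
lemma injective_of_cover (h : ∀ k, Function.Injective (Points.map (b k))) :
    Function.Injective (Points.map f) := fun x₁ x₂ e => by
  obtain ⟨k, w, hw⟩ := hj (Points.map f x₁)
  obtain ⟨v₁, rfl, h₁⟩ := exists_point_lift (sq k) x₁ w hw.symm
  obtain ⟨v₂, rfl, h₂⟩ := exists_point_lift (sq k) x₂ w (e.symm.trans hw.symm)
  rw [h k (h₁.trans h₂.symm)]

include hj sq in
lemma isQuotientMap_of_cover (hq : ∀ k, IsOpenMap (Points.map (q k)))
    (h : ∀ k, IsQuotientMap (Points.map (b k))) : IsQuotientMap (Points.map f) := by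
  refine ⟨⟨TopologicalSpace.ext (funext fun E => propext (Iff.trans
    ⟨fun hE => hE.preimage (Points.continuous_map f), fun hE => isOpen_of_cover hj hq fun k => ?_⟩
    isOpen_coinduced.symm))⟩, surjective_of_cover hj sq fun k => (h k).surjective⟩
  rw [← (h k).isOpen_preimage, ← Set.preimage_comp,
    show Points.map (q k) ∘ Points.map (b k) = Points.map f ∘ Points.map (a k) from funext fun v => by
      simp only [Function.comp_apply, ← Points.map_comp, (sq k).w]]
  exact hE.preimage (Points.continuous_map _)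

include hj sq in
lemma isHomeomorph_of_cover (hq : ∀ k, IsOpenMap (Points.map (q k)))
    (h : ∀ k, IsHomeomorph (Points.map (b k))) : IsHomeomorph (Points.map f) :=
  ⟨Points.continuous_map f,
    isOpenMap_of_cover hj sq hq fun k => (h k).isOpenMap,
    injective_of_cover hj sq fun k => (h k).injective,
    surjective_of_cover hj sq fun k => (h k).surjective⟩

end Family

/-- A property of morphisms read on an open cover by schemes. -/
def PtsLocal (Q : MorphismProperty (Sp S)) : Prop :=
  ∀ ⦃Z Z' : Sp S⦄ {κ : Type u} {T : κ → Over S} (q : ∀ k, (yon S).obj (T k) ⟶ Z) (f : Z' ⟶ Z)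
    (W : κ → Sp S) (a : ∀ k, W k ⟶ Z') (b : ∀ k, W k ⟶ (yon S).obj (T k)),
    (∀ z, ∃ k w, Points.map (q k) w = z) → (∀ k, IsOpenMap (Points.map (q k))) →
    (∀ k, IsPullback (a k) (b k) f (q k)) → (∀ k, Q (b k)) → Q f

lemma ptsLocal_isOpenMor : PtsLocal (S := S) IsOpenMor :=
  fun _ _ _ _ _ _ _ _ _ hj hq sq h => isOpenMap_of_cover hj sq hq h

lemma ptsLocal_isClosedMor : PtsLocal (S := S) IsClosedMor :=
  fun _ _ _ _ _ _ _ _ _ hj hq sq h => isClosedMap_of_cover hj sq hq h

lemma ptsLocal_injective :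
    PtsLocal (S := S) (fun _ _ f => Function.Injective (Points.map f)) :=
  fun _ _ _ _ _ _ _ _ _ hj hq sq h => injective_of_cover hj sq h

lemma ptsLocal_isSubmersiveMor : PtsLocal (S := S) IsSubmersiveMor :=
  fun _ _ _ _ _ _ _ _ _ hj hq sq h => isQuotientMap_of_cover hj sq hq h

lemma ptsLocal_isHomeomorph :
    PtsLocal (S := S) (fun _ _ f => IsHomeomorph (Points.map f)) :=
  fun _ _ _ _ _ _ _ _ _ hj hq sq h => isHomeomorph_of_cover hj sq hq h

variable {Q : MorphismProperty (Sp S)}

/-- An affine etale cover of an algebraic space. -/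
lemma exists_affine_cover {Z : Sp S} (hZ : IsAlgSpace Z) :
    ∃ (κ : Type u) (T : κ → Over S) (q : ∀ k, (yon S).obj (T k) ⟶ Z),
      (∀ k, IsAffine (T k).left) ∧ (∀ k, RepWith @Etale (q k)) ∧
      ∀ z, ∃ k w, Points.map (q k) w = z := by
  obtain ⟨U, p, he, hs⟩ := hZ.atlas
  refine ⟨U.left.affineOpens, fun V => Over.mk (V.1.ι ≫ U.hom),
    fun V => (yon S).map (Over.homMk V.1.ι rfl) ≫ p, fun V => V.2,
    fun V => repWith_etale_restrict he V.1, fun z => ?_⟩
  obtain ⟨u, rfl⟩ := surjective_ofPt hs z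
  obtain ⟨_, ⟨(V : U.left.Opens), hV, rfl⟩, hu, -⟩ := U.left.isBasis_affineOpens.exists_subset_of_mem_open
    (Set.mem_univ u) isOpen_univ
  have hr : Points.ofPt p u ∈ Set.range (Points.ofPt
      ((yon S).map (Over.homMk V.ι rfl : Over.mk (V.ι ≫ U.hom) ⟶ U) ≫ p)) := by
    rw [range_ofPt_restrict]; exact ⟨u, hu, rfl⟩
  obtain ⟨v, hv⟩ := hr
  exact ⟨⟨V, hV⟩, Points.ofScheme _ v, (Points.ofPt_eq_map_ofScheme _ v).symm.trans hv⟩

/-- Universal properties are tested on affine schemes. -/
theorem univSp_of_affine (hQ : PtsLocal Q) {X Y : Sp S} {f : X ⟶ Y}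
    (h : ∀ (Z : Over S), IsAffine Z.left → ∀ (g : (yon S).obj Z ⟶ Y) (P : Sp S)
      (fst : P ⟶ X) (snd : P ⟶ (yon S).obj Z), IsPullback fst snd f g → Q snd) :
    UnivSp Q f := by
  intro Z Z' hZ g fst snd sq
  obtain ⟨κ, T, q, haff, he, hj⟩ := exists_affine_cover hZ
  have sq' := fun k => IsPullback.of_hasPullback snd (q k)
  exact hQ q snd _ _ _ hj (fun k => isOpenMap_map_of_etale (he k)) sq'
    fun k => h (T k) (haff k) (q k ≫ g) _ _ _ ((sq' k).paste_horiz sq)

theorem univSp_iff_affine (hQ : PtsLocal Q) {X Y : Sp S} {f : X ⟶ Y} :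
    UnivSp Q f ↔ ∀ (Z : Over S), IsAffine Z.left → ∀ (g : (yon S).obj Z ⟶ Y) (P : Sp S)
      (fst : P ⟶ X) (snd : P ⟶ (yon S).obj Z), IsPullback fst snd f g → Q snd :=
  ⟨fun h Z _ g P fst snd sq => h (IsAlgSpace.yon_obj Z) g fst snd sq, univSp_of_affine hQ⟩

theorem univSp_of_isPullback {X Y X' Y' : Sp S} {fst : X' ⟶ X} {snd : X' ⟶ Y'} {f : X ⟶ Y}
    {g : Y' ⟶ Y} (sq : IsPullback fst snd f g) (h : UnivSp Q f) : UnivSp Q snd :=
  fun _ _ hZ g' fst' snd' sq' => h hZ (g' ≫ g) (fst' ≫ fst) snd' (sq'.paste_horiz sq)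

/-- Universal properties descend along etale surjective maps from schemes. -/
theorem univSp_of_etale_cover (hQ : PtsLocal Q) {X Y : Sp S} (hY : IsAlgSpace Y) {f : X ⟶ Y}
    {V : Over S} {p : (yon S).obj V ⟶ Y} (hp : RepWith @Etale p) (hps : RepWith @Surjective p)
    {X' : Sp S} {fst : X' ⟶ X} {snd : X' ⟶ (yon S).obj V} (sq : IsPullback fst snd f p)
    (h : UnivSp Q snd) : UnivSp Q f := by
  intro Z Z' hZ g fst' snd' sq'
  have sqZ := IsPullback.of_hasPullback g p
  obtain ⟨U, r, hre, hrs⟩ := (isAlgSpace_pullback hY hZ (IsAlgSpace.yon_obj V) sqZ).atlas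
  have hq : RepWith @Etale (r ≫ pullback.fst g p) :=
    repWith_comp hre (repWith_of_isPullback sqZ.flip hp)
  have hqs : RepWith @Surjective (r ≫ pullback.fst g p) :=
    repWith_comp hrs (repWith_of_isPullback sqZ.flip hps)
  have sqW := IsPullback.of_hasPullback snd' (r ≫ pullback.fst g p)
  refine hQ (κ := PUnit.{u + 1}) (fun _ => r ≫ pullback.fst g p) snd' _ _ _
    (fun z => ⟨⟨⟩, surjective_map_of_repWith hqs z⟩)
    (fun _ => isOpenMap_map_of_etale hq) (fun _ => sqW) fun _ => ?_
  have big := sqW.paste_horiz sq'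
  rw [Category.assoc, pullback.condition, ← Category.assoc] at big
  let m := sq.lift (pullback.fst snd' (r ≫ pullback.fst g p) ≫ fst')
    (pullback.snd snd' (r ≫ pullback.fst g p) ≫ r ≫ pullback.snd g p)
    (by simpa only [Category.assoc] using big.w)
  exact h (IsAlgSpace.yon_obj U) (r ≫ pullback.snd g p) m _
    (IsPullback.of_right (by simpa [m] using big) (by simp [m]) sq)

section Scheme

/-- The topological meaning of a condition on `h_φ`. -/
lemma isOpenMor_yon_iff {T T' : Over S} (φ : T ⟶ T') :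
    IsOpenMor ((yon S).map φ) ↔ IsOpenMap φ.left := by
  change IsOpenMap (Points.map ((yon S).map φ)) ↔ _
  rw [Points.map_yon_map_eq]
  refine ⟨fun h O hO => ?_, fun h =>
    (Homeomorph.isOpenMap _).comp (h.comp (Homeomorph.isOpenMap _))⟩
  have := h _ ((Points.schemeHomeo T).isOpenMap _ hO)
  rwa [Set.image_comp, Set.image_comp, ← Set.image_comp _ (Points.schemeHomeo T),
    Homeomorph.symm_comp_self, Set.image_id, Homeomorph.isOpen_image] at this

lemma isClosedMor_yon_iff {T T' : Over S} (φ : T ⟶ T') :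
    IsClosedMor ((yon S).map φ) ↔ IsClosedMap φ.left := by
  change IsClosedMap (Points.map ((yon S).map φ)) ↔ _
  rw [Points.map_yon_map_eq]
  refine ⟨fun h O hO => ?_, fun h =>
    (Homeomorph.isClosedMap _).comp (h.comp (Homeomorph.isClosedMap _))⟩
  have := h _ ((Points.schemeHomeo T).isClosedMap _ hO)
  rwa [Set.image_comp, Set.image_comp, ← Set.image_comp _ (Points.schemeHomeo T),
    Homeomorph.symm_comp_self, Set.image_id, Homeomorph.isClosed_image] at this

lemma injective_yon_iff {T T' : Over S} (φ : T ⟶ T') :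
    Function.Injective (Points.map ((yon S).map φ)) ↔ Function.Injective φ.left := by
  rw [Points.map_yon_map_eq]
  exact ⟨fun h a b e => (Points.schemeHomeo T).injective (h (by simp [Function.comp, e])),
    fun h => (Homeomorph.injective _).comp (h.comp (Homeomorph.injective _))⟩

lemma isSubmersiveMor_yon_iff {T T' : Over S} (φ : T ⟶ T') :
    IsSubmersiveMor ((yon S).map φ) ↔ IsQuotientMap φ.left := by
  change IsQuotientMap (Points.map ((yon S).map φ)) ↔ _
  rw [Points.map_yon_map_eq]
  refine ⟨fun h => ?_, fun h => (Homeomorph.isQuotientMap _).comp (h.comp (Homeomorph.isQuotientMap _))⟩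
  have := ((Points.schemeHomeo T').symm.isQuotientMap.comp h).comp (Points.schemeHomeo T).isQuotientMap
  simpa [Function.comp_def] using this

lemma isHomeomorph_yon_iff {T T' : Over S} (φ : T ⟶ T') :
    IsHomeomorph (Points.map ((yon S).map φ)) ↔ IsHomeomorph φ.left := by
  rw [Points.map_yon_map_eq]
  refine ⟨fun h => ?_, fun h => (Homeomorph.isHomeomorph _).comp (h.comp (Homeomorph.isHomeomorph _))⟩
  have := ((Points.schemeHomeo T').symm.isHomeomorph.comp h).comp (Points.schemeHomeo T).isHomeomorph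
  simpa [Function.comp_def] using this

/-- The representable and universal forms of a topological property agree. -/
theorem repWith_iff_univSp (hQ : PtsLocal Q) {P : MorphismProperty Scheme.{u}}
    (hfwd : ∀ ⦃U T : Over S⦄ (φ : U ⟶ T), P φ.left → Q ((yon S).map φ))
    (hback : ∀ ⦃U T : Over S⦄ (φ : U ⟶ T), UnivSp Q ((yon S).map φ) → P φ.left)
    (hiso : ∀ ⦃F' F G : Sp S⦄ (e : F' ⟶ F) [IsIso e] (g : F ⟶ G), Q g → Q (e ≫ g))
    {X Y : Sp S} {f : X ⟶ Y} (hf : Representable f) :
    RepWith P f ↔ UnivSp Q f := by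
  refine ⟨fun h => univSp_of_affine hQ fun Z hZ g P' fst snd sq => ?_,
    fun h => ⟨hf, fun T U g fst snd sq => hback snd (univSp_of_isPullback sq h)⟩⟩
  have sq' := h.1.isPullback g
  rw [← sq.isoIsPullback_hom_snd _ _ sq']
  exact hiso _ _ (hfwd _ (h.2 g _ _ sq'))

/-- A universal property of `h_φ` gives the one of every base change of schemes. -/
lemma univSp_yon_base {U T : Over S} {φ : U ⟶ T} (h : UnivSp Q ((yon S).map φ)) {U' T' : Scheme.{u}}
    {k : U' ⟶ U.left} {φ' : U' ⟶ T'} {g : T' ⟶ T.left} (sq : IsPullback k φ' φ.left g) :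
    Q ((yon S).map (Over.homMk φ' (by
      change φ' ≫ g ≫ T.hom = k ≫ U.hom
      rw [← sq.w_assoc, Over.w φ]) : Over.mk (k ≫ U.hom) ⟶ Over.mk (g ≫ T.hom))) := by
  let g' : Over.mk (g ≫ T.hom) ⟶ T := Over.homMk g rfl
  let k' : Over.mk (k ≫ U.hom) ⟶ U := Over.homMk k rfl
  let φ'' : Over.mk (k ≫ U.hom) ⟶ Over.mk (g ≫ T.hom) := Over.homMk φ' (by
      change φ' ≫ g ≫ T.hom = k ≫ U.hom
      rw [← sq.w_assoc, Over.w φ])
  have sq' : IsPullback k' φ'' φ g' :=
    IsPullback.of_map (Over.forget S) (Over.OverMorphism.ext sq.w) sq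
  exact h (IsAlgSpace.yon_obj _) ((yon S).map g') ((yon S).map k') _ (sq'.map (yon S))

end Scheme

section IsoInvariant

variable {F' F G : Sp S} (e : F' ⟶ F) [IsIso e] (g : F ⟶ G)

lemma bijective_map_iso : Function.Bijective (Points.map e) := by
  refine Function.bijective_iff_has_inverse.2 ⟨Points.map (inv e), fun x => ?_, fun x => ?_⟩
  · rw [← Points.map_comp, IsIso.hom_inv_id, Points.map_id]
  · rw [← Points.map_comp, IsIso.inv_hom_id, Points.map_id]

lemma isHomeomorph_map_iso : IsHomeomorph (Points.map e) :=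
  isHomeomorph_iff_exists_inverse.2 ⟨Points.continuous_map e, Points.map (inv e),
    fun x => by rw [← Points.map_comp, IsIso.hom_inv_id, Points.map_id],
    fun x => by rw [← Points.map_comp, IsIso.inv_hom_id, Points.map_id],
    Points.continuous_map _⟩

lemma map_comp_eq {H : Sp S} (a : F ⟶ G) (b : G ⟶ H) :
    Points.map (a ≫ b) = Points.map b ∘ Points.map a := funext (Points.map_comp a b)

lemma isOpenMor_iso_comp (h : IsOpenMor g) : IsOpenMor (e ≫ g) := by
  change IsOpenMap (Points.map (e ≫ g))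
  rw [map_comp_eq]; exact IsOpenMap.comp h (isHomeomorph_map_iso e).isOpenMap

lemma isClosedMor_iso_comp (h : IsClosedMor g) : IsClosedMor (e ≫ g) := by
  change IsClosedMap (Points.map (e ≫ g))
  rw [map_comp_eq]; exact IsClosedMap.comp h (isHomeomorph_map_iso e).isClosedMap

lemma isSubmersiveMor_iso_comp (h : IsSubmersiveMor g) : IsSubmersiveMor (e ≫ g) := by
  change IsQuotientMap (Points.map (e ≫ g))
  rw [map_comp_eq]; exact IsQuotientMap.comp h (isHomeomorph_map_iso e).isQuotientMap

lemma injective_iso_comp (h : Function.Injective (Points.map g)) :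
    Function.Injective (Points.map (e ≫ g)) := by
  rw [map_comp_eq]; exact h.comp (bijective_map_iso e).1

lemma isHomeomorph_iso_comp (h : IsHomeomorph (Points.map g)) :
    IsHomeomorph (Points.map (e ≫ g)) := by
  rw [map_comp_eq]; exact h.comp (isHomeomorph_map_iso e)

end IsoInvariant

theorem repWith_universallyOpen_iff {X Y : Sp S} {f : X ⟶ Y} (hf : Representable f) :
    RepWith @UniversallyOpen f ↔ IsUnivOpenMor f := by
  refine repWith_iff_univSp ptsLocal_isOpenMor
    (fun U T φ (h : UniversallyOpen φ.left) => (isOpenMor_yon_iff φ).2 φ.left.isOpenMap)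
    (fun U T φ h => ⟨fun U' T' k φ' g sq => (isOpenMor_yon_iff _).1 (univSp_yon_base h sq.flip)⟩)
    (fun _ _ _ e _ g => isOpenMor_iso_comp e g) hf

theorem repWith_universallyClosed_iff {X Y : Sp S} {f : X ⟶ Y} (hf : Representable f) :
    RepWith @UniversallyClosed f ↔ IsUnivClosedMor f := by
  refine repWith_iff_univSp ptsLocal_isClosedMor
    (fun U T φ (h : UniversallyClosed φ.left) => (isClosedMor_yon_iff φ).2 φ.left.isClosedMap)
    (fun U T φ h => ⟨fun U' T' k φ' g sq => (isClosedMor_yon_iff _).1 (univSp_yon_base h sq.flip)⟩)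
    (fun _ _ _ e _ g => isClosedMor_iso_comp e g) hf

theorem repWith_universallyInjective_iff {X Y : Sp S} {f : X ⟶ Y} (hf : Representable f) :
    RepWith @UniversallyInjective f ↔ IsUnivInjectiveMor f := by
  refine repWith_iff_univSp ptsLocal_injective
    (fun U T φ (h : UniversallyInjective φ.left) => (injective_yon_iff φ).2 φ.left.injective)
    (fun U T φ h => ⟨fun U' T' k φ' g sq => (injective_yon_iff _).1 (univSp_yon_base h sq.flip)⟩)
    (fun _ _ _ e _ g => injective_iso_comp e g) hf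

theorem repWith_univSubmersive_iff {X Y : Sp S} {f : X ⟶ Y} (hf : Representable f) :
    RepWith SGA1.UnivSubmersive f ↔ IsUnivSubmersiveMor f := by
  refine repWith_iff_univSp ptsLocal_isSubmersiveMor
    (fun U T φ (h : SGA1.UnivSubmersive φ.left) => (isSubmersiveMor_yon_iff φ).2
      (h (𝟙 U.left) (𝟙 T.left) φ.left (IsPullback.id_horiz φ.left).flip))
    (fun U T φ h U' T' k φ' g sq => (isSubmersiveMor_yon_iff _).1 (univSp_yon_base h sq.flip))
    (fun _ _ _ e _ g => isSubmersiveMor_iso_comp e g) hf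

theorem repWith_isUnivHomeo_iff {X Y : Sp S} {f : X ⟶ Y} (hf : Representable f) :
    RepWith FlatMor.IsUnivHomeo f ↔ IsUnivHomeoMor f := by
  refine repWith_iff_univSp ptsLocal_isHomeomorph
    (fun U T φ (h : FlatMor.IsUnivHomeo φ.left) => (isHomeomorph_yon_iff φ).2
      (h (𝟙 U.left) (𝟙 T.left) φ.left (IsPullback.id_horiz φ.left).flip))
    (fun U T φ h U' T' k φ' g sq => (isHomeomorph_yon_iff _).1 (univSp_yon_base h sq.flip))
    (fun _ _ _ e _ g => isHomeomorph_iso_comp e g) hf

end Groth.Agent.AlgSpace
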