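import Groth.Agent.Lib.AlgSpace.PointsBC
import Mathlib.CategoryTheory.Sites.Subsheaf
import Mathlib.Topology.LocallyClosed

/-!
# Subsheaves, open subspaces and topological properties of immersions
-/

universe u

set_option backward.isDefEq.respectTransparency.types false
set_option linter.unusedVariables false

open CategoryTheory CategoryTheory.Limits AlgebraicGeometry Opposite

namespace Groth.Agent.AlgSpace

open AlgSp AlgSpDecent

variable {S : Scheme.{u}}

section Criteria

/-- A monomorphism through which all sections lift is an isomorphism. -/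
lemma isIso_of_mono_of_lifts {F G : Sp S} (a : F ⟶ G) [Mono a]
    (h : ∀ ⦃T : Over S⦄ (g : (yon S).obj T ⟶ G), ∃ l, l ≫ a = g) : IsIso a := by
  have : Sheaf.IsLocallySurjective a := isLocallySurjective_of_lifts a fun T g => by
    obtain ⟨l, hl⟩ := h g
    refine ⟨T, 𝟙 T, l, inferInstanceAs (Flat (𝟙 T.left)), inferInstanceAs (Surjective (𝟙 T.left)),
      inferInstanceAs (LocallyOfFinitePresentation (𝟙 T.left)), ?_⟩
    erw [(yon S).map_id]
    rw [hl, Category.id_comp]
  exact isIso_of_mono_of_epi a

/-- Pullback squares of monomorphisms are recognised on sections. -/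
lemma isPullback_of_mono_lifts {P X Y Z : Sp S} {fst : P ⟶ X} {snd : P ⟶ Y} {f : X ⟶ Z} {g : Y ⟶ Z}
    [Mono f] [Mono snd] (w : fst ≫ f = snd ≫ g)
    (h : ∀ ⦃T : Over S⦄ (y : (yon S).obj T ⟶ Y) (x : (yon S).obj T ⟶ X), x ≫ f = y ≫ g →
      ∃ p, p ≫ snd = y) : IsPullback fst snd f g := by
  let c := pullback.lift fst snd w
  have hc : c ≫ pullback.snd f g = snd := pullback.lift_snd _ _ _
  have : Mono (c ≫ pullback.snd f g) := by rw [hc]; infer_instance
  have : Mono c := mono_of_mono c (pullback.snd f g)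
  have : IsIso c := isIso_of_mono_of_lifts c fun T q => by
    obtain ⟨p, hp⟩ := h (q ≫ pullback.snd f g) (q ≫ pullback.fst f g)
      (by rw [Category.assoc, Category.assoc, pullback.condition])
    refine ⟨p, pullback.hom_ext ?_ (by rw [Category.assoc, hc, hp])⟩
    rw [← cancel_mono f]
    simp only [Category.assoc, pullback.condition]
    rw [← Category.assoc c, hc, reassoc_of% hp]
  exact IsPullback.of_iso_pullback ⟨w⟩ (asIso c) (pullback.lift_fst _ _ _) hc

/-- Open immersions that are surjective on points are isomorphisms. -/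
lemma isIso_of_isOpenImmersion_of_surjective {F G : Sp S} {j : F ⟶ G}
    (hj : RepWith @IsOpenImmersion j) (hs : Function.Surjective (Points.map j)) : IsIso j := by
  have hs' := repWith_surjective_of_map hj.1 hs
  have : Mono j := mono_of_repWith j (repWith_mono (fun _ _ g (_ : IsOpenImmersion g) =>
    (inferInstance : Mono g)) hj)
  refine isIso_of_mono_of_lifts j fun T g => ?_
  have sq := hj.1.isPullback g
  have : IsOpenImmersion (hj.1.snd g).left := hj.2 g _ _ sq
  have : Surjective (hj.1.snd g).left := hs'.2 g _ _ sq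
  have : IsIso ((Over.forget S).map (hj.1.snd g)) :=
    (isIso_iff_isOpenImmersion_and_surjective (hj.1.snd g).left).2 ⟨‹_›, ‹_›⟩
  have : IsIso (hj.1.snd g) := isIso_of_reflects_iso (hj.1.snd g) (Over.forget S)
  refine ⟨(yon S).map (inv (hj.1.snd g)) ≫ hj.1.fst g, ?_⟩
  rw [Category.assoc, sq.w, ← Functor.map_comp_assoc, IsIso.inv_hom_id]
  erw [(yon S).map_id]
  rw [Category.id_comp]

end Criteria

section OpenSub

variable {X : Sp S}

/-- The sections of `X` all whose points lie in `W`. -/
def openSubfunctor (W : Set (Points X)) : Subfunctor X.obj where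
  obj U := {x | ∀ t : ↥U.unop.left,
    Points.ofPt ((sect (T := U.unop) (F := X)).symm x) t ∈ W}
  map := fun {U V} i x hx t => by
    have e : (sect (T := V.unop) (F := X)).symm (X.obj.map i x) =
        (yon S).map i.unop ≫ (sect (T := U.unop) (F := X)).symm x :=
      (GrothendieckTopology.uliftYonedaEquiv_symm_naturality_left _ _ _ _).symm
    rw [e, ofPt_map_comp]
    exact hx _

lemma isSheaf_openSubfunctor (W : Set (Points X)) :
    Presieve.IsSheaf (AlgSp.J S) (openSubfunctor W).toFunctor := by
  refine (Subfunctor.isSheaf_iff _ ((isSheaf_iff_isSheaf_of_type _ _).1 X.property)).2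
    fun U s hs t => ?_
  obtain ⟨𝒰, h𝒰⟩ := (mem_J_iff _).1 hs
  obtain ⟨i, v, rfl⟩ := 𝒰.exists_eq t
  have h := (overEquiv_arrow _ _).1 (h𝒰 i) v
  rw [show (sect (T := Over.mk (𝒰.f i ≫ U.unop.hom)) (F := X)).symm
      (X.obj.map (overArrow (𝒰.f i)).op s) = (yon S).map (overArrow (𝒰.f i)) ≫
        (sect (T := U.unop) (F := X)).symm s from
    (GrothendieckTopology.uliftYonedaEquiv_symm_naturality_left _ _ _ _).symm, ofPt_map_comp] at h
  exact h

/-- The subsheaf of sections all whose points lie in `W`; for `W` open, the open subspace on `W`. -/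
def openSub (W : Set (Points X)) : Sp S :=
  ⟨(openSubfunctor W).toFunctor,
    (isSheaf_iff_isSheaf_of_type _ _).2 (isSheaf_openSubfunctor W)⟩

/-- The inclusion of `openSub W`. -/
def openSubι (W : Set (Points X)) : openSub W ⟶ X :=
  ObjectProperty.homMk (openSubfunctor W).ι

instance (W : Set (Points X)) : Mono (openSubι W) :=
  mono_of_yon _ fun T x y h => by
    apply (sect (T := T) (F := openSub W)).injective
    apply Subtype.ext
    have := congrArg (sect (T := T) (F := X)) h
    rwa [GrothendieckTopology.uliftYonedaEquiv_comp, GrothendieckTopology.uliftYonedaEquiv_comp] at this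

lemma exists_lift_openSub {W : Set (Points X)} {T : Over S} (g : (yon S).obj T ⟶ X)
    (h : ∀ t, Points.ofPt g t ∈ W) : ∃ l, l ≫ openSubι W = g := by
  refine ⟨(sect (T := T) (F := openSub W)).symm ⟨sect g, fun t => ?_⟩, ?_⟩
  · change Points.ofPt ((sect (T := T) (F := X)).symm (sect g)) t ∈ W
    rw [Equiv.symm_apply_apply]
    exact h t
  · apply (sect (T := T) (F := X)).injective
    rw [GrothendieckTopology.uliftYonedaEquiv_comp, Equiv.apply_symm_apply]
    rfl

lemma ofPt_openSubι_mem {W : Set (Points X)} {T : Over S} (l : (yon S).obj T ⟶ openSub W)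
    (t : ↥T.left) : Points.ofPt (l ≫ openSubι W) t ∈ W := by
  have h : Points.ofPt ((sect (T := T) (F := X)).symm ((openSubι W).hom.app _ (sect l))) t ∈ W :=
    (sect l).2 t
  rwa [← GrothendieckTopology.uliftYonedaEquiv_comp, Equiv.symm_apply_apply] at h

lemma range_openSubι (W : Set (Points X)) : Set.range (Points.map (openSubι W)) = W := by
  ext x
  constructor
  · rintro ⟨y, rfl⟩
    obtain ⟨T, g, t, rfl⟩ := exists_ofPt_eq y
    rw [Points.map_ofPt]
    exact ofPt_openSubι_mem g t
  · intro hx
    obtain ⟨T, g, t, rfl⟩ := exists_ofPt_eq x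
    let K : Over S := Over.mk (T.left.fromSpecResidueField t ≫ T.hom)
    let a : K ⟶ T := Over.homMk (T.left.fromSpecResidueField t) rfl
    have ha : ∀ k : ↥K.left, a.left k = t := fun k =>
      Scheme.fromSpecResidueField_apply t k
    obtain ⟨l, hl⟩ := exists_lift_openSub (W := W) ((yon S).map a ≫ g) fun k => by
      rw [ofPt_map_comp, ha]; exact hx
    refine ⟨Points.ofPt l (IsLocalRing.closedPoint (T.left.residueField t)), ?_⟩
    rw [Points.map_ofPt, hl, ofPt_map_comp, ha]

lemma exists_factor_openSub {W : Set (Points X)} {Y : Sp S} (f : Y ⟶ X)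
    (h : Set.range (Points.map f) ⊆ W) : ∃ g : Y ⟶ openSub W, g ≫ openSubι W = f := by
  have : Mono (pullback.snd (openSubι W) f) := inferInstance
  have : IsIso (pullback.snd (openSubι W) f) := isIso_of_mono_of_lifts _ fun T y => by
    obtain ⟨l, hl⟩ := exists_lift_openSub (W := W) (y ≫ f) fun t =>
      h ⟨Points.ofPt y t, Points.map_ofPt _ _ _⟩
    exact ⟨pullback.lift l y hl, pullback.lift_snd _ _ _⟩
  exact ⟨inv (pullback.snd (openSubι W) f) ≫ pullback.fst _ _,
    by rw [Category.assoc, pullback.condition, IsIso.inv_hom_id_assoc]⟩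

theorem repWith_openSubι {W : Set (Points X)} (hW : IsOpen W) :
    RepWith @IsOpenImmersion (openSubι W) := by
  refine repWith_mk fun T g => ?_
  let O : T.left.Opens := ⟨Points.ofPt g ⁻¹' W, Points.isOpen_iff.1 hW T g⟩
  let V : Over S := Over.mk (O.ι ≫ T.hom)
  let ι : V ⟶ T := Over.homMk O.ι rfl
  have hι : ∀ v, Points.ofPt g (ι.left v) ∈ W := fun v => by
    have : ι.left v ∈ O := by rw [← SetLike.mem_coe, ← O.range_ι]; exact ⟨v, rfl⟩
    exact this
  obtain ⟨l, hl⟩ := exists_lift_openSub (W := W) ((yon S).map ι ≫ g) fun v => by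
    rw [ofPt_map_comp]; exact hι v
  have : Mono ι.left := inferInstanceAs (Mono O.ι)
  have : Mono ι := (Over.forget S).mono_of_mono_map ‹_›
  refine ⟨V, l, ι, isPullback_of_mono_lifts hl fun T' y x e => ?_,
    inferInstanceAs (IsOpenImmersion O.ι)⟩
  obtain ⟨m, rfl⟩ := (yon S).map_surjective y
  have hr : Set.range m.left ⊆ Set.range ι.left := by
    rintro _ ⟨v, rfl⟩
    change m.left v ∈ Set.range O.ι
    rw [O.range_ι]
    change Points.ofPt g (m.left v) ∈ W
    rw [← ofPt_map_comp, ← e]
    exact ofPt_openSubι_mem x v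
  have : IsOpenImmersion ι.left := inferInstanceAs (IsOpenImmersion O.ι)
  let q : T' ⟶ V := Over.homMk (IsOpenImmersion.lift ι.left m.left hr) (by
    change _ ≫ ι.left ≫ T.hom = _
    rw [IsOpenImmersion.lift_fac_assoc, Over.w m])
  refine ⟨(yon S).map q, ?_⟩
  rw [← Functor.map_comp]
  exact congrArg _ (Over.OverMorphism.ext (IsOpenImmersion.lift_fac _ _ _))

/-- A morphism factors through an open subspace exactly when its points do. -/
theorem exists_factor_of_range {X' Y : Sp S} {j : X' ⟶ X} (hj : RepWith @IsOpenImmersion j)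
    (f : Y ⟶ X) (h : Set.range (Points.map f) ⊆ Set.range (Points.map j)) :
    ∃ g : Y ⟶ X', g ≫ j = f := by
  have sq := IsPullback.of_hasPullback j f
  have : IsIso (pullback.snd j f) := isIso_of_isOpenImmersion_of_surjective
    (repWith_of_isPullback sq hj) fun y => by
      obtain ⟨x, hx⟩ := h ⟨y, rfl⟩
      obtain ⟨w, -, hw⟩ := exists_point_lift sq x y hx
      exact ⟨w, hw⟩
  exact ⟨inv (pullback.snd j f) ≫ pullback.fst j f,
    by rw [Category.assoc, pullback.condition, IsIso.inv_hom_id_assoc]⟩

end OpenSub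

section Immersion

/-- An immersion is an embedding on points, with locally closed image. -/
theorem isEmbedding_map_of_immersion {Z X : Sp S} (hX : IsAlgSpace X) {i : Z ⟶ X}
    (hi : RepWith @IsImmersion i) :
    Topology.IsEmbedding (Points.map i) ∧ IsLocallyClosed (Set.range (Points.map i)) := by
  obtain ⟨U, p, hpe, hps⟩ := hX.atlas
  have hq := isOpenQuotientMap_ofPt hpe hps
  have sq := hi.1.isPullback p
  have himm : IsImmersion (hi.1.snd p).left := hi.2 p _ _ sq
  have hrange : Points.ofPt p ⁻¹' Set.range (Points.map i) = Set.range (hi.1.snd p).left := by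
    ext u
    constructor
    · rintro ⟨z, hz⟩
      obtain ⟨v, -, hv⟩ := exists_pt_of_isPullback sq hz
      exact ⟨v, hv⟩
    · rintro ⟨v, rfl⟩
      exact ⟨_, ofPt_sq sq.w v⟩
  have hinj : Function.Injective (Points.map i) := by
    intro z₁ z₂ e
    obtain ⟨T, g, t, hgt⟩ := exists_ofPt_eq (Points.map i z₁)
    have sqg := hi.1.isPullback g
    have : IsImmersion (hi.1.snd g).left := hi.2 g _ _ sqg
    obtain ⟨v₁, h₁, h₁'⟩ := exists_pt_of_isPullback sqg hgt.symm
    obtain ⟨v₂, h₂, h₂'⟩ := exists_pt_of_isPullback sqg (e.symm.trans hgt.symm)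
    rw [← h₁, ← h₂, (hi.1.snd g).left.isEmbedding.injective (h₁'.trans h₂'.symm)]
  refine ⟨⟨⟨le_antisymm (continuous_iff_le_induced.1 (Points.continuous_map i)) fun O hO => ?_⟩,
    hinj⟩, ?_⟩
  · rw [isOpen_induced_iff]
    have hV : IsOpen (Points.ofPt (hi.1.fst p) ⁻¹' O) :=
      hO.preimage (Points.continuous_ofPt _)
    obtain ⟨O', hO', hO''⟩ := (hi.1.snd p).left.isEmbedding.isInducing.isOpen_iff.1 hV
    refine ⟨Points.ofPt p '' O', hq.isOpenMap _ hO', ?_⟩
    ext z
    obtain ⟨u, hu⟩ := hq.surjective (Points.map i z)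
    obtain ⟨v, hv, hv'⟩ := exists_pt_of_isPullback sq hu.symm
    constructor
    · rintro ⟨u', hu', he⟩
      obtain ⟨v', hw, hw'⟩ := exists_pt_of_isPullback sq he.symm
      have : v' ∈ (hi.1.snd p).left ⁻¹' O' := by rw [Set.mem_preimage, hw']; exact hu'
      rw [hO''] at this
      exact hw ▸ this
    · intro hz
      have : v ∈ Points.ofPt (hi.1.fst p) ⁻¹' O := by rw [Set.mem_preimage, hv]; exact hz
      rw [← hO''] at this
      exact ⟨u, hv' ▸ this, hu⟩
  · rw [isLocallyClosed_iff_isOpen_coborder, ← hq.isQuotientMap.isOpen_preimage]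
    have e : Points.ofPt p ⁻¹' coborder (Set.range (Points.map i)) =
        coborder (Points.ofPt p ⁻¹' Set.range (Points.map i)) := by
      simp only [coborder, Set.preimage_compl, Set.preimage_sdiff,
        hq.isOpenMap.preimage_closure_eq_closure_preimage hq.continuous]
    rw [e, hrange, ← isLocallyClosed_iff_isOpen_coborder]
    exact (hi.1.snd p).left.isLocallyClosed_range

end Immersion

end Groth.Agent.AlgSpace
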