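import Groth.Agent.Lib.AlgSpace.QADescent
import Groth.Agent.Lib.AlgSpace.Affine
import Groth.Agent.Lib.AlgSpace.Sub
import Groth.Agent.Lib.AlgSpace.Coprod
import Groth.Agent.Lib.AlgSpace.PointsBC
import Mathlib.AlgebraicGeometry.ZariskisMainTheorem

/-!
# Descent of separated locally quasi-finite morphisms

A sheaf which becomes, after a flat surjective finitely presented covering of a test scheme, a scheme
separated and locally quasi-finite over it, is representable.
-/

universe u

set_option backward.isDefEq.respectTransparency.types false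
set_option linter.unusedVariables false

open CategoryTheory CategoryTheory.Limits AlgebraicGeometry Opposite

namespace Groth.Agent.AlgSpace

open AlgSp

variable {S : Scheme.{u}}

/-- A quasi-compact separated quasi-finite scheme over an affine scheme is quasi-affine. -/
theorem isQuasiAffine_of_lqf {X Y : Scheme.{u}} (f : X ⟶ Y) [LocallyQuasiFinite f]
    [LocallyOfFiniteType f] [IsSeparated f] [IsAffine Y] [CompactSpace ↥X] : X.IsQuasiAffine := by
  have : QuasiCompact f := (quasiCompact_iff_compactSpace f).2 ‹_›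
  have : IsAffine f.normalization := isAffine_of_isAffineHom f.fromNormalization
  exact Scheme.IsQuasiAffine.of_isImmersion f.toNormalization

/-- Flat finitely presented maps from schemes are open on points. -/
theorem isOpenMap_ofPt_flat {F : Sp S} {U : Over S} (a : (yon S).obj U ⟶ F) (hf : RepWith @Flat a)
    (hp : RepWith @LocallyOfFinitePresentation a) : IsOpenMap (Points.ofPt a) := by
  intro O hO
  refine Points.isOpen_iff.2 fun T g => ?_
  obtain ⟨k, hk⟩ := (yon S).map_surjective (hf.1.fst g)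
  have sq := hf.1.isPullback g
  rw [← hk] at sq
  rw [preimage_image_ofPt sq]
  have : Flat (hf.1.snd g).left := hf.2 g _ _ sq
  have : LocallyOfFinitePresentation (hf.1.snd g).left := hp.2 g _ _ sq
  exact (hf.1.snd g).left.isOpenMap _ (hO.preimage k.left.continuous)

/-- A test map lifts along a locally surjective map after one flat surjective finitely presented
map of schemes. -/
theorem exists_single_cover_lift {F G : Sp S} (a : F ⟶ G) [Sheaf.IsLocallySurjective a] {T : Over S}
    (g : (yon S).obj T ⟶ G) :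
    ∃ (V : Over S) (v : V ⟶ T) (l : (yon S).obj V ⟶ F), Flat v.left ∧ Surjective v.left ∧
      LocallyOfFinitePresentation v.left ∧ l ≫ a = (yon S).map v ≫ g := by
  obtain ⟨𝒰, h𝒰⟩ := exists_cover_lift a g
  choose l hl using h𝒰
  let q : (∐ 𝒰.X) ⟶ T.left := Sigma.desc 𝒰.f
  have hq : ∀ i, Sigma.ι 𝒰.X i ≫ q = 𝒰.f i := fun i => Sigma.ι_desc _ _
  let V : Over S := Over.mk (q ≫ T.hom)
  let π : ∀ i, Over.mk (𝒰.f i ≫ T.hom) ⟶ V := fun i => Over.homMk (Sigma.ι 𝒰.X i) (by
    change Sigma.ι 𝒰.X i ≫ q ≫ T.hom = _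
    rw [← Category.assoc, hq]; rfl)
  have hπ : ∀ i, IsOpenImmersion (π i).left := fun i => inferInstanceAs (IsOpenImmersion (Sigma.ι 𝒰.X i))
  obtain ⟨L, hL, -⟩ := existsUnique_glue π hπ (fun x => by
    obtain ⟨i, y, hy⟩ := (sigmaOpenCover 𝒰.X).exists_eq x
    exact ⟨i, y, hy⟩) l fun i j W a b e => by
      rcases eq_or_ne i j with rfl | hij
      · have := hπ i
        have : Mono (π i) := (Over.forget S).mono_of_mono_map (inferInstanceAs (Mono (π i).left))
        rw [(cancel_mono (π i)).1 e]
      · have : IsEmpty ↥W.left := ⟨fun w => by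
          have h₁ : Sigma.ι 𝒰.X i (a.left w) = Sigma.ι 𝒰.X j (b.left w) :=
            congrArg (fun k : W ⟶ V => k.left w) e
          have hd := disjoint_opensRange_sigmaι 𝒰.X i j hij
          rw [disjoint_iff_inf_le] at hd
          exact hd (show Sigma.ι 𝒰.X i (a.left w) ∈ (Sigma.ι 𝒰.X i).opensRange ⊓
            (Sigma.ι 𝒰.X j).opensRange from ⟨⟨a.left w, rfl⟩, ⟨b.left w, h₁.symm⟩⟩)⟩
        exact hom_ext_of_isEmpty _ _
  refine ⟨V, overArrow q, L, ?_, ⟨fun t => ?_⟩, ?_, ?_⟩
  · refine (IsZariskiLocalAtSource.iff_of_openCover (P := (@Flat : MorphismProperty Scheme.{u}))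
      (sigmaOpenCover 𝒰.X)).2 fun i => ?_
    change Flat (Sigma.ι 𝒰.X i ≫ q)
    rw [hq]
    exact (Scheme.Cover.map_prop (P := @Flat ⊓ @LocallyOfFinitePresentation) 𝒰 i).1
  · obtain ⟨i, x, hx⟩ := Scheme.Cover.exists_eq 𝒰 t
    refine ⟨Sigma.ι 𝒰.X i x, ?_⟩
    change q (Sigma.ι 𝒰.X i x) = t
    rw [← Scheme.Hom.comp_apply, hq]
    exact hx
  · refine (IsZariskiLocalAtSource.iff_of_openCover
      (P := (@LocallyOfFinitePresentation : MorphismProperty Scheme.{u}))
      (sigmaOpenCover 𝒰.X)).2 fun i => ?_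
    change LocallyOfFinitePresentation (Sigma.ι 𝒰.X i ≫ q)
    rw [hq]
    exact (Scheme.Cover.map_prop (P := @Flat ⊓ @LocallyOfFinitePresentation) 𝒰 i).2
  · refine hom_ext_glue π hπ (fun x => by
      obtain ⟨i, y, hy⟩ := (sigmaOpenCover 𝒰.X).exists_eq x
      exact ⟨i, y, hy⟩) fun i => ?_
    rw [← Category.assoc, hL, hl, ← Functor.map_comp_assoc]
    congr 2
    exact Over.OverMorphism.ext (hq i).symm

section Main

variable {F G : Sp S} (f : F ⟶ G) {Z V W : Over S} (g : (yon S).obj Z ⟶ G) (v : V ⟶ Z)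
  [IsAffine Z.left] [IsAffine V.left] [Flat v.left] [Surjective v.left]
  [LocallyOfFinitePresentation v.left] (p : W ⟶ V) [LocallyQuasiFinite p.left]
  [LocallyOfFiniteType p.left] [IsSeparated p.left] (m : (yon S).obj W ⟶ F)
  (sq : IsPullback m ((yon S).map p) f ((yon S).map v ≫ g))

include sq in
/-- Effective descent for separated locally quasi-finite schemes over affine schemes. -/
theorem exists_square_of_cover_lqf :
    ∃ (A : Over S) (i : A ⟶ Z) (fst : (yon S).obj A ⟶ F) (h : W ⟶ A),
      IsPullback fst ((yon S).map i) f g ∧ IsPullback h p i v := by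
  have sqP := IsPullback.of_hasPullback f g
  let π := pullback.snd f g
  let m' : (yon S).obj W ⟶ pullback f g := sqP.lift m ((yon S).map p ≫ (yon S).map v)
    (by rw [Category.assoc]; exact sq.w)
  have sq' : IsPullback m' ((yon S).map p) π ((yon S).map v) :=
    IsPullback.of_right (by rw [sqP.lift_fst]; exact sq) (sqP.lift_snd _ _ _) sqP
  have hmf : RepWith @Flat m' :=
    repWith_of_isPullback sq'.flip ((repWith_yon_map_iff _ _).2 ‹_›)
  have hmp : RepWith @LocallyOfFinitePresentation m' :=
    repWith_of_isPullback sq'.flip ((repWith_yon_map_iff _ _).2 ‹_›)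
  have hms : RepWith @Surjective m' :=
    repWith_of_isPullback sq'.flip ((repWith_yon_map_iff _ _).2 ‹_›)
  have hmq : RepWith @QuasiCompact m' :=
    repWith_of_isPullback sq'.flip ((repWith_yon_map_iff _ _).2 inferInstance)
  obtain ⟨k, hk⟩ := (yon S).map_surjective (hmq.1.fst m')
  have sqR := hmq.1.isPullback m'
  rw [← hk] at sqR
  have : QuasiCompact (hmq.1.snd m').left := hmq.2 m' _ _ sqR
  have : QuasiCompact k.left := hmq.2 m' _ _ sqR.flip
  let κ := W.left.affineOpens
  let Wd : κ → Set (Points (pullback f g)) := fun U => Points.ofPt m' '' (U.1 : Set ↥W.left)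
  have hWd : ∀ U, IsOpen (Wd U) := fun U => isOpenMap_ofPt_flat m' hmf hmp _ U.1.2
  have key : ∀ U : κ, ∃ (A : Over S) (w : (yon S).obj A ⟶ pullback f g),
      RepWith @IsOpenImmersion w ∧ Set.range (Points.map w) = Wd U := by
    intro U
    have hr := repWith_openSubι (hWd U)
    let WU := hr.1.pullback m'
    have sqU := hr.1.isPullback m'
    have : IsOpenImmersion (hr.1.snd m').left := hr.2 m' _ _ sqU
    have hrange : Set.range (hr.1.snd m').left = Points.ofPt m' ⁻¹' Wd U := by
      refine Set.Subset.antisymm ?_ fun x hx => ?_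
      · rintro _ ⟨y, rfl⟩
        rw [Set.mem_preimage, ← ofPt_sq sqU.w y]
        exact (range_openSubι (Wd U)).subset ⟨_, rfl⟩
      · obtain ⟨y, hy⟩ : Points.ofPt m' x ∈ Set.range (Points.map (openSubι (Wd U))) := by
          rw [range_openSubι]; exact hx
        obtain ⟨z, -, hz⟩ := exists_pt_of_isPullback sqU hy
        exact ⟨z, hz⟩
    have : CompactSpace ↥WU.left := by
      rw [← isCompact_univ_iff, (hr.1.snd m').left.isOpenEmbedding.isEmbedding.isCompact_iff,
        Set.image_univ, hrange, preimage_image_ofPt sqR]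
      exact (k.left.isCompact_preimage U.2.isCompact).image (hmq.1.snd m').left.continuous
    have : LocallyQuasiFinite (hr.1.snd m' ≫ p).left := by rw [Over.comp_left]; infer_instance
    have : LocallyOfFiniteType (hr.1.snd m' ≫ p).left := by rw [Over.comp_left]; infer_instance
    have : IsSeparated (hr.1.snd m' ≫ p).left := by rw [Over.comp_left]; infer_instance
    have : WU.left.IsQuasiAffine := isQuasiAffine_of_lqf (hr.1.snd m' ≫ p).left
    have sqB : IsPullback (hr.1.fst m') ((yon S).map (hr.1.snd m' ≫ p)) (openSubι (Wd U) ≫ π)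
        ((yon S).map v ≫ 𝟙 _) := by
      rw [Category.comp_id, Functor.map_comp]
      exact sqU.paste_vert sq'
    obtain ⟨A, i, a, -, -, sqA, -⟩ := exists_quasiAffine_of_cover _ _ v _ _ sqB
    have : IsIso a := sqA.isIso_fst_of_isIso
    refine ⟨A, a ≫ openSubι (Wd U), (repWith_respectsIso_left a).2 hr, ?_⟩
    ext x
    rw [map_comp_eq, Set.range_comp, (bijective_map_iso (e := a)).2.range_eq, Set.image_univ,
      range_openSubι]
  choose A w hw hwr using key
  obtain ⟨G', ⟨e⟩⟩ := exists_iso_yon_of_openCover hw fun T gT t => by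
    obtain ⟨y, hy⟩ := surjective_ofPt hms (Points.ofPt gT t)
    obtain ⟨O, hO, hyO, -⟩ :=
      exists_isAffineOpen_mem_and_subset (X := W.left) (x := y) (U := ⊤) trivial
    obtain ⟨z, hz⟩ : Points.ofPt gT t ∈ Set.range (Points.map (w ⟨O, hO⟩)) := by
      rw [hwr]; exact ⟨y, hyO, hy⟩
    obtain ⟨x, -, hx⟩ := exists_pt_of_isPullback ((hw ⟨O, hO⟩).1.isPullback gT) hz
    exact ⟨⟨O, hO⟩, x, hx⟩
  obtain ⟨i, hi⟩ := (yon S).map_surjective (e.hom ≫ π)
  obtain ⟨h, hh⟩ := (yon S).map_surjective (m' ≫ e.inv)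
  refine ⟨G', i, e.hom ≫ pullback.fst f g, h, ?_, ?_⟩
  · rw [hi]
    exact IsPullback.of_iso sqP e.symm (Iso.refl _) (Iso.refl _) (Iso.refl _) (by simp)
      (by simp [π]) (by simp) (by simp)
  · refine IsPullback.of_map_of_faithful (yon S) ?_
    rw [hi, hh]
    exact IsPullback.of_iso sq' (Iso.refl _) e.symm (Iso.refl _) (Iso.refl _) (by simp) (by simp)
      (by simp) (by simp)

end Main

section Family

variable {P : MorphismProperty Scheme.{u}} [P.IsStableUnderBaseChange] [IsZariskiLocalAtTarget P]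
  [P.DescendsAlong (@Surjective ⊓ @Flat ⊓ @QuasiCompact)]
  (hP : ∀ ⦃X Y : Scheme.{u}⦄ (j : X ⟶ Y), P j →
    LocallyQuasiFinite j ∧ LocallyOfFiniteType j ∧ IsSeparated j)

include hP in
/-- Descent of a property implying separated and locally quasi-finite, in its fppf-local form. -/
theorem repWith_of_cover_lqf {F G : Sp S} {f : F ⟶ G}
    (h : ∀ ⦃Z : Over S⦄, IsAffine Z.left → ∀ g : (yon S).obj Z ⟶ G,
      ∃ (V W : Over S) (v : V ⟶ Z) (p : W ⟶ V) (m : (yon S).obj W ⟶ F),
        Flat v.left ∧ Surjective v.left ∧ LocallyOfFinitePresentation v.left ∧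
          IsPullback m ((yon S).map p) f ((yon S).map v ≫ g) ∧ P p.left) : RepWith P f := by
  refine repWith_of_affine_family fun Z hZ g => ?_
  obtain ⟨V, W, v, p, m, hv₁, hv₂, hv₃, sq, hp⟩ := h hZ g
  obtain ⟨V', j, hV', hj, hjs⟩ := exists_affine_refinement v v.left.isOpenMap
  have : IsPullback (pullback.fst p j) (pullback.snd p j) p j := IsPullback.of_hasPullback _ _
  have hp' : P (pullback.snd p j).left := P.of_isPullback (this.map (Over.forget S)) hp
  obtain ⟨h₁, h₂, h₃⟩ := hP _ hp'
  have : Flat (j ≫ v).left := by rw [Over.comp_left]; infer_instance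
  have : LocallyOfFinitePresentation (j ≫ v).left := by rw [Over.comp_left]; infer_instance
  have sq' : IsPullback ((yon S).map (pullback.fst p j) ≫ m) ((yon S).map (pullback.snd p j)) f
      ((yon S).map (j ≫ v) ≫ g) := by
    rw [Functor.map_comp_assoc]
    exact ((IsPullback.of_hasPullback p j).map (yon S)).paste_horiz sq
  obtain ⟨A, i, a, h', sqA, sqh⟩ := exists_square_of_cover_lqf f g (j ≫ v) _ _ sq'
  refine ⟨A, i, a, sqA, ?_⟩
  have hc : QuasiCompact (j ≫ v).left := inferInstance
  exact MorphismProperty.of_isPullback_of_descendsAlong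
    (Q := (@Surjective ⊓ @Flat ⊓ @QuasiCompact : MorphismProperty Scheme.{u}))
    (sqh.map (Over.forget S)).flip ⟨⟨hjs, ‹_›⟩, hc⟩ hp'

include hP in
/-- Descent along a locally surjective map of sheaves. -/
theorem repWith_of_locSurj_lqf {F G H Q : Sp S} {f : F ⟶ G} {b : H ⟶ G}
    [Sheaf.IsLocallySurjective b] {b' : Q ⟶ F} {f' : Q ⟶ H} (sq : IsPullback b' f' f b)
    (h : RepWith P f') : RepWith P f :=
  repWith_of_cover_lqf hP fun Z hZ g => by
    obtain ⟨V, v, l, h₁, h₂, h₃, hl⟩ := exists_single_cover_lift b g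
    have sql := h.1.isPullback l
    refine ⟨V, _, v, h.1.snd l, h.1.fst l ≫ b', h₁, h₂, h₃, ?_, h.2 l _ _ sql⟩
    rw [← hl]
    exact sql.paste_horiz sq

end Family

end Groth.Agent.AlgSpace
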