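import Groth.Agent.Lib.AlgSpace.Space
import Groth.Agent.Lib.AlgSpDecent.Basic
import Groth.Prelude.Def_AlgSp2

/-!
# The topological space of points through etale charts
-/

universe u

set_option linter.unusedVariables false

open CategoryTheory CategoryTheory.Limits AlgebraicGeometry Opposite Topology

namespace Groth.Agent.AlgSpace

open AlgSp Groth.Agent.AlgSpDecent

variable {S : Scheme.{u}}

/-- Every point comes from a point of a representable sheaf over it. -/
lemma exists_ofPt_eq {F : Sp S} (x : Points F) :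
    ∃ (T : Over S) (g : (yon S).obj T ⟶ F) (t : ↥T.left), Points.ofPt g t = x := by
  induction x using Points.ind with
  | h p => exact ⟨p.pt, p.toHom, IsLocalRing.closedPoint p.K, Points.ofPt_toHom p _⟩

/-- Point lifting into a represented fibre product. -/
lemma exists_pt_of_isPullback {F G : Sp S} {T V : Over S} {fst : (yon S).obj V ⟶ F} {snd : V ⟶ T}
    {f : F ⟶ G} {g : (yon S).obj T ⟶ G} (sq : IsPullback fst ((yon S).map snd) f g) {x : Points F}
    {t : ↥T.left} (h : Points.map f x = Points.ofPt g t) :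
    ∃ v : ↥V.left, Points.ofPt fst v = x ∧ snd.left v = t := by
  obtain ⟨w, hw₁, hw₂⟩ := exists_point_lift sq x (Points.ofScheme T t)
    (by rw [← Points.ofPt_eq_map_ofScheme]; exact h)
  obtain ⟨v, rfl⟩ := (Points.schemeEquiv V).surjective w
  refine ⟨v, ?_, ?_⟩
  · rw [Points.ofPt_eq_map_ofScheme]; exact hw₁
  · change Points.map _ (Points.ofScheme V v) = _ at hw₂
    rw [← Points.ofPt_eq_map_ofScheme, ofPt_map_eq] at hw₂
    exact (Points.schemeEquiv T).injective hw₂

/-- In a represented pullback square the two point maps commute. -/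
lemma ofPt_sq {F G : Sp S} {T V : Over S} {fst : (yon S).obj V ⟶ F} {snd : V ⟶ T} {f : F ⟶ G}
    {g : (yon S).obj T ⟶ G} (w : fst ≫ f = (yon S).map snd ≫ g) (v : ↥V.left) :
    Points.map f (Points.ofPt fst v) = Points.ofPt g (snd.left v) := by
  rw [Points.map_ofPt, w, ofPt_map_comp]

/-- The image of an open set under an etale map from a scheme, pulled back to a test scheme. -/
lemma preimage_image_ofPt {F : Sp S} {U V T : Over S} {a : (yon S).obj U ⟶ F} {g : (yon S).obj T ⟶ F}
    {k : V ⟶ U} {snd : V ⟶ T} (sq : IsPullback ((yon S).map k) ((yon S).map snd) a g)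
    (O : Set ↥U.left) :
    Points.ofPt g ⁻¹' (Points.ofPt a '' O) = snd.left '' (k.left ⁻¹' O) := by
  ext t
  constructor
  · rintro ⟨u, hu, he⟩
    obtain ⟨v, hv₁, hv₂⟩ := exists_pt_of_isPullback sq (x := Points.ofScheme U u) (t := t)
      (by rw [← Points.ofPt_eq_map_ofScheme]; exact he)
    rw [ofPt_map_eq] at hv₁
    have hk : k.left v = u := (Points.schemeEquiv U).injective hv₁
    exact ⟨v, show k.left v ∈ O from hk ▸ hu, hv₂⟩
  · rintro ⟨v, hv, rfl⟩
    refine ⟨k.left v, hv, ?_⟩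
    rw [← ofPt_map_comp, sq.w, ofPt_map_comp]

/-- Etale maps from schemes are open on points. -/
theorem isOpenMap_ofPt {F : Sp S} {U : Over S} (a : (yon S).obj U ⟶ F) (ha : RepWith @Etale a) :
    IsOpenMap (Points.ofPt a) := by
  intro O hO
  refine Points.isOpen_iff.2 fun T g => ?_
  obtain ⟨k, hk⟩ := (yon S).map_surjective (ha.1.fst g)
  have sq := ha.1.isPullback g
  rw [← hk] at sq
  rw [preimage_image_ofPt sq]
  have : Etale (ha.1.snd g).left := ha.2 g _ _ sq
  exact (ha.1.snd g).left.isOpenMap _ (hO.preimage k.left.continuous)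

/-- A representable surjective map is surjective on points. -/
theorem surjective_map_of_repWith {F G : Sp S} {f : F ⟶ G} (hs : RepWith @Surjective f) :
    Function.Surjective (Points.map f) := by
  intro x
  obtain ⟨T, g, t, rfl⟩ := exists_ofPt_eq x
  have sq := hs.1.isPullback g
  have : Surjective (hs.1.snd g).left := hs.2 g _ _ sq
  obtain ⟨v, rfl⟩ := (hs.1.snd g).left.surjective t
  exact ⟨_, ofPt_sq sq.w v⟩

theorem surjective_ofPt {F : Sp S} {U : Over S} {p : (yon S).obj U ⟶ F} (hs : RepWith @Surjective p) :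
    Function.Surjective (Points.ofPt p) := by
  intro x
  obtain ⟨y, rfl⟩ := surjective_map_of_repWith hs x
  obtain ⟨u, rfl⟩ := (Points.schemeEquiv U).surjective y
  exact ⟨u, Points.ofPt_eq_map_ofScheme p u⟩

/-- A representable map surjective on points is representable surjective. -/
theorem repWith_surjective_of_map {F G : Sp S} {f : F ⟶ G} (hf : Representable f)
    (h : Function.Surjective (Points.map f)) : RepWith @Surjective f :=
  ⟨hf, fun T V g fst snd sq => ⟨fun t =>
    have ⟨x, hx⟩ := h (Points.ofPt g t)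
    have ⟨v, _, hv⟩ := exists_pt_of_isPullback sq hx
    ⟨v, hv⟩⟩⟩

theorem repWith_surjective_of_ofPt {F : Sp S} {U : Over S} {p : (yon S).obj U ⟶ F}
    (hp : Representable p) (h : Function.Surjective (Points.ofPt p)) : RepWith @Surjective p :=
  repWith_surjective_of_map hp fun x =>
    have ⟨u, hu⟩ := h x
    ⟨Points.ofScheme U u, (Points.ofPt_eq_map_ofScheme p u).symm.trans hu⟩

theorem isOpenQuotientMap_ofPt {F : Sp S} {U : Over S} {p : (yon S).obj U ⟶ F}
    (hp : RepWith @Etale p) (hs : RepWith @Surjective p) : IsOpenQuotientMap (Points.ofPt p) :=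
  ⟨surjective_ofPt hs, Points.continuous_ofPt p, isOpenMap_ofPt p hp⟩

/-- Restricting an etale map to an open subscheme. -/
lemma repWith_etale_restrict {F : Sp S} {U : Over S} {p : (yon S).obj U ⟶ F}
    (hp : RepWith @Etale p) (W : U.left.Opens) :
    RepWith @Etale ((yon S).map (Over.homMk W.ι rfl : Over.mk (W.ι ≫ U.hom) ⟶ U) ≫ p) :=
  repWith_comp ((repWith_yon_map_iff _ _).2 (show Etale W.ι from inferInstance)) hp

lemma range_ofPt_restrict {F : Sp S} {U : Over S} (p : (yon S).obj U ⟶ F) (W : U.left.Opens) :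
    Set.range (Points.ofPt ((yon S).map (Over.homMk W.ι rfl : Over.mk (W.ι ≫ U.hom) ⟶ U) ≫ p)) =
      Points.ofPt p '' (W : Set ↥U.left) := by
  rw [← W.range_ι, ← Set.range_comp]
  exact congrArg Set.range (funext fun t => ofPt_map_comp _ p t)

/-- Points of a quasi-compact space form a compact space, and conversely. -/
theorem isQuasiCompactSp_iff {F : Sp S} (hF : IsAlgSpace F) :
    IsQuasiCompactSp F ↔ CompactSpace (Points F) := by
  constructor
  · rintro ⟨U, p, -, hs, hc⟩
    exact (surjective_ofPt hs).compactSpace (Points.continuous_ofPt p)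
  · intro hc
    obtain ⟨U, p, he, hs⟩ := hF.atlas
    obtain ⟨t, ht⟩ := isCompact_univ.elim_finite_subcover
      (fun V : U.left.affineOpens => Points.ofPt p '' (V.1 : Set ↥U.left))
      (fun V => isOpenMap_ofPt p he _ V.1.isOpen) (fun x _ => by
        obtain ⟨u, rfl⟩ := surjective_ofPt hs x
        obtain ⟨V, hV, hu, -⟩ := U.left.isBasis_affineOpens.exists_subset_of_mem_open
          (Set.mem_univ u) isOpen_univ
        obtain ⟨V, hV', rfl⟩ := hV
        exact Set.mem_iUnion.2 ⟨⟨V, hV'⟩, u, hu, rfl⟩)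
    let W : U.left.Opens := ⨆ V ∈ t, V.1
    have hW : IsCompact (W : Set ↥U.left) := by
      simp only [W, TopologicalSpace.Opens.coe_iSup]
      exact t.isCompact_biUnion fun V _ => V.2.isCompact
    refine ⟨_, _, repWith_etale_restrict he W,
      repWith_surjective_of_ofPt (repWith_etale_restrict he W).1 ?_, isCompact_iff_compactSpace.1 hW⟩
    rw [← Set.range_eq_univ, range_ofPt_restrict, Set.eq_univ_iff_forall]
    intro x
    obtain ⟨V, hV, u, hu, rfl⟩ := Set.mem_iUnion₂.1 (ht (Set.mem_univ x))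
    refine ⟨u, ?_, rfl⟩
    simp only [W, TopologicalSpace.Opens.coe_iSup]
    exact Set.mem_iUnion₂.2 ⟨V, hV, hu⟩

/-- A quasi-compact space has an affine chart. -/
theorem exists_affine_chart {F : Sp S} (hF : IsQuasiCompactSp F) :
    ∃ (U : Over S) (p : (yon S).obj U ⟶ F), IsAffine U.left ∧ RepWith @Etale p ∧ RepWith @Surjective p := by
  obtain ⟨U, p, he, hs, hc⟩ := hF
  have : CompactSpace ↥U.left := hc
  obtain ⟨Y, q, hqs, hqe, hY⟩ := U.left.exists_hom_isAffine_of_isZariskiLocalAtSource @Etale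
  refine ⟨Over.mk (q ≫ U.hom), (yon S).map (overArrow q) ≫ p, hY, ?_, ?_⟩
  · exact repWith_comp ((repWith_yon_map_iff _ _).2 hqe) he
  · exact repWith_comp ((repWith_yon_map_iff _ _).2 hqs) hs

/-- Compact open neighbourhoods. -/
theorem exists_compact_nhd {F : Sp S} (hF : IsAlgSpace F) (x : Points F) {W : Set (Points F)}
    (hW : IsOpen W) (hx : x ∈ W) : ∃ V, IsOpen V ∧ IsCompact V ∧ x ∈ V ∧ V ⊆ W := by
  obtain ⟨U, p, he, hs⟩ := hF.atlas
  obtain ⟨u, rfl⟩ := surjective_ofPt hs x
  obtain ⟨_, ⟨V, hV, rfl⟩, hu, hsub⟩ := U.left.isBasis_affineOpens.exists_subset_of_mem_open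
    (show u ∈ Points.ofPt p ⁻¹' W from hx) (hW.preimage (Points.continuous_ofPt p))
  exact ⟨_, isOpenMap_ofPt p he _ V.isOpen, hV.isCompact.image (Points.continuous_ofPt p),
    ⟨u, hu, rfl⟩, Set.image_subset_iff.2 hsub⟩

/-- Locally constructible sets descend along surjective etale maps. -/
lemma isLocallyConstructible_of_preimage {X Y : Scheme.{u}} (f : X ⟶ Y) [Etale f] [Surjective f]
    {E : Set ↥Y} (hE : IsLocallyConstructible (f ⁻¹' E)) : IsLocallyConstructible E := by
  intro y
  obtain ⟨x, rfl⟩ := f.surjective y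
  obtain ⟨_, ⟨V, hV, rfl⟩, hx, -⟩ := X.isBasis_affineOpens.exists_subset_of_mem_open
    (Set.mem_univ x) isOpen_univ
  obtain ⟨_, ⟨(T : Y.Opens), hT, rfl⟩, hfx, hTsub⟩ := Y.isBasis_affineOpens.exists_subset_of_mem_open
    (Set.mem_image_of_mem f hx) (f.isOpenMap _ V.isOpen)
  let W : X.Opens := V ⊓ f ⁻¹ᵁ T
  let g : (W : Scheme.{u}) ⟶ T := f.resLE T W inf_le_right
  have hg : ∀ w, (g w).1 = f w.1 := fun w => by
    rw [← Scheme.Opens.ι_apply, ← Scheme.Hom.comp_apply, Scheme.Hom.resLE_comp_ι,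
      Scheme.Hom.comp_apply, Scheme.Opens.ι_apply]
  have : IsAffine (T : Scheme.{u}) := hT
  obtain ⟨R, hRc, hRsub⟩ : ∃ R : W.toScheme.Opens, IsCompact (R : Set ↥W.toScheme) ∧
      ∀ t, ∃ w ∈ R, g w = t := by
    have hgs : ∀ t : ↥T.toScheme, ∃ w, g w = t := fun t => by
      obtain ⟨v, hv, hvt⟩ := hTsub t.2
      exact ⟨⟨v, hv, show f v ∈ T from hvt ▸ t.2⟩, Subtype.ext ((hg _).trans hvt)⟩
    obtain ⟨R, hR, e⟩ := g.isOpenMap.exists_opens_image_eq_of_prespectralSpace g.continuous
      (U := Set.univ) (fun t _ => hgs t) isOpen_univ isCompact_univ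
    exact ⟨R, hR, fun t => e.ge (Set.mem_univ t)⟩
  have : CompactSpace ↥R.toScheme := isCompact_iff_compactSpace.1 hRc
  have : QuasiCompact (R.ι ≫ g) := inferInstance
  have hpre : IsLocallyConstructible ((R.ι ≫ W.ι) ⁻¹' (f ⁻¹' E)) :=
    hE.preimage_of_isOpenEmbedding (R.ι ≫ W.ι).isOpenEmbedding
  have himg := (R.ι ≫ g).isLocallyConstructible_image hpre
  have e : (R.ι ≫ g) '' ((R.ι ≫ W.ι) ⁻¹' (f ⁻¹' E)) = T.ι ⁻¹' E := by
    ext t
    constructor
    · rintro ⟨r, hr, rfl⟩
      show (g r.1).1 ∈ E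
      rw [hg]; exact hr
    · intro ht
      obtain ⟨w, hw, rfl⟩ := hRsub t
      refine ⟨⟨w, hw⟩, ?_, rfl⟩
      show f w.1 ∈ E
      rw [← hg]; exact ht
  rw [e] at himg
  refine ⟨T, T.isOpen.mem_nhds hfx, T.isOpen, ?_⟩
  have := himg.isConstructible
  exact this

/-- Preimages of locally constructible sets along morphisms of schemes. -/
lemma isLocallyConstructible_preimage {X Y : Scheme.{u}} (f : X ⟶ Y) {E : Set ↥Y}
    (hE : IsLocallyConstructible E) : IsLocallyConstructible (f ⁻¹' E) := by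
  intro x
  obtain ⟨_, ⟨(T : Y.Opens), hT, rfl⟩, hfx, -⟩ := Y.isBasis_affineOpens.exists_subset_of_mem_open
    (Set.mem_univ (f x)) isOpen_univ
  obtain ⟨_, ⟨(V : X.Opens), hV, rfl⟩, hx, hsub⟩ := X.isBasis_affineOpens.exists_subset_of_mem_open
    (show x ∈ ((f ⁻¹ᵁ T : X.Opens) : Set ↥X) from hfx) (f ⁻¹ᵁ T).isOpen
  have : IsAffine (T : Scheme.{u}) := hT
  have : IsAffine (V : Scheme.{u}) := hV
  let g : (V : Scheme.{u}) ⟶ T := f.resLE T V hsub
  have hc : IsConstructible (T.ι ⁻¹' E) :=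
    (hE.preimage_of_isOpenEmbedding T.ι.isOpenEmbedding).isConstructible
  refine ⟨V, V.isOpen.mem_nhds hx, V.isOpen, ?_⟩
  have := hc.preimage g.continuous fun U hU₁ hU₂ =>
    (QuasiSeparatedSpace.isRetrocompact_iff_isCompact (hU₁.preimage g.continuous)).2
      (g.isCompact_preimage (U := ⟨U, hU₁⟩) ((QuasiSeparatedSpace.isRetrocompact_iff_isCompact hU₁).1 hU₂))
  rwa [← Set.preimage_comp, show T.ι ∘ g = f ∘ V.ι from funext fun v => by
    simp only [Function.comp, ← Scheme.Hom.comp_apply, g, Scheme.Hom.resLE_comp_ι]] at this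

end Groth.Agent.AlgSpace
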