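import Groth.Agent.Lib.AlgSpace.QC
import Mathlib.AlgebraicGeometry.Morphisms.FlatDescent

/-!
# Universal injectivity and field-valued points
-/

universe u

set_option linter.unusedVariables false

open CategoryTheory CategoryTheory.Limits AlgebraicGeometry Opposite

namespace Groth.Agent.AlgSpace

open AlgSp Groth.Agent.AlgSpDecent

variable {S : Scheme.{u}}

/-- Every morphism to the spectrum of a field is flat. -/
lemma flat_of_field {K : Type u} [Field K] {W : Scheme.{u}} (f : W ⟶ Spec (CommRingCat.of K)) :
    Flat f := by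
  rw [IsZariskiLocalAtSource.iff_of_openCover (P := @Flat) W.affineCover]
  intro i
  obtain ⟨R, hR⟩ : ∃ R : CommRingCat.{u}, Nonempty (W.affineCover.X i ≅ Spec R) :=
    ⟨_, ⟨(W.affineCover.X i).isoSpec⟩⟩
  obtain ⟨e⟩ := hR
  obtain ⟨φ, hφ⟩ := Spec.map_surjective (e.inv ≫ W.affineCover.f i ≫ f)
  rw [← MorphismProperty.cancel_left_of_respectsIso (P := @Flat) e.inv, ← hφ,
    HasRingHomProperty.Spec_iff (P := @Flat)]
  algebraize [φ.hom]
  exact RingHom.flat_algebraMap_iff.2 inferInstance

/-- A monomorphism from a nonempty scheme to the spectrum of a field is an isomorphism. -/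
lemma isIso_of_mono_field {K : Type u} [Field K] {W : Scheme.{u}} (f : W ⟶ Spec (CommRingCat.of K))
    [Mono f] [Nonempty ↥W] : IsIso f := by
  have : Subsingleton ↥(Spec (CommRingCat.of K)) := inferInstanceAs (Subsingleton (PrimeSpectrum K))
  have : Subsingleton ↥W := f.injective.subsingleton
  have : Surjective f := ⟨fun x => ⟨Classical.arbitrary _, Subsingleton.elim _ _⟩⟩
  have : Flat f := flat_of_field f
  have : QuasiCompact f := quasiCompact_of_subsingleton f
  exact MorphismProperty.of_pullback_fst_of_descendsAlong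
    (P := MorphismProperty.isomorphisms Scheme.{u}) (Q := @Surjective ⊓ @Flat ⊓ @QuasiCompact)
    (f := f) (g := f) ⟨⟨inferInstance, inferInstance⟩, inferInstance⟩
    (inferInstanceAs (IsIso (pullback.fst f f)))

/-- A field-valued point of a map. -/
lemma exists_fieldPt_toHom {F : Sp S} {K : Type u} [Field K] (str : Spec (CommRingCat.of K) ⟶ S)
    (A : (yon S).obj (Over.mk str) ⟶ F) :
    (⟨K, str, sect A⟩ : FieldPt F).toHom = A :=
  (AlgSp.J S).uliftYonedaEquiv.symm_apply_apply A

/-- Injectivity on field-valued points gives universal injectivity. -/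
theorem isUnivInjectiveMor_of_fieldPts {X Y : Sp S} {f : X ⟶ Y}
    (h : ∀ (K : Type u) [Field K] (str : Spec (CommRingCat.of K) ⟶ S),
      Function.Injective (fun a : (yon S).obj (Over.mk str) ⟶ X => a ≫ f)) :
    IsUnivInjectiveMor f := by
  intro Z Z' hZ g fst snd sq x₁ x₂
  induction x₁ using Points.ind with
  | h p =>
  induction x₂ using Points.ind with
  | h q =>
  intro e
  rw [Points.map_mk, Points.map_mk] at e
  obtain ⟨Ω, _, w, a, b, hab⟩ := exists_common_of_mk_eq e
  rw [FieldPt.toHom_map, FieldPt.toHom_map] at hab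
  change Over.mk w ⟶ p.pt at a
  change Over.mk w ⟶ q.pt at b
  have hab' : ((yon S).map a ≫ p.toHom) ≫ snd = ((yon S).map b ≫ q.toHom) ≫ snd := by
    simp only [Category.assoc]; exact hab
  have key : (yon S).map a ≫ p.toHom = (yon S).map b ≫ q.toHom := by
    apply sq.hom_ext
    · refine h Ω w ?_
      simp only [Category.assoc, sq.w]
      rw [← Category.assoc, ← Category.assoc, ← Category.assoc, ← Category.assoc, hab']
    · exact hab'
  let t : ↥(Over.mk w).left := IsLocalRing.closedPoint Ω
  have h₁ := map_toHom_eq p (Points.map ((yon S).map a) (Points.ofScheme _ t))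
  have h₂ := map_toHom_eq q (Points.map ((yon S).map b) (Points.ofScheme _ t))
  rw [← Points.map_comp] at h₁ h₂
  rw [← h₁, ← h₂, key]

/-- Universal injectivity gives surjectivity of the diagonal on points. -/
theorem surjective_diagonal_of_univInjective {X Y : Sp S} {f : X ⟶ Y} (h : IsUnivInjectiveMor f) :
    Function.Surjective (Points.map (pullback.diagonal f)) := by
  intro x
  induction x using Points.ind with
  | h p =>
  have sq := IsPullback.of_hasPullback f (p.toHom ≫ pullback.fst f f ≫ f)
  let A := sq.lift (p.toHom ≫ pullback.fst f f) (𝟙 _) (by simp)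
  let B := sq.lift (p.toHom ≫ pullback.snd f f) (𝟙 _) (by simp [pullback.condition])
  let z := Points.ofScheme p.pt (IsLocalRing.closedPoint p.K)
  have e : Points.map A z = Points.map B z := h (IsAlgSpace.yon_obj p.pt) _ _ _ sq (by
    rw [← Points.map_comp, ← Points.map_comp, sq.lift_snd, sq.lift_snd])
  have hA : Points.map A z = Points.mk (⟨p.K, p.str, sect A⟩ : FieldPt _) := by
    have := map_toHom_eq (⟨p.K, p.str, sect A⟩ : FieldPt _) z
    rwa [exists_fieldPt_toHom] at this
  have hB : Points.map B z = Points.mk (⟨p.K, p.str, sect B⟩ : FieldPt _) := by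
    have := map_toHom_eq (⟨p.K, p.str, sect B⟩ : FieldPt _) z
    rwa [exists_fieldPt_toHom] at this
  obtain ⟨Ω, _, w, a, b, hab⟩ := exists_common_of_mk_eq (hA.symm.trans (e.trans hB))
  rw [exists_fieldPt_toHom, exists_fieldPt_toHom] at hab
  have hq := hab =≫ pullback.snd f (p.toHom ≫ pullback.fst f f ≫ f)
  simp only [Category.assoc, A, B, sq.lift_snd] at hq
  erw [Category.comp_id, Category.comp_id] at hq
  obtain rfl : a = b := (yon S).map_injective hq
  have hp := hab =≫ pullback.fst f (p.toHom ≫ pullback.fst f f ≫ f)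
  simp only [Category.assoc, A, B, sq.lift_fst] at hp
  let t : ↥(Over.mk w).left := IsLocalRing.closedPoint Ω
  refine ⟨Points.map ((yon S).map a ≫ p.toHom ≫ pullback.fst f f) (Points.ofScheme _ t), ?_⟩
  have hd : ((yon S).map a ≫ p.toHom ≫ pullback.fst f f) ≫ pullback.diagonal f =
      (yon S).map a ≫ p.toHom := by
    apply pullback.hom_ext
    · simp only [Category.assoc, pullback.diagonal_fst, Category.comp_id]
    · simp only [Category.assoc, pullback.diagonal_snd, Category.comp_id]
      exact hp
  rw [← Points.map_comp, hd, Points.map_comp]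
  exact map_toHom_eq p _

/-- A surjective diagonal gives injectivity on field-valued points. -/
theorem injective_fieldPts_of_surjective_diagonal {X Y : Sp S} (hX : IsAlgSpace X) {f : X ⟶ Y}
    (h : Function.Surjective (Points.map (pullback.diagonal f))) (K : Type u) [Field K]
    (str : Spec (CommRingCat.of K) ⟶ S) :
    Function.Injective (fun a : (yon S).obj (Over.mk str) ⟶ X => a ≫ f) := by
  intro a b hab
  have hd := representable_diagonal hX f
  let t := pullback.lift (f := f) (g := f) a b hab
  have sq := hd.isPullback t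
  have hsurj : Surjective (hd.snd t).left :=
    (repWith_surjective_of_map hd h).2 t _ _ sq
  have hmono : Mono (hd.snd t).left := (repWith_diagonal_mono hX f).2 t _ _ sq
  have : Nonempty ↥(hd.pullback t).left :=
    ⟨((hd.snd t).left.surjective (IsLocalRing.closedPoint K)).choose⟩
  have : IsIso ((Over.forget S).map (hd.snd t)) := isIso_of_mono_field (hd.snd t).left
  have : IsIso (hd.snd t) := isIso_of_reflects_iso _ (Over.forget S)
  have w₁ := sq.w =≫ pullback.fst f f
  have w₂ := sq.w =≫ pullback.snd f f
  simp only [Category.assoc, pullback.diagonal_fst, pullback.diagonal_snd, Category.comp_id, t,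
    pullback.lift_fst, pullback.lift_snd] at w₁ w₂
  exact (cancel_epi ((yon S).map (hd.snd t))).1 (w₁.symm.trans w₂)

end Groth.Agent.AlgSpace
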