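import Groth.Agent.Lib.AlgSpace.PointsBC

/-!
# Quasi-compact morphisms
-/

universe u

set_option linter.unusedVariables false

open CategoryTheory CategoryTheory.Limits AlgebraicGeometry Opposite Topology

namespace Groth.Agent.AlgSpace

open AlgSp Groth.Agent.AlgSpDecent

variable {S : Scheme.{u}}

lemma compactSpace_yon_iff (T : Over S) :
    CompactSpace (Points ((yon S).obj T)) ↔ CompactSpace ↥T.left :=
  ⟨fun _ => (Points.schemeHomeo T).symm.compactSpace, fun _ => (Points.schemeHomeo T).compactSpace⟩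

lemma compactSpace_yon_of_affine (T : Over S) [IsAffine T.left] : CompactSpace (Points ((yon S).obj T)) :=
  (compactSpace_yon_iff T).2 inferInstance

lemma compactSpace_of_surjective {X Y : Sp S} (f : X ⟶ Y) (hf : Function.Surjective (Points.map f))
    [CompactSpace (Points X)] : CompactSpace (Points Y) :=
  hf.compactSpace (Points.continuous_map f)

/-- The source of a base change is an algebraic space. -/
lemma isAlgSpace_baseChange {X Y Z Z' : Sp S} (hX : IsAlgSpace X) (hY : IsAlgSpace Y)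
    (hZ : IsAlgSpace Z) {fst : Z' ⟶ X} {snd : Z' ⟶ Z} {f : X ⟶ Y} {g : Z ⟶ Y}
    (sq : IsPullback fst snd f g) : IsAlgSpace Z' :=
  isAlgSpace_pullback hY hX hZ sq

/-- Quasi-compactness is tested on affine schemes. -/
theorem isQuasiCompactMor_of_affine {X Y : Sp S} (hX : IsAlgSpace X) (hY : IsAlgSpace Y) {f : X ⟶ Y}
    (h : ∀ (Z : Over S), IsAffine Z.left → ∀ (g : (yon S).obj Z ⟶ Y) (P : Sp S)
      (fst : P ⟶ X) (snd : P ⟶ (yon S).obj Z), IsPullback fst snd f g → CompactSpace (Points P)) :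
    IsQuasiCompactMor f := by
  intro Z Z' hZ hZc g fst snd sq
  obtain ⟨U, p, hU, he, hs⟩ := exists_affine_chart hZc
  have sqU := IsPullback.of_hasPullback snd p
  have := h U hU (p ≫ g) _ _ _ (sqU.paste_horiz sq)
  rw [isQuasiCompactSp_iff (isAlgSpace_baseChange hX hY hZ sq)]
  exact compactSpace_of_surjective (pullback.fst snd p)
    (surjective_of_isPullback sqU.flip (surjective_map_of_repWith hs))

lemma compactSpace_of_isQuasiCompactMor {X Y : Sp S} (hX : IsAlgSpace X) (hY : IsAlgSpace Y)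
    {f : X ⟶ Y} (hf : IsQuasiCompactMor f) {Z Z' : Sp S} (hZ : IsAlgSpace Z)
    [CompactSpace (Points Z)] {g : Z ⟶ Y} {fst : Z' ⟶ X} {snd : Z' ⟶ Z}
    (sq : IsPullback fst snd f g) : CompactSpace (Points Z') :=
  (isQuasiCompactSp_iff (isAlgSpace_baseChange hX hY hZ sq)).1
    (hf hZ ((isQuasiCompactSp_iff hZ).2 inferInstance) g fst snd sq)

theorem isQuasiCompactMor_of_isPullback {X Y X' Y' : Sp S} {fst : X' ⟶ X} {snd : X' ⟶ Y'} {f : X ⟶ Y}
    {g : Y' ⟶ Y} (sq : IsPullback fst snd f g) (h : IsQuasiCompactMor f) : IsQuasiCompactMor snd :=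
  fun _ _ hZ hZc g' fst' snd' sq' => h hZ hZc (g' ≫ g) (fst' ≫ fst) snd' (sq'.paste_horiz sq)

theorem isQuasiCompactMor_comp {X Y Z : Sp S} (hY : IsAlgSpace Y) (hZ : IsAlgSpace Z) {f : X ⟶ Y}
    {g : Y ⟶ Z} (hf : IsQuasiCompactMor f) (hg : IsQuasiCompactMor g) :
    IsQuasiCompactMor (f ≫ g) := by
  intro W W' hW hWc t fst snd sq
  have sqY := IsPullback.of_hasPullback g t
  let m := sqY.lift (fst ≫ f) snd (by rw [Category.assoc]; exact sq.w)
  have sq' : IsPullback fst m f (pullback.fst g t) :=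
    IsPullback.of_bot (by simpa [m] using sq) (by simp [m]) sqY
  exact hf (isAlgSpace_baseChange hY hZ hW sqY) (hg hW hWc t _ _ sqY) _ _ _ sq'

/-- Representable quasi-compactness. -/
theorem repWith_quasiCompact_iff {X Y : Sp S} (hX : IsAlgSpace X) (hY : IsAlgSpace Y) {f : X ⟶ Y}
    (hf : Representable f) : RepWith @QuasiCompact f ↔ IsQuasiCompactMor f := by
  refine ⟨fun h => isQuasiCompactMor_of_affine hX hY fun Z hZ g P fst snd sq => ?_, fun h => ?_⟩
  · have sq' := h.1.isPullback g
    have : QuasiCompact (h.1.snd g).left := h.2 g _ _ sq'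
    have := QuasiCompact.compactSpace_of_compactSpace (h.1.snd g).left
    have : CompactSpace (Points ((yon S).obj (h.1.pullback g))) := (compactSpace_yon_iff _).2 this
    exact compactSpace_of_surjective (sq.isoIsPullback _ _ sq').inv (bijective_map_iso _).2
  · refine repWith_of_affine hf fun T hT g => ⟨_, _, _, hf.isPullback g, ?_⟩
    have := compactSpace_yon_of_affine T
    have := (compactSpace_yon_iff _).1
      (compactSpace_of_isQuasiCompactMor hX hY h (IsAlgSpace.yon_obj T) (hf.isPullback g))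
    change QuasiCompact (hf.snd g).left
    exact (quasiCompact_iff_compactSpace _).2 this

/-- Quasi-compactness of a factor through the graph. -/
theorem isQuasiCompactMor_of_comp {X Y Z : Sp S} (hX : IsAlgSpace X) (hY : IsAlgSpace Y)
    (hZ : IsAlgSpace Z) {f : X ⟶ Y} {g : Y ⟶ Z} (h : IsQuasiCompactMor (f ≫ g))
    (hg : IsQuasiSeparatedMor g) : IsQuasiCompactMor f := by
  let L : X ⟶ pullback (f ≫ g) g := pullback.lift (𝟙 X) f (by simp)
  have sqL := isPullback_graph f g (L := L) (pullback.lift_fst _ _ _) (pullback.lift_snd _ _ _)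
    (M := pullback.map (f ≫ g) g g g f (𝟙 Y) (𝟙 Z) (by simp) (by simp))
    (pullback.lift_fst _ _ _) (by rw [pullback.lift_snd, Category.comp_id])
  have hP : IsAlgSpace (pullback (f ≫ g) g) :=
    isAlgSpace_baseChange hX hZ hY (IsPullback.of_hasPullback _ _)
  have hL : RepWith @QuasiCompact L := repWith_of_isPullback sqL hg
  rw [← pullback.lift_snd (𝟙 X) f (show 𝟙 X ≫ f ≫ g = f ≫ g by simp)]
  exact isQuasiCompactMor_comp hP hY ((repWith_quasiCompact_iff hX hP hL.1).1 hL)
    (isQuasiCompactMor_of_isPullback (IsPullback.of_hasPullback _ _) h)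

/-- The base change of an etale morphism of spaces is open. -/
theorem isUnivOpenMor_of_isEtaleMor {X Y : Sp S} (hX : IsAlgSpace X) (hY : IsAlgSpace Y) {f : X ⟶ Y}
    (hf : IsEtaleMor f) : IsUnivOpenMor f := by
  intro Z Z' hZ g fst snd sq
  have hZ' := isAlgSpace_baseChange hX hY hZ sq
  have he : IsEtaleMor snd := AlgSpDescent.isEtaleMor_of_locP_etale hZ' hZ
    (locP_of_isPullback hX hY hZ sq (AlgSpDescent.locP_etale_of_isEtaleMor hf))
  obtain ⟨U, r, hre, hrs⟩ := hZ'.atlas
  intro O hO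
  have : Points.map snd '' O = Points.map (r ≫ snd) '' (Points.map r ⁻¹' O) := by
    rw [map_comp_eq, Set.image_comp, Set.image_preimage_eq _ (surjective_map_of_repWith hrs)]
  rw [this]
  exact isOpenMap_map_of_etale (he r hre) _ (hO.preimage (Points.continuous_map r))

/-- Quasi-compactness descends along universally open surjections. -/
theorem isQuasiCompactMor_of_univOpen_cover {X Y X' Y' : Sp S} (hX : IsAlgSpace X) (hY : IsAlgSpace Y)
    (hY' : IsAlgSpace Y') {fst : X' ⟶ X} {f' : X' ⟶ Y'} {f : X ⟶ Y} {g : Y' ⟶ Y}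
    (sq : IsPullback fst f' f g) (hg : IsUnivOpenMor g) (hgs : IsSurjectiveMor g)
    (h : IsQuasiCompactMor f') : IsQuasiCompactMor f := by
  refine isQuasiCompactMor_of_affine hX hY fun Z hZ t P p₁ p₂ sqP => ?_
  have := compactSpace_yon_of_affine Z
  have sqZ := IsPullback.of_hasPullback g t
  have hW := isAlgSpace_baseChange hY' hY (IsAlgSpace.yon_obj Z) sqZ
  have hop : IsOpenMap (Points.map (pullback.snd g t)) := hg (IsAlgSpace.yon_obj Z) t _ _ sqZ
  have hsurj := surjective_of_isPullback sqZ hgs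
  obtain ⟨U, r, hre, hrs⟩ := hW.atlas
  obtain ⟨W, hWc, hWs⟩ : ∃ W : U.left.Opens, IsCompact (W : Set ↥U.left) ∧
      ∀ z, ∃ u ∈ W, Points.ofPt (r ≫ pullback.snd g t) u = z := by
    have hcomp : Points.ofPt (r ≫ pullback.snd g t) =
        Points.map (pullback.snd g t) ∘ Points.ofPt r := funext fun u => (Points.map_ofPt _ _ u).symm
    obtain ⟨s, hs⟩ := isCompact_univ.elim_finite_subcover
      (fun V : U.left.affineOpens => Points.ofPt (r ≫ pullback.snd g t) '' (V.1 : Set ↥U.left))
      (fun V => by rw [hcomp]; exact hop.comp (isOpenMap_ofPt r hre) _ V.1.isOpen)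
      (fun z _ => by
        obtain ⟨w, rfl⟩ := hsurj z
        obtain ⟨u, rfl⟩ := surjective_ofPt hrs w
        obtain ⟨_, ⟨(V : U.left.Opens), hV, rfl⟩, hu, -⟩ :=
          U.left.isBasis_affineOpens.exists_subset_of_mem_open (Set.mem_univ u) isOpen_univ
        exact Set.mem_iUnion.2 ⟨⟨V, hV⟩, u, hu, by rw [hcomp]; rfl⟩)
    refine ⟨⨆ V ∈ s, V.1, ?_, fun z => ?_⟩
    · simp only [TopologicalSpace.Opens.coe_iSup]
      exact s.isCompact_biUnion fun V _ => V.2.isCompact
    · obtain ⟨V, hV, u, hu, rfl⟩ := Set.mem_iUnion₂.1 (hs (Set.mem_univ z))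
      refine ⟨u, ?_, rfl⟩
      rw [← SetLike.mem_coe]
      simp only [TopologicalSpace.Opens.coe_iSup]
      exact Set.mem_iUnion₂.2 ⟨V, hV, hu⟩
  let T : Over S := Over.mk (W.ι ≫ U.hom)
  let ρ : (yon S).obj T ⟶ pullback g t := (yon S).map (Over.homMk W.ι rfl) ≫ r
  let q : (yon S).obj T ⟶ (yon S).obj Z := ρ ≫ pullback.snd g t
  have hq : Function.Surjective (Points.map q) := fun z => by
    obtain ⟨u, hu, rfl⟩ := hWs z
    refine ⟨Points.ofScheme T ⟨u, hu⟩, ?_⟩
    rw [← Points.ofPt_eq_map_ofScheme]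
    change Points.ofPt (((yon S).map _ ≫ r) ≫ _) _ = _
    rw [Category.assoc, ofPt_map_comp]
    rfl
  have : CompactSpace ↥T.left := isCompact_iff_compactSpace.1 hWc
  have : CompactSpace (Points ((yon S).obj T)) := (compactSpace_yon_iff T).2 this
  have sqQ := IsPullback.of_hasPullback p₂ q
  have big := sqQ.paste_horiz sqP
  rw [show q ≫ t = (ρ ≫ pullback.fst g t) ≫ g by
    simp only [q, Category.assoc, pullback.condition]] at big
  let m := sq.lift (pullback.fst p₂ q ≫ p₁) (pullback.snd p₂ q ≫ ρ ≫ pullback.fst g t)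
    (by simpa only [Category.assoc] using big.w)
  have sqm : IsPullback m (pullback.snd p₂ q) f' (ρ ≫ pullback.fst g t) :=
    IsPullback.of_right (by simpa [m] using big) (by simp [m]) sq
  have := compactSpace_of_isQuasiCompactMor (isAlgSpace_baseChange hX hY hY' sq) hY' h
    (IsAlgSpace.yon_obj T) sqm
  exact compactSpace_of_surjective (pullback.fst p₂ q) (surjective_of_isPullback sqQ.flip hq)

end Groth.Agent.AlgSpace
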