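import Groth.Agent.Lib.AlgSpace.Bootstrap
import Groth.Agent.Lib.AlgSpace.QC

/-!
# Applications of representability to etale morphisms
-/

universe u

set_option backward.isDefEq.respectTransparency.types false
set_option linter.unusedVariables false

open CategoryTheory CategoryTheory.Limits AlgebraicGeometry Opposite

namespace Groth.Agent.AlgSpace

open AlgSp Groth.Agent.AlgSpDecent

variable {S : Scheme.{u}}

attribute [local simp] pullback.lift_fst pullback.lift_snd limit.lift_π limit.lift_π_assoc

/-- Etale monomorphisms of algebraic spaces are open immersions. -/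
theorem repWith_openImmersion_of_isEtaleMor_mono {X Y : Sp S} (hX : IsAlgSpace X) (hY : IsAlgSpace Y)
    (f : X ⟶ Y) (he : IsEtaleMor f) [Mono f] : RepWith @IsOpenImmersion f := by
  have hl : LocP (@LocallyQuasiFinite ⊓ @LocallyOfFiniteType) f := locP_mono (fun A B g hg => by
    have : Etale g := hg
    exact ⟨locallyQuasiFinite_of_unramified g, inferInstance⟩) (AlgSpDescent.locP_etale_of_isEtaleMor he)
  have hr := representable_of_lqf_separated hX hY f (repWith_diagonal_of_mono f) hl
  exact repWith_openImmersion_of_etale_mono f
    (repWith_of_locP hY hr (AlgSpDescent.locP_etale_of_isEtaleMor he))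

/-- Etale universally injective morphisms of algebraic spaces are monomorphisms. -/
theorem mono_of_isEtaleMor_univInjective {X Y : Sp S} (hX : IsAlgSpace X) (hY : IsAlgSpace Y)
    (f : X ⟶ Y) (he : IsEtaleMor f) (hi : IsUnivInjectiveMor f) : Mono f := by
  have hd : RepWith @IsOpenImmersion (pullback.diagonal f) :=
    repWith_diagonal_isOpenImmersion_of_unramified hX hY
      (locP_mono (le_inf AlgSpDescent.etale_le_lft AlgSpDescent.etale_le_fu)
        (AlgSpDescent.locP_etale_of_isEtaleMor he))
  have hs : Function.Surjective (Points.map (pullback.diagonal f)) := fun z => by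
    refine ⟨Points.map (pullback.snd f f) z,
      hi hX f (pullback.fst f f) (pullback.snd f f) (IsPullback.of_hasPullback f f) ?_⟩
    change Points.map (pullback.snd f f) (Points.map (pullback.diagonal f) _) =
      Points.map (pullback.snd f f) z
    rw [← Function.comp_apply (f := Points.map (pullback.snd f f)), ← map_comp_eq,
      pullback.diagonal_snd, Points.map_id]
  have := isIso_of_isOpenImmersion_of_surjective hd hs
  exact (pullback.isIso_diagonal_iff f).1 this

/-- An open subspace of a separated locally quasi-finite space over a scheme with compact space of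
points is a quasi-compact scheme. -/
theorem exists_open_scheme_of_range {T : Over S} {X : Sp S} (hX : IsAlgSpace X)
    (f : X ⟶ (yon S).obj T) (hsep : IsSeparatedMor f)
    (hqf : LocP (@LocallyQuasiFinite ⊓ @LocallyOfFiniteType) f) {E : Set (Points X)} (hE : IsOpen E)
    (hc : IsCompact E) :
    ∃ (W : Over S) (i : (yon S).obj W ⟶ X), RepWith @IsOpenImmersion i ∧ CompactSpace ↥W.left ∧
      Set.range (Points.map i) = E := by
  have hr := repWith_openSubι hE
  have hX₀ : IsAlgSpace (openSub E) := isAlgSpace_of_representable hr.1 hX
  obtain ⟨W, ⟨e⟩⟩ := exists_iso_yon_of_lqf_separated hX₀ (openSubι E ≫ f)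
    (repWith_diagonal_comp (repWith_diagonal_of_mono _) hsep)
    (locP_comp hX₀ hX (IsAlgSpace.yon_obj T)
      (locP_of_repWith hX (repWith_mono (fun A B g hg => by
        have : IsOpenImmersion g := hg
        exact ⟨inferInstance, inferInstance⟩) hr)) hqf)
  have hi : RepWith @IsOpenImmersion (e.hom ≫ openSubι E) := (repWith_respectsIso_left e.hom).2 hr
  have hrange : Set.range (Points.map (e.hom ≫ openSubι E)) = E := by
    rw [map_comp_eq, Set.range_comp, (bijective_map_iso (e := e.hom)).2.range_eq, Set.image_univ,
      range_openSubι]
  refine ⟨W, _, hi, ?_, hrange⟩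
  rw [← compactSpace_yon_iff, ← isCompact_univ_iff,
    (isEmbedding_map_of_immersion hX
      (repWith_mono (fun A B g (hg : IsOpenImmersion g) => (inferInstance : IsImmersion g)) hi)).1.isCompact_iff,
    Set.image_univ, hrange]
  exact hc

end Groth.Agent.AlgSpace
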