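import Groth.Agent.Lib.AlgSpace.Affine
import Groth.Agent.Lib.AlgSpace.Sub
import Mathlib.AlgebraicGeometry.Morphisms.IsIso
import Mathlib.AlgebraicGeometry.Morphisms.FlatDescent

/-!
# Descent of open and locally closed immersions along étale covers
-/

universe u

set_option backward.isDefEq.respectTransparency.types false
set_option linter.unusedVariables false

open CategoryTheory CategoryTheory.Limits AlgebraicGeometry Opposite MorphismProperty Topology

namespace Groth.Agent.AlgSpace

open AlgSp AlgSpDecent

variable {S : Scheme.{u}}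

lemma range_eq_preimage_range {P X Y Z : Sp S} {fst : P ⟶ X} {snd : P ⟶ Z} {f : X ⟶ Y} {g : Z ⟶ Y}
    (sq : IsPullback fst snd f g) :
    Set.range (Points.map snd) = Points.map g ⁻¹' Set.range (Points.map f) := by
  rw [← Set.image_univ, ← Set.image_univ, preimage_image_map sq, Set.preimage_univ]

lemma injective_map_of_openImmersion {Z X : Sp S} {i : Z ⟶ X} (hi : RepWith @IsOpenImmersion i) :
    Function.Injective (Points.map i) := by
  intro z₁ z₂ e
  obtain ⟨T, g, t, hgt⟩ := exists_ofPt_eq (Points.map i z₁)
  have sqg := hi.1.isPullback g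
  have : IsOpenImmersion (hi.1.snd g).left := hi.2 g _ _ sqg
  obtain ⟨v₁, h₁, h₁'⟩ := exists_pt_of_isPullback sqg hgt.symm
  obtain ⟨v₂, h₂, h₂'⟩ := exists_pt_of_isPullback sqg (e.symm.trans hgt.symm)
  rw [← h₁, ← h₂, (hi.1.snd g).left.isOpenEmbedding.injective (h₁'.trans h₂'.symm)]

/-- Closed immersions descend along surjective étale maps from schemes. -/
theorem repWith_closedImmersion_of_etale_cover {X Y : Sp S} (f : X ⟶ Y) {V : Over S}
    (p : (yon S).obj V ⟶ Y) (hp : RepWith @Etale p) (hps : RepWith @Surjective p) {P₀ : Sp S}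
    {fst : P₀ ⟶ X} {snd : P₀ ⟶ (yon S).obj V} (sq : IsPullback fst snd f p)
    (h : RepWith @IsClosedImmersion snd) : RepWith @IsClosedImmersion f := by
  have := FpqcDesc.descendsAlong_isClosedImmersion.{u}
  refine repWith_of_affine_family fun Z hZ g => ?_
  obtain ⟨A, i, a, sqA, -, hi⟩ := exists_affine_square_of_etale_cover (P := @IsClosedImmersion)
    f p hp hps sq (fun Z' hZ' g' => by
      have hc : IsClosedImmersion (h.1.snd g').left := h.2 g' _ _ (h.1.isPullback g')
      exact ⟨_, _, _, h.1.isPullback g', isAffine_of_isAffineHom (h.1.snd g').left, hc⟩) hZ g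
  exact ⟨A, i, a, sqA, hi⟩

/-- Isomorphisms descend along surjective étale maps from schemes. -/
theorem isIso_of_etale_cover {X Y : Sp S} (f : X ⟶ Y) {V : Over S}
    (p : (yon S).obj V ⟶ Y) (hp : RepWith @Etale p) (hps : RepWith @Surjective p) {P₀ : Sp S}
    {fst : P₀ ⟶ X} {snd : P₀ ⟶ (yon S).obj V} (sq : IsPullback fst snd f p) [IsIso snd] :
    IsIso f := by
  have h : RepWith (MorphismProperty.isomorphisms Scheme.{u}) f := by
    refine repWith_of_affine_family fun Z hZ g => ?_
    obtain ⟨A, i, a, sqA, -, hi⟩ := exists_affine_square_of_etale_cover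
      (P := MorphismProperty.isomorphisms Scheme.{u}) f p hp hps sq (fun Z' hZ' g' => by
        refine ⟨Z', 𝟙 Z', g' ≫ inv snd, ?_, hZ', ?_⟩
        · rw [(yon S).map_id]
          exact IsPullback.of_vert_isIso ⟨by simp⟩
        · change IsIso (𝟙 Z' : Z' ⟶ Z').left
          exact inferInstanceAs (IsIso (𝟙 Z'.left))) hZ g
    exact ⟨A, i, a, sqA, hi⟩
  have ho : RepWith @IsOpenImmersion f := repWith_mono (Q := @IsOpenImmersion) (fun _ _ g (hg : IsIso g) => inferInstance) h
  have hs : RepWith @Surjective f := repWith_mono (Q := @Surjective) (fun _ _ g (hg : IsIso g) => inferInstance) h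
  exact isIso_of_isOpenImmersion_of_surjective ho (surjective_map_of_repWith hs)

variable {X Y : Sp S} {f : X ⟶ Y} {V : Over S} {p : (yon S).obj V ⟶ Y} {P₀ : Sp S}
  {fst : P₀ ⟶ X} {snd : P₀ ⟶ (yon S).obj V}

/-- Open immersions descend along surjective étale maps from schemes. -/
theorem repWith_openImmersion_of_etale_cover (hp : RepWith @Etale p) (hps : RepWith @Surjective p)
    (sq : IsPullback fst snd f p) (h : RepWith @IsOpenImmersion snd) :
    RepWith @IsOpenImmersion f := by
  have hO : IsOpen (Set.range (Points.map f)) := by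
    rw [← (isOpenQuotientMap_ofPt hp hps).isQuotientMap.isOpen_preimage]
    have e : Points.ofPt p ⁻¹' Set.range (Points.map f) =
        Points.ofScheme V ⁻¹' Set.range (Points.map snd) := by
      rw [range_eq_preimage_range sq]
      ext v
      rw [Set.mem_preimage, Set.mem_preimage, Set.mem_preimage, ← Points.ofPt_eq_map_ofScheme]
    rw [e]
    refine IsOpen.preimage (Points.continuous_ofPt _) ?_
    obtain ⟨W, k, a, sqW⟩ := h.1 (𝟙 _)
    have : IsOpenImmersion k.left := h.2 _ _ _ sqW
    have := sqW.isIso_fst_of_isIso
    have e' : Set.range (Points.map snd) = Set.range (Points.map ((yon S).map k)) := by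
      rw [show (yon S).map k = a ≫ snd by simpa using sqW.w.symm, map_comp_eq, Set.range_comp,
        ((bijective_map_iso a)).2.range_eq, Set.image_univ]
    rw [e', Points.map_yon_map_eq, Set.range_comp, Homeomorph.isOpen_image, Set.range_comp,
      Homeomorph.range_coe, Set.image_univ]
    exact k.left.isOpenEmbedding.isOpen_range
  obtain ⟨g, hg⟩ := exists_factor_openSub f (le_refl (Set.range (Points.map f)))
  have hj := repWith_openSubι hO
  have sqj := hj.1.isPullback p
  let m : P₀ ⟶ (yon S).obj (hj.1.pullback p) :=
    sqj.lift (fst ≫ g) snd (by rw [Category.assoc, hg]; exact sq.w)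
  have hm : m ≫ (yon S).map (hj.1.snd p) = snd := sqj.lift_snd _ _ _
  have sqg : IsPullback fst m g (hj.1.fst p) :=
    IsPullback.of_bot (by rw [hm, hg]; exact sq) (sqj.lift_fst _ _ _).symm sqj
  have hι : IsOpenImmersion (hj.1.snd p).left := hj.2 p _ _ sqj
  have : Mono (hj.1.snd p) := (Over.forget S).mono_of_mono_map (inferInstanceAs (Mono (hj.1.snd p).left))
  have sqm := isPullback_of_mono m ((yon S).map (hj.1.snd p))
  rw [hm] at sqm
  have hgs : Function.Surjective (Points.map g) := fun y => by
    obtain ⟨x, hx⟩ : Points.map (openSubι (Set.range (Points.map f))) y ∈ Set.range (Points.map f) := by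
      exact (range_openSubι (Set.range (Points.map f))).subset ⟨y, rfl⟩
    refine ⟨x, injective_map_of_openImmersion hj ?_⟩
    rw [← Points.map_comp, hg, hx]
  have : IsIso m := isIso_of_isOpenImmersion_of_surjective (repWith_of_isPullback sqm h)
    (surjective_of_isPullback sqg hgs)
  have : IsIso g := isIso_of_etale_cover g (hj.1.fst p) (repWith_of_isPullback sqj.flip hp)
    (repWith_of_isPullback sqj.flip hps) sqg
  rw [← hg]
  exact (repWith_respectsIso_left g).2 hj

/-- Immersions descend along surjective étale maps from schemes. -/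
theorem repWith_immersion_of_etale_cover (hp : RepWith @Etale p) (hps : RepWith @Surjective p)
    (sq : IsPullback fst snd f p) (h : RepWith @IsImmersion snd) :
    RepWith @IsImmersion f := by
  have hq := isOpenQuotientMap_ofPt hp hps
  have hlc : IsLocallyClosed (Set.range (Points.map f)) := by
    rw [isLocallyClosed_iff_isOpen_coborder, ← hq.isQuotientMap.isOpen_preimage]
    have e : Points.ofPt p ⁻¹' coborder (Set.range (Points.map f)) =
        coborder (Points.ofPt p ⁻¹' Set.range (Points.map f)) := by
      simp only [coborder, Set.preimage_compl, Set.preimage_sdiff,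
        hq.isOpenMap.preimage_closure_eq_closure_preimage hq.continuous]
    have e₂ : Points.ofPt p ⁻¹' Set.range (Points.map f) =
        Points.ofScheme V ⁻¹' Set.range (Points.map snd) := by
      rw [range_eq_preimage_range sq]
      ext v
      rw [Set.mem_preimage, Set.mem_preimage, Set.mem_preimage, ← Points.ofPt_eq_map_ofScheme]
    rw [e, e₂, ← isLocallyClosed_iff_isOpen_coborder]
    exact (isEmbedding_map_of_immersion (IsAlgSpace.yon_obj V) h).2.preimage
      (Points.continuous_ofPt _)
  have hO : IsOpen (coborder (Set.range (Points.map f))) := hlc.isOpen_coborder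
  obtain ⟨g, hg⟩ := exists_factor_openSub f (subset_coborder (s := Set.range (Points.map f)))
  have hj := repWith_openSubι hO
  have sqj := hj.1.isPullback p
  let m : P₀ ⟶ (yon S).obj (hj.1.pullback p) :=
    sqj.lift (fst ≫ g) snd (by rw [Category.assoc, hg]; exact sq.w)
  have hm : m ≫ (yon S).map (hj.1.snd p) = snd := sqj.lift_snd _ _ _
  have sqg : IsPullback fst m g (hj.1.fst p) :=
    IsPullback.of_bot (by rw [hm, hg]; exact sq) (sqj.lift_fst _ _ _).symm sqj
  have hι : IsOpenImmersion (hj.1.snd p).left := hj.2 p _ _ sqj
  have : Mono (hj.1.snd p) := (Over.forget S).mono_of_mono_map (inferInstanceAs (Mono (hj.1.snd p).left))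
  have sqm := isPullback_of_mono m ((yon S).map (hj.1.snd p))
  rw [hm] at sqm
  have hmi : RepWith @IsImmersion m := repWith_of_isPullback sqm h
  have hgc : IsClosed (Set.range (Points.map g)) := by
    have : Set.range (Points.map g) =
        Points.map (openSubι (coborder (Set.range (Points.map f)))) ⁻¹' closure (Set.range (Points.map f)) := by
      ext y
      constructor
      · rintro ⟨x, rfl⟩
        rw [Set.mem_preimage, ← Points.map_comp, hg]
        exact subset_closure ⟨x, rfl⟩
      · intro hy
        have hy' : Points.map (openSubι (coborder (Set.range (Points.map f)))) y ∈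
            coborder (Set.range (Points.map f)) := by
          exact (range_openSubι (coborder (Set.range (Points.map f)))).subset ⟨y, rfl⟩
        obtain ⟨x, hx⟩ : Points.map (openSubι (coborder (Set.range (Points.map f)))) y ∈
            Set.range (Points.map f) :=
          closure_inter_coborder.subset ⟨hy, hy'⟩
        refine ⟨x, injective_map_of_openImmersion hj ?_⟩
        rw [← Points.map_comp, hg, hx]
    rw [this]
    exact isClosed_closure.preimage (Points.continuous_map _)
  have hmc : RepWith @IsClosedImmersion m := ⟨hmi.1, fun T W t a b sqW => by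
    have : IsImmersion b.left := hmi.2 t a b sqW
    refine IsClosedImmersion.of_isPreimmersion b.left ?_
    have hcl : IsClosed (Set.range (Points.map ((yon S).map b))) := by
      rw [range_eq_preimage_range sqW, range_eq_preimage_range sqg]
      exact (hgc.preimage (Points.continuous_map _)).preimage (Points.continuous_map _)
    rw [Points.map_yon_map_eq, Set.range_comp, Homeomorph.isClosed_image, Set.range_comp,
      Homeomorph.range_coe, Set.image_univ] at hcl
    exact hcl⟩
  have hgc' := repWith_closedImmersion_of_etale_cover g (hj.1.fst p) (repWith_of_isPullback sqj.flip hp)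
    (repWith_of_isPullback sqj.flip hps) sqg hmc
  rw [← hg]
  exact repWith_comp (repWith_mono (Q := @IsImmersion) (fun _ _ k (_ : IsClosedImmersion k) => inferInstance) hgc')
    (repWith_mono (Q := @IsImmersion) (fun _ _ k (_ : IsOpenImmersion k) => inferInstance) hj)

end Groth.Agent.AlgSpace
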