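import Groth.Agent.Lib.AlgSpace.Coprod
import Groth.Agent.Lib.AlgSpace.ImmDescent
import Mathlib.AlgebraicGeometry.Noetherian

/-!
# Charts: compact pieces, images, open covers by subsheaves
-/

universe u

set_option backward.isDefEq.respectTransparency.types false
set_option linter.unusedVariables false

open CategoryTheory CategoryTheory.Limits AlgebraicGeometry Opposite Topology

namespace Groth.Agent.AlgSpace

open AlgSp AlgSpDecent

variable {S : Scheme.{u}}

attribute [local simp] prod.lift_fst prod.lift_snd prod.map_fst prod.map_snd limit.lift_π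
  limit.lift_π_assoc

lemma exists_compact_open_surjOn {F : Sp S} [CompactSpace (Points F)] {U : Over S}
    {p : (yon S).obj U ⟶ F} (he : RepWith @Etale p) (hs : RepWith @Surjective p) :
    ∃ W : U.left.Opens, IsCompact (W : Set ↥U.left) ∧
      Points.ofPt p '' (W : Set ↥U.left) = Set.univ := by
  obtain ⟨t, ht⟩ := isCompact_univ.elim_finite_subcover
    (fun V : U.left.affineOpens => Points.ofPt p '' (V.1 : Set ↥U.left))
    (fun V => isOpenMap_ofPt p he _ V.1.isOpen) (fun x _ => by
      obtain ⟨u, rfl⟩ := surjective_ofPt hs x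
      obtain ⟨V, hV, hu, -⟩ := U.left.isBasis_affineOpens.exists_subset_of_mem_open
        (Set.mem_univ u) isOpen_univ
      obtain ⟨V, hV', rfl⟩ := hV
      exact Set.mem_iUnion.2 ⟨⟨V, hV'⟩, u, hu, rfl⟩)
  refine ⟨⨆ V ∈ t, V.1, ?_, ?_⟩
  · simp only [TopologicalSpace.Opens.coe_iSup]
    exact t.isCompact_biUnion fun V _ => V.2.isCompact
  · rw [Set.eq_univ_iff_forall]
    intro x
    obtain ⟨V, hV, u, hu, rfl⟩ := Set.mem_iUnion₂.1 (ht (Set.mem_univ x))
    refine ⟨u, ?_, rfl⟩
    simp only [TopologicalSpace.Opens.coe_iSup]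
    exact Set.mem_iUnion₂.2 ⟨V, hV, hu⟩

/-- An étale map from a scheme is an atlas of the open subspace on its image. -/
lemma exists_atlas_openSub_image {X : Sp S} {U : Over S} (a : (yon S).obj U ⟶ X)
    (ha : RepWith @Etale a) {W : Set (Points X)} (hW : Set.range (Points.ofPt a) = W) :
    ∃ a' : (yon S).obj U ⟶ openSub W, a' ≫ openSubι W = a ∧ RepWith @Etale a' ∧
      RepWith @Surjective a' := by
  obtain ⟨a', ha'⟩ := exists_factor_openSub (W := W) a (by
    rintro _ ⟨x, rfl⟩
    obtain ⟨u, rfl⟩ := (Points.schemeEquiv U).surjective x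
    rw [← hW]
    exact ⟨u, Points.ofPt_eq_map_ofScheme a u⟩)
  have he : RepWith @Etale a' := by
    have sq := isPullback_of_mono a' (openSubι W)
    rw [ha'] at sq
    exact repWith_of_isPullback sq ha
  refine ⟨a', ha', he, repWith_surjective_of_ofPt he.1 fun x => ?_⟩
  obtain ⟨u, hu⟩ : Points.map (openSubι W) x ∈ Set.range (Points.ofPt a) := by
    rw [hW]
    exact (range_openSubι W).subset ⟨x, rfl⟩
  refine ⟨u, injective_map_of_openImmersion (repWith_openSubι ?_) ?_⟩
  · rw [← hW, ← Set.image_univ]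
    exact isOpenMap_ofPt a ha _ isOpen_univ
  · rw [Points.map_ofPt, ha', hu]

lemma isOpen_range_map_of_openImmersion {Z X : Sp S} {i : Z ⟶ X}
    (hi : RepWith @IsOpenImmersion i) : IsOpen (Set.range (Points.map i)) := by
  refine Points.isOpen_iff.2 fun T g => ?_
  have sq := hi.1.isPullback g
  have : IsOpenImmersion (hi.1.snd g).left := hi.2 g _ _ sq
  have e : Points.ofPt g ⁻¹' Set.range (Points.map i) = Set.range (hi.1.snd g).left := by
    ext u
    constructor
    · rintro ⟨z, hz⟩
      obtain ⟨v, -, hv⟩ := exists_pt_of_isPullback sq hz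
      exact ⟨v, hv⟩
    · rintro ⟨v, rfl⟩
      exact ⟨_, ofPt_sq sq.w v⟩
  rw [e]
  exact (hi.1.snd g).left.isOpenEmbedding.isOpen_range

/-- A sheaf covered by open subsheaves whose coproduct is an algebraic space is one. -/
theorem isAlgSpace_of_openCover {F : Sp S} {ι : Type u} {Fi : ι → Sp S} (f : ∀ i, Fi i ⟶ F)
    (halg : ∀ i, IsAlgSpace (Fi i)) (hopen : ∀ i, RepWith @IsOpenImmersion (f i)) {c : Cofan Fi}
    (hc : IsColimit c) (hsurj : Sheaf.IsLocallySurjective (Cofan.IsColimit.desc hc f)) :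
    IsAlgSpace F := by
  have hcop : IsAlgSpace c.pt := isAlgSpace_cofan hc halg
  set d := Cofan.IsColimit.desc hc f with hd
  have hpt : ∀ x : Points F, ∃ i y, Points.map (f i) y = x := fun x => by
    obtain ⟨T, g, t, rfl⟩ := exists_ofPt_eq x
    obtain ⟨𝒰, h𝒰⟩ := exists_cover_lift d g
    obtain ⟨k, v, rfl⟩ := 𝒰.exists_eq t
    obtain ⟨l, hl⟩ := h𝒰 k
    obtain ⟨i, y, hy⟩ := exists_point_component hc (Points.ofPt l v)
    refine ⟨i, y, ?_⟩
    rw [← Cofan.IsColimit.fac hc f i, Points.map_comp, hy, ← hd, Points.map_ofPt, hl,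
      ofPt_map_comp]
    rfl
  have hopen' := fun i => isOpen_range_map_of_openImmersion (hopen i)
  have hdiag : Representable (Limits.diag F) := representable_of_zariski _ fun T g t => by
    obtain ⟨j, hj⟩ := hpt (Points.ofPt (g ≫ Limits.prod.snd) t)
    let O : T.left.Opens :=
      ⟨Points.ofPt (g ≫ Limits.prod.snd) ⁻¹' Set.range (Points.map (f j)),
        Points.isOpen_iff.1 (hopen' j) T _⟩
    refine ⟨O, hj, ?_⟩
    let A : Over S := Over.mk (O.ι ≫ T.hom)
    let α : A ⟶ T := overArrow O.ι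
    obtain ⟨b, hb⟩ := exists_factor_of_range (hopen j) (((yon S).map α ≫ g) ≫ Limits.prod.snd) (by
      rintro _ ⟨x, rfl⟩
      obtain ⟨v, rfl⟩ := (Points.schemeEquiv A).surjective x
      change Points.map _ (Points.ofScheme A v) ∈ _
      rw [← Points.ofPt_eq_map_ofScheme, Category.assoc, ofPt_map_comp]
      have hv : α.left v ∈ O := by
        change O.ι v ∈ (O : Set ↥T.left)
        rw [← O.range_ι]
        exact ⟨v, rfl⟩
      exact hv)
    have sqA := (hopen j).1.isPullback (((yon S).map α ≫ g) ≫ Limits.prod.fst)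
    obtain ⟨W, x, y, sqW⟩ := representable_diag_iff.1 (halg j).diag
      ((hopen j).1.fst (((yon S).map α ≫ g) ≫ Limits.prod.fst)) b
    have sqW' := sqW.paste_horiz sqA.flip
    rw [← Functor.map_comp, hb] at sqW'
    have sqD := IsPullback.of_hasPullback
      (prod.lift (x ≫ (hopen j).1.snd (((yon S).map α ≫ g) ≫ Limits.prod.fst)) y) (Limits.diag A)
    exact ⟨_, _, _, isPullback_prod_diag_map (yon S) sqW' (sqD.map (yon S))⟩
  obtain ⟨U, q, hqe, hqs⟩ := hcop.atlas
  have hrep : Representable (q ≫ d) := Functor.relativelyRepresentable.of_diag hdiag _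
  refine ⟨hdiag, U, q ≫ d, repWith_of_source_opens hrep (fun i => componentOpen hc q i)
    (exists_mem_componentOpen hc q) (fun i => ?_), repWith_surjective_of_map hrep fun x => ?_⟩
  · obtain ⟨l, sq⟩ := exists_isPullback_component hc q i
    have hle : RepWith @Etale l := repWith_of_isPullback sq.flip hqe
    have e : (yon S).map (overArrow (componentOpen hc q i).ι) ≫ q ≫ d = l ≫ f i := by
      rw [← reassoc_of% sq.w, hd, Cofan.IsColimit.fac]
    rw [e]
    exact repWith_comp hle (repWith_mono (Q := @Etale)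
      (fun _ _ k (_ : IsOpenImmersion k) => inferInstance) (hopen i))
  · obtain ⟨i, y, rfl⟩ := hpt x
    obtain ⟨z, hz⟩ := surjective_map_of_repWith hqs (Points.map (c.inj i) y)
    refine ⟨z, ?_⟩
    rw [Points.map_comp, hz, ← Points.map_comp, hd, Cofan.IsColimit.fac]

end Groth.Agent.AlgSpace
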