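import Groth.Agent.Lib.AlgSpace.QC
import Groth.Agent.Lib.AlgSpace.MorDiag

/-!
# Quasi-compact and quasi-separated spaces over a quasi-separated base
-/

universe u

set_option backward.isDefEq.respectTransparency.types false
set_option linter.unusedVariables false

open CategoryTheory CategoryTheory.Limits AlgebraicGeometry Opposite

namespace Groth.Agent.AlgSpace

open AlgSp Groth.Agent.AlgSpDecent

variable {S : Scheme.{u}}

attribute [local simp] pullback.lift_fst pullback.lift_snd prod.lift_fst prod.lift_snd limit.lift_π

/-- The base scheme as a terminal sheaf. -/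
noncomputable def isTerminalBase : IsTerminal ((yon S).obj (Over.mk (𝟙 S))) :=
  Over.mkIdTerminal.isTerminalObj (yon S) _

/-- The structure map of a sheaf. -/
noncomputable def toBase (F : Sp S) : F ⟶ (yon S).obj (Over.mk (𝟙 S)) := isTerminalBase.from F

/-- Conditions on the diagonal over the base are conditions on the diagonal of the space. -/
theorem repWith_diag_of_diagonal_toBase {P : MorphismProperty Scheme.{u}} [P.IsStableUnderBaseChange]
    {F : Sp S} (h : RepWith P (pullback.diagonal (toBase F))) : RepWith P (Limits.diag F) := by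
  let c : F ⨯ F ⟶ pullback (toBase F) (toBase F) :=
    pullback.lift prod.fst prod.snd (isTerminalBase.hom_ext _ _)
  have : IsIso c := by
    refine ⟨⟨prod.lift (pullback.fst _ _) (pullback.snd _ _), ?_, ?_⟩⟩
    · apply Limits.prod.hom_ext <;> simp [c]
    · apply pullback.hom_ext <;> simp [c]
  have e : Limits.diag F ≫ c = pullback.diagonal (toBase F) := by
    apply pullback.hom_ext <;> simp [c]
  rw [← e, repWith_respectsIso_right] at h
  exact h

theorem isQuasiSeparatedMor_toBase {F : Sp S} (h : IsQuasiSeparatedSp F) :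
    IsQuasiSeparatedMor (toBase F) :=
  repWith_diagonal_of_diag _ h

theorem isQuasiSeparatedSp_of_toBase {F : Sp S} (h : IsQuasiSeparatedMor (toBase F)) :
    IsQuasiSeparatedSp F :=
  repWith_diag_of_diagonal_toBase h

/-- A quasi-compact space over a quasi-separated base is quasi-compact over it. -/
theorem isQuasiCompactMor_toBase [QuasiSeparatedSpace ↥S] {F : Sp S} (hF : IsAlgSpace F)
    (hc : IsQuasiCompactSp F) : IsQuasiCompactMor (toBase F) := by
  refine isQuasiCompactMor_of_affine hF (IsAlgSpace.yon_obj _) fun Z hZ g P fst snd sq => ?_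
  obtain ⟨U, p, hU, hpe, hps⟩ := exists_affine_chart hc
  obtain ⟨γ, rfl⟩ := (yon S).map_surjective g
  have sqU := IsPullback.of_hasPullback p fst
  have sqO : IsPullback (pullback.fst (Over.mkIdTerminal.from U) γ) (pullback.snd _ γ)
    (Over.mkIdTerminal.from U) γ := IsPullback.of_hasPullback _ _
  have hr : ((yon S).map (Over.mkIdTerminal.from U)) = p ≫ toBase F := isTerminalBase.hom_ext _ _
  have sqy := sqO.map (yon S)
  rw [hr] at sqy
  let e := sqy.isoIsPullback _ _ (sqU.paste_vert sq)
  have : CompactSpace ↥U.left := inferInstance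
  have : QuasiSeparatedSpace ↥(Over.mk (𝟙 S)).left := inferInstanceAs (QuasiSeparatedSpace ↥S)
  have : QuasiCompact (Over.mkIdTerminal.from U).left := quasiCompact_of_compactSpace _
  have : QuasiCompact (pullback.snd (Over.mkIdTerminal.from U) γ).left :=
    MorphismProperty.of_isPullback (sqO.map (Over.forget S)) ‹_›
  have := QuasiCompact.compactSpace_of_compactSpace (pullback.snd (Over.mkIdTerminal.from U) γ).left
  have := (compactSpace_yon_iff _).2 this
  exact compactSpace_of_surjective (e.hom ≫ pullback.snd p fst) (by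
    rw [map_comp_eq]
    exact (surjective_of_isPullback sqU (surjective_map_of_repWith hps)).comp (bijective_map_iso _).2)

/-- Over a quasi-separated base, maps from quasi-compact to quasi-separated spaces are quasi-compact. -/
theorem isQuasiCompactMor_of_qc_qs [QuasiSeparatedSpace ↥S] {X Y : Sp S} (hX : IsAlgSpace X)
    (hY : IsAlgSpace Y) (f : X ⟶ Y) (hXc : IsQuasiCompactSp X) (hYs : IsQuasiSeparatedSp Y) :
    IsQuasiCompactMor f :=
  isQuasiCompactMor_of_comp hX hY (IsAlgSpace.yon_obj _) (g := toBase Y)
    (by rw [show f ≫ toBase Y = toBase X from isTerminalBase.hom_ext _ _]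
        exact isQuasiCompactMor_toBase hX hXc)
    (isQuasiSeparatedMor_toBase hYs)

/-- Quasi-separatedness passes to the source. -/
theorem isQuasiSeparatedSp_of_mor {X Y : Sp S} {f : X ⟶ Y} (hf : IsQuasiSeparatedMor f)
    (hY : IsQuasiSeparatedSp Y) : IsQuasiSeparatedSp X :=
  isQuasiSeparatedSp_of_toBase (by
    rw [← show f ≫ toBase Y = toBase X from isTerminalBase.hom_ext _ _]
    exact repWith_diagonal_comp hf (isQuasiSeparatedMor_toBase hY))

/-- Any map out of a quasi-separated space is quasi-separated when its diagonal is so. -/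
theorem isQuasiSeparatedMor_of_sp {X Y : Sp S} (f : X ⟶ Y) (hX : IsQuasiSeparatedSp X) :
    IsQuasiSeparatedMor f :=
  repWith_diagonal_of_diag f hX

/-- A space quasi-compact over a quasi-compact space is quasi-compact. -/
theorem isQuasiCompactSp_of_mor {X Y : Sp S} (hX : IsAlgSpace X) (hY : IsAlgSpace Y) {f : X ⟶ Y}
    (hf : IsQuasiCompactMor f) (hYc : IsQuasiCompactSp Y) : IsQuasiCompactSp X := by
  have := (isQuasiCompactSp_iff hY).1 hYc
  have h := compactSpace_of_isQuasiCompactMor hX hY hf hY
    (IsPullback.of_horiz_isIso ⟨by rw [Category.id_comp, Category.comp_id]⟩ :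
      IsPullback (𝟙 X) f f (𝟙 Y))
  exact (isQuasiCompactSp_iff hX).2 h

end Groth.Agent.AlgSpace
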