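import Groth.Agent.Lib.AlgSpace.Base

/-!
# Fibre products of algebraic spaces, permanence of representability
-/

universe u

set_option backward.isDefEq.respectTransparency.types false
set_option linter.unusedVariables false

open CategoryTheory CategoryTheory.Limits AlgebraicGeometry Opposite

namespace Groth.Agent.AlgSpace

open AlgSp

variable {S : Scheme.{u}}

section Yoneda

/-- Maps of sheaves are determined by their values on representable sheaves. -/
lemma hom_ext_yon {F G : Sp S} {f g : F ⟶ G}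
    (h : ∀ ⦃T : Over S⦄ (x : (yon S).obj T ⟶ F), x ≫ f = x ≫ g) : f = g := by
  ext T x
  have := congrArg sect (h ((sect (T := T.unop) (F := F)).symm x))
  rw [GrothendieckTopology.uliftYonedaEquiv_comp, GrothendieckTopology.uliftYonedaEquiv_comp,
    Equiv.apply_symm_apply] at this
  exact this

lemma mono_of_yon {F G : Sp S} (f : F ⟶ G)
    (h : ∀ ⦃T : Over S⦄ (x y : (yon S).obj T ⟶ F), x ≫ f = y ≫ f → x = y) : Mono f :=
  ⟨fun a b w => hom_ext_yon fun _ x => h _ _ (by rw [Category.assoc, Category.assoc, w])⟩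

/-- A representable map all of whose base changes are monomorphisms is a monomorphism. -/
lemma mono_of_repWith {F G : Sp S} (f : F ⟶ G) (hf : RepWith (MorphismProperty.monomorphisms Scheme.{u}) f) :
    Mono f := by
  refine mono_of_yon f fun T x y w => ?_
  have sq := hf.1.isPullback (x ≫ f)
  have hm : Mono (hf.1.snd (x ≫ f)).left := hf.2 _ _ _ sq
  have : Mono (hf.1.snd (x ≫ f)) := (Over.forget S).mono_of_mono_map hm
  let lx := hf.1.lift (g := x ≫ f) x (𝟙 T) (by simp)
  let ly := hf.1.lift (g := x ≫ f) y (𝟙 T) (by simp [w])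
  have e : lx = ly := (cancel_mono (hf.1.snd (x ≫ f))).1 (by simp [lx, ly])
  rw [← hf.1.lift_fst (g := x ≫ f) x (𝟙 T) (by simp),
    ← hf.1.lift_fst (g := x ≫ f) y (𝟙 T) (by simp [w])]
  exact congrArg (fun l => (yon S).map l ≫ _) e

lemma mono_of_isImmersion {F G : Sp S} {f : F ⟶ G} (hf : RepWith @IsImmersion f) : Mono f :=
  mono_of_repWith f (repWith_mono (fun _ _ g (_ : IsImmersion g) =>
    (inferInstance : Mono g)) hf)

/-- A map over a monomorphism is a base change of the composite. -/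
lemma isPullback_of_mono {A F G : Sp S} (g : A ⟶ F) (f : F ⟶ G) [Mono f] :
    IsPullback (𝟙 A) g (g ≫ f) f :=
  IsPullback.of_iso_pullback ⟨by simp⟩
    (asIso (pullback.fst (g ≫ f) f)).symm (by simp) (by
      rw [← cancel_mono f]; simp [pullback.condition])

end Yoneda

section Generic

variable {C : Type*} [Category C] {D : Type*} [Category D]

/-- A fibre product over `F` is a base change of the diagonal of `F`. -/
lemma isPullback_diag_gen {A B W F : D} [HasBinaryProduct A B] [HasBinaryProduct F F]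
    {a : W ⟶ A} {b : W ⟶ B} {u : A ⟶ F} {v : B ⟶ F} (sq : IsPullback a b u v) :
    IsPullback (a ≫ u) (prod.lift a b) (Limits.diag F) (prod.map u v) := by
  refine IsPullback.of_isLimit (PullbackCone.IsLimit.mk (by apply Limits.prod.hom_ext <;> simp [sq.w])
    (fun s => sq.lift (s.snd ≫ prod.fst) (s.snd ≫ prod.snd) ?_) (fun s => ?_) (fun s => ?_) ?_)
  · have h1 := s.condition =≫ prod.fst
    have h2 := s.condition =≫ prod.snd
    simp only [Category.assoc, prod.lift_fst, prod.lift_snd, prod.map_fst, prod.map_snd,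
      Category.comp_id] at h1 h2
    simp [← h1, ← h2]
  · have h1 := s.condition =≫ prod.fst
    simp only [Category.assoc, prod.lift_fst, prod.map_fst, Category.comp_id] at h1
    simp [h1]
  · apply Limits.prod.hom_ext
    · refine (Category.assoc _ _ _).trans ((congrArg (_ ≫ ·) (Limits.prod.lift_fst a b)).trans ?_)
      exact sq.lift_fst _ _ _
    · refine (Category.assoc _ _ _).trans ((congrArg (_ ≫ ·) (Limits.prod.lift_snd a b)).trans ?_)
      exact sq.lift_snd _ _ _
  · intro s m hm₁ hm₂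
    apply sq.hom_ext
    · rw [sq.lift_fst, ← hm₂, Category.assoc]
      exact congrArg (m ≫ ·) (Limits.prod.lift_fst a b).symm
    · rw [sq.lift_snd, ← hm₂, Category.assoc]
      exact congrArg (m ≫ ·) (Limits.prod.lift_snd a b).symm

variable (F : C ⥤ D) [HasPullbacks C] [HasBinaryProducts C] [PreservesLimitsOfShape WalkingCospan F]
  [PreservesLimitsOfShape (Discrete WalkingPair) F]

omit [HasPullbacks C] [PreservesLimitsOfShape WalkingCospan F] in
lemma map_prod_hom_ext {A B : C} {T : D} {f g : T ⟶ F.obj (A ⨯ B)}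
    (h₁ : f ≫ F.map prod.fst = g ≫ F.map prod.fst)
    (h₂ : f ≫ F.map prod.snd = g ≫ F.map prod.snd) : f = g :=
  BinaryFan.IsLimit.hom_ext (isLimitOfHasBinaryProductOfPreservesLimit F A B) h₁ h₂

/-- Intersection of two represented fibre products. -/
lemma exists_isPullback_gen {P X Y H : D} {fst : P ⟶ X} {snd : P ⟶ Y} {f : X ⟶ H} {g : Y ⟶ H}
    (h : IsPullback fst snd f g) {A B W₁ W₂ : C} {u : F.obj A ⟶ P} {v : F.obj B ⟶ P}
    {a₁ : W₁ ⟶ A} {b₁ : W₁ ⟶ B} {a₂ : W₂ ⟶ A} {b₂ : W₂ ⟶ B}
    (sq₁ : IsPullback (F.map a₁) (F.map b₁) (u ≫ fst) (v ≫ fst))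
    (sq₂ : IsPullback (F.map a₂) (F.map b₂) (u ≫ snd) (v ≫ snd)) :
    ∃ (W : C) (a : W ⟶ A) (b : W ⟶ B), IsPullback (F.map a) (F.map b) u v := by
  have sq := (IsPullback.of_hasPullback (prod.lift a₁ b₁) (prod.lift a₂ b₂)).map F
  have w := pullback.condition (f := prod.lift a₁ b₁) (g := prod.lift a₂ b₂)
  have wa := w =≫ prod.fst
  have wb := w =≫ prod.snd
  simp only [Category.assoc, prod.lift_fst, prod.lift_snd] at wa wb
  refine ⟨_, pullback.fst _ (prod.lift a₂ b₂) ≫ a₁, pullback.fst _ (prod.lift a₂ b₂) ≫ b₁,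
    IsPullback.of_isLimit (PullbackCone.IsLimit.mk ?_ (fun s => sq.lift
      (sq₁.lift s.fst s.snd (by simp [s.condition_assoc]))
      (sq₂.lift s.fst s.snd (by simp [s.condition_assoc])) ?_) (fun s => ?_) (fun s => ?_) ?_)⟩
  · apply h.hom_ext
    · simp only [Functor.map_comp, Category.assoc, sq₁.w]
    · rw [wa, wb]
      simp only [Functor.map_comp, Category.assoc, sq₂.w]
  · apply map_prod_hom_ext F
    · simp only [Category.assoc, ← Functor.map_comp]
      rw [prod.lift_fst, prod.lift_fst, sq₁.lift_fst, sq₂.lift_fst]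
    · simp only [Category.assoc, ← Functor.map_comp]
      rw [prod.lift_snd, prod.lift_snd, sq₁.lift_snd, sq₂.lift_snd]
  · simp
  · simp
  · intro s m hm₁ hm₂
    apply sq.hom_ext
    · apply sq₁.hom_ext
      · simp [← hm₁]
      · simp [← hm₂]
    · apply sq₂.hom_ext
      · simp [← hm₁, ← Functor.map_comp, wa]
      · simp [← hm₂, ← Functor.map_comp, wb]

/-- Fibre product through a representable map. -/
lemma exists_isPullback_gen' {G X : D} {f : G ⟶ X} {A B W₁ V : C} {u : F.obj A ⟶ G} {v : F.obj B ⟶ G}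
    {a : W₁ ⟶ A} {b : W₁ ⟶ B} (sq₁ : IsPullback (F.map a) (F.map b) (u ≫ f) (v ≫ f))
    {p : F.obj V ⟶ G} {q : V ⟶ W₁} (sqV : IsPullback p (F.map q) f (F.map a ≫ u ≫ f))
    (σ₁ σ₂ : W₁ ⟶ V) (hp₁ : F.map σ₁ ≫ p = F.map a ≫ u) (hp₂ : F.map σ₂ ≫ p = F.map b ≫ v)
    (hq₁ : σ₁ ≫ q = 𝟙 W₁) (hq₂ : σ₂ ≫ q = 𝟙 W₁) :
    ∃ (W : C) (a' : W ⟶ A) (b' : W ⟶ B), IsPullback (F.map a') (F.map b') u v := by
  have sq := (IsPullback.of_hasPullback (prod.lift (𝟙 W₁) σ₁) (prod.lift (𝟙 W₁) σ₂)).map F
  have w := pullback.condition (f := prod.lift (𝟙 W₁) σ₁) (g := prod.lift (𝟙 W₁) σ₂)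
  have w₁ := w =≫ prod.fst
  have w₂ := w =≫ prod.snd
  simp only [Category.assoc, prod.lift_fst, prod.lift_snd, Category.comp_id] at w₁ w₂
  refine ⟨_, pullback.fst _ (prod.lift (𝟙 W₁) σ₂) ≫ a, pullback.fst _ (prod.lift (𝟙 W₁) σ₂) ≫ b,
    IsPullback.of_isLimit (PullbackCone.IsLimit.mk ?_ (fun s => sq.lift
      (sq₁.lift s.fst s.snd (by simp [s.condition_assoc]))
      (sq₁.lift s.fst s.snd (by simp [s.condition_assoc])) ?_) (fun s => ?_) (fun s => ?_) ?_)⟩
  · calc F.map (pullback.fst _ (prod.lift (𝟙 W₁) σ₂) ≫ a) ≫ u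
        = F.map (pullback.fst _ (prod.lift (𝟙 W₁) σ₂) ≫ σ₁) ≫ p := by simp [hp₁]
      _ = F.map (pullback.fst _ (prod.lift (𝟙 W₁) σ₂) ≫ b) ≫ v := by
          rw [w₂, ← w₁]; simp [hp₂]
  · apply map_prod_hom_ext F
    · simp only [Category.assoc, ← Functor.map_comp]
      rw [prod.lift_fst, prod.lift_fst]
    · simp only [Category.assoc, ← Functor.map_comp]
      rw [prod.lift_snd, prod.lift_snd]
      apply sqV.hom_ext
      · simp [hp₁, hp₂, s.condition]
      · simp [← Functor.map_comp, hq₁, hq₂]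
  · simp
  · simp
  · intro s m hm₁ hm₂
    apply sq.hom_ext <;> apply sq₁.hom_ext
    · simp [← hm₁]
    · simp [← hm₂]
    · simp [← hm₁, ← Functor.map_comp, w₁]
    · simp [← hm₂, ← Functor.map_comp, w₁]

omit [HasPullbacks C] [HasBinaryProducts C] [PreservesLimitsOfShape WalkingCospan F]
  [PreservesLimitsOfShape (Discrete WalkingPair) F] in
lemma exists_isPullback_mono {G X : D} (f : G ⟶ X) [Mono f] {A B W : C} {u : F.obj A ⟶ G}
    {v : F.obj B ⟶ G} {a : W ⟶ A} {b : W ⟶ B}
    (sq : IsPullback (F.map a) (F.map b) (u ≫ f) (v ≫ f)) :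
    IsPullback (F.map a) (F.map b) u v :=
  IsPullback.of_isLimit (PullbackCone.IsLimit.mk (by rw [← cancel_mono f]; simp [sq.w])
    (fun s => sq.lift s.fst s.snd (by simp [s.condition_assoc]))
    (fun s => by simp) (fun s => by simp)
    (fun s m hm₁ hm₂ => sq.hom_ext (by simp [hm₁]) (by simp [hm₂])))

end Generic

section Diagonal

lemma isPullback_diag {A B W F : Sp S} {a : W ⟶ A} {b : W ⟶ B} {u : A ⟶ F} {v : B ⟶ F}
    (sq : IsPullback a b u v) :
    IsPullback (a ≫ u) (prod.lift a b) (Limits.diag F) (prod.map u v) :=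
  isPullback_diag_gen sq

lemma representable_diag_iff {F : Sp S} :
    Representable (Limits.diag F) ↔ ∀ ⦃A B : Over S⦄ (u : (yon S).obj A ⟶ F) (v : (yon S).obj B ⟶ F),
      ∃ (W : Over S) (a : W ⟶ A) (b : W ⟶ B), IsPullback ((yon S).map a) ((yon S).map b) u v := by
  refine Functor.relativelyRepresentable.diag_iff.trans ?_
  refine ⟨fun h A B u v => ?_, fun h A u B v => ?_⟩
  · exact ⟨(h u).pullback v, (h u).fst' v, (h u).snd v, (h u).isPullback' v⟩
  · obtain ⟨W, a, b, sq⟩ := h u v
    exact ⟨W, b, _, sq⟩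

/-- Diagonal representability passes to fibre products. -/
lemma representable_diag_of_isPullback {P X Y H : Sp S} {fst : P ⟶ X} {snd : P ⟶ Y} {f : X ⟶ H}
    {g : Y ⟶ H} (h : IsPullback fst snd f g) (hX : Representable (Limits.diag X))
    (hY : Representable (Limits.diag Y)) : Representable (Limits.diag P) := by
  refine representable_diag_iff.2 fun A B u v => ?_
  obtain ⟨W₁, a₁, b₁, sq₁⟩ := representable_diag_iff.1 hX (u ≫ fst) (v ≫ fst)
  obtain ⟨W₂, a₂, b₂, sq₂⟩ := representable_diag_iff.1 hY (u ≫ snd) (v ≫ snd)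
  exact exists_isPullback_gen (yon S) h sq₁ sq₂

/-- Diagonal representability passes to sources of representable maps. -/
lemma representable_diag_of_representable {G X : Sp S} {f : G ⟶ X} (hf : Representable f)
    (hX : Representable (Limits.diag X)) : Representable (Limits.diag G) := by
  refine representable_diag_iff.2 fun A B u v => ?_
  obtain ⟨W₁, a, b, sq₁⟩ := representable_diag_iff.1 hX (u ≫ f) (v ≫ f)
  exact exists_isPullback_gen' (yon S) sq₁ (hf.isPullback ((yon S).map a ≫ u ≫ f))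
    (hf.lift ((yon S).map a ≫ u) (𝟙 W₁) (by rw [(yon S).map_id, Category.id_comp, Category.assoc]))
    (hf.lift ((yon S).map b ≫ v) (𝟙 W₁) (by
      rw [(yon S).map_id, Category.id_comp, Category.assoc, sq₁.w]))
    (hf.lift_fst _ _ _) (hf.lift_fst _ _ _) (hf.lift_snd _ _ _) (hf.lift_snd _ _ _)

lemma representable_diag_of_mono {G X : Sp S} (f : G ⟶ X) [Mono f]
    (hX : Representable (Limits.diag X)) : Representable (Limits.diag G) :=
  representable_diag_iff.2 fun A B u v =>
    have ⟨W, a, b, sq⟩ := representable_diag_iff.1 hX (u ≫ f) (v ≫ f)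
    ⟨W, a, b, exists_isPullback_mono (yon S) f sq⟩

end Diagonal

section Space

/-- Fibre products of algebraic spaces over a sheaf with representable diagonal. -/
theorem isAlgSpace_of_isPullback {P X Y H : Sp S} (hH : Representable (Limits.diag H))
    (hX : IsAlgSpace X) (hY : IsAlgSpace Y) {fst : P ⟶ X} {snd : P ⟶ Y} {f : X ⟶ H} {g : Y ⟶ H}
    (h : IsPullback fst snd f g) : IsAlgSpace P where
  diag := representable_diag_of_isPullback h hX.diag hY.diag
  atlas := by
    obtain ⟨U, p, hpe, hps⟩ := hX.atlas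
    obtain ⟨V, q, hqe, hqs⟩ := hY.atlas
    obtain ⟨W, a, b, sqW⟩ := representable_diag_iff.1 hH (p ≫ f) (q ≫ g)
    have sqQ := IsPullback.of_hasPullback (p ≫ f) g
    let k := h.lift (pullback.fst (p ≫ f) g ≫ p) (pullback.snd (p ≫ f) g) (by simp [pullback.condition])
    have hk : IsPullback (pullback.fst (p ≫ f) g) k p fst :=
      (IsPullback.of_right (h₁₁ := k) (h₁₂ := snd)
        (by simpa [k] using sqQ.flip) (by simp [k]) h.flip).flip
    let m := sqQ.lift ((yon S).map a) ((yon S).map b ≫ q) (by simp [sqW.w])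
    have hm : IsPullback ((yon S).map b) m q (pullback.snd (p ≫ f) g) :=
      (IsPullback.of_right (h₁₁ := m) (h₁₂ := pullback.fst (p ≫ f) g)
        (by simpa [m] using sqW) (by simp [m]) sqQ).flip
    exact ⟨W, m ≫ k, repWith_comp (repWith_of_isPullback hm hqe) (repWith_of_isPullback hk hpe),
      repWith_comp (repWith_of_isPullback hm hqs) (repWith_of_isPullback hk hps)⟩

/-- Fibre products of algebraic spaces. -/
theorem isAlgSpace_pullback {P X Y Z : Sp S} (hZ : IsAlgSpace Z)
    (hX : IsAlgSpace X) (hY : IsAlgSpace Y) {fst : P ⟶ X} {snd : P ⟶ Y} {f : X ⟶ Z} {g : Y ⟶ Z}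
    (h : IsPullback fst snd f g) : IsAlgSpace P :=
  isAlgSpace_of_isPullback hZ.diag hX hY h

/-- The source of a map representable by schemes to an algebraic space is an algebraic space. -/
theorem isAlgSpace_of_representable {G X : Sp S} {f : G ⟶ X} (hf : Representable f)
    (hX : IsAlgSpace X) : IsAlgSpace G where
  diag := representable_diag_of_representable hf hX.diag
  atlas := by
    obtain ⟨U, p, he, hs⟩ := hX.atlas
    exact ⟨_, hf.fst p, repWith_of_isPullback (hf.isPullback p).flip he,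
      repWith_of_isPullback (hf.isPullback p).flip hs⟩

theorem isAlgSpace_terminal {T : Sp S} (hT : IsTerminal T) : IsAlgSpace T :=
  (IsAlgSpace.yon_obj (Over.mk (𝟙 S))).of_iso
    ((Over.mkIdTerminal.isTerminalObj (yon S) _).uniqueUpToIso hT)

theorem isAlgSpace_prod {X Y : Sp S} (hX : IsAlgSpace X) (hY : IsAlgSpace Y) : IsAlgSpace (X ⨯ Y) :=
  isAlgSpace_pullback (isAlgSpace_terminal terminalIsTerminal) hX hY
    (IsPullback.of_is_product 
      (prodIsProd X Y) terminalIsTerminal)

/-- Lifting of charts along a morphism of algebraic spaces. -/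
theorem exists_chart_over {X Y : Sp S} (hX : IsAlgSpace X) (hY : IsAlgSpace Y) (a : X ⟶ Y) {V : Over S}
    (q : (yon S).obj V ⟶ Y) (hqe : RepWith @Etale q) (hqs : RepWith @Surjective q) :
    ∃ (U : Over S) (p : (yon S).obj U ⟶ X) (α : U ⟶ V),
      RepWith @Etale p ∧ RepWith @Surjective p ∧ p ≫ a = (yon S).map α ≫ q := by
  have sq := IsPullback.of_hasPullback a q
  obtain ⟨U, r, hre, hrs⟩ := (isAlgSpace_pullback hY hX (IsAlgSpace.yon_obj V) sq).atlas
  refine ⟨U, r ≫ pullback.fst a q, (yon S).preimage (r ≫ pullback.snd a q),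
    repWith_comp hre (repWith_of_isPullback sq.flip hqe),
    repWith_comp hrs (repWith_of_isPullback sq.flip hqs), ?_⟩
  simp [pullback.condition]

end Space

end Groth.Agent.AlgSpace
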