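import Groth.Agent.Lib.AlgSpace.Space
import Mathlib.CategoryTheory.Sites.RegularEpi
import Mathlib.RingTheory.Flat.Equalizer
import Mathlib.AlgebraicGeometry.Morphisms.Affine

/-!
# Effective fppf descent for affine schemes in the category of sheaves

A sheaf over an affine scheme `Z` whose base change along a flat surjective map of finite
presentation from an affine scheme is affine, is itself an affine scheme.
-/

universe u

set_option backward.isDefEq.respectTransparency.types false

open CategoryTheory CategoryTheory.Limits AlgebraicGeometry Opposite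
open scoped TensorProduct

namespace Groth.Agent.AlgSpace

namespace AffineDescent

section Algebra

variable {B C O : Type u} [CommRing B] [CommRing C] [CommRing O] [Algebra B C] [Algebra B O]

/-- The action of `C` on `O` as a map out of the tensor product. -/
noncomputable def mu (γ : C →ₐ[B] O) : C ⊗[B] O →ₐ[B] O :=
  Algebra.TensorProduct.lift γ (AlgHom.id B O) fun _ _ => Commute.all _ _

/-- Effective descent of an algebra along a flat ring map. -/
theorem bijective_mu_comp (γ : C →ₐ[B] O) (α : O →ₐ[B] C ⊗[B] O) [Module.Flat B C]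
    (h1 : α.comp γ = Algebra.TensorProduct.includeLeft)
    (h2 : (mu γ).comp α = AlgHom.id B O)
    (h3 : (Algebra.TensorProduct.map (AlgHom.id B C) α).comp α =
      (Algebra.TensorProduct.map (AlgHom.id B C) Algebra.TensorProduct.includeRight).comp α) :
    Function.Bijective ((mu γ).comp (Algebra.TensorProduct.map (AlgHom.id B C)
      (AlgHom.equalizer α (Algebra.TensorProduct.includeRight : O →ₐ[B] C ⊗[B] O)).val)) := by
  set incl : O →ₐ[B] C ⊗[B] O := Algebra.TensorProduct.includeRight with hincl
  let e := AlgHom.tensorEqualizerEquiv B C α incl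
  let τ : C ⊗[B] (C ⊗[B] O) →ₐ[B] C ⊗[B] O :=
    Algebra.TensorProduct.lift Algebra.TensorProduct.includeLeft (AlgHom.id B _)
      fun _ _ => Commute.all _ _
  have hτi : ∀ y, τ (Algebra.TensorProduct.map (AlgHom.id B C) incl y) = y := fun y => by
    induction y using TensorProduct.induction_on with
    | zero => simp only [map_zero]
    | tmul c o => simp [τ, incl]
    | add a b ha hb => simp only [map_add, ha, hb]
  have hτα : ∀ y, τ (Algebra.TensorProduct.map (AlgHom.id B C) α y) = α (mu γ y) := fun y => by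
    induction y using TensorProduct.induction_on with
    | zero => simp only [map_zero]
    | tmul c o =>
      have : α (γ c) = c ⊗ₜ 1 := DFunLike.congr_fun h1 c
      simp [τ, mu, this]
    | add a b ha hb => simp only [map_add, ha, hb]
  have key : ∀ a, ((e a : AlgHom.equalizer _ _) : C ⊗[B] O) =
      Algebra.TensorProduct.map (AlgHom.id B C) (AlgHom.equalizer α incl).val a := fun a => by
    rw [AlgHom.tensorEqualizerEquiv_apply, AlgHom.coe_tensorEqualizer]
  refine ⟨(injective_iff_map_eq_zero _).2 fun a ha => ?_, fun x => ?_⟩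
  · apply e.injective
    rw [map_zero]
    apply Subtype.ext
    rw [key a]
    set y := Algebra.TensorProduct.map (AlgHom.id B C) (AlgHom.equalizer α incl).val a with hy
    have hyeq : Algebra.TensorProduct.map (AlgHom.id B C) α y =
        Algebra.TensorProduct.map (AlgHom.id B C) incl y := by
      have h' : ((e a : AlgHom.equalizer _ _) : C ⊗[B] O) ∈ AlgHom.equalizer
          (Algebra.TensorProduct.map (AlgHom.id B C) α)
          (Algebra.TensorProduct.map (AlgHom.id B C) incl) := (e a).2
      rw [key a] at h'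
      exact h'
    have h := hτα y
    rw [hyeq, hτi] at h
    have hmu : mu γ y = 0 := ha
    rw [h, hmu, map_zero]
    rfl
  · refine ⟨e.symm ⟨α x, DFunLike.congr_fun h3 x⟩, ?_⟩
    change mu γ (Algebra.TensorProduct.map (AlgHom.id B C) (AlgHom.equalizer α incl).val _) = x
    rw [← key, AlgEquiv.apply_symm_apply]
    exact DFunLike.congr_fun h2 x

end Algebra

section SpecOver

open AlgSp

variable {S : Scheme.{u}} {B : CommRingCat.{u}} (sZ : Spec B ⟶ S)

/-- The spectrum of a `B`-algebra as a scheme over `S`. -/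
noncomputable def specOver (R : Type u) [CommRing R] [Algebra B R] : Over S :=
  Over.mk (Spec.map (CommRingCat.ofHom (algebraMap B R)) ≫ sZ)

/-- The structure map to `Spec B`. -/
noncomputable def toBase (R : Type u) [CommRing R] [Algebra B R] : specOver sZ R ⟶ Over.mk sZ :=
  Over.homMk (Spec.map (CommRingCat.ofHom (algebraMap B R))) rfl

variable {R R' R'' : Type u} [CommRing R] [Algebra B R] [CommRing R'] [Algebra B R']
  [CommRing R''] [Algebra B R'']

/-- The map of spectra given by a map of algebras. -/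
noncomputable def specMap (φ : R →ₐ[B] R') : specOver sZ R' ⟶ specOver sZ R :=
  Over.homMk (Spec.map (CommRingCat.ofHom φ.toRingHom)) (by
    change Spec.map _ ≫ Spec.map _ ≫ sZ = Spec.map _ ≫ sZ
    rw [← Spec.map_comp_assoc, ← CommRingCat.ofHom_comp]
    congr 4
    exact φ.comp_algebraMap)

@[reassoc (attr := simp)]
lemma specMap_toBase (φ : R →ₐ[B] R') : specMap sZ φ ≫ toBase sZ R = toBase sZ R' :=
  Over.OverMorphism.ext (by
    change Spec.map _ ≫ Spec.map _ = Spec.map _
    rw [← Spec.map_comp, ← CommRingCat.ofHom_comp]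
    exact congrArg (fun f => Spec.map (CommRingCat.ofHom f)) φ.comp_algebraMap)

lemma specMap_comp (φ : R →ₐ[B] R') (ψ : R' →ₐ[B] R'') :
    specMap sZ (ψ.comp φ) = specMap sZ ψ ≫ specMap sZ φ :=
  Over.OverMorphism.ext (by
    change Spec.map _ = Spec.map _ ≫ Spec.map _
    rw [← Spec.map_comp, ← CommRingCat.ofHom_comp]; rfl)

lemma specMap_id : specMap sZ (AlgHom.id B R) = 𝟙 _ :=
  Over.OverMorphism.ext (Spec.map_id _)

lemma specMap_injective : Function.Injective (specMap sZ : (R →ₐ[B] R') → _) := fun φ ψ h => by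
  have := Spec.map_injective (congrArg CommaMorphism.left h)
  exact AlgHom.ext fun x => congrArg (fun f : CommRingCat.of R ⟶ CommRingCat.of R' => f x) this

lemma exists_specMap {g : specOver sZ R' ⟶ specOver sZ R} (h : g ≫ toBase sZ R = toBase sZ R') :
    ∃ φ : R →ₐ[B] R', specMap sZ φ = g := by
  obtain ⟨f, hf⟩ := Spec.map_surjective g.left
  have e : Spec.map (CommRingCat.ofHom (algebraMap B R) ≫ f) =
      Spec.map (CommRingCat.ofHom (algebraMap B R')) := by
    rw [Spec.map_comp, hf]; exact congrArg CommaMorphism.left h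
  exact ⟨{ toRingHom := f.hom, commutes' := RingHom.congr_fun (congrArg CommRingCat.Hom.hom (Spec.map_injective e)) },
    Over.OverMorphism.ext (by change Spec.map _ = _; rw [← hf]; rfl)⟩

variable (R R')

lemma isPullback_toBase : IsPullback
    (specMap sZ (Algebra.TensorProduct.includeLeft : R →ₐ[B] R ⊗[B] R'))
    (specMap sZ (Algebra.TensorProduct.includeRight : R' →ₐ[B] R ⊗[B] R'))
    (toBase sZ R) (toBase sZ R') :=
  IsPullback.of_map_of_faithful (Over.forget S)
    (isPullback_SpecMap_of_isPushout _ _ _ _ (CommRingCat.isPushout_tensorProduct B R R'))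

end SpecOver

section Main

open AlgSp

variable {S : Scheme.{u}}

/-- Maps of representables that are flat, surjective and of finite presentation are epimorphisms. -/
lemma epi_of_isPullback {Z V : Over S} (v : V ⟶ Z) [Flat v.left] [Surjective v.left]
    [LocallyOfFinitePresentation v.left] {P Q : Sp S} {fst : P ⟶ (yon S).obj V} {snd : P ⟶ Q}
    {g : Q ⟶ (yon S).obj Z} (sq : IsPullback fst snd ((yon S).map v) g) : Epi snd :=
  have := isLocallySurjective_of_repWith snd
    (repWith_of_isPullback sq ((repWith_yon_map_iff @Flat v).2 inferInstance))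
    (repWith_of_isPullback sq ((repWith_yon_map_iff @LocallyOfFinitePresentation v).2 inferInstance))
    (repWith_of_isPullback sq ((repWith_yon_map_iff @Surjective v).2 inferInstance))
  inferInstance

/-- Effective descent of an affine scheme along a flat map of affine schemes, with the equaliser
property of the descended scheme. -/
theorem exists_descent_spec {B : CommRingCat.{u}} (sZ : Spec B ⟶ S) (C O : Type u) [CommRing C]
    [CommRing O] [Algebra B C] [Algebra B O] [Module.Flat B C]
    {F : Sp S} (π : F ⟶ (yon S).obj (Over.mk sZ)) (γ : C →ₐ[B] O)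
    (m : (yon S).obj (specOver sZ O) ⟶ F)
    (sq : IsPullback m ((yon S).map (specMap sZ γ)) π ((yon S).map (toBase sZ C))) :
    ∃ (A : Over S) (i : A ⟶ Over.mk sZ) (h : specOver sZ O ⟶ A), IsAffine A.left ∧
      IsPullback h (specMap sZ γ) i (toBase sZ C) ∧ (yon S).map (toBase sZ O) = m ≫ π ∧
      ∀ {T : Over S} (x y : T ⟶ specOver sZ O),
        (yon S).map x ≫ m = (yon S).map y ≫ m → x ≫ h = y ≫ h := by
  have sq2 := isPullback_toBase sZ C O
  let prC : specOver sZ (C ⊗[B] O) ⟶ specOver sZ C :=
    specMap sZ Algebra.TensorProduct.includeLeft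
  let prO : specOver sZ (C ⊗[B] O) ⟶ specOver sZ O :=
    specMap sZ Algebra.TensorProduct.includeRight
  have hm : m ≫ π = (yon S).map (toBase sZ O) := by
    rw [sq.w, ← Functor.map_comp, specMap_toBase]
  let act := sq.lift ((yon S).map prO ≫ m) ((yon S).map prC)
    (by rw [Category.assoc, hm, ← Functor.map_comp, ← Functor.map_comp, specMap_toBase,
      specMap_toBase])
  obtain ⟨g, hg⟩ := (yon S).map_surjective act
  have hg1 : g ≫ specMap sZ γ = prC := (yon S).map_injective (by
    rw [Functor.map_comp, hg]; exact sq.lift_snd _ _ _)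
  have hg2 : (yon S).map g ≫ m = (yon S).map prO ≫ m := by rw [hg]; exact sq.lift_fst _ _ _
  obtain ⟨α, hα⟩ := exists_specMap sZ (g := g) (by
    rw [← specMap_toBase sZ γ, reassoc_of% hg1, specMap_toBase])
  have h1 : α.comp γ = Algebra.TensorProduct.includeLeft :=
    specMap_injective sZ (by rw [specMap_comp, hα]; exact hg1)
  have hext : ∀ {T : Over S} (a b : T ⟶ specOver sZ O), (yon S).map a ≫ m = (yon S).map b ≫ m →
      a ≫ specMap sZ γ = b ≫ specMap sZ γ → a = b := fun a b e e' =>
    (yon S).map_injective (sq.hom_ext e (by rw [← Functor.map_comp, e', Functor.map_comp]))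
  have hmuC : specMap sZ (mu γ) ≫ prC = specMap sZ γ := by
    rw [← specMap_comp]; exact congrArg _ (AlgHom.ext fun c => by simp [mu])
  have hmuO : specMap sZ (mu γ) ≫ prO = 𝟙 _ := by
    rw [← specMap_comp, ← specMap_id]; exact congrArg _ (AlgHom.ext fun c => by simp [mu])
  have h2 : (mu γ).comp α = AlgHom.id B O := specMap_injective sZ (by
    rw [specMap_comp, hα, specMap_id]
    refine hext _ _ ?_ (by rw [Category.assoc, hg1, hmuC, Category.id_comp])
    rw [Functor.map_comp, Category.assoc, hg2, ← Functor.map_comp_assoc, hmuO])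
  have h3 : (Algebra.TensorProduct.map (AlgHom.id B C) α).comp α =
      (Algebra.TensorProduct.map (AlgHom.id B C) Algebra.TensorProduct.includeRight).comp α := by
    refine specMap_injective sZ ?_
    rw [specMap_comp, specMap_comp, hα]
    set a := specMap sZ (Algebra.TensorProduct.map (AlgHom.id B C) α) with ha
    set b := specMap sZ (Algebra.TensorProduct.map (AlgHom.id B C)
      (Algebra.TensorProduct.includeRight : O →ₐ[B] C ⊗[B] O)) with hb
    let q : specOver sZ (C ⊗[B] (C ⊗[B] O)) ⟶ specOver sZ (C ⊗[B] O) :=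
      specMap sZ Algebra.TensorProduct.includeRight
    have haC : a ≫ prC = b ≫ prC := by
      rw [ha, hb, ← specMap_comp, ← specMap_comp]
      exact congrArg _ (AlgHom.ext fun c => by simp)
    have haO : a ≫ prO = q ≫ g := by
      rw [ha, ← hα, ← specMap_comp, ← specMap_comp]
      exact congrArg _ (AlgHom.ext fun c => by simp)
    have hbO : b ≫ prO = q ≫ prO := by
      rw [hb, ← specMap_comp, ← specMap_comp]
      exact congrArg _ (AlgHom.ext fun c => by simp)
    refine hext _ _ ?_ (by rw [Category.assoc, Category.assoc, hg1, haC])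
    simp only [Functor.map_comp, Category.assoc, hg2]
    rw [← Functor.map_comp_assoc, haO, Functor.map_comp_assoc, hg2, ← Functor.map_comp_assoc,
      ← hbO, Functor.map_comp_assoc]
  let Asub := AlgHom.equalizer α (Algebra.TensorProduct.includeRight : O →ₐ[B] C ⊗[B] O)
  let ψ : C ⊗[B] Asub →ₐ[B] O :=
    (mu γ).comp (Algebra.TensorProduct.map (AlgHom.id B C) Asub.val)
  let ψe : C ⊗[B] Asub ≃ₐ[B] O := AlgEquiv.ofBijective ψ (bijective_mu_comp γ α h1 h2 h3)
  let h : specOver sZ O ⟶ specOver sZ Asub := specMap sZ Asub.val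
  let E : specOver sZ O ≅ specOver sZ (C ⊗[B] Asub) :=
    ⟨specMap sZ ψe.toAlgHom, specMap sZ ψe.symm.toAlgHom,
      by rw [← specMap_comp, ← specMap_id]; exact congrArg _ (AlgHom.ext fun c => by simp),
      by rw [← specMap_comp, ← specMap_id]; exact congrArg _ (AlgHom.ext fun c => by simp)⟩
  have sqA : IsPullback h (specMap sZ γ) (toBase sZ Asub) (toBase sZ C) := by
    refine IsPullback.of_iso (isPullback_toBase sZ C Asub).flip E.symm (Iso.refl _) (Iso.refl _)
      (Iso.refl _) ?_ ?_ (by simp) (by simp)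
    · rw [Iso.refl_hom, Category.comp_id, Iso.symm_hom, Iso.eq_inv_comp]
      change specMap sZ ψe.toAlgHom ≫ _ = specMap sZ Asub.val
      rw [← specMap_comp]
      exact congrArg _ (AlgHom.ext fun c => by simp [ψe, ψ, mu])
    · rw [Iso.refl_hom, Category.comp_id, Iso.symm_hom, Iso.eq_inv_comp]
      change specMap sZ ψe.toAlgHom ≫ _ = specMap sZ γ
      rw [← specMap_comp]
      exact congrArg _ (AlgHom.ext fun c => by simp [ψe, ψ, mu])
  have hdesc : ∀ {T : Over S} (x y : T ⟶ specOver sZ O),
      (yon S).map x ≫ m = (yon S).map y ≫ m → x ≫ h = y ≫ h := by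
    intro T x y e
    let z := sq2.lift (y ≫ specMap sZ γ) x (by
      refine (yon S).map_injective ?_
      simp only [Category.assoc, specMap_toBase, Functor.map_comp, ← hm]
      exact (congrArg (· ≫ π) e.symm).trans (Category.assoc _ _ _) |> (Category.assoc _ _ _).symm.trans)
    have hz : z ≫ g = y := by
      refine hext _ _ ?_ (by rw [Category.assoc, hg1]; exact sq2.lift_fst _ _ _)
      rw [Functor.map_comp, Category.assoc, hg2, ← Functor.map_comp_assoc]
      exact (congrArg (fun t => (yon S).map t ≫ m) (sq2.lift_snd _ _ _)).trans e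
    have hgh : g ≫ h = prO ≫ h := by
      rw [← hα, ← specMap_comp, ← specMap_comp]
      exact congrArg _ (AlgHom.ext fun a => a.2)
    rw [← hz, Category.assoc, hgh, ← Category.assoc, sq2.lift_snd]
  exact ⟨specOver sZ Asub, toBase sZ Asub, h, inferInstanceAs (IsAffine (Spec _)), sqA, hm.symm, hdesc⟩

/-- Effective fppf descent of affine schemes, over a spectrum. -/
theorem exists_of_spec {B : CommRingCat.{u}} (sZ : Spec B ⟶ S) (C O : Type u) [CommRing C]
    [CommRing O] [Algebra B C] [Algebra B O] [Module.Flat B C] [Flat (toBase sZ C).left]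
    [Surjective (toBase sZ C).left] [LocallyOfFinitePresentation (toBase sZ C).left]
    {F : Sp S} (π : F ⟶ (yon S).obj (Over.mk sZ)) (γ : C →ₐ[B] O)
    (m : (yon S).obj (specOver sZ O) ⟶ F)
    (sq : IsPullback m ((yon S).map (specMap sZ γ)) π ((yon S).map (toBase sZ C))) :
    ∃ (A : Over S) (i : A ⟶ Over.mk sZ) (e : (yon S).obj A ⟶ F) (h : specOver sZ O ⟶ A),
      IsAffine A.left ∧ IsIso e ∧ e ≫ π = (yon S).map i ∧
        IsPullback h (specMap sZ γ) i (toBase sZ C) := by
  obtain ⟨A, i, h, hA, sqA, hm', hdesc⟩ := exists_descent_spec sZ C O π γ m sq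
  have hm : m ≫ π = (yon S).map (toBase sZ O) := hm'.symm
  have hi : h ≫ i = toBase sZ O := by rw [sqA.w, specMap_toBase]
  have hepi_m : Epi m := epi_of_isPullback (toBase sZ C) sq.flip
  have hreg : IsRegularEpi m := IsRegularEpiCategory.regularEpiOfEpi m
  obtain ⟨φ, hφ⟩ := (IsRegularEpi.getStruct m).desc' ((yon S).map h) (hom_ext_yon fun T t => by
    obtain ⟨x, hx⟩ := (yon S).map_surjective (t ≫ (IsRegularEpi.getStruct m).left)
    obtain ⟨y, hy⟩ := (yon S).map_surjective (t ≫ (IsRegularEpi.getStruct m).right)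
    rw [← Category.assoc, ← Category.assoc, ← hx, ← hy, ← Functor.map_comp, ← Functor.map_comp]
    refine congrArg _ (hdesc x y ?_)
    rw [hx, hy, Category.assoc, Category.assoc, (IsRegularEpi.getStruct m).w])
  have hφπ : φ ≫ (yon S).map i = π := by
    rw [← cancel_epi m, reassoc_of% hφ, ← Functor.map_comp, hi, hm]
  have sqA' := sqA.map (yon S)
  have sqI : IsPullback (𝟙 _) m ((yon S).map h) φ := by
    refine IsPullback.of_right (h₁₂ := (yon S).map (specMap sZ γ))
      (h₂₂ := (yon S).map i) ?_ (by rw [Category.id_comp, hφ]) sqA'.flip |>.flip |>.flip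
    rw [Category.id_comp, hφπ]
    exact sq.flip
  have : Epi ((yon S).map h) := epi_of_isPullback (toBase sZ C) sqA'.flip
  have : Epi φ := epi_of_epi_fac hφ
  have : Mono φ := mono_of_yon φ fun T x y exy => by
    obtain ⟨f0, hf0⟩ := (yon S).map_surjective (x ≫ φ)
    have sqT := (IsPullback.of_hasPullback h f0)
    have sqTV := (sqT.flip.paste_vert sqA).map (yon S)
    have : Epi ((yon S).map (pullback.snd h f0)) :=
      epi_of_isPullback (toBase sZ C) sqTV.flip
    rw [← cancel_epi ((yon S).map (pullback.snd h f0))]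
    have w := (sqT.map (yon S)).w
    have hx := w
    rw [hf0, ← Category.assoc] at hx
    have hy := hx
    rw [Category.assoc, exy, ← Category.assoc] at hy
    rw [← sqI.lift_snd _ _ hx, ← sqI.lift_snd _ _ hy]
    congr 1
    rw [← Category.comp_id (sqI.lift _ _ hx), ← Category.comp_id (sqI.lift _ _ hy),
      sqI.lift_fst, sqI.lift_fst]
  have : IsIso φ := isIso_of_mono_of_epi φ
  exact ⟨A, i, inv φ, h, hA, inferInstance, by rw [← hφπ, IsIso.inv_hom_id_assoc], sqA⟩

end Main

end AffineDescent

open AlgSp AffineDescent in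
/-- A sheaf which becomes an affine scheme over a flat surjective finitely presented cover of an affine
test scheme is an affine scheme over it. -/
theorem exists_affine_of_cover {S : Scheme.{u}} {F G : Sp S} (f : F ⟶ G) {Z V W : Over S}
    (g : (yon S).obj Z ⟶ G) (v : V ⟶ Z) [IsAffine Z.left] [IsAffine V.left] [IsAffine W.left]
    [Flat v.left] [Surjective v.left] [LocallyOfFinitePresentation v.left] (p : W ⟶ V)
    (m : (yon S).obj W ⟶ F) (sq : IsPullback m ((yon S).map p) f ((yon S).map v ≫ g)) :
    ∃ (A : Over S) (i : A ⟶ Z) (fst : (yon S).obj A ⟶ F) (h : W ⟶ A),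
      IsAffine A.left ∧ IsPullback fst ((yon S).map i) f g ∧ IsPullback h p i v := by
  have sqP := IsPullback.of_hasPullback f g
  let m' : (yon S).obj W ⟶ pullback f g := sqP.lift m ((yon S).map p ≫ (yon S).map v)
    (by rw [Category.assoc]; exact sq.w)
  have sq' : IsPullback m' ((yon S).map p) (pullback.snd f g) ((yon S).map v) :=
    IsPullback.of_right (by rw [sqP.lift_fst]; exact sq) (sqP.lift_snd _ _ _) sqP
  let B := Γ(Z.left, ⊤)
  let sZ : Spec B ⟶ S := Z.left.isoSpec.inv ≫ Z.hom
  letI algC : Algebra B Γ(V.left, ⊤) := v.left.appTop.hom.toAlgebra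
  letI algO : Algebra B Γ(W.left, ⊤) := (p ≫ v).left.appTop.hom.toAlgebra
  let γ : Γ(V.left, ⊤) →ₐ[B] Γ(W.left, ⊤) :=
    { toRingHom := p.left.appTop.hom, commutes' := fun _ => rfl }
  let eZ : Z ≅ Over.mk sZ := Over.isoMk Z.left.isoSpec
    (by simp [sZ])
  have hV : V.left.isoSpec.hom ≫ Spec.map v.left.appTop = v.left ≫ Z.left.isoSpec.hom :=
    Scheme.isoSpec_hom_naturality _
  have hW : W.left.isoSpec.hom ≫ Spec.map (p ≫ v).left.appTop = (p ≫ v).left ≫ Z.left.isoSpec.hom :=
    Scheme.isoSpec_hom_naturality _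
  let eV : V ≅ specOver sZ Γ(V.left, ⊤) := Over.isoMk V.left.isoSpec (by
    change V.left.isoSpec.hom ≫ Spec.map v.left.appTop ≫ Z.left.isoSpec.inv ≫ Z.hom = V.hom
    rw [reassoc_of% hV, Iso.hom_inv_id_assoc, Over.w v])
  let eW : W ≅ specOver sZ Γ(W.left, ⊤) := Over.isoMk W.left.isoSpec (by
    change W.left.isoSpec.hom ≫ Spec.map (p ≫ v).left.appTop ≫ Z.left.isoSpec.inv ≫ Z.hom = W.hom
    rw [reassoc_of% hW, Iso.hom_inv_id_assoc, Over.w (p ≫ v)])
  have hv : eV.hom ≫ toBase sZ Γ(V.left, ⊤) = v ≫ eZ.hom := Over.OverMorphism.ext hV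
  have hp : eW.hom ≫ specMap sZ γ = p ≫ eV.hom :=
    Over.OverMorphism.ext (Scheme.isoSpec_hom_naturality p.left)
  have hflat : Module.Flat B Γ(V.left, ⊤) :=
    (HasRingHomProperty.iff_of_isAffine (P := @Flat) (f := v.left)).1 ‹_›
  have e := arrowIsoSpecΓOfIsAffine v.left
  have : Flat (toBase sZ Γ(V.left, ⊤)).left :=
    (MorphismProperty.arrow_mk_iso_iff @Flat e).1 ‹_›
  have : Surjective (toBase sZ Γ(V.left, ⊤)).left :=
    (MorphismProperty.arrow_mk_iso_iff @Surjective e).1 ‹_›
  have : LocallyOfFinitePresentation (toBase sZ Γ(V.left, ⊤)).left :=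
    (MorphismProperty.arrow_mk_iso_iff @LocallyOfFinitePresentation e).1 ‹_›
  have sq'' : IsPullback ((yon S).map eW.inv ≫ m') ((yon S).map (specMap sZ γ))
      (pullback.snd f g ≫ (yon S).map eZ.hom) ((yon S).map (toBase sZ Γ(V.left, ⊤))) := by
    refine IsPullback.of_iso sq' ((yon S).mapIso eW) (Iso.refl _) ((yon S).mapIso eV)
      ((yon S).mapIso eZ) ?_ ?_ ?_ ?_
    · simp only [Iso.refl_hom, Category.comp_id, Functor.mapIso_hom]
      rw [← Functor.map_comp_assoc, Iso.hom_inv_id]; erw [(yon S).map_id]; rw [Category.id_comp]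
    · simp only [Functor.mapIso_hom, ← Functor.map_comp, hp]
    · simp
    · simp only [Functor.mapIso_hom, ← Functor.map_comp, hv]
  obtain ⟨A, i, φ, h, hA, hφ, hi, sqh⟩ := exists_of_spec sZ Γ(V.left, ⊤) Γ(W.left, ⊤) _ γ _ sq''
  refine ⟨A, i ≫ eZ.inv, φ ≫ pullback.fst f g, eW.hom ≫ h, hA, ?_, ?_⟩
  · have hi' : φ ≫ pullback.snd f g = (yon S).map (i ≫ eZ.inv) := by
      rw [Functor.map_comp, ← hi, Category.assoc, Category.assoc, ← Functor.map_comp,
        Iso.hom_inv_id]
      erw [(yon S).map_id]
      rw [Category.comp_id]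
    exact IsPullback.of_iso sqP (asIso φ).symm (Iso.refl _) (Iso.refl _) (Iso.refl _) (by simp)
      (by simp [← hi']) (by simp) (by simp)
  · exact IsPullback.of_iso sqh eW.symm (Iso.refl A) eV.symm eZ.symm
      (by simp)
      (by rw [Iso.symm_hom, Iso.symm_hom, Iso.eq_inv_comp, ← Category.assoc, hp, Category.assoc,
        Iso.hom_inv_id, Category.comp_id])
      (by simp)
      (by rw [Iso.symm_hom, Iso.symm_hom, Iso.eq_inv_comp, ← Category.assoc, hv, Category.assoc,
        Iso.hom_inv_id, Category.comp_id])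

end Groth.Agent.AlgSpace
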