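import Groth.Agent.Lib.AlgSpace.SliceQuot
import Groth.Agent.Lib.AlgSpace.Glue
import Groth.Agent.Lib.FpqcDesc.Basic
import Groth.Prelude.Def_QuotSh

/-!
# Scheme quotients by finite locally free equivalence relations
-/

universe u

set_option backward.isDefEq.respectTransparency.types false
set_option linter.unusedVariables false

open CategoryTheory CategoryTheory.Limits AlgebraicGeometry Opposite

namespace Groth.Agent.AlgSpace

open AlgSp AlgSpDecent

variable {S : Scheme.{u}}

/-- The quotient by a finite locally free equivalence relation whose classes lie in affine opens is a scheme. -/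
theorem exists_scheme_quotient {R U : Over S} {s t : R ⟶ U} (h : IsEqvRel s t) [IsFinite s.left]
    [Flat s.left] [LocallyOfFinitePresentation s.left] [IsFinite t.left]
    (h3 : ∀ Z : Set ↥U.left, IsClosed Z → Z.Nonempty →
      ∃ u ∈ Z, ∃ W : U.left.Opens, IsAffineOpen W ∧ ∀ r, s.left r = u → t.left r ∈ W) :
    ∃ (M : Over S) (m : U ⟶ M), IsFinite m.left ∧ Flat m.left ∧ LocallyOfFinitePresentation m.left ∧
      Surjective m.left ∧
      IsPullback t.left s.left m.left m.left ∧ QuotSh.IsQuotient Scheme.fppfPrecoverage s t m := by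
  obtain ⟨w, ⟨hc⟩⟩ := nonempty_isColimit_quot s t
  let p := (QuotSh.repIsoUliftYoneda Scheme.fppfPrecoverage U).inv ≫
    QuotSh.quotπ Scheme.fppfPrecoverage s t
  have : Sheaf.IsLocallySurjective p := isLocallySurjective_quotπ s t
  have sq : IsPullback ((yon S).map t) ((yon S).map s) p p := isPullback_of_isEqvRel h w hc
  obtain ⟨hF, hfl, hfp, hs⟩ := isAlgSpace_of_flat_kernelPair sq
  have := FpqcDesc.descendsAlong_isFinite.{u}
  have := isLocalAtTarget_fppf (@IsFinite : MorphismProperty Scheme.{u})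
  have hfin : RepWith @IsFinite p :=
    repWith_of_locallySurjective hfl.1 sq _ ((repWith_yon_map_iff _ _).2 ‹IsFinite s.left›)
  have hq := repWith_inf (repWith_inf hfin hfl) hfp
  have he := schEqv_of_isEqvRel h
  let κ := {V : U.left.Opens // IsAffineOpen V ∧ s.left ⁻¹ᵁ V = t.left ⁻¹ᵁ V}
  have hcov : ∀ u : ↥U.left, ∃ V : κ, u ∈ V.1 := by
    by_contra hne
    simp only [not_forall, not_exists] at hne
    obtain ⟨u₀, hu₀⟩ := hne
    let Z : Set ↥U.left := (⋃ V : κ, (V.1 : Set ↥U.left))ᶜ
    have hZ : IsClosed Z := (isOpen_iUnion fun V : κ => V.1.2).isClosed_compl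
    obtain ⟨u, hu, W, hW, hcl⟩ := h3 Z hZ ⟨u₀, by
      simp only [Z, Set.mem_compl_iff, Set.mem_iUnion, not_exists]; exact hu₀⟩
    obtain ⟨V, hV, huV, hinv⟩ := he.exists_invariant_affine u hW (by
      rintro _ ⟨r, hr, rfl⟩; exact hcl r hr)
    exact hu (Set.mem_iUnion.2 ⟨⟨V, hV, hinv⟩, huV⟩)
  choose Q Z₁ ι π₁ b hι hιV hπfl hπfp hπs hb hbπ using
    fun V : κ => exists_open_quotient hq sq V.1 V.2.1 V.2.2
  have hpts : ∀ x : Points (QuotSh.quot Scheme.fppfPrecoverage s t),
      ∃ V y, Points.ofPt (b V) y = x := by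
    intro x
    obtain ⟨u, rfl⟩ := surjective_ofPt hs x
    obtain ⟨V, hV⟩ := hcov u
    obtain ⟨z, hz⟩ : u ∈ Set.range (ι V).left := hιV V ▸ hV
    exact ⟨V, (π₁ V).left z, by rw [← ofPt_map_comp, hbπ, ofPt_map_comp, hz]⟩
  obtain ⟨M, ⟨e⟩⟩ := exists_iso_yon_of_openCover (U := Q) (w := b) hb fun T g x => by
    obtain ⟨V, y, hy⟩ := hpts (Points.ofPt g x)
    obtain ⟨v, -, hv⟩ := exists_pt_of_isPullback ((hb V).1.isPullback g)
      (x := Points.ofScheme (Q V) y) (t := x) (by
        rw [← Points.ofPt_eq_map_ofScheme]; exact hy)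
    exact ⟨V, v, hv⟩
  obtain ⟨m, hm⟩ := (yon S).map_surjective (p ≫ e.inv)
  have hpe : (yon S).map m ≫ e.hom = p := by rw [hm, Category.assoc, Iso.inv_hom_id, Category.comp_id]
  have hq' : RepWith ((@IsFinite : MorphismProperty Scheme.{u}) ⊓ @Flat ⊓ @LocallyOfFinitePresentation)
      ((yon S).map m) := by
    rw [hm]; exact (repWith_respectsIso_right e.inv).2 hq
  obtain ⟨⟨hm₁, hm₂⟩, hm₃⟩ : (IsFinite m.left ∧ Flat m.left) ∧ LocallyOfFinitePresentation m.left :=
    (repWith_yon_map_iff _ _).1 hq'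
  have sqm : IsPullback t.left s.left m.left m.left := by
    have sq₁ : IsPullback ((yon S).map t) ((yon S).map s) ((yon S).map m) ((yon S).map m) := by
      rw [hm]
      exact IsPullback.of_iso sq (Iso.refl _) (Iso.refl _) (Iso.refl _) e.symm (by simp) (by simp)
        (by simp) (by simp)
    exact (IsPullback.of_map_of_faithful (yon S) sq₁).map (Over.forget S)
  have hw : s ≫ m = t ≫ m := Over.OverMorphism.ext sqm.w.symm
  have hm₄ : Surjective m.left := by
    refine (repWith_yon_map_iff (P := @Surjective) _).1 ?_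
    rw [hm]; exact (repWith_respectsIso_right e.inv).2 hs
  refine ⟨M, m, hm₁, hm₂, hm₃, hm₄, sqm, hw, ?_⟩
  have key : QuotSh.quotDesc Scheme.fppfPrecoverage m hw =
      e.inv ≫ (QuotSh.repIsoUliftYoneda Scheme.fppfPrecoverage M).inv := by
    refine coequalizer.hom_ext ?_
    change coequalizer.π _ _ ≫ coequalizer.desc _ _ = _
    rw [coequalizer.π_desc, ← cancel_epi (QuotSh.repIsoUliftYoneda Scheme.fppfPrecoverage U).inv,
      ← repIso_naturality, hm]
    simp only [p, Category.assoc]
    rfl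
  rw [key]
  infer_instance

end Groth.Agent.AlgSpace
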