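import Groth.Agent.Lib.AlgSpace.Sub
import Groth.Agent.Lib.AlgSpace.Glue
import Groth.Agent.Lib.AlgSpace.Points

/-!
# Spaces covered by open subschemes, and the schematic locus
-/

universe u

set_option backward.isDefEq.respectTransparency.types false
set_option linter.unusedVariables false

open CategoryTheory CategoryTheory.Limits AlgebraicGeometry Opposite

namespace Groth.Agent.AlgSpace

open AlgSp Groth.Agent.AlgSpDecent

variable {S : Scheme.{u}}

/-- A sheaf whose points are covered by open subschemes is a scheme. -/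
theorem exists_iso_yon_of_points_cover {F : Sp S} {κ : Type u} {U : κ → Over S}
    {w : ∀ k, (yon S).obj (U k) ⟶ F} (hw : ∀ k, RepWith @IsOpenImmersion (w k))
    (hcov : ∀ x : Points F, ∃ k, x ∈ Set.range (Points.map (w k))) :
    ∃ G : Over S, Nonempty ((yon S).obj G ≅ F) :=
  exists_iso_yon_of_openCover hw fun T g t => by
    obtain ⟨k, y, hy⟩ := hcov (Points.ofPt g t)
    obtain ⟨v, -, hv⟩ := exists_pt_of_isPullback ((hw k).1.isPullback g) hy
    exact ⟨k, v, hv⟩

/-- A subsheaf isomorphic to a scheme is representable. -/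
theorem isRepresentable_of_iso_yon {F : Sp S} {G : Over S} (e : (yon S).obj G ≅ F) :
    F.obj.IsRepresentable :=
  Functor.RepresentableBy.isRepresentable (F := F.obj) (Y := G)
    (let e' := (sheafToPresheaf (AlgSp.J S) (Type (u + 1))).mapIso e
    { homEquiv := fun {T} => Equiv.ulift.{u + 1}.symm.trans (e'.app (op T)).toEquiv
      homEquiv_comp := fun f g => NatTrans.naturality_apply e'.hom f.op ⟨g⟩ })

/-- The largest open subspace which is a scheme. -/
theorem exists_schematic_locus {F : Sp S} (hF : IsAlgSpace F) :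
    ∃ (W : Set (Points F)) (G : Over S), IsOpen W ∧ Nonempty ((yon S).obj G ≅ openSub W) ∧
      ∀ (U : Over S) (w : (yon S).obj U ⟶ F), RepWith @IsOpenImmersion w →
        Set.range (Points.map w) ⊆ W := by
  obtain ⟨A, p, hpe, hps⟩ := hF.atlas
  let κ : Type u := {O : Set ↥A.left // ∃ (U : Over S) (w : (yon S).obj U ⟶ F),
    RepWith @IsOpenImmersion w ∧ Points.ofPt p ⁻¹' Set.range (Points.map w) = O}
  choose U w hw hO using fun k : κ => k.2
  let W : Set (Points F) := ⋃ k, Set.range (Points.map (w k))
  have hopen : ∀ {U : Over S} {w : (yon S).obj U ⟶ F}, RepWith @IsOpenImmersion w →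
      IsOpen (Set.range (Points.map w)) := fun {U w} h => by
    refine Points.isOpen_iff.2 fun T g => ?_
    have sq := h.1.isPullback g
    have : IsOpenImmersion (h.1.snd g).left := h.2 g _ _ sq
    have e : Points.ofPt g ⁻¹' Set.range (Points.map w) = Set.range (h.1.snd g).left := by
      ext t
      constructor
      · rintro ⟨y, hy⟩
        obtain ⟨v, -, hv⟩ := exists_pt_of_isPullback sq hy
        exact ⟨v, hv⟩
      · rintro ⟨v, rfl⟩
        exact ⟨Points.ofPt (h.1.fst g) v, ofPt_sq sq.w v⟩
    rw [e]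
    exact (h.1.snd g).left.isOpenEmbedding.isOpen_range
  have hW : IsOpen W := isOpen_iUnion fun k => hopen (hw k)
  choose l hl using fun k => exists_factor_openSub (W := W) (w k)
    fun x hx => Set.mem_iUnion.2 ⟨k, hx⟩
  have hlw : ∀ k, RepWith @IsOpenImmersion (l k) := fun k => by
    have sq : IsPullback (𝟙 ((yon S).obj (U k))) (l k) (w k) (openSubι W) :=
      IsPullback.of_horiz_isIso_mono ⟨(Category.id_comp _).trans (hl k).symm⟩
    exact repWith_of_isPullback sq (hw k)
  obtain ⟨G, ⟨e⟩⟩ := exists_iso_yon_of_points_cover hlw fun x => by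
    have hx : Points.map (openSubι W) x ∈ W := (range_openSubι W).le ⟨x, rfl⟩
    obtain ⟨k, y, hy⟩ := Set.mem_iUnion.1 hx
    refine ⟨k, y, (isEmbedding_map_of_immersion hF (repWith_mono
      (fun A B g (hg : IsOpenImmersion g) => (inferInstance : IsImmersion g))
      (repWith_openSubι hW))).1.injective ?_⟩
    rw [← Points.map_comp, hl k, hy]
  refine ⟨W, G, hW, ⟨e⟩, fun U' w' hw' x hx => ?_⟩
  let k : κ := ⟨_, U', w', hw', rfl⟩
  obtain ⟨u, rfl⟩ := surjective_ofPt hps x
  have hu : u ∈ Points.ofPt p ⁻¹' Set.range (Points.map w') := hx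
  have : u ∈ Points.ofPt p ⁻¹' Set.range (Points.map (w k)) := by rw [hO k]; exact hu
  exact Set.mem_iUnion.2 ⟨k, this⟩

end Groth.Agent.AlgSpace
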