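import Groth.Agent.Lib.AlgSpace.Space
import Mathlib.CategoryTheory.Sites.RegularEpi

/-!
# The equivalence relation of an atlas
-/

universe u

set_option backward.isDefEq.respectTransparency.types false

open CategoryTheory CategoryTheory.Limits AlgebraicGeometry Opposite

namespace Groth.Agent.AlgSpace

open AlgSp

variable {S : Scheme.{u}} {F : Sp S} {R U : Over S} {p : (yon S).obj U ⟶ F} {s t : R ⟶ U}

theorem isEqvRel_of_isPullback (sq : IsPullback ((yon S).map t) ((yon S).map s) p p) :
    IsEqvRel s t where
  injective T r r' ht hs := (yon S).map_injective (sq.hom_ext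
    (by rw [← Functor.map_comp, ← Functor.map_comp, ht])
    (by rw [← Functor.map_comp, ← Functor.map_comp, hs]))
  equivalence T := by
    have key : ∀ a b : T ⟶ U, (∃ r : T ⟶ R, r ≫ t = a ∧ r ≫ s = b) ↔
        (yon S).map a ≫ p = (yon S).map b ≫ p := by
      intro a b
      constructor
      · rintro ⟨r, rfl, rfl⟩
        simp only [Functor.map_comp, Category.assoc, sq.w]
      · intro h
        obtain ⟨r, hr⟩ := (yon S).map_surjective (sq.lift _ _ h)
        exact ⟨r, (yon S).map_injective (by rw [Functor.map_comp, hr, sq.lift_fst]),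
          (yon S).map_injective (by rw [Functor.map_comp, hr, sq.lift_snd])⟩
    exact ⟨fun a => (key a a).2 rfl, fun h => (key _ _).2 ((key _ _).1 h).symm,
      fun h h' => (key _ _).2 (((key _ _).1 h).trans ((key _ _).1 h'))⟩

theorem isEtaleEqvRel_of_isPullback (he : RepWith @Etale p)
    (sq : IsPullback ((yon S).map t) ((yon S).map s) p p) : IsEtaleEqvRel s t where
  toIsEqvRel := isEqvRel_of_isPullback sq
  etale_left := (repWith_yon_map_iff _ _).1 (repWith_of_isPullback sq he)
  etale_right := (repWith_yon_map_iff _ _).1 (repWith_of_isPullback sq.flip he)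

theorem isPresentation_of_isPullback (he : RepWith @Etale p) (hs : RepWith @Surjective p)
    (sq : IsPullback ((yon S).map t) ((yon S).map s) p p) : IsPresentation s t p :=
  ⟨isEtaleEqvRel_of_isPullback he sq, he, hs, sq⟩

/-- A kernel pair of an epimorphism of sheaves is a coequalizer diagram. -/
theorem nonempty_isColimit_cofork {A B P : Sp S} (q : A ⟶ B) [Epi q] {a b : P ⟶ A}
    (sq : IsPullback a b q q) : Nonempty (IsColimit (Cofork.ofπ q sq.w)) := by
  have : IsRegularEpi q := IsRegularEpiCategory.regularEpiOfEpi q
  let e := IsRegularEpi.getStruct q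
  have h : ∀ c : Cofork a b, e.left ≫ c.π = e.right ≫ c.π := fun c => by
    rw [← sq.lift_fst _ _ e.w, Category.assoc, c.condition, ← Category.assoc, sq.lift_snd]
  exact ⟨Cofork.IsColimit.mk _ (fun c => (e.desc' c.π (h c)).1) (fun c => (e.desc' c.π (h c)).2)
    fun c m hm => by
      rw [← cancel_epi q]
      exact hm.trans ((e.desc' c.π (h c)).2).symm⟩

end Groth.Agent.AlgSpace
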