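import Groth.Agent.Lib.AlgSpace.UI

/-!
# Universally open morphisms; unramified implies quasi-finite
-/

universe u

set_option linter.unusedVariables false

open CategoryTheory CategoryTheory.Limits AlgebraicGeometry Opposite Topology

namespace Groth.Agent.AlgSpace

open AlgSp Groth.Agent.AlgSpDecent

variable {S : Scheme.{u}}

lemma isUnivOpenMor_comp {X Y Z : Sp S} (hY : IsAlgSpace Y) (hZ : IsAlgSpace Z) {f : X ⟶ Y}
    {g : Y ⟶ Z} (hf : IsUnivOpenMor f) (hg : IsUnivOpenMor g) : IsUnivOpenMor (f ≫ g) := by
  intro W W' hW t fst snd sq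
  have sqY := IsPullback.of_hasPullback g t
  let m := sqY.lift (fst ≫ f) snd (by rw [Category.assoc]; exact sq.w)
  have sq' : IsPullback fst m f (pullback.fst g t) :=
    IsPullback.of_bot (by simpa [m] using sq) (by simp [m]) sqY
  have e : snd = m ≫ pullback.snd g t := by simp [m]
  rw [e]
  change IsOpenMap (Points.map (m ≫ pullback.snd g t))
  rw [map_comp_eq]
  exact IsOpenMap.comp (hg hW t _ _ sqY) (hf (isAlgSpace_baseChange hY hZ hW sqY) _ _ _ sq')

/-- Universal openness is tested on a surjective chart of the source. -/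
lemma isUnivOpenMor_of_surjective_source {W X Y : Sp S} {a : W ⟶ X} {f : X ⟶ Y}
    (ha : Function.Surjective (Points.map a)) (h : IsUnivOpenMor (a ≫ f)) : IsUnivOpenMor f := by
  intro Z Z' hZ t fst snd sq O hO
  have sq' := IsPullback.of_hasPullback a fst
  have h' : IsOpenMap (Points.map (pullback.snd a fst ≫ snd)) :=
    h hZ t (pullback.fst a fst) _ (sq'.paste_vert sq)
  have : Points.map snd '' O =
      Points.map (pullback.snd a fst ≫ snd) '' (Points.map (pullback.snd a fst) ⁻¹' O) := by
    rw [map_comp_eq, Set.image_comp, Set.image_preimage_eq _ (surjective_of_isPullback sq' ha)]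
  rw [this]
  exact h' _ (hO.preimage (Points.continuous_map _))

/-- Flat morphisms locally of finite presentation are universally open. -/
theorem isUnivOpenMor_of_flat_lfp {X Y : Sp S} (hX : IsAlgSpace X) (hY : IsAlgSpace Y) {f : X ⟶ Y}
    (hfl : LocP @Flat f) (hfp : LocP @LocallyOfFinitePresentation f) : IsUnivOpenMor f := by
  obtain ⟨U, V, a, b, h, hae, has, hbe, hbs, w⟩ := exists_chart_square hX hY f
  refine isUnivOpenMor_of_surjective_source (surjective_map_of_repWith has) ?_
  have : Flat h.left := hfl a b h hae hbe w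
  have : LocallyOfFinitePresentation h.left := hfp a b h hae hbe w
  rw [w]
  exact isUnivOpenMor_comp (IsAlgSpace.yon_obj V) hY
    ((repWith_universallyOpen_iff (representable_yon_map h)).1
      ((repWith_yon_map_iff _ _).2 inferInstance))
    ((repWith_universallyOpen_iff hbe.1).1
      (repWith_mono (fun _ _ g (_ : Etale g) => (inferInstance : UniversallyOpen g)) hbe))

/-- Morphisms to the spectrum of a field are universally open. -/
theorem isUnivOpenMor_to_field {X : Sp S} (hX : IsAlgSpace X) {k : Type u} [Field k]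
    (str : Spec (CommRingCat.of k) ⟶ S) (f : X ⟶ (yon S).obj (Over.mk str)) : IsUnivOpenMor f := by
  obtain ⟨U, a, hae, has⟩ := hX.atlas
  refine isUnivOpenMor_of_surjective_source (surjective_map_of_repWith has) ?_
  obtain ⟨φ, hφ⟩ := (yon S).map_surjective (a ≫ f)
  rw [← hφ]
  have : Subsingleton ↥(Over.mk str).left := inferInstanceAs (Subsingleton (PrimeSpectrum k))
  have : IsIntegral (Over.mk str).left := inferInstanceAs (IsIntegral (Spec (CommRingCat.of k)))
  exact (repWith_universallyOpen_iff (representable_yon_map φ)).1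
    ((repWith_yon_map_iff _ _).2 inferInstance)

/-- Flat quasi-compact surjective morphisms are universally submersive. -/
theorem isUnivSubmersiveMor_of_flat_qc_surjective {X Y : Sp S} (hX : IsAlgSpace X) (hY : IsAlgSpace Y)
    {f : X ⟶ Y} (hfl : LocP @Flat f) (hqc : IsQuasiCompactMor f) (hs : IsSurjectiveMor f) :
    IsUnivSubmersiveMor f := by
  refine univSp_of_affine ptsLocal_isSubmersiveMor fun Z hZ g P fst snd sq => ?_
  have hZs := IsAlgSpace.yon_obj Z
  have hP := isAlgSpace_baseChange hX hY hZs sq
  have := compactSpace_yon_of_affine Z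
  have hc := (isQuasiCompactSp_iff hP).2 (compactSpace_of_isQuasiCompactMor hX hY hqc hZs sq)
  obtain ⟨U, r, hU, hre, hrs⟩ := exists_affine_chart hc
  obtain ⟨φ, hφ⟩ := (yon S).map_surjective (r ≫ snd)
  have : Flat φ.left := locP_of_isPullback hX hY hZs sq hfl r (𝟙 _) φ hre (repWith_id _ Z) (by rw [hφ, Category.comp_id])
  have hsurj : Function.Surjective (Points.map ((yon S).map φ)) := by
    rw [hφ, map_comp_eq]
    exact (surjective_of_isPullback sq hs).comp (surjective_map_of_repWith hrs)
  have : Surjective φ.left := ⟨fun z => by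
    obtain ⟨x, hx⟩ := hsurj (Points.schemeHomeo Z z)
    obtain ⟨u, rfl⟩ := (Points.schemeHomeo U).surjective x
    rw [Points.map_yon_map_apply] at hx
    exact ⟨u, (Points.schemeHomeo Z).injective hx⟩⟩
  have hq : IsQuotientMap (Points.map (r ≫ snd)) := by
    rw [← hφ]
    exact (isSubmersiveMor_yon_iff φ).2 (Flat.isQuotientMap_of_surjective φ.left)
  rw [map_comp_eq] at hq
  exact IsQuotientMap.of_comp (Points.continuous_map r) (Points.continuous_map snd) hq

/-- Unramified morphisms of schemes are locally quasi-finite. -/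
theorem locallyQuasiFinite_of_unramified {X Y : Scheme.{u}} (f : X ⟶ Y) [LocallyOfFiniteType f]
    [FormallyUnramified f] : LocallyQuasiFinite f := by
  rw [HasRingHomProperty.iff_appLE (P := @LocallyQuasiFinite)]
  intro U V e
  have h₁ := HasRingHomProperty.appLE (P := @LocallyOfFiniteType) f inferInstance U V e
  have h₂ := HasRingHomProperty.appLE (P := @FormallyUnramified) f inferInstance U V e
  algebraize [(f.appLE U V e).hom]
  exact RingHom.quasiFinite_algebraMap.2
    ⟨fun p _ => Algebra.FormallyUnramified.finite_of_free p.ResidueField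
      (TensorProduct Γ(Y, U.1) p.ResidueField Γ(X, V.1))⟩

end Groth.Agent.AlgSpace
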