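import Groth.Agent.Lib.AlgSpace.MorDiag
import Groth.Agent.Lib.SchBasic.Basic
import Mathlib.AlgebraicGeometry.Morphisms.FlatMono

/-!
# The diagonal of a morphism on a chart
-/

universe u

set_option linter.unusedVariables false

open CategoryTheory CategoryTheory.Limits AlgebraicGeometry Opposite MorphismProperty

namespace Groth.Agent.AlgSpace

section General

variable {C : Type*} [Category C] [HasPullbacks C]

attribute [local simp] pullback.lift_fst pullback.lift_snd limit.lift_π pullback.lift_fst_assoc
  pullback.lift_snd_assoc limit.lift_π_assoc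

/-- The diagonal pulled back to a chart is the self fibre product of the chart. -/
lemma isPullback_diagonal_chart {X Y U R : C} (f : X ⟶ Y) (a : U ⟶ X) {r₁ r₂ : R ⟶ U}
    (sq : IsPullback r₁ r₂ a a) :
    IsPullback (r₁ ≫ a) (pullback.lift r₁ r₂ (by rw [← Category.assoc, sq.w, Category.assoc]))
      (pullback.diagonal f)
      (pullback.map (a ≫ f) (a ≫ f) f f a a (𝟙 Y) (Category.comp_id _) (Category.comp_id _)) := by
  have key : ∀ s : PullbackCone (pullback.diagonal f)
      (pullback.map (a ≫ f) (a ≫ f) f f a a (𝟙 Y) (Category.comp_id _) (Category.comp_id _)),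
      s.snd ≫ pullback.fst _ _ ≫ a = s.fst ∧ s.snd ≫ pullback.snd _ _ ≫ a = s.fst := by
    intro s
    have h1 := s.condition =≫ pullback.fst f f
    have h2 := s.condition =≫ pullback.snd f f
    simp only [Category.assoc, pullback.diagonal_fst, pullback.diagonal_snd, Category.comp_id,
      pullback.lift_fst, pullback.lift_snd] at h1 h2
    exact ⟨h1.symm, h2.symm⟩
  refine IsPullback.of_isLimit (PullbackCone.IsLimit.mk ?_ (fun s => sq.lift
    (s.snd ≫ pullback.fst _ _) (s.snd ≫ pullback.snd _ _)
    (by rw [Category.assoc, Category.assoc, (key s).1, (key s).2]))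
    (fun s => by rw [← Category.assoc, sq.lift_fst, Category.assoc, (key s).1])
    (fun s => ?_) fun s m hm₁ hm₂ => ?_)
  · apply pullback.hom_ext <;> simp [sq.w]
  · apply pullback.hom_ext <;> simp
  · apply sq.hom_ext <;> simp [← hm₂]

end General

open AlgSp

variable {S : Scheme.{u}}

/-- A property of the diagonal of a morphism read on a chart of the source: with `R = U ×_X U` and
`T = U ×_Y U` the map `R ⟶ T` is tested. -/
theorem repWith_diagonal_of_chart {P : MorphismProperty Scheme.{u}} [P.IsStableUnderBaseChange]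
    [P.IsLocalAtTarget Scheme.fppfPrecoverage] {X Y : Sp S} (hX : IsAlgSpace X) (hY : IsAlgSpace Y)
    (f : X ⟶ Y) {U : Over S} {a : (yon S).obj U ⟶ X} (ha : RepWith @Etale a)
    (has : RepWith @Surjective a)
    (h : ∀ (R T : Over S) (δ : R ⟶ T) (p : T ⟶ U) (p' : (yon S).obj T ⟶ (yon S).obj U),
      IsPullback ((yon S).map p) p' (a ≫ f) (a ≫ f) →
      Etale (δ ≫ p).left → Mono δ.left → P δ.left) :
    RepWith P (pullback.diagonal f) := by
  have hR := ha.1.isPullback' a
  have hr := hY.representable_from_yon (a ≫ f)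
  have sqT : IsPullback ((yon S).map (hr.fst' (a ≫ f))) ((yon S).map (hr.snd (a ≫ f))) (a ≫ f) (a ≫ f) :=
    hr.isPullback' (a ≫ f)
  let e := sqT.isoPullback
  let m : pullback (a ≫ f) (a ≫ f) ⟶ pullback f f :=
    pullback.map (a ≫ f) (a ≫ f) f f a a (𝟙 Y) (Category.comp_id _) (Category.comp_id _)
  have hme : RepWith @Etale m := MorphismProperty.pullbackMap (P := RepWith @Etale) ha ha rfl rfl
  have hms : RepWith @Surjective m :=
    MorphismProperty.pullbackMap (P := RepWith @Surjective) has has rfl rfl
  have := isLocallySurjective_of_etale ((repWith_respectsIso_left e.hom).2 hme)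
    ((repWith_respectsIso_left e.hom).2 hms)
  let δ : ha.1.pullback a ⟶ hr.pullback (a ≫ f) := hr.lift' (ha.1.fst' a) (ha.1.snd a)
    (by rw [← Category.assoc, hR.w, Category.assoc])
  have sq : IsPullback ((yon S).map (ha.1.fst' a) ≫ a) ((yon S).map δ) (pullback.diagonal f)
      (e.hom ≫ m) := by
    refine IsPullback.of_iso (isPullback_diagonal_chart f a hR) (Iso.refl _) (Iso.refl _) e.symm
      (Iso.refl _) (by simp) ?_ (by simp) ?_
    · rw [Iso.refl_hom, Category.id_comp, ← cancel_mono e.hom, Category.assoc, Iso.symm_hom,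
        e.inv_hom_id, Category.comp_id]
      apply pullback.hom_ext
      · rw [pullback.lift_fst, Category.assoc, sqT.isoPullback_hom_fst, ← Functor.map_comp, hr.lift'_fst]
      · rw [pullback.lift_snd, Category.assoc, sqT.isoPullback_hom_snd, ← Functor.map_comp, hr.lift'_snd]
    · simp [m]
  refine repWith_of_locallySurjective (representable_diagonal hX f) sq P
    ((repWith_yon_map_iff P δ).2 (h _ _ δ _ _ sqT ?_ ?_))
  · rw [hr.lift'_fst]
    exact ha.2 a ((yon S).map (ha.1.snd a)) _ hR.flip
  · exact (repWith_diagonal_mono hX f).2 _ _ _ sq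

theorem repWith_diagonal_lfp_of_lft {X Y : Sp S} (hX : IsAlgSpace X) (hY : IsAlgSpace Y)
    {f : X ⟶ Y} (hf : LocP @LocallyOfFiniteType f) :
    RepWith @LocallyOfFinitePresentation (pullback.diagonal f) := by
  obtain ⟨U, V, a, b, h, hae, has, hbe, hbs, w⟩ := exists_chart_square hX hY f
  have := isLocalAtTarget_fppf (@LocallyOfFinitePresentation : MorphismProperty Scheme.{u})
  have hh : LocallyOfFiniteType h.left := hf a b h hae hbe w
  have hc : RepWith @LocallyOfFiniteType (a ≫ f) := by
    rw [w]
    exact repWith_comp ((repWith_yon_map_iff _ _).2 hh)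
      (repWith_mono AlgSpDescent.etale_le_lft hbe)
  refine repWith_diagonal_of_chart hX hY f hae has fun R T δ p p' sq he hm => ?_
  have : LocallyOfFiniteType p.left := hc.2 (a ≫ f) p' p sq.flip
  rw [Over.comp_left] at he
  have : LocallyOfFinitePresentation (δ.left ≫ p.left) := inferInstance
  exact SchBasic.locallyOfFinitePresentation_of_comp δ.left p.left

theorem repWith_diagonal_isOpenImmersion_of_unramified {X Y : Sp S} (hX : IsAlgSpace X)
    (hY : IsAlgSpace Y) {f : X ⟶ Y}
    (hf : LocP (@LocallyOfFiniteType ⊓ @FormallyUnramified) f) :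
    RepWith @IsOpenImmersion (pullback.diagonal f) := by
  obtain ⟨U, V, a, b, h, hae, has, hbe, hbs, w⟩ := exists_chart_square hX hY f
  have := isLocalAtTarget_fppf (IsOpenImmersion : MorphismProperty Scheme.{u})
  have hc : RepWith (@LocallyOfFiniteType ⊓ @FormallyUnramified) (a ≫ f) := by
    rw [w]
    exact repWith_comp ((repWith_yon_map_iff _ _).2 (hf a b h hae hbe w))
      (repWith_mono (le_inf AlgSpDescent.etale_le_lft AlgSpDescent.etale_le_fu) hbe)
  refine repWith_diagonal_of_chart hX hY f hae has fun R T δ p p' sq he hm => ?_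
  have hp := hc.2 (a ≫ f) p' p sq.flip
  have : LocallyOfFiniteType p.left := hp.1
  have : FormallyUnramified p.left := hp.2
  rw [Over.comp_left] at he
  have : Etale δ.left := Etale.of_comp δ.left p.left
  exact IsOpenImmersion.of_flat_of_mono δ.left

/-- A morphism locally of finite type whose diagonal is an open immersion is unramified. -/
theorem locP_unramified_of_diagonal {X Y : Sp S} (hX : IsAlgSpace X) (hY : IsAlgSpace Y) {f : X ⟶ Y}
    (hf : LocP @LocallyOfFiniteType f) (hd : RepWith @IsOpenImmersion (pullback.diagonal f)) :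
    LocP (@LocallyOfFiniteType ⊓ @FormallyUnramified) f := by
  obtain ⟨U, V, a, b, h, hae, has, hbe, hbs, w⟩ := exists_chart_square hX hY f
  refine locP_of_one_chart a b h hae has hbe w ⟨hf a b h hae hbe w, ?_⟩
  have hU := IsAlgSpace.yon_obj U
  have hau : RepWith @IsOpenImmersion (pullback.diagonal a) :=
    repWith_diagonal_isOpenImmersion_of_unramified hU hX
      (locP_of_repWith hX (repWith_mono (le_inf AlgSpDescent.etale_le_lft AlgSpDescent.etale_le_fu) hae))
  have h₁ : RepWith @IsOpenImmersion (pullback.diagonal ((yon S).map h ≫ b)) := by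
    have aux : ∀ c, c = a ≫ f → RepWith @IsOpenImmersion (pullback.diagonal c) := by
      rintro c rfl; exact repWith_diagonal_comp hau hd
    exact aux _ w.symm
  rw [pullback.diagonal_comp] at h₁
  have h₂ : RepWith @IsOpenImmersion (pullback.diagonal ((yon S).map h)) :=
    repWith_of_isPullback (isPullback_of_mono (pullback.diagonal ((yon S).map h))
      ((pullbackDiagonalMapIdIso ((yon S).map h) ((yon S).map h) b).inv ≫
        pullback.snd _ _)) h₁
  have : IsOpenImmersion (pullback.diagonal h.left) := (repWith_diagonal_yon_map_iff _ h).1 h₂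
  exact (inferInstance : FormallyUnramified h.left)

end Groth.Agent.AlgSpace
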