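import Groth.Agent.Lib.AlgSpace.Affine
import Groth.Agent.Lib.AlgSpace.PointsBC
import Groth.Agent.Lib.AlgSpace.QC
import Groth.Agent.Lib.AlgSpace.OpenFlat
import Groth.Agent.Lib.AlgSpace.DiagChart
import Mathlib.AlgebraicGeometry.Morphisms.Proper

/-!
# Proper morphisms of algebraic spaces
-/

universe u

set_option backward.isDefEq.respectTransparency.types false
set_option linter.unusedVariables false

open CategoryTheory CategoryTheory.Limits AlgebraicGeometry Opposite MorphismProperty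

namespace Groth.Agent.AlgSpace

open AlgSp

variable {S : Scheme.{u}}

section LocP

variable {P : MorphismProperty Scheme.{u}}

/-- The chart property is tested on affine schemes over the target. -/
theorem locP_of_affine [P.IsStableUnderBaseChange] [IsZariskiLocalAtTarget P] {X Y : Sp S}
    {f : X ⟶ Y}
    (h : ∀ (Z : Over S), IsAffine Z.left → ∀ (g : (yon S).obj Z ⟶ Y) (X' : Sp S) (fst : X' ⟶ X)
      (snd : X' ⟶ (yon S).obj Z), IsPullback fst snd f g → LocP P snd) : LocP P f := by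
  intro U V a b φh ha hb w
  refine IsZariskiLocalAtTarget.of_openCover V.left.affineCover fun i => ?_
  let A : Over S := Over.mk (V.left.affineCover.f i ≫ V.hom)
  let ι : A ⟶ V := Over.homMk (V.left.affineCover.f i) rfl
  have hA : IsAffine A.left := inferInstanceAs (IsAffine (V.left.affineCover.X i))
  have hι : RepWith @Etale ((yon S).map ι) :=
    (repWith_yon_map_iff _ _).2 (inferInstanceAs (Etale (V.left.affineCover.f i)))
  have sqU := IsPullback.of_hasPullback φh ι
  have hιU : RepWith @Etale ((yon S).map (pullback.fst φh ι)) :=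
    repWith_of_isPullback (sqU.map (yon S)).flip hι
  have sq := IsPullback.of_hasPullback f ((yon S).map ι ≫ b)
  let φ := sq.lift ((yon S).map (pullback.fst φh ι) ≫ a) ((yon S).map (pullback.snd φh ι))
    (by rw [Category.assoc, w, ← Functor.map_comp_assoc, pullback.condition, Functor.map_comp,
      Category.assoc])
  have hfst : RepWith @Etale (pullback.fst f ((yon S).map ι ≫ b)) :=
    repWith_of_isPullback sq.flip (repWith_comp hι hb)
  have hrep : Representable (pullback.fst f ((yon S).map ι ≫ b)) := hfst.1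
  have haU : RepWith @Etale ((yon S).map (pullback.fst φh ι) ≫ a) := repWith_comp hιU ha
  have sqA := hrep.isPullback ((yon S).map (pullback.fst φh ι) ≫ a)
  have hw : Etale (hrep.snd ((yon S).map (pullback.fst φh ι) ≫ a)).left := hfst.2 _ _ _ sqA
  let s := hrep.lift (g := (yon S).map (pullback.fst φh ι) ≫ a) φ (𝟙 _) (by simp [φ])
  have hs : Etale s.left := by
    have : Etale (s.left ≫ (hrep.snd ((yon S).map (pullback.fst φh ι) ≫ a)).left) := by
      rw [← Over.comp_left, hrep.lift_snd]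
      exact inferInstanceAs (Etale (𝟙 _))
    have := hw
    exact Etale.of_comp s.left (hrep.snd ((yon S).map (pullback.fst φh ι) ≫ a)).left
  have hsk : (yon S).map s ≫ hrep.fst ((yon S).map (pullback.fst φh ι) ≫ a) = φ := hrep.lift_fst _ _ _
  have hφ : RepWith @Etale φ := by
    rw [← hsk]
    exact repWith_comp ((repWith_yon_map_iff _ _).2 hs) (repWith_of_isPullback sqA.flip haU)
  have hP : P (pullback.snd φh ι).left := h A hA _ _ _ _ sq φ (𝟙 _) _ hφ
    ((repWith_yon_iff (P := @Etale) _).2 (by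
      rw [← (yon S).map_id, (yon S).preimage_map]; exact inferInstanceAs (Etale (𝟙 A.left))))
    (by rw [Category.comp_id]; exact sq.lift_snd _ _ _)
  exact (P.arrow_mk_iso_iff (Arrow.isoMk' (pullback.snd φh ι).left
    (pullback.snd φh.left (V.left.affineCover.f i))
    ((sqU.map (Over.forget S)).isoPullback) (Iso.refl _)
    (by rw [Iso.refl_hom, Category.comp_id]; exact ((sqU.map (Over.forget S)).isoPullback_hom_snd)))).1 hP

end LocP

section UnivClosed

theorem isUnivClosedMor_comp {X Y Z : Sp S} (hY : IsAlgSpace Y) (hZ : IsAlgSpace Z) {f : X ⟶ Y}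
    {g : Y ⟶ Z} (hf : IsUnivClosedMor f) (hg : IsUnivClosedMor g) : IsUnivClosedMor (f ≫ g) := by
  intro W W' hW t fst snd sq
  have sqY := IsPullback.of_hasPullback g t
  let m := sqY.lift (fst ≫ f) snd (by rw [Category.assoc]; exact sq.w)
  have sq' : IsPullback fst m f (pullback.fst g t) :=
    IsPullback.of_bot (by simpa [m] using sq) (by simp [m]) sqY
  have e : snd = m ≫ pullback.snd g t := by simp [m]
  rw [e]
  change IsClosedMap (Points.map (m ≫ pullback.snd g t))
  rw [map_comp_eq]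
  exact IsClosedMap.comp (hg hW t _ _ sqY) (hf (isAlgSpace_baseChange hY hZ hW sqY) _ _ _ sq')

/-- A surjection onto `Y` transports universal closedness to `Y`. -/
theorem isUnivClosedMor_of_surjective_source {W X Y : Sp S} {a : W ⟶ X} {f : X ⟶ Y}
    (ha : Function.Surjective (Points.map a)) (h : IsUnivClosedMor (a ≫ f)) : IsUnivClosedMor f := by
  intro Z Z' hZ t fst snd sq O hO
  have sq' := IsPullback.of_hasPullback a fst
  have h' : IsClosedMap (Points.map (pullback.snd a fst ≫ snd)) :=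
    h hZ t (pullback.fst a fst) _ (sq'.paste_vert sq)
  have : Points.map snd '' O =
      Points.map (pullback.snd a fst ≫ snd) '' (Points.map (pullback.snd a fst) ⁻¹' O) := by
    rw [map_comp_eq, Set.image_comp, Set.image_preimage_eq _ (surjective_of_isPullback sq' ha)]
  rw [this]
  exact h' _ (hO.preimage (Points.continuous_map _))

theorem isClosedMap_of_isUnivClosedMor {X Y : Sp S} (hY : IsAlgSpace Y) {f : X ⟶ Y}
    (hf : IsUnivClosedMor f) : IsClosedMor f :=
  hf hY (𝟙 Y) (𝟙 X) f IsPullback.of_id_fst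

theorem isUnivClosedMor_of_repWith_closedImmersion {X Y : Sp S} {f : X ⟶ Y}
    (hf : RepWith @IsClosedImmersion f) : IsUnivClosedMor f :=
  (repWith_universallyClosed_iff hf.1).1 (repWith_mono (fun _ _ _ h => by
    have : IsClosedImmersion _ := h
    infer_instance) hf)

/-- Universal closedness of a factor over a separated morphism. -/
theorem isUnivClosedMor_of_comp {X Y Z : Sp S} (hX : IsAlgSpace X) (hY : IsAlgSpace Y)
    (hZ : IsAlgSpace Z) {f : X ⟶ Y} {g : Y ⟶ Z} (h : IsUnivClosedMor (f ≫ g))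
    (hg : IsSeparatedMor g) : IsUnivClosedMor f := by
  let L : X ⟶ pullback (f ≫ g) g := pullback.lift (𝟙 X) f (by simp)
  have sqL := isPullback_graph f g (L := L) (pullback.lift_fst _ _ _) (pullback.lift_snd _ _ _)
    (M := pullback.map (f ≫ g) g g g f (𝟙 Y) (𝟙 Z) (by simp) (by simp))
    (pullback.lift_fst _ _ _) (by rw [pullback.lift_snd, Category.comp_id])
  rw [← pullback.lift_snd (𝟙 X) f (show 𝟙 X ≫ f ≫ g = f ≫ g by simp)]
  exact isUnivClosedMor_comp (isAlgSpace_baseChange hX hZ hY (IsPullback.of_hasPullback _ _)) hY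
    (isUnivClosedMor_of_repWith_closedImmersion (repWith_of_isPullback sqL hg))
    (univSp_of_isPullback (IsPullback.of_hasPullback _ _) h)

end UnivClosed

section Proper

theorem isFiniteTypeMor_of_repWith {X Y : Sp S} (hX : IsAlgSpace X) (hY : IsAlgSpace Y) {f : X ⟶ Y}
    (h₁ : RepWith @LocallyOfFiniteType f) (h₂ : RepWith @QuasiCompact f) : IsFiniteTypeMor f :=
  ⟨locP_of_repWith hY h₁, (repWith_quasiCompact_iff hX hY h₂.1).1 h₂⟩

theorem isFiniteTypeMor_comp {X Y Z : Sp S} (hX : IsAlgSpace X) (hY : IsAlgSpace Y)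
    (hZ : IsAlgSpace Z) {f : X ⟶ Y} {g : Y ⟶ Z} (hf : IsFiniteTypeMor f) (hg : IsFiniteTypeMor g) :
    IsFiniteTypeMor (f ≫ g) :=
  ⟨locP_comp hX hY hZ hf.1 hg.1, isQuasiCompactMor_comp hY hZ hf.2 hg.2⟩

theorem isFiniteTypeMor_of_isPullback {X Y X' Y' : Sp S} (hX : IsAlgSpace X) (hY : IsAlgSpace Y)
    (hY' : IsAlgSpace Y') {fst : X' ⟶ X} {snd : X' ⟶ Y'} {f : X ⟶ Y} {g : Y' ⟶ Y}
    (sq : IsPullback fst snd f g) (h : IsFiniteTypeMor f) : IsFiniteTypeMor snd :=
  ⟨locP_of_isPullback hX hY hY' sq h.1, isQuasiCompactMor_of_isPullback sq h.2⟩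

theorem repWith_isProper_iff {X Y : Sp S} (hX : IsAlgSpace X) (hY : IsAlgSpace Y) {f : X ⟶ Y}
    (hf : Representable f) : RepWith @IsProper f ↔ IsProperMor f := by
  refine ⟨fun h => ?_, fun h => ?_⟩
  · refine ⟨(isSeparatedMor_iff_of_representable hX hY hf).2 (repWith_mono ?_ h),
      isFiniteTypeMor_of_repWith hX hY (repWith_mono ?_ h) (repWith_mono ?_ h),
      (repWith_universallyClosed_iff hf).1 (repWith_mono ?_ h)⟩ <;>
    exact fun _ _ g (_ : IsProper g) => inferInstance
  · obtain ⟨hs, ⟨hl, hq⟩, hc⟩ := h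
    have h₁ := (isSeparatedMor_iff_of_representable hX hY hf).1 hs
    have h₂ := repWith_of_locP hY hf hl
    have h₄ := (repWith_universallyClosed_iff hf).2 hc
    refine ⟨hf, fun T W g fst snd sq => ?_⟩
    have : IsSeparated snd.left := h₁.2 g fst snd sq
    have : LocallyOfFiniteType snd.left := h₂.2 g fst snd sq
    have : UniversallyClosed snd.left := h₄.2 g fst snd sq
    exact (isProper_iff snd.left).2 ⟨‹_›, ‹_›, ‹_›⟩

theorem isProperMor_of_isPullback {X Y X' Y' : Sp S} (hX : IsAlgSpace X) (hY : IsAlgSpace Y)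
    (hY' : IsAlgSpace Y') {fst : X' ⟶ X} {snd : X' ⟶ Y'} {f : X ⟶ Y} {g : Y' ⟶ Y}
    (sq : IsPullback fst snd f g) (h : IsProperMor f) : IsProperMor snd :=
  ⟨isSeparatedMor_of_isPullback sq h.1, isFiniteTypeMor_of_isPullback hX hY hY' sq h.2.1,
    univSp_of_isPullback sq h.2.2⟩

theorem isProperMor_comp {X Y Z : Sp S} (hX : IsAlgSpace X) (hY : IsAlgSpace Y)
    (hZ : IsAlgSpace Z) {f : X ⟶ Y} {g : Y ⟶ Z} (hf : IsProperMor f) (hg : IsProperMor g) :
    IsProperMor (f ≫ g) :=
  ⟨repWith_diagonal_comp hf.1 hg.1, isFiniteTypeMor_comp hX hY hZ hf.2.1 hg.2.1,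
    isUnivClosedMor_comp hY hZ hf.2.2 hg.2.2⟩

theorem isProperMor_of_affine {X Y : Sp S} (hX : IsAlgSpace X) (hY : IsAlgSpace Y) {f : X ⟶ Y}
    (h : ∀ (Z : Over S), IsAffine Z.left → ∀ (g : (yon S).obj Z ⟶ Y) (P : Sp S) (fst : P ⟶ X)
      (snd : P ⟶ (yon S).obj Z), IsPullback fst snd f g → IsProperMor snd) : IsProperMor f := by
  refine ⟨?_, ⟨?_, ?_⟩, ?_⟩
  · exact repWith_diagonal_of_affine hX fun Z hZ g P fst snd sq => (h Z hZ g P fst snd sq).1
  · exact locP_of_affine fun Z hZ g P fst snd sq => (h Z hZ g P fst snd sq).2.1.1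
  · refine isQuasiCompactMor_of_affine hX hY fun Z hZ g P fst snd sq => ?_
    have := compactSpace_yon_of_affine Z
    exact compactSpace_of_isQuasiCompactMor (isAlgSpace_baseChange hX hY (IsAlgSpace.yon_obj Z) sq)
      (IsAlgSpace.yon_obj Z) (h Z hZ g P fst snd sq).2.1.2 (IsAlgSpace.yon_obj Z)
      (g := 𝟙 _) (fst := 𝟙 P) (snd := snd) IsPullback.of_id_fst
  · exact univSp_of_affine ptsLocal_isClosedMor fun Z hZ g P fst snd sq =>
      isClosedMap_of_isUnivClosedMor (IsAlgSpace.yon_obj Z) (h Z hZ g P fst snd sq).2.2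

theorem isProperMor_of_comp {X Y Z : Sp S} (hX : IsAlgSpace X) (hY : IsAlgSpace Y)
    (hZ : IsAlgSpace Z) {f : X ⟶ Y} {g : Y ⟶ Z} (h : IsProperMor (f ≫ g)) (hg : IsSeparatedMor g) :
    IsProperMor f := by
  let L : X ⟶ pullback (f ≫ g) g := pullback.lift (𝟙 X) f (by simp)
  have sqL := isPullback_graph f g (L := L) (pullback.lift_fst _ _ _) (pullback.lift_snd _ _ _)
    (M := pullback.map (f ≫ g) g g g f (𝟙 Y) (𝟙 Z) (by simp) (by simp))
    (pullback.lift_fst _ _ _) (by rw [pullback.lift_snd, Category.comp_id])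
  have hL : RepWith @IsClosedImmersion L := repWith_of_isPullback sqL hg
  have hP : IsAlgSpace (pullback (f ≫ g) g) :=
    isAlgSpace_baseChange hX hZ hY (IsPullback.of_hasPullback _ _)
  rw [← pullback.lift_snd (𝟙 X) f (show 𝟙 X ≫ f ≫ g = f ≫ g by simp)]
  refine isProperMor_comp hX hP hY ((repWith_isProper_iff hX hP hL.1).1
    (repWith_mono (fun _ _ _ hc => ?_) hL))
    (isProperMor_of_isPullback hX hZ hY (IsPullback.of_hasPullback _ _) h)
  have : IsClosedImmersion _ := hc
  infer_instance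

theorem isFiniteMor_iff_affine_proper {X Y : Sp S} (hX : IsAlgSpace X) (hY : IsAlgSpace Y)
    {f : X ⟶ Y} : IsFiniteMor f ↔ IsAffineMor f ∧ IsProperMor f := by
  rw [isFiniteMor_iff_repWith, isAffineMor_iff_repWith]
  refine ⟨fun h => ⟨repWith_mono (Q := @IsAffineHom) (fun _ _ g (_ : IsFinite g) => inferInstance) h,
    (repWith_isProper_iff hX hY h.1).1 (repWith_mono (Q := @IsProper) (fun _ _ g (_ : IsFinite g) => inferInstance) h)⟩,
    fun ⟨ha, hp⟩ => ⟨ha.1, fun T W g fst snd sq => ?_⟩⟩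
  exact IsFinite.iff_isProper_and_isAffineHom.2
    ⟨((repWith_isProper_iff hX hY ha.1).2 hp).2 g fst snd sq, ha.2 g fst snd sq⟩

theorem isIntegralMor_iff_affine_univClosed {X Y : Sp S} {f : X ⟶ Y} :
    IsIntegralMor f ↔ IsAffineMor f ∧ IsUnivClosedMor f := by
  rw [isIntegralMor_iff_repWith, isAffineMor_iff_repWith]
  refine ⟨fun h => ⟨repWith_mono (Q := @IsAffineHom) (fun _ _ g (_ : IsIntegralHom g) => inferInstance) h,
    (repWith_universallyClosed_iff h.1).1
      (repWith_mono (Q := @UniversallyClosed) (fun _ _ g (_ : IsIntegralHom g) => inferInstance) h)⟩,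
    fun ⟨ha, hc⟩ => ⟨ha.1, fun T W g fst snd sq => ?_⟩⟩
  exact IsIntegralHom.iff_universallyClosed_and_isAffineHom.2
    ⟨((repWith_universallyClosed_iff ha.1).2 hc).2 g fst snd sq, ha.2 g fst snd sq⟩

end Proper

end Groth.Agent.AlgSpace
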