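import Groth.Agent.Lib.AlgSpace.FlatCover
import Groth.Prelude.Def_AlgSpGpd

/-!
# Quotients by flat equivalence relations are algebraic spaces
-/

universe u

set_option backward.isDefEq.respectTransparency.types false
set_option linter.unusedVariables false

open CategoryTheory CategoryTheory.Limits AlgebraicGeometry Opposite

namespace Groth.Agent.AlgSpace

open AlgSp AlgSpDecent

variable {S : Scheme.{u}}

attribute [local simp] prod.lift_fst prod.lift_snd limit.lift_π limit.lift_π_assoc

section Effective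

variable {R U : Sp S} {s t : R ⟶ U}

/-- The setoid of an equivalence relation of sheaves on sections. -/
def eqvSetoidSp (h : IsEqvRelSp s t) (T : Over S) : Setoid ((yon S).obj T ⟶ U) :=
  ⟨_, h.equivalence T⟩

/-- The presheaf quotient of an equivalence relation of sheaves. -/
def quotPresheafSp (h : IsEqvRelSp s t) : (Over S)ᵒᵖ ⥤ Type (u + 1) where
  obj T := Quotient (eqvSetoidSp h T.unop)
  map {T T'} f := TypeCat.ofHom (Quotient.map (sa := eqvSetoidSp h T.unop)
    (sb := eqvSetoidSp h T'.unop) (fun a => (yon S).map f.unop ≫ a) (by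
      rintro a b ⟨r, rfl, rfl⟩
      exact ⟨(yon S).map f.unop ≫ r, Category.assoc _ _ _, Category.assoc _ _ _⟩))
  map_id T := by
    ext x
    induction x using Quotient.ind with
    | _ a => simp
  map_comp f g := by
    ext x
    induction x using Quotient.ind with
    | _ a => simp

/-- The quotient map to the presheaf quotient. -/
def quotPresheafSpπ (h : IsEqvRelSp s t) : U.obj ⟶ quotPresheafSp h where
  app T := TypeCat.ofHom fun x => Quotient.mk (eqvSetoidSp h T.unop) ((sect (T := T.unop) (F := U)).symm x)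
  naturality T T' f := by
    ext x
    change Quotient.mk (eqvSetoidSp h T'.unop) _ = Quotient.mk (eqvSetoidSp h T'.unop) _
    exact congrArg _ (GrothendieckTopology.uliftYonedaEquiv_symm_naturality_left _ _ _ _).symm

/-- An equivalence relation of sheaves is the kernel pair of its quotient. -/
theorem isPullback_quotSp (h : IsEqvRelSp s t) :
    IsPullback t s (quotSpπ s t) (quotSpπ s t) := by
  let Q := quotPresheafSp h
  let Q' : Sp S := (presheafToSheaf (AlgSp.J S) (Type (u + 1))).obj Q
  let q : U ⟶ Q' := ObjectProperty.homMk (quotPresheafSpπ h ≫ toSheafify (AlgSp.J S) Q)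
  have app : ∀ {T : Over S} (a : (yon S).obj T ⟶ U), sect (a ≫ q) =
      (toSheafify (AlgSp.J S) Q).app (op T) (Quotient.mk (eqvSetoidSp h T) a) := fun {T} a => by
    rw [GrothendieckTopology.uliftYonedaEquiv_comp]
    change (toSheafify (AlgSp.J S) Q).app (op T)
      (Quotient.mk (eqvSetoidSp h T) ((sect (T := T) (F := U)).symm (sect a))) = _
    rw [Equiv.symm_apply_apply]
  have hq : s ≫ q = t ≫ q := hom_ext_yon fun T r => by
    apply (sect (T := T) (F := Q')).injective
    rw [← Category.assoc, ← Category.assoc, app, app]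
    exact congrArg _ (Quotient.sound ((h.equivalence T).symm ⟨r, rfl, rfl⟩))
  obtain ⟨φ, hφ⟩ := Cofork.IsColimit.desc' (quotSpIsCoequalizer s t) q hq
  have key : ∀ ⦃T : Over S⦄ (a b : (yon S).obj T ⟶ U), a ≫ quotSpπ s t = b ≫ quotSpπ s t →
      ∃ r, r ≫ t = a ∧ r ≫ s = b := by
    intro T a b e
    have e' : a ≫ q = b ≫ q := by
      rw [← hφ, Cofork.π_ofπ, ← Category.assoc, e, Category.assoc]
    have e'' := congrArg (sect (T := T) (F := Q')) e'
    rw [app, app] at e''
    have hJ := Presheaf.equalizerSieve_mem (AlgSp.J S) (toSheafify (AlgSp.J S) Q) _ _ e''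
    let K := Presheaf.equalizerSieve (F := Q) (X := op T) (Quotient.mk (eqvSetoidSp h T) a)
      (Quotient.mk (eqvSetoidSp h T) b)
    have hK : ∀ ⦃T' : Over S⦄ (f : T' ⟶ T), K f →
        ∃ r, r ≫ t = (yon S).map f ≫ a ∧ r ≫ s = (yon S).map f ≫ b :=
      fun T' f hf => Quotient.exact hf
    choose r hr₁ hr₂ using hK
    let x : Presieve.FamilyOfElements R.obj K.arrows := fun T' f hf => sect (r f hf)
    have hx : x.Compatible := fun Y₁ Y₂ Z g₁ g₂ f₁ f₂ h₁ h₂ ee => by
      change R.obj.map g₁.op (sect _) = R.obj.map g₂.op (sect _)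
      rw [GrothendieckTopology.uliftYonedaEquiv_naturality, GrothendieckTopology.uliftYonedaEquiv_naturality]
      refine congrArg _ (h.injective Z _ _ ?_ ?_)
      · rw [Category.assoc, Category.assoc, hr₁, hr₁, ← Functor.map_comp_assoc, ← Functor.map_comp_assoc, ee]
      · rw [Category.assoc, Category.assoc, hr₂, hr₂, ← Functor.map_comp_assoc, ← Functor.map_comp_assoc, ee]
    have hR := (isSheaf_iff_isSheaf_of_type _ _).1 R.property K hJ
    obtain ⟨l, hl⟩ := (sect (T := T) (F := R)).surjective (hR.amalgamate x hx)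
    have hlr : ∀ ⦃T'⦄ (f : T' ⟶ T) (hf : K f), (yon S).map f ≫ l = r f hf := fun T' f hf => by
      apply (sect (T := T') (F := R)).injective
      rw [← GrothendieckTopology.uliftYonedaEquiv_naturality]
      exact (congrArg _ hl).trans (hR.valid_glue hx f hf)
    have hU := ((isSheaf_iff_isSheaf_of_type _ _).1 U.property K hJ).isSeparatedFor
    refine ⟨l, ?_, ?_⟩
    · apply (sect (T := T) (F := U)).injective
      refine hU.ext fun T' f hf => ?_
      rw [GrothendieckTopology.uliftYonedaEquiv_naturality, GrothendieckTopology.uliftYonedaEquiv_naturality,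
        ← Category.assoc, hlr f hf, hr₁]
    · apply (sect (T := T) (F := U)).injective
      refine hU.ext fun T' f hf => ?_
      rw [GrothendieckTopology.uliftYonedaEquiv_naturality, GrothendieckTopology.uliftYonedaEquiv_naturality,
        ← Category.assoc, hlr f hf, hr₂]
  let c := pullback.lift t s (quotSp_condition s t).symm
  have : Mono c := mono_of_yon _ fun T x y e => h.injective T x y
    (by simpa [c, pullback.lift_fst] using e =≫ pullback.fst _ _) (by simpa [c, pullback.lift_snd] using e =≫ pullback.snd _ _)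
  have : IsIso c := isIso_of_mono_of_lifts c fun T z => by
    obtain ⟨r, hr₁, hr₂⟩ := key (z ≫ pullback.fst _ _) (z ≫ pullback.snd _ _)
      (by rw [Category.assoc, Category.assoc, pullback.condition])
    exact ⟨r, pullback.hom_ext (by simp [c, hr₁, pullback.lift_fst]) (by simp [c, hr₂, pullback.lift_snd])⟩
  exact IsPullback.of_iso_pullback ⟨(quotSp_condition s t).symm⟩ (asIso c) (pullback.lift_fst _ _ _)
    (pullback.lift_snd _ _ _)

end Effective

section Main

variable {F : Sp S} {U : Over S}

/-- A sheaf with a locally surjective map from a scheme whose kernel pair is a flat, locally finitely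
presented scheme is an algebraic space, the map being flat, surjective and locally finitely
presented. -/
theorem isAlgSpace_of_flat_kernelPair {R : Over S} {p : (yon S).obj U ⟶ F} [Sheaf.IsLocallySurjective p]
    {t s : R ⟶ U} (sq : IsPullback ((yon S).map t) ((yon S).map s) p p)
    [Flat s.left] [LocallyOfFinitePresentation s.left] :
    IsAlgSpace F ∧ RepWith @Flat p ∧ RepWith @LocallyOfFinitePresentation p ∧ RepWith @Surjective p := by
  have : LocallyOfFiniteType ((prod.lift t s).left ≫ (prod.snd : U ⨯ U ⟶ U).left) := by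
    rw [← Over.comp_left, prod.lift_snd]; infer_instance
  have := locallyOfFiniteType_of_comp (prod.lift t s).left (prod.snd : U ⨯ U ⟶ U).left
  have hd := representable_diag_of_cover sq
  have hp : Representable p := Functor.relativelyRepresentable.of_diag hd p
  have : Surjective s.left := ⟨fun u => by
    obtain ⟨e, he⟩ := (yon S).map_surjective (sq.lift (𝟙 _) (𝟙 _) rfl)
    have he' : e ≫ s = 𝟙 U := (yon S).map_injective (by
      rw [Functor.map_comp, he, (yon S).map_id]; exact sq.lift_snd _ _ _)
    exact ⟨e.left u, congrArg (fun k : U ⟶ U => k.left u) he'⟩⟩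
  have := descendsAlong_flat.{u}
  have := isLocalAtTarget_fppf (@Flat : MorphismProperty Scheme.{u})
  have := isLocalAtTarget_fppf (@LocallyOfFinitePresentation : MorphismProperty Scheme.{u})
  have := isLocalAtTarget_fppf (@Surjective : MorphismProperty Scheme.{u})
  have h₁ : RepWith @Flat p := repWith_of_locallySurjective hp sq _ ((repWith_yon_map_iff _ _).2 ‹_›)
  have h₂ : RepWith @LocallyOfFinitePresentation p :=
    repWith_of_locallySurjective hp sq _ ((repWith_yon_map_iff _ _).2 ‹_›)
  have h₃ : RepWith @Surjective p := repWith_of_locallySurjective hp sq _ ((repWith_yon_map_iff _ _).2 ‹_›)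
  exact ⟨isAlgSpace_of_flat_cover hd p h₁ h₂ h₃, h₁, h₂, h₃⟩

/-- The same with the kernel pair an algebraic space. -/
theorem isAlgSpace_of_flat_kernelPair_space {q : (yon S).obj U ⟶ F} [Sheaf.IsLocallySurjective q]
    {R : Sp S} (hR : IsAlgSpace R) {r₁ r₂ : R ⟶ (yon S).obj U} (sq : IsPullback r₁ r₂ q q)
    (hfl : LocP @Flat r₂) (hfp : LocP @LocallyOfFinitePresentation r₂) : IsAlgSpace F := by
  let j : R ⟶ (yon S).obj (U ⨯ U) := prod.lift r₁ r₂ ≫ inv (prodComparison (yon S) U U)
  have hj₂ : j ≫ (yon S).map prod.snd = r₂ := by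
    simp only [j, Category.assoc]
    rw [inv_prodComparison_map_snd, prod.lift_snd]
  have : Mono j := by
    have : Mono (prod.lift r₁ r₂) :=
      ⟨fun x y e => sq.hom_ext (by simpa using e =≫ prod.fst) (by simpa using e =≫ prod.snd)⟩
    infer_instance
  have hj : LocP @LocallyOfFiniteType j :=
    locP_of_comp (Q' := @LocallyOfFiniteType) (R := ⊤)
      (fun A B C k l hkl _ => by
        have : LocallyOfFiniteType (k ≫ l) := hkl
        exact locallyOfFiniteType_of_comp k l)
      hR (IsAlgSpace.yon_obj _) (IsAlgSpace.yon_obj U) (g := (yon S).map prod.snd)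
      (by rw [hj₂]; exact locP_mono (Q := @LocallyOfFiniteType) (fun _ _ g (hg : LocallyOfFinitePresentation g) => inferInstance) hfp)
      (locP_top _)
  obtain ⟨W, ⟨e⟩⟩ := exists_iso_yon_of_mono_lft hR j hj
  obtain ⟨t, ht⟩ := (yon S).map_surjective (e.hom ≫ r₁)
  obtain ⟨s, hs⟩ := (yon S).map_surjective (e.hom ≫ r₂)
  have sqW : IsPullback ((yon S).map t) ((yon S).map s) q q := by
    rw [ht, hs]
    exact IsPullback.of_iso sq e.symm (Iso.refl _) (Iso.refl _) (Iso.refl _) (by simp) (by simp)
      (by simp) (by simp)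
  have he := MorphismProperty.of_isIso (RepWith (S := S) @Etale) e.hom
  have w : e.hom ≫ r₂ = (yon S).map s ≫ 𝟙 _ := by rw [Category.comp_id, hs]
  have : Flat s.left := hfl e.hom (𝟙 _) s he (repWith_id _ _) w
  have : LocallyOfFinitePresentation s.left := hfp e.hom (𝟙 _) s he (repWith_id _ _) w
  exact (isAlgSpace_of_flat_kernelPair sqW).1

/-- The quotient of an algebraic space by a flat equivalence relation is an algebraic space. -/
theorem isAlgSpace_quotSp {R U : Sp S} (hR : IsAlgSpace R) (hU : IsAlgSpace U) {s t : R ⟶ U}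
    (h : IsEqvRelSp s t) (hfl : LocP @Flat s) (hfp : LocP @LocallyOfFinitePresentation s) :
    IsAlgSpace (quotSp s t) := by
  obtain ⟨U₀, a, hae, has⟩ := hU.atlas
  have sqπ := isPullback_quotSp h
  have : Epi (quotSpπ s t) := inferInstanceAs (Epi (coequalizer.π s t))
  have : Epi a := (CategoryTheory.Sheaf.isLocallySurjective_iff_epi _).1
    (isLocallySurjective_of_etale hae has)
  have : Sheaf.IsLocallySurjective (a ≫ quotSpπ s t) := by
    rw [CategoryTheory.Sheaf.isLocallySurjective_iff_epi]; infer_instance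
  have sq₁ := IsPullback.of_hasPullback t a
  have hR₁ : IsAlgSpace (pullback t a) := isAlgSpace_pullback hU hR (IsAlgSpace.yon_obj U₀) sq₁
  have sq₂ := IsPullback.of_hasPullback (pullback.fst t a ≫ s) a
  have hR₂ : IsAlgSpace (pullback (pullback.fst t a ≫ s) a) :=
    isAlgSpace_pullback hU hR₁ (IsAlgSpace.yon_obj U₀) sq₂
  let r₁ := pullback.fst (pullback.fst t a ≫ s) a ≫ pullback.snd t a
  let r₂ := pullback.snd (pullback.fst t a ≫ s) a
  have sq : IsPullback r₁ r₂ (a ≫ quotSpπ s t) (a ≫ quotSpπ s t) :=
    sq₂.paste_horiz (sq₁.flip.paste_vert sqπ)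
  have hflc : LocP @Flat (pullback.fst t a ≫ s) :=
    locP_comp hR₁ hR hU (locP_of_repWith hR (repWith_mono etale_le_flat (repWith_of_isPullback sq₁.flip hae))) hfl
  have hfpc : LocP @LocallyOfFinitePresentation (pullback.fst t a ≫ s) :=
    locP_comp hR₁ hR hU (locP_of_repWith hR (repWith_mono etale_le_lfp (repWith_of_isPullback sq₁.flip hae))) hfp
  exact isAlgSpace_of_flat_kernelPair_space hR₂ sq
    (locP_of_isPullback hR₁ hU (IsAlgSpace.yon_obj U₀) sq₂ hflc)
    (locP_of_isPullback hR₁ hU (IsAlgSpace.yon_obj U₀) sq₂ hfpc)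

/-- A sheaf with a flat cover, representable by algebraic spaces, from an algebraic space is an
algebraic space. -/
theorem isAlgSpace_of_repBySp_fppf {F X : Sp S} (p : X ⟶ F) (hX : IsAlgSpace X)
    (hp : RepBySpWith (IsSurjectiveMor ⊓ LocP @Flat ⊓ LocP @LocallyOfFinitePresentation) p.hom) :
    IsAlgSpace F := by
  have hd := representable_diag_of_fppf_cover p hX hp
  obtain ⟨U, a, hae, has⟩ := hX.atlas
  have key : ∀ ⦃T : Over S⦄ (g : (yon S).obj T ⟶ F), ∃ (W : Over S) (f : (yon S).obj W ⟶ (yon S).obj U)
      (v : W ⟶ T), IsPullback f ((yon S).map v) (a ≫ p) g ∧ Flat v.left ∧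
        LocallyOfFinitePresentation v.left ∧ Surjective v.left := by
    intro T g
    have sq := IsPullback.of_hasPullback p g
    obtain ⟨hP, ⟨hs, hfl⟩, hfp⟩ := (repBySpWith_hom_iff _ p).1 hp g _ _ sq
    obtain ⟨W, e₁, e₂, sqW⟩ := representable_diag_iff.1 hd (a ≫ p) g
    have sqc := IsPullback.of_hasPullback a (pullback.fst p g)
    let k := sqW.isoIsPullback _ _ (sqc.paste_vert sq)
    let c : (yon S).obj W ⟶ pullback p g := k.hom ≫ pullback.snd a (pullback.fst p g)
    have hce : RepWith @Etale c := (repWith_respectsIso_left k.hom).2 (repWith_of_isPullback sqc hae)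
    have hcs : RepWith @Surjective c := (repWith_respectsIso_left k.hom).2 (repWith_of_isPullback sqc has)
    have hc : c ≫ pullback.snd p g = (yon S).map e₂ := by
      simp only [c, Category.assoc]
      exact sqW.isoIsPullback_hom_snd _ _ _
    have w : c ≫ pullback.snd p g = (yon S).map e₂ ≫ 𝟙 _ := by rw [Category.comp_id, hc]
    refine ⟨W, _, e₂, sqW, hfl c (𝟙 _) e₂ hce (repWith_id _ _) w,
      hfp c (𝟙 _) e₂ hce (repWith_id _ _) w, ⟨fun t => ?_⟩⟩
    obtain ⟨x, hx⟩ := hs (Points.ofScheme T t)
    obtain ⟨y, rfl⟩ := surjective_ofPt hcs x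
    refine ⟨y, (Points.schemeEquiv T).injective ?_⟩
    change Points.ofScheme T (e₂.left y) = Points.ofScheme T t
    rw [← ofPt_map_eq, ← hc, ← Points.map_ofPt]
    exact hx
  refine isAlgSpace_of_flat_cover hd (a ≫ p) (repWith_mk fun T g => ?_) (repWith_mk fun T g => ?_)
    (repWith_mk fun T g => ?_) <;> obtain ⟨W, f, v, sq, h₁, h₂, h₃⟩ := key g
  · exact ⟨W, f, v, sq, h₁⟩
  · exact ⟨W, f, v, sq, h₂⟩
  · exact ⟨W, f, v, sq, h₃⟩

end Main

end Groth.Agent.AlgSpace
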