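import Mathlib.RingTheory.Etale.QuasiFinite
import Mathlib.RingTheory.Etale.StandardEtale
import Mathlib.RingTheory.Etale.Field
import Mathlib.FieldTheory.SeparableClosure
import Mathlib.FieldTheory.PurelyInseparable.Basic
import Mathlib.FieldTheory.PrimitiveElement
import Mathlib.RingTheory.Polynomial.ScaleRoots

/-!
# A finite radicial piece at a quasi-finite point, after an etale localization
-/

universe u

open scoped TensorProduct Polynomial IntermediateField
open Polynomial IntermediateField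

set_option backward.isDefEq.respectTransparency.types false
set_option linter.unusedVariables false

namespace Groth.Agent.AlgSpace

namespace RadicialPiece

variable {R S : Type u} [CommRing R] [CommRing S] [Algebra R S]

/-- A finite separable extension of the residue field at a prime is generated by the root of a
monic polynomial with coefficients upstairs whose derivative does not vanish there. -/
lemma exists_monic_lift (p : Ideal R) [p.IsPrime] (κ : Type u) [Field κ] [Algebra p.ResidueField κ]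
    [Module.Finite p.ResidueField κ] [Algebra R κ] [IsScalarTower R p.ResidueField κ] :
    ∃ (F : R[X]) (a : κ), F.Monic ∧ aeval a F = 0 ∧ IsUnit (aeval a (derivative F)) ∧
      IsPurelyInseparable p.ResidueField⟮a⟯ κ := by
  let k := p.ResidueField
  let L := separableClosure k κ
  obtain ⟨α, hα⟩ := Field.exists_primitive_element k L
  let g := minpoly k α
  have hint : IsIntegral k α := Algebra.IsIntegral.isIntegral α
  obtain ⟨⟨b, hb⟩, hbc⟩ := IsLocalization.exist_integer_multiples (nonZeroDivisors (R ⧸ p))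
    (Finset.range g.natDegree) fun i => g.coeff i
  obtain ⟨r, rfl⟩ := Ideal.Quotient.mk_surjective b
  have hr : algebraMap R k r ≠ 0 := by
    rw [Ne, ← RingHom.mem_ker, Ideal.ker_algebraMap_residueField]
    intro h
    exact nonZeroDivisors.ne_zero hb (Ideal.Quotient.eq_zero_iff_mem.2 h)
  let G := g.scaleRoots (algebraMap R k r)
  have hG : G.Monic := (Polynomial.monic_scaleRoots_iff _).2 (minpoly.monic hint)
  have hlift : G ∈ Polynomial.lifts (algebraMap R k) := by
    refine (Polynomial.lifts_iff_coeff_lifts _).2 fun i => ?_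
    rw [Polynomial.coeff_scaleRoots]
    rcases lt_trichotomy i g.natDegree with hi | rfl | hi
    · obtain ⟨c, hc⟩ := hbc i (Finset.mem_range.2 hi)
      obtain ⟨c, rfl⟩ := Ideal.Quotient.mk_surjective c
      refine ⟨c * r ^ (g.natDegree - i - 1), ?_⟩
      have hc' : algebraMap R k c = algebraMap R k r * g.coeff i := by
        simpa [Algebra.smul_def, ← IsScalarTower.algebraMap_apply] using! hc
      rw [map_mul, map_pow, hc']
      obtain ⟨m, hm⟩ : ∃ m, g.natDegree - i = m + 1 := ⟨g.natDegree - i - 1, by omega⟩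
      rw [hm, Nat.add_sub_cancel]
      ring
    · exact ⟨1, by simp [g, (minpoly.monic hint).coeff_natDegree]⟩
    · exact ⟨0, by simp [Polynomial.coeff_eq_zero_of_natDegree_lt hi]⟩
  obtain ⟨F, hFmap, -, hF⟩ := Polynomial.lifts_and_degree_eq_and_monic hlift hG
  let β : L := algebraMap R k r • α
  have hβ : aeval β G = 0 := by
    rw [show β = algebraMap k L (algebraMap R k r) * α from Algebra.smul_def _ _]
    exact Polynomial.scaleRoots_aeval_eq_zero (minpoly.aeval k α)
  have htop : k⟮β⟯ = ⊤ := by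
    rw [eq_top_iff, ← hα, IntermediateField.adjoin_simple_le_iff]
    have : (algebraMap R k r)⁻¹ • β = α := by simp only [β]; exact inv_smul_smul₀ hr α
    rw [← this]
    exact IntermediateField.smul_mem _ (IntermediateField.mem_adjoin_simple_self k β)
  have hβi : IsIntegral k β := Algebra.IsIntegral.isIntegral β
  have hdeg : G.natDegree ≤ (minpoly k β).natDegree := by
    rw [Polynomial.natDegree_scaleRoots, ← IntermediateField.adjoin.finrank hint,
      ← IntermediateField.adjoin.finrank hβi, hα, htop]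
  have hGmin : G = minpoly k β :=
    Polynomial.eq_of_monic_of_dvd_of_natDegree_le (minpoly.monic hβi) hG (minpoly.dvd k β hβ) hdeg
  have hne : aeval (β : κ) (derivative G) ≠ 0 := by
    rw [hGmin]
    intro h
    have hsep : (minpoly k β).Separable := Algebra.IsSeparable.isSeparable k β
    refine hsep.aeval_derivative_ne_zero (minpoly.aeval k β) ?_
    exact (algebraMap L κ).injective (by rw [← Polynomial.aeval_algebraMap_apply, map_zero]; exact h)
  refine ⟨F, (β : κ), hF, ?_, ?_, ?_⟩
  · rw [← Polynomial.aeval_map_algebraMap k, hFmap]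
    exact (Polynomial.aeval_algebraMap_apply κ β G).trans (by rw [hβ, map_zero])
  · rw [isUnit_iff_ne_zero, ← Polynomial.aeval_map_algebraMap k, ← Polynomial.derivative_map, hFmap]
    exact hne
  · have : k⟮(β : κ)⟯ = L := by
      rw [← IntermediateField.lift_adjoin_simple k L β, htop, IntermediateField.lift_top]
    rw [this]
    exact separableClosure.isPurelyInseparable k κ

/-- After an etale extension of the base, a point with finite residue extension has a point above it
which is geometrically a single point over the base. -/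
lemma exists_etale_radicial (q : Ideal S) [q.IsPrime] [Algebra.QuasiFiniteAt R q] :
    ∃ (R' : Type u) (_ : CommRing R') (_ : Algebra R R') (_ : Algebra.Etale R R')
      (q' : Ideal (R' ⊗[R] S)) (_ : q'.IsPrime),
      q'.comap Algebra.TensorProduct.includeRight.toRingHom = q ∧
      ∀ (K : Type u) [Field K] (σ τ : R' ⊗[R] S →+* K), RingHom.ker σ = q' → RingHom.ker τ = q' →
        σ.comp (algebraMap R' _) = τ.comp (algebraMap R' _) → σ = τ := by
  let p := q.under R
  letI := Localization.AtPrime.algebraOfLiesOver p q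
  obtain ⟨F, a, hF, ha₀, ha₁, hPI⟩ := exists_monic_lift p q.ResidueField
  let P : StandardEtalePair R := ⟨F, hF, derivative F, ⟨1, 0, 1, by simp⟩⟩
  let χ : P.Ring →ₐ[R] q.ResidueField := P.lift a ⟨ha₀, ha₁⟩
  let ψ : P.Ring ⊗[R] S →ₐ[R] q.ResidueField :=
    Algebra.TensorProduct.lift χ (IsScalarTower.toAlgHom R S _) fun _ _ => Commute.all _ _
  have hψS : ∀ s : S, ψ (1 ⊗ₜ s) = algebraMap S q.ResidueField s := fun s => by simp [ψ]
  refine ⟨P.Ring, inferInstance, inferInstance, inferInstance, RingHom.ker ψ.toRingHom,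
    RingHom.ker_isPrime _, ?_, ?_⟩
  · ext s
    rw [Ideal.mem_comap, RingHom.mem_ker]
    change ψ (1 ⊗ₜ s) = 0 ↔ _
    rw [hψS, ← RingHom.mem_ker, Ideal.ker_algebraMap_residueField]
  · intro K _ σ τ hσ hτ hστ
    have factor : ∀ (ρ : P.Ring ⊗[R] S →+* K), RingHom.ker ρ = RingHom.ker ψ.toRingHom →
        ∃ ρ' : q.ResidueField →+* K, ρ'.comp ψ.toRingHom = ρ := by
      intro ρ hρ
      have hq : ∀ s : S, ρ (1 ⊗ₜ s) = 0 ↔ s ∈ q := fun s => by
        rw [← RingHom.mem_ker, hρ, RingHom.mem_ker]
        change ψ (1 ⊗ₜ s) = 0 ↔ _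
        rw [hψS, ← RingHom.mem_ker, Ideal.ker_algebraMap_residueField]
      let ρS : S →+* K := ρ.comp Algebra.TensorProduct.includeRight.toRingHom
      let ρq : S ⧸ q →+* K := Ideal.Quotient.lift q ρS fun s hs => (hq s).2 hs
      have hinj : Function.Injective ρq := RingHom.lift_injective_of_ker_le_ideal q _ fun s hs => (hq s).1 hs
      refine ⟨IsFractionRing.lift hinj, RingHom.ext fun x => ?_⟩
      obtain ⟨u, v, hv, huv⟩ := IsFractionRing.div_surjective (A := S ⧸ q) (ψ x)
      obtain ⟨u, rfl⟩ := Ideal.Quotient.mk_surjective u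
      obtain ⟨v, rfl⟩ := Ideal.Quotient.mk_surjective v
      have hv' : v ∉ q := fun h => nonZeroDivisors.ne_zero hv (Ideal.Quotient.eq_zero_iff_mem.2 h)
      have hv₀ : ψ (1 ⊗ₜ v) ≠ 0 := by
        rwa [hψS, Ne, ← RingHom.mem_ker, Ideal.ker_algebraMap_residueField]
      have hu : algebraMap (S ⧸ q) q.ResidueField (Ideal.Quotient.mk q u) = ψ (1 ⊗ₜ u) := by
        rw [hψS]; rfl
      have hv'' : algebraMap (S ⧸ q) q.ResidueField (Ideal.Quotient.mk q v) = ψ (1 ⊗ₜ v) := by
        rw [hψS]; rfl
      have hmem : x * (1 ⊗ₜ v) - 1 ⊗ₜ u ∈ RingHom.ker ρ := by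
        rw [hρ, RingHom.mem_ker]
        change ψ (x * (1 ⊗ₜ v) - 1 ⊗ₜ u) = 0
        rw [map_sub, map_mul, ← huv, hu, hv'', div_mul_cancel₀ _ hv₀, sub_self]
      rw [RingHom.mem_ker, map_sub, map_mul, sub_eq_zero] at hmem
      rw [RingHom.comp_apply]
      change IsFractionRing.lift hinj (ψ x) = ρ x
      rw [← huv, map_div₀, IsFractionRing.lift_algebraMap, IsFractionRing.lift_algebraMap]
      change ρ (1 ⊗ₜ u) / ρ (1 ⊗ₜ v) = ρ x
      rw [← hmem, mul_div_cancel_right₀]
      exact fun h => hv' ((hq v).1 h)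
    obtain ⟨σ', rfl⟩ := factor σ hσ
    obtain ⟨τ', rfl⟩ := factor τ hτ
    suffices σ' = τ' by rw [this]
    have hk : σ'.comp (algebraMap p.ResidueField q.ResidueField) =
        τ'.comp (algebraMap p.ResidueField q.ResidueField) := by
      refine IsFractionRing.ringHom_ext (A := R ⧸ p) fun x => ?_
      obtain ⟨x, rfl⟩ := Ideal.Quotient.mk_surjective x
      have hx := congrArg (fun f : P.Ring →+* K => f (algebraMap R P.Ring x)) hστ
      simpa [ψ, χ, ← IsScalarTower.algebraMap_apply] using! hx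
    have hX := congrArg (fun f : P.Ring →+* K => f P.X) hστ
    replace hX : σ' a = τ' a := by simpa [ψ, χ] using! hX
    let E : IntermediateField p.ResidueField q.ResidueField :=
      (RingHom.eqLocusField σ' τ').toIntermediateField fun c => RingHom.congr_fun hk c
    have hle : (p.ResidueField)⟮a⟯ ≤ E := IntermediateField.adjoin_simple_le_iff.2 hX
    have := hPI
    refine IsPurelyInseparable.injective_comp_algebraMap (p.ResidueField)⟮a⟯ q.ResidueField K ?_
    ext c
    exact hle c.2

end RadicialPiece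

open RadicialPiece in
/-- Etale localization of a quasi-finite point with a finite piece which is radicial over the point. -/
theorem exists_etale_finite_radicial_piece {R S : Type u} [CommRing R] [CommRing S] [Algebra R S]
    [Algebra.FiniteType R S] (q : Ideal S) [q.IsPrime] [Algebra.QuasiFiniteAt R q] :
    ∃ (R' : Type u) (_ : CommRing R') (_ : Algebra R R') (_ : Algebra.Etale R R')
      (P : Ideal R') (_ : P.IsPrime) (e : R' ⊗[R] S) (_ : IsIdempotentElem e)
      (P' : Ideal (R' ⊗[R] S)) (_ : P'.IsPrime) (_ : P'.LiesOver P),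
      P'.comap Algebra.TensorProduct.includeRight.toRingHom = q ∧ e ∉ P' ∧
      Module.Finite R' (Localization.Away e) ∧
      (∀ P'' : Ideal (R' ⊗[R] S), P''.IsPrime → P''.LiesOver P → e ∉ P'' → P'' = P') ∧
      ∀ (K : Type u) [Field K] (σ τ : R' ⊗[R] S →+* K), RingHom.ker σ = P' → RingHom.ker τ = P' →
        σ.comp (algebraMap R' _) = τ.comp (algebraMap R' _) → σ = τ := by
  obtain ⟨R₁, _, _, _, q₁, _, hq₁, hrad⟩ := exists_etale_radicial (R := R) q
  have : Algebra.QuasiFiniteAt R₁ q₁ := .baseChange q q₁ hq₁.symm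
  obtain ⟨R₂, _, _, _, P, _, _, e, he, P', _, _, hP'q, heP', -, hfin, huniq⟩ :=
    Algebra.exists_etale_isIdempotentElem_forall_liesOver_eq (q₁.under R₁) q₁
  letI algR₂ : Algebra R R₂ := ((algebraMap R₁ R₂).comp (algebraMap R R₁)).toAlgebra
  have : IsScalarTower R R₁ R₂ := .of_algebraMap_eq fun _ => rfl
  let c : R₂ ⊗[R₁] (R₁ ⊗[R] S) ≃ₐ[R₂] R₂ ⊗[R] S :=
    Algebra.TensorProduct.cancelBaseChange R R₁ R₂ R₂ S
  have hc : ∀ s : S, c (1 ⊗ₜ (1 ⊗ₜ s)) = 1 ⊗ₜ s := fun s => by simp [c]
  have hcl : ∀ r : R₂, c (r ⊗ₜ 1) = r ⊗ₜ 1 := fun r => by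
    rw [Algebra.TensorProduct.one_def]
    simp [c]
  have hcl' : ∀ r : R₂, c.symm (r ⊗ₜ 1) = r ⊗ₜ 1 := fun r => by
    rw [← hcl, AlgEquiv.symm_apply_apply]
  let P'c : Ideal (R₂ ⊗[R] S) := P'.comap c.symm.toRingHom
  have hcomap : ∀ Q : Ideal (R₂ ⊗[R] S), Q.LiesOver P →
      (Q.comap c.toRingHom).LiesOver P := fun Q hQ => ⟨by
    rw [hQ.over]
    ext r
    simp [Ideal.under, hcl]⟩
  refine ⟨R₂, inferInstance, algR₂, Algebra.Etale.comp R R₁ R₂, P, inferInstance, c e, he.map c, P'c,
    inferInstance, ⟨?_⟩, ?_, ?_, ?_, ?_, ?_⟩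
  · rw [Ideal.over_def P' P]
    ext r
    simp [P'c, Ideal.under, hcl']
  · ext s
    rw [← hq₁, ← hP'q]
    have hcs : c.symm (1 ⊗ₜ s) = 1 ⊗ₜ (1 ⊗ₜ s) := by rw [← hc, AlgEquiv.symm_apply_apply]
    simp [P'c, hcs]
  · simpa [P'c] using heP'
  · have := hfin
    exact Module.Finite.equiv (IsLocalization.algEquivOfAlgEquiv
      (S := Localization.Away e) (Q := Localization.Away (c e)) c
      (M := Submonoid.powers e) (T := Submonoid.powers (c e)) (Submonoid.map_powers _ e) : Localization.Away e ≃ₐ[R₂] Localization.Away (c e)).toLinearEquiv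
  · intro P'' hP'' hover heP''
    have := huniq (P''.comap c.toRingHom) inferInstance (hcomap P'' hover) heP''
    ext x
    simp [P'c, ← this]
  · intro K _ σ τ hσ hτ hστ
    let ι : R₁ ⊗[R] S →+* R₂ ⊗[R] S :=
      c.toRingHom.comp Algebra.TensorProduct.includeRight.toRingHom
    have hker : ∀ ρ : R₂ ⊗[R] S →+* K, RingHom.ker ρ = P'c → RingHom.ker (ρ.comp ι) = q₁ := by
      intro ρ hρ
      rw [← hP'q]
      ext x
      rw [RingHom.mem_ker, RingHom.comp_apply, ← RingHom.mem_ker, hρ]
      simp [P'c, ι]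
    have hι : ∀ r : R₁, ι (algebraMap R₁ _ r) = algebraMap R₂ (R₂ ⊗[R] S) (algebraMap R₁ R₂ r) :=
      fun r => by
        have : (1 ⊗ₜ[R₁] algebraMap R₁ (R₁ ⊗[R] S) r : R₂ ⊗[R₁] (R₁ ⊗[R] S)) =
            algebraMap R₁ R₂ r ⊗ₜ[R₁] 1 := by
          rw [Algebra.algebraMap_eq_smul_one, TensorProduct.tmul_smul, TensorProduct.smul_tmul',
            Algebra.algebraMap_eq_smul_one]
        change c (1 ⊗ₜ[R₁] algebraMap R₁ (R₁ ⊗[R] S) r) = _
        rw [this, hcl]
        rfl
    have h := hrad K (σ.comp ι) (τ.comp ι) (hker σ hσ) (hker τ hτ) (RingHom.ext fun r => by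
      simp only [RingHom.comp_apply, hι]
      exact RingHom.congr_fun hστ _)
    refine RingHom.ext fun x => ?_
    induction x with
    | zero => simp
    | add x y hx hy => simp [hx, hy]
    | tmul r s =>
      have h1 : (r ⊗ₜ[R] s) = algebraMap R₂ (R₂ ⊗[R] S) r * (1 ⊗ₜ s) := by
        simp [Algebra.TensorProduct.algebraMap_apply]
      have h2 : (1 ⊗ₜ s : R₂ ⊗[R] S) = ι (1 ⊗ₜ s) := (hc s).symm
      rw [h1, map_mul, map_mul, h2]
      exact congrArg₂ (· * ·) (RingHom.congr_fun hστ r) (RingHom.congr_fun h _)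

end Groth.Agent.AlgSpace
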