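import Groth.Agent.Lib.AlgSpace.LqfDescent
import Groth.Agent.Lib.AlgSpace.RadicialPiece
import Groth.Agent.Lib.AlgSpace.Chart
import Groth.Agent.Lib.AlgSpace.LocP
import Groth.Agent.Lib.AlgSpace.DiagChart
import Groth.Agent.Lib.AlgSpace.OpenFlat
import Groth.Agent.Lib.FlatH4.QFBound
import Mathlib.AlgebraicGeometry.Morphisms.FlatMono
import Mathlib.RingTheory.RingHom.QuasiFinite

/-!
# Separated locally quasi-finite algebraic spaces over schemes are schemes
-/

universe u

set_option backward.isDefEq.respectTransparency.types false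
set_option linter.unusedVariables false

open CategoryTheory CategoryTheory.Limits AlgebraicGeometry Opposite

namespace Groth.Agent.AlgSpace

open AlgSp FlatH4 Groth.Agent.AlgSpDecent

attribute [local simp] pullback.lift_fst pullback.lift_snd pullback.lift_fst_assoc pullback.lift_snd_assoc

variable {S : Scheme.{u}}

/-- Separated, locally quasi-finite and locally of finite type. -/
abbrev sepLqf : MorphismProperty Scheme.{u} :=
  (@LocallyQuasiFinite ⊓ @LocallyOfFiniteType) ⊓ @IsSeparated

instance : (sepLqf.{u}).IsStableUnderBaseChange := MorphismProperty.IsStableUnderBaseChange.inf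

theorem descendsAlong_sepLqf :
    (sepLqf.{u}).DescendsAlong (@Surjective ⊓ @Flat ⊓ @QuasiCompact) := by
  have := FpqcDesc.descendsAlong_locallyQuasiFinite.{u}
  have := FpqcDesc.descendsAlong_isSeparated.{u}
  exact FpqcDesc.descendsAlong_inf _ _ _

section Generalities

attribute [local simp] pullback.lift_fst pullback.lift_snd pullback.lift_fst_assoc pullback.lift_snd_assoc

lemma isPullback_of_comp_mono {P A B C D : Sp S} {a : P ⟶ A} {b : P ⟶ B} {g : A ⟶ C} {h : B ⟶ C}
    (m : C ⟶ D) [Mono m] (sq : IsPullback a b (g ≫ m) (h ≫ m)) : IsPullback a b g h :=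
  IsPullback.of_isLimit (PullbackCone.IsLimit.mk (by rw [← cancel_mono m]; simp [sq.w])
    (fun s => sq.lift s.fst s.snd (by rw [s.condition_assoc]))
    (fun s => sq.lift_fst _ _ _) (fun s => sq.lift_snd _ _ _)
    fun s m' h₁ h₂ => sq.hom_ext (by simp [h₁]) (by simp [h₂]))

/-- The range of a closed immersion of sheaves is closed on points. -/
lemma isClosed_range_map_of_closedImmersion {Z X : Sp S} {i : Z ⟶ X}
    (hi : RepWith @IsClosedImmersion i) : IsClosed (Set.range (Points.map i)) := by
  rw [← isOpen_compl_iff]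
  refine Points.isOpen_iff.2 fun T g => ?_
  have sq := hi.1.isPullback g
  have : IsClosedImmersion (hi.1.snd g).left := hi.2 g _ _ sq
  have e : Points.ofPt g ⁻¹' Set.range (Points.map i) = Set.range (hi.1.snd g).left := by
    ext u
    constructor
    · rintro ⟨z, hz⟩
      obtain ⟨v, -, hv⟩ := exists_pt_of_isPullback sq hz
      exact ⟨v, hv⟩
    · rintro ⟨v, rfl⟩
      exact ⟨_, ofPt_sq sq.w v⟩
  rw [Set.preimage_compl, e]
  exact (hi.1.snd g).left.isClosedEmbedding.isClosed_range.isOpen_compl

/-- Etale monomorphisms are open immersions. -/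
lemma repWith_openImmersion_of_etale_mono {F G : Sp S} (f : F ⟶ G) (he : RepWith @Etale f) [Mono f] :
    RepWith @IsOpenImmersion f :=
  ⟨he.1, fun T V g fst snd sq => by
    have : Etale snd.left := he.2 g fst snd sq
    have : Mono ((yon S).map snd) :=
      (MorphismProperty.monomorphisms (Sp S)).of_isPullback sq (inferInstanceAs (Mono f))
    have : Mono snd := (yon S).mono_of_mono_map this
    have : Mono snd.left := inferInstanceAs (Mono ((Over.forget S).map snd))
    exact IsOpenImmersion.of_flat_of_mono snd.left⟩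

/-- Finite monomorphisms are closed immersions. -/
lemma repWith_closedImmersion_of_finite_mono {F G : Sp S} (f : F ⟶ G) (hf : RepWith @IsFinite f)
    [Mono f] : RepWith @IsClosedImmersion f :=
  ⟨hf.1, fun T V g fst snd sq => by
    have : Mono ((yon S).map snd) :=
      (MorphismProperty.monomorphisms (Sp S)).of_isPullback sq (inferInstanceAs (Mono f))
    have : Mono snd := (yon S).mono_of_mono_map this
    exact (IsClosedImmersion.iff_isFinite_and_mono _).2
      ⟨hf.2 g fst snd sq, inferInstanceAs (Mono ((Over.forget S).map snd))⟩⟩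

/-- Off the diagonal the geometric fibres of a separated etale map lose a point. -/
lemma fibLE_offDiag {X Y Z : Scheme.{u}} {v : X ⟶ Y} {n : ℕ} (hn : FibLE v (n + 1))
    (ι : Z ⟶ pullback v v) [IsOpenImmersion ι]
    (hι : Disjoint (Set.range ι) (Set.range (pullback.diagonal v))) :
    FibLE (ι ≫ pullback.snd v v) n := by
  intro K _ g
  let W := pullback v (g ≫ v)
  let r : W ⟶ pullback v v :=
    pullback.lift (pullback.fst v (g ≫ v)) (pullback.snd v (g ≫ v) ≫ g)
      (by rw [Category.assoc]; exact pullback.condition)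
  let m : pullback (ι ≫ pullback.snd v v) g ⟶ W :=
    pullback.lift (pullback.fst _ g ≫ ι ≫ pullback.fst v v) (pullback.snd _ g) (by
      simp only [Category.assoc, pullback.condition (f := v)]
      rw [← Category.assoc ι, ← Category.assoc, pullback.condition (f := ι ≫ pullback.snd v v),
        Category.assoc])
  have sqr : IsPullback r (pullback.snd v (g ≫ v)) (pullback.snd v v) g :=
    IsPullback.of_right (by simpa [r] using IsPullback.of_hasPullback v (g ≫ v))
      (pullback.lift_snd _ _ _) (IsPullback.of_hasPullback v v)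
  have sqm : IsPullback (pullback.fst (ι ≫ pullback.snd v v) g) m ι r :=
    IsPullback.of_bot
      (by simpa [m] using IsPullback.of_hasPullback (ι ≫ pullback.snd v v) g) (by
        apply pullback.hom_ext
        · simp [m, r]
        · simp [m, r, ← pullback.condition (f := ι ≫ pullback.snd v v)]) sqr
  have : IsOpenImmersion m := MorphismProperty.of_isPullback (P := @IsOpenImmersion) sqm ‹_›
  let s : Spec (CommRingCat.of K) ⟶ W := pullback.lift g (𝟙 _) (by simp)
  have hs : s ≫ r = g ≫ pullback.diagonal v := by apply pullback.hom_ext <;> simp [s, r]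
  let z : Spec (CommRingCat.of K) := IsLocalRing.closedPoint K
  have hz : s z ∉ Set.range m := by
    rintro ⟨a, ha⟩
    refine Set.disjoint_left.1 hι ⟨pullback.fst (ι ≫ pullback.snd v v) g a, ?_⟩ ⟨g z, rfl⟩
    calc ι (pullback.fst (ι ≫ pullback.snd v v) g a) = r (m a) := congrArg (fun f => f a) sqm.w
      _ = r (s z) := by rw [ha]
      _ = pullback.diagonal v (g z) := congrArg (fun f => f z) hs
  let F : ↥(pullback (ι ≫ pullback.snd v v) g) ⊕ Unit → ↥W := Sum.elim m fun _ => s z
  have hF : Function.Injective F := by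
    rintro (a | _) (b | _) h
    · exact congrArg Sum.inl (m.isOpenEmbedding.injective h)
    · exact absurd ⟨a, h⟩ hz
    · exact absurd ⟨b, h.symm⟩ hz
    · rfl
  have hle := (ENat.card_le_card_of_injective hF).trans (hn K (g ≫ v))
  rw [ENat.card_sum, show ENat.card Unit = 1 by simp, Nat.cast_add, Nat.cast_one] at hle
  exact (ENat.add_le_add_iff_right ENat.one_ne_top).1 hle

end Generalities

section Induction

/-- An algebraic space with an etale chart which is open and closed in its base change to an etale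
separated scheme over the base is a scheme. -/
theorem exists_iso_yon_of_clopen_chart (n : ℕ) :
    ∀ {T V U : Over S} (v : V ⟶ T) [Etale v.left] [IsSeparated v.left] (hn : FibLE v.left n)
      {X : Sp S} (hX : IsAlgSpace X) (f : X ⟶ (yon S).obj T) (hsep : IsSeparatedMor f)
      (u : (yon S).obj U ⟶ X) (hue : RepWith @Etale u) (hus : RepWith @Surjective u) (q : U ⟶ V)
      (w : u ≫ f = (yon S).map q ≫ (yon S).map v)
      [LocallyQuasiFinite (q ≫ v).left] [LocallyOfFiniteType (q ≫ v).left]
      (hjo : RepWith @IsOpenImmersion (pullback.lift u ((yon S).map q) w))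
      (hjc : RepWith @IsClosedImmersion (pullback.lift u ((yon S).map q) w)),
      ∃ G : Over S, Nonempty ((yon S).obj G ≅ X) := by
  induction n with
  | zero =>
    intro T V U v _ _ hn X hX f hsep u hue hus q w _ _ hjo hjc
    have hU : IsEmpty ↥U.left := ⟨fun x => by
      let p := q.left x
      let k := V.left.fromSpecResidueField p
      let s : Spec (V.left.residueField p) ⟶ pullback v.left (k ≫ v.left) :=
        pullback.lift k (𝟙 _) (by simp)
      have := hn (V.left.residueField p) (k ≫ v.left)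
      rw [Nat.cast_zero, nonpos_iff_eq_zero, ENat.card_eq_zero_iff_empty] at this
      exact this.false (s (IsLocalRing.closedPoint (V.left.residueField p)))⟩
    have ho : RepWith @IsOpenImmersion u := ⟨hue.1, fun A W g fst snd sq => by
      obtain ⟨k, -⟩ := (yon S).map_surjective fst
      have : IsEmpty ↥W.left := ⟨fun y => hU.false (k.left y)⟩
      exact (inferInstance : IsOpenImmersion snd.left)⟩
    have := isIso_of_isOpenImmersion_of_surjective ho (surjective_map_of_repWith hus)
    exact ⟨U, ⟨asIso u⟩⟩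
  | succ n ih =>
    intro T V U v _ _ hn X hX f hsep u hue hus q w _ _ hjo hjc
    have sqP := IsPullback.of_hasPullback f ((yon S).map v)
    let P1 := pullback f ((yon S).map v)
    let pV : P1 ⟶ X := pullback.fst _ _
    let qV : P1 ⟶ (yon S).obj V := pullback.snd _ _
    have hP1 : IsAlgSpace P1 := isAlgSpace_pullback (IsAlgSpace.yon_obj T) hX (IsAlgSpace.yon_obj V) sqP
    have hsepV : IsSeparatedMor qV := isSeparatedMor_of_isPullback sqP hsep
    let j : (yon S).obj U ⟶ P1 := pullback.lift u ((yon S).map q) w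
    have : Mono j := mono_of_repWith j (repWith_mono (fun _ _ g (_ : IsOpenImmersion g) =>
      (inferInstance : Mono g)) hjo)
    -- the chart of the base change
    let UV := pullback (q ≫ v) v
    let a : UV ⟶ U := pullback.fst _ _
    let b : UV ⟶ V := pullback.snd _ _
    have hab : a ≫ q ≫ v = b ≫ v := pullback.condition
    let uV : (yon S).obj UV ⟶ P1 := pullback.lift ((yon S).map a ≫ u) ((yon S).map b) (by
      rw [Category.assoc, w, ← Functor.map_comp, ← Functor.map_comp, ← Functor.map_comp, hab])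
    have sqUV : IsPullback uV ((yon S).map a) pV u := by
      refine IsPullback.of_right (h₁₂ := qV) (h₂₂ := f) ?_ (pullback.lift_fst _ _ _) sqP.flip
      rw [show uV ≫ qV = (yon S).map b from pullback.lift_snd _ _ _, w, ← Functor.map_comp]
      exact (IsPullback.of_hasPullback (q ≫ v) v).flip.map (yon S)
    have hVe : RepWith @Etale uV := repWith_of_isPullback sqUV.flip hue
    have hVs : RepWith @Surjective uV := repWith_of_isPullback sqUV.flip hus
    -- the complement of the image of the chart
    let C : Set (Points P1) := (Set.range (Points.map j))ᶜ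
    have hC : IsOpen C := (isClosed_range_map_of_closedImmersion hjc).isOpen_compl
    let ι' : openSub C ⟶ P1 := openSubι C
    have hr : RepWith @IsOpenImmersion ι' := repWith_openSubι hC
    have hX' : IsAlgSpace (openSub C) := isAlgSpace_of_representable hr.1 hP1
    have hsep' : IsSeparatedMor (ι' ≫ qV) :=
      repWith_diagonal_comp (repWith_diagonal_of_mono ι') hsepV
    let U' : Over S := hr.1.pullback uV
    let ιO : U' ⟶ UV := hr.1.snd uV
    let u' : (yon S).obj U' ⟶ openSub C := hr.1.fst uV
    have sqO : IsPullback u' ((yon S).map ιO) ι' uV := hr.1.isPullback uV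
    have hιO : IsOpenImmersion ιO.left := hr.2 uV _ _ sqO
    have : Mono ((yon S).map ιO) :=
      (MorphismProperty.monomorphisms (Sp S)).of_isPullback sqO (inferInstanceAs (Mono ι'))
    have hu'e : RepWith @Etale u' := repWith_of_isPullback sqO.flip hVe
    have hu's : RepWith @Surjective u' := repWith_of_isPullback sqO.flip hVs
    -- the new base
    let V2 := pullback v v
    let p1 : V2 ⟶ V := pullback.fst _ _
    let p2 : V2 ⟶ V := pullback.snd _ _
    have sqV2 := (IsPullback.of_hasPullback v v).map (Over.forget S)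
    let Δ : V ⟶ V2 := pullback.lift (𝟙 V) (𝟙 V) rfl
    have hp2 : Etale p2.left := MorphismProperty.of_isPullback (P := @Etale) sqV2 ‹_›
    have hp2s : IsSeparated p2.left := MorphismProperty.of_isPullback (P := @IsSeparated) sqV2 ‹_›
    have hΔ2 : Δ.left ≫ p2.left = 𝟙 V.left :=
      congrArg (fun k : V ⟶ V => k.left) (pullback.lift_snd (f := v) (g := v) (𝟙 V) (𝟙 V) rfl)
    have : IsClosedImmersion (Δ.left ≫ p2.left) := by rw [hΔ2]; infer_instance
    have : IsClosedImmersion Δ.left := IsClosedImmersion.of_comp Δ.left p2.left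
    have : Etale (Δ.left ≫ p2.left) := by rw [hΔ2]; infer_instance
    have : Etale Δ.left := Etale.of_comp Δ.left p2.left
    have : IsOpenImmersion Δ.left := IsOpenImmersion.of_flat_of_mono Δ.left
    let O' : V2.left.Opens :=
      ⟨(Set.range Δ.left)ᶜ, Δ.left.isClosedEmbedding.isClosed_range.isOpen_compl⟩
    let V' : Over S := Over.mk (O'.ι ≫ V2.hom)
    let ιV : V' ⟶ V2 := overArrow O'.ι
    let v' : V' ⟶ V := ιV ≫ p2
    have : IsOpenImmersion ιV.left := inferInstanceAs (IsOpenImmersion O'.ι)
    have : Etale v'.left := inferInstanceAs (Etale (O'.ι ≫ p2.left))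
    have : IsSeparated v'.left := inferInstanceAs (IsSeparated (O'.ι ≫ p2.left))
    have hn' : FibLE v'.left n := by
      let e : V2.left ≅ Limits.pullback v.left v.left := sqV2.isoPullback
      have he₁ : e.hom ≫ pullback.snd v.left v.left = p2.left := sqV2.isoPullback_hom_snd
      have he₀ : e.hom ≫ pullback.fst v.left v.left = p1.left := sqV2.isoPullback_hom_fst
      have hΔe : Δ.left ≫ e.hom = pullback.diagonal v.left := by
        apply pullback.hom_ext
        · rw [Category.assoc, he₀, pullback.diagonal_fst]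
          exact congrArg (fun k : V ⟶ V => k.left) (pullback.lift_fst (f := v) (g := v) (𝟙 V) (𝟙 V) rfl)
        · rw [Category.assoc, he₁, pullback.diagonal_snd]; exact hΔ2
      have := fibLE_offDiag hn (O'.ι ≫ e.hom) (Set.disjoint_left.2 ?_)
      · rw [Category.assoc, he₁] at this
        exact this
      · rintro _ ⟨x, rfl⟩ ⟨y, hy⟩
        rw [← hΔe] at hy
        exact x.2 ⟨y, e.hom.isOpenEmbedding.injective hy⟩
    let m : U' ⟶ V2 := pullback.lift (ιO ≫ a ≫ q) (ιO ≫ b) (by
      rw [Category.assoc, Category.assoc, Category.assoc, hab])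
    have hm : Set.range m.left ⊆ Set.range ιV.left := by
      rintro _ ⟨z, rfl⟩
      suffices m.left z ∉ Set.range Δ.left from ⟨⟨m.left z, this⟩, rfl⟩
      intro hzΔ
      let O'' : U'.left.Opens := m.left ⁻¹ᵁ Δ.left.opensRange
      let k : Over.mk (O''.ι ≫ U'.hom) ⟶ U' := overArrow O''.ι
      have hk : Set.range (k.left ≫ m.left) ⊆ Set.range Δ.left := by
        rintro _ ⟨y, rfl⟩
        exact y.2
      let l := IsOpenImmersion.lift Δ.left (k.left ≫ m.left) hk
      have hl : l ≫ Δ.left = k.left ≫ m.left := IsOpenImmersion.lift_fac _ _ _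
      let lO : Over.mk (O''.ι ≫ U'.hom) ⟶ V := Over.homMk l (by
        rw [← Over.w Δ, reassoc_of% hl]
        exact Over.w (k ≫ m))
      have hlO : lO ≫ Δ = k ≫ m := Over.OverMorphism.ext hl
      have e₁ : k ≫ ιO ≫ a ≫ q = lO := by
        rw [show ιO ≫ a ≫ q = m ≫ p1 from (pullback.lift_fst _ _ _).symm, ← Category.assoc k, ← hlO,
          Category.assoc, show Δ ≫ p1 = 𝟙 V from pullback.lift_fst _ _ _, Category.comp_id]
      have e₂ : k ≫ ιO ≫ b = lO := by
        rw [show ιO ≫ b = m ≫ p2 from (pullback.lift_snd _ _ _).symm, ← Category.assoc k, ← hlO,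
          Category.assoc, show Δ ≫ p2 = 𝟙 V from pullback.lift_snd _ _ _, Category.comp_id]
      have key : (yon S).map (k ≫ ιO) ≫ uV = (yon S).map (k ≫ ιO ≫ a) ≫ j := by
        apply pullback.hom_ext
        · simp only [uV, j, Category.assoc, pullback.lift_fst, Functor.map_comp]
        · simp only [uV, j, Category.assoc, pullback.lift_snd, ← Functor.map_comp]
          rw [e₂, ← e₁]
      have h1 : Points.ofPt uV (ιO.left z) ∈ C := by
        rw [← ofPt_sq sqO.w z]
        exact (range_openSubι C).subset ⟨_, rfl⟩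
      refine h1 ⟨Points.ofScheme U ((k ≫ ιO ≫ a).left ⟨z, hzΔ⟩), ?_⟩
      rw [← Points.ofPt_eq_map_ofScheme, ← ofPt_map_comp, ← key, ofPt_map_comp]
      rfl
    let q' : U' ⟶ V' := Over.homMk (U := U') (V := V') (IsOpenImmersion.lift ιV.left m.left hm) (by
      change _ ≫ ιV.left ≫ V2.hom = _
      rw [IsOpenImmersion.lift_fac_assoc, Over.w m])
    have hq' : q' ≫ ιV = m := Over.OverMorphism.ext (IsOpenImmersion.lift_fac _ _ _)
    have hq'2 : q' ≫ v' = ιO ≫ b := by
      change q' ≫ ιV ≫ p2 = _
      rw [← Category.assoc, hq']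
      exact pullback.lift_snd _ _ _
    have hq'1 : q' ≫ ιV ≫ p1 = ιO ≫ a ≫ q := by
      rw [← Category.assoc, hq']
      exact pullback.lift_fst _ _ _
    have w' : u' ≫ ι' ≫ qV = (yon S).map q' ≫ (yon S).map v' := by
      rw [reassoc_of% sqO.w, show uV ≫ qV = (yon S).map b from pullback.lift_snd _ _ _,
        ← Functor.map_comp, ← Functor.map_comp, hq'2]
    have hbl : LocallyQuasiFinite b.left ∧ LocallyOfFiniteType b.left := by
      have sqb := (IsPullback.of_hasPullback (q ≫ v) v).map (Over.forget S)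
      exact ⟨MorphismProperty.of_isPullback (P := @LocallyQuasiFinite) sqb ‹_›,
        MorphismProperty.of_isPullback (P := @LocallyOfFiniteType) sqb ‹_›⟩
    obtain ⟨_, _⟩ := hbl
    have : LocallyQuasiFinite (q' ≫ v').left := by rw [hq'2, Over.comp_left]; infer_instance
    have : LocallyOfFiniteType (q' ≫ v').left := by rw [hq'2, Over.comp_left]; infer_instance
    let j' := pullback.lift u' ((yon S).map q') w'
    let π : pullback (ι' ≫ qV) ((yon S).map v') ⟶ P1 :=
      pullback.lift (pullback.fst _ _ ≫ ι' ≫ pV) (pullback.snd _ _ ≫ (yon S).map (ιV ≫ p1)) (by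
        rw [Category.assoc, Category.assoc, sqP.w, ← Category.assoc ι', ← Category.assoc,
          pullback.condition, Category.assoc, Category.assoc, ← Functor.map_comp, ← Functor.map_comp]
        congr 2
        simp only [v', Category.assoc]
        exact congrArg (ιV ≫ ·) (pullback.condition (f := v) (g := v)).symm)
    have hj'1 : j' ≫ pullback.fst _ _ = u' := pullback.lift_fst _ _ _
    have hj'2 : j' ≫ pullback.snd _ _ = (yon S).map q' := pullback.lift_snd _ _ _
    have : Mono j' := mono_of_yon j' fun A x y e => by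
      obtain ⟨x, rfl⟩ := (yon S).map_surjective x
      obtain ⟨y, rfl⟩ := (yon S).map_surjective y
      have e₁ := congrArg (· ≫ pullback.fst _ _) e
      have e₂ := congrArg (· ≫ pullback.snd _ _) e
      simp only [Category.assoc, hj'1, hj'2] at e₁ e₂
      rw [← Functor.map_comp, ← Functor.map_comp] at e₂
      have e₂' := (yon S).map_injective e₂
      have hb : x ≫ ιO ≫ b = y ≫ ιO ≫ b := by rw [← hq'2, reassoc_of% e₂']
      have hq : x ≫ ιO ≫ a ≫ q = y ≫ ιO ≫ a ≫ q := by rw [← hq'1, reassoc_of% e₂']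
      have hu : (yon S).map (x ≫ ιO ≫ a) ≫ u = (yon S).map (y ≫ ιO ≫ a) ≫ u := by
        have := congrArg (· ≫ ι' ≫ pV) e₁
        simp only [Category.assoc, reassoc_of% sqO.w, sqUV.w] at this
        simpa using this
      have ha : x ≫ ιO ≫ a = y ≫ ιO ≫ a := (yon S).map_injective ((cancel_mono j).1 (by
        apply pullback.hom_ext
        · simp only [j, Category.assoc, pullback.lift_fst]; exact hu
        · simp only [j, Category.assoc, pullback.lift_snd, ← Functor.map_comp]; rw [hq]))
      have : x ≫ ιO = y ≫ ιO := pullback.hom_ext (by simpa using ha) (by simpa using hb)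
      rw [← cancel_mono ((yon S).map ιO), ← Functor.map_comp, ← Functor.map_comp, this]
    have sqj : IsPullback ((yon S).map (ιO ≫ a)) j' j π := by
      refine isPullback_of_mono_lifts ?_ fun A y x e => ?_
      · apply pullback.hom_ext
        · simp only [j, π, Category.assoc, pullback.lift_fst, reassoc_of% hj'1]
          rw [reassoc_of% sqO.w, sqUV.w, Functor.map_comp_assoc]
        · simp only [j, π, Category.assoc, pullback.lift_snd, reassoc_of% hj'2]
          rw [← Functor.map_comp, ← Functor.map_comp, hq'1, Category.assoc]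
      obtain ⟨x, rfl⟩ := (yon S).map_surjective x
      obtain ⟨y2, hy2⟩ := (yon S).map_surjective (y ≫ pullback.snd _ _)
      have e₁ := congrArg (· ≫ pullback.fst f ((yon S).map v)) e
      have e₂ := congrArg (· ≫ pullback.snd f ((yon S).map v)) e
      simp only [j, π, Category.assoc, pullback.lift_fst, pullback.lift_snd] at e₁ e₂
      rw [← reassoc_of% hy2, ← Functor.map_comp, ← Functor.map_comp] at e₂
      have e₂' := (yon S).map_injective e₂
      let l : A ⟶ UV := pullback.lift x (y2 ≫ v') (by
        rw [← Category.assoc, e₂', Category.assoc, Category.assoc, Category.assoc]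
        refine congrArg (y2 ≫ ·) ?_
        change ιV ≫ p1 ≫ v = (ιV ≫ p2) ≫ v
        rw [Category.assoc]
        exact congrArg (ιV ≫ ·) pullback.condition)
      have hl : (y ≫ pullback.fst _ _) ≫ ι' = (yon S).map l ≫ uV := by
        apply pullback.hom_ext
        · simp only [uV, Category.assoc, pullback.lift_fst, ← Functor.map_comp_assoc]
          rw [show l ≫ a = x from pullback.lift_fst _ _ _, e₁]
        · simp only [uV, Category.assoc, pullback.lift_snd, ← Functor.map_comp]
          rw [show l ≫ b = y2 ≫ v' from pullback.lift_snd _ _ _]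
          exact ((congrArg (y ≫ ·) pullback.condition).trans ((Category.assoc _ _ _).symm.trans
            (congrArg (· ≫ (yon S).map v') hy2.symm))).trans ((yon S).map_comp y2 v').symm
      refine ⟨sqO.lift _ _ hl, ?_⟩
      obtain ⟨p, hp⟩ := (yon S).map_surjective (sqO.lift _ _ hl)
      have hp1 := sqO.lift_fst _ _ hl
      have hp2 := sqO.lift_snd _ _ hl
      rw [← hp] at hp1 hp2 ⊢
      rw [← Functor.map_comp] at hp2
      have hp2' : p ≫ ιO = l := (yon S).map_injective hp2
      apply pullback.hom_ext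
      · rw [Category.assoc, hj'1, hp1]
      · rw [Category.assoc, hj'2, ← hy2, ← Functor.map_comp]
        congr 1
        have : Mono ιV := (Over.forget S).mono_of_mono_map (inferInstanceAs (Mono O'.ι))
        rw [← cancel_mono ιV]
        apply pullback.hom_ext
        · rw [Category.assoc, Category.assoc, Category.assoc]
          exact (congrArg (p ≫ ·) hq'1).trans (by rw [reassoc_of% hp2', ← e₂']; exact pullback.lift_fst_assoc _ _ _ q)
        · rw [Category.assoc, Category.assoc, Category.assoc]
          exact (congrArg (p ≫ ·) hq'2).trans (by rw [reassoc_of% hp2']; exact pullback.lift_snd _ _ _)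
    obtain ⟨G', ⟨e'⟩⟩ := ih v' hn' hX' (ι' ≫ qV) hsep' u' hu'e hu's q' w'
      (repWith_of_isPullback sqj hjo) (repWith_of_isPullback sqj hjc)
    -- the base change is a scheme
    let κ : Type u := ULift.{u} Bool
    let Ug : κ → Over S := fun k => if k.down then U else G'
    obtain ⟨W, ⟨e⟩⟩ : ∃ W : Over S, Nonempty ((yon S).obj W ≅ P1) := by
      let wg : ∀ k : κ, (yon S).obj (Ug k) ⟶ P1 := fun k =>
        match k with
        | ⟨true⟩ => j
        | ⟨false⟩ => e'.hom ≫ ι'
      have hwg : ∀ k, RepWith @IsOpenImmersion (wg k) := fun k =>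
        match k with
        | ⟨true⟩ => hjo
        | ⟨false⟩ => (repWith_respectsIso_left e'.hom).2 hr
      refine exists_iso_yon_of_openCover hwg fun A g t => ?_
      by_cases ht : Points.ofPt g t ∈ Set.range (Points.map j)
      · obtain ⟨z, hz⟩ := ht
        obtain ⟨x, -, hx⟩ := exists_pt_of_isPullback ((hwg ⟨true⟩).1.isPullback g) hz
        exact ⟨⟨true⟩, x, hx⟩
      · obtain ⟨z, hz⟩ : Points.ofPt g t ∈ Set.range (Points.map (wg ⟨false⟩)) := by
          change Points.ofPt g t ∈ Set.range (Points.map (e'.hom ≫ ι'))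
          rw [map_comp_eq, Set.range_comp, (bijective_map_iso (e := e'.hom)).2.range_eq, Set.image_univ,
            range_openSubι]
          exact ht
        obtain ⟨x, -, hx⟩ := exists_pt_of_isPullback ((hwg ⟨false⟩).1.isPullback g) hz
        exact ⟨⟨false⟩, x, hx⟩
    obtain ⟨sW, hsW⟩ := (yon S).map_surjective (e.hom ≫ qV)
    obtain ⟨k, hk⟩ := (yon S).map_surjective (uV ≫ e.inv)
    have hk₁ : Etale k.left :=
      (repWith_yon_map_iff _ _).1 (hk ▸ (repWith_respectsIso_right e.inv).2 hVe)
    have hk₂ : Surjective k.left :=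
      (repWith_yon_map_iff _ _).1 (hk ▸ (repWith_respectsIso_right e.inv).2 hVs)
    have hks : k ≫ sW = b := (yon S).map_injective (by
      rw [Functor.map_comp, hk, hsW, Category.assoc, e.inv_hom_id_assoc]
      exact pullback.lift_snd _ _ _)
    have hW : sepLqf sW.left := by
      refine ⟨EtaleLocal.descends (P := @LocallyQuasiFinite ⊓ @LocallyOfFiniteType) k.left sW.left
        hk₁ hk₂ ?_, ?_⟩
      · rw [← Over.comp_left, hks]; exact ⟨‹_›, ‹_›⟩
      · refine (isSeparatedMor_yon_map_iff sW).1 ?_
        rw [hsW]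
        exact repWith_diagonal_comp (repWith_diagonal_of_mono e.hom) hsepV
    have hqV : RepWith sepLqf qV :=
      (repWith_respectsIso_left e.hom).1 (hsW ▸ (repWith_yon_map_iff sepLqf sW).2 hW)
    -- descent to the image of `v`
    let Ov : T.left.Opens := ⟨Set.range v.left, v.left.isOpenMap.isOpen_range⟩
    let T0 : Over S := Over.mk (Ov.ι ≫ T.hom)
    let ι0 : T0 ⟶ T := overArrow Ov.ι
    have : Mono ι0 := (Over.forget S).mono_of_mono_map (inferInstanceAs (Mono Ov.ι))
    have hv0 : Set.range v.left ⊆ Set.range Ov.ι := by rw [Ov.range_ι]; rfl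
    let v0 : V ⟶ T0 := Over.homMk (IsOpenImmersion.lift Ov.ι v.left hv0) (by
      change _ ≫ Ov.ι ≫ T.hom = _
      rw [IsOpenImmersion.lift_fac_assoc, Over.w v])
    have hv0ι : v0 ≫ ι0 = v := Over.OverMorphism.ext (IsOpenImmersion.lift_fac _ _ _)
    have hv0l : v0.left ≫ Ov.ι = v.left := IsOpenImmersion.lift_fac _ _ _
    obtain ⟨f0, hf0⟩ := exists_factor_of_range
      ((repWith_yon_map_iff @IsOpenImmersion ι0).2 (inferInstanceAs (IsOpenImmersion Ov.ι))) f (by
        rintro _ ⟨x, rfl⟩
        obtain ⟨y, rfl⟩ := surjective_ofPt hus x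
        refine ⟨Points.ofScheme T0 (v0.left (q.left y)), ?_⟩
        rw [← Points.ofPt_eq_map_ofScheme, Points.map_ofPt, w, ← Functor.map_comp, ← ofPt_map_comp,
          ← Functor.map_comp, hv0ι, ← Category.comp_id ((yon S).map v), ofPt_map_comp,
          ← Category.comp_id ((yon S).map (q ≫ v)), ofPt_map_comp]
        rfl)
    have sq0 : IsPullback pV qV f0 ((yon S).map v0) :=
      isPullback_of_comp_mono ((yon S).map ι0) (by rw [hf0, ← Functor.map_comp, hv0ι]; exact sqP)
    have hv0e : Etale v0.left := by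
      have : Etale (v0.left ≫ Ov.ι) := by rw [hv0l]; infer_instance
      exact Etale.of_comp v0.left Ov.ι
    have hv0s : Surjective v0.left := ⟨fun t => by
      obtain ⟨x, hx⟩ := t.2
      exact ⟨x, Ov.ι.isOpenEmbedding.injective ((congrArg (fun k => k x) hv0l).trans hx)⟩⟩
    have := isLocallySurjective_of_etale ((repWith_yon_map_iff @Etale v0).2 hv0e)
      ((repWith_yon_map_iff @Surjective v0).2 hv0s)
    have := descendsAlong_sepLqf.{u}
    have hf0 : RepWith sepLqf f0 :=
      repWith_of_locSurj_lqf (fun _ _ g hg => ⟨hg.1.1, hg.1.2, hg.2⟩) sq0 hqV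
    obtain ⟨G, i, fst, sqG⟩ := hf0.1 (𝟙 _)
    have := sqG.isIso_fst_of_isIso
    exact ⟨G, ⟨asIso fst⟩⟩

end Induction


section Piece

open AffineDescent
open scoped TensorProduct

set_option maxHeartbeats 800000 in
/-- Near a quasi-finite point of an affine etale chart a separated space is a scheme. -/
theorem exists_scheme_nbhd {R : CommRingCat.{u}} (sT : Spec R ⟶ S) (A : Type u) [CommRing A]
    [Algebra R A] [Algebra.FiniteType R A] [Algebra.QuasiFinite R A] {X : Sp S} (hX : IsAlgSpace X)
    (f : X ⟶ (yon S).obj (Over.mk sT)) (hsep : IsSeparatedMor f)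
    (u₀ : (yon S).obj (specOver sT A) ⟶ X) (hu₀ : RepWith @Etale u₀)
    (w₀ : u₀ ≫ f = (yon S).map (toBase sT A)) (y : ↥(specOver sT A).left) :
    ∃ (G : Over S) (g : (yon S).obj G ⟶ X),
      RepWith @IsOpenImmersion g ∧ Points.ofPt u₀ y ∈ Set.range (Points.map g) := by
  let q₀ : Ideal A := (show PrimeSpectrum A from y).asIdeal
  have : Algebra.QuasiFiniteAt R q₀ := inferInstance
  obtain ⟨R', _, _, _, P, _, e, he, P', _, _, hP'q, heP', hfin, huniq, hrad⟩ :=
    exists_etale_finite_radicial_piece (R := R) q₀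
  let B := R' ⊗[R] A
  let Be := Localization.Away e
  let inL : R' →ₐ[R] B := Algebra.TensorProduct.includeLeft
  let inR : A →ₐ[R] B := Algebra.TensorProduct.includeRight
  let loc : B →ₐ[R] Be := IsScalarTower.toAlgHom R B Be
  let V₀ := specOver sT R'
  let v₀ : V₀ ⟶ Over.mk sT := toBase sT R'
  let U₁ := specOver sT Be
  let ι : U₁ ⟶ specOver sT B := specMap sT loc
  have hιo : IsOpenImmersion ι.left :=
    IsOpenImmersion.of_isLocalization (R := B) (S := Be) e
  have : Etale v₀.left := by
    have hR' : Algebra.Etale R R' := inferInstance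
    exact (HasRingHomProperty.Spec_iff (P := @Etale)).2 (RingHom.etale_algebraMap.2 hR')
  let q₁ : U₁ ⟶ V₀ := ι ≫ specMap sT inL
  let a₁ : U₁ ⟶ specOver sT A := ι ≫ specMap sT inR
  have hq₁ : IsFinite q₁.left := by
    have e₁ : q₁.left = Spec.map (CommRingCat.ofHom (algebraMap R' Be)) := by
      change Spec.map _ ≫ Spec.map _ = _
      rw [← Spec.map_comp]
      rfl
    rw [e₁]
    exact (IsFinite.SpecMap_iff _).2 (RingHom.finite_algebraMap.2 hfin)
  have : LocallyQuasiFinite v₀.left := locallyQuasiFinite_of_unramified _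
  have hsep₀ : IsSeparated v₀.left := inferInstanceAs (IsSeparated (Spec.map _))
  -- the chart of the base change
  let P1 := pullback f ((yon S).map v₀)
  have sqP : IsPullback (pullback.fst f ((yon S).map v₀)) (pullback.snd f ((yon S).map v₀)) f
      ((yon S).map v₀) := IsPullback.of_hasPullback _ _
  have hP1 : IsAlgSpace P1 :=
    isAlgSpace_pullback (IsAlgSpace.yon_obj _) hX (IsAlgSpace.yon_obj V₀) sqP
  have hsepV := isSeparatedMor_of_isPullback sqP hsep
  let u₂ : (yon S).obj (specOver sT B) ⟶ P1 :=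
    pullback.lift ((yon S).map (specMap sT inR) ≫ u₀) ((yon S).map (specMap sT inL)) (by
      rw [Category.assoc, w₀, ← Functor.map_comp, ← Functor.map_comp, specMap_toBase, specMap_toBase])
  have sq₂ : IsPullback u₂ ((yon S).map (specMap sT inR)) (pullback.fst f ((yon S).map v₀)) u₀ := by
    refine IsPullback.of_right (h₁₂ := pullback.snd f ((yon S).map v₀)) (h₂₂ := f) ?_
      (pullback.lift_fst _ _ _) sqP.flip
    rw [show u₂ ≫ pullback.snd f ((yon S).map v₀) = (yon S).map (specMap sT inL) from
      pullback.lift_snd _ _ _, w₀]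
    exact (isPullback_toBase sT R' A).map (yon S)
  let u₁ : (yon S).obj U₁ ⟶ P1 := (yon S).map ι ≫ u₂
  have hu₁ : RepWith @Etale u₁ :=
    repWith_comp ((repWith_yon_map_iff @Etale ι).2 (inferInstanceAs (Etale ι.left)))
      (repWith_of_isPullback sq₂.flip hu₀)
  have hu₁snd : u₁ ≫ pullback.snd f ((yon S).map v₀) = (yon S).map q₁ := by
    rw [Category.assoc, show u₂ ≫ pullback.snd f ((yon S).map v₀) = (yon S).map (specMap sT inL) from
      pullback.lift_snd _ _ _, ← Functor.map_comp]
  -- its kernel pair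
  obtain ⟨K, x₁, x₂, sqK⟩ := representable_diag_iff.1 hP1.diag u₁ u₁
  have hx₁e : Etale x₁.left := hu₁.2 u₁ _ _ sqK.flip
  have hx₁f : IsFinite x₁.left := by
    have h₁ : RepWith @IsFinite (pullback.lift ((yon S).map x₁) ((yon S).map x₂)
        (by rw [← Category.assoc, sqK.w, Category.assoc]) :
          (yon S).obj K ⟶ pullback (u₁ ≫ pullback.snd f ((yon S).map v₀))
            (u₁ ≫ pullback.snd f ((yon S).map v₀))) :=
      repWith_mono (Q := @IsFinite) (fun _ _ g (hg : IsClosedImmersion g) => inferInstance)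
        (repWith_of_isPullback (isPullback_diagonal_chart (pullback.snd f ((yon S).map v₀)) u₁ sqK) hsepV)
    have h₂ : RepWith @IsFinite (pullback.fst (u₁ ≫ pullback.snd f ((yon S).map v₀))
        (u₁ ≫ pullback.snd f ((yon S).map v₀))) :=
      repWith_of_isPullback (IsPullback.of_hasPullback _ _).flip
        (by rw [hu₁snd]; exact (repWith_yon_map_iff @IsFinite q₁).2 hq₁)
    have h₃ := repWith_comp h₁ h₂
    rw [pullback.lift_fst] at h₃
    exact (repWith_yon_map_iff _ _).1 h₃
  have hxq : x₁ ≫ q₁ = x₂ ≫ q₁ := (yon S).map_injective (by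
    rw [Functor.map_comp, ← hu₁snd, ← Category.assoc, sqK.w, Category.assoc, hu₁snd,
      ← Functor.map_comp])
  obtain ⟨δ, hδ⟩ := (yon S).map_surjective (sqK.lift (𝟙 _) (𝟙 _) rfl)
  have hδ₁ : δ ≫ x₁ = 𝟙 _ := (yon S).map_injective (by
    rw [Functor.map_comp, hδ, (yon S).map_id]; exact sqK.lift_fst _ _ _)
  have hδ₂ : δ ≫ x₂ = 𝟙 _ := (yon S).map_injective (by
    rw [Functor.map_comp, hδ, (yon S).map_id]; exact sqK.lift_snd _ _ _)
  have hδ₁' : δ.left ≫ x₁.left = 𝟙 U₁.left := congrArg (fun k : U₁ ⟶ U₁ => k.left) hδ₁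
  have : IsClosedImmersion (δ.left ≫ x₁.left) := by rw [hδ₁']; infer_instance
  have : IsClosedImmersion δ.left := IsClosedImmersion.of_comp δ.left x₁.left
  have : Etale (δ.left ≫ x₁.left) := by rw [hδ₁']; infer_instance
  have : Etale δ.left := Etale.of_comp δ.left x₁.left
  have hδo : IsOpenImmersion δ.left := IsOpenImmersion.of_flat_of_mono δ.left
  let C : Set ↥V₀.left := (x₁ ≫ q₁).left '' (Set.range δ.left)ᶜ
  have hC : IsClosed C := by
    have : IsFinite (x₁ ≫ q₁).left := by rw [Over.comp_left]; infer_instance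
    exact (x₁ ≫ q₁).left.isClosedMap _ δ.left.isOpenEmbedding.isOpen_range.isClosed_compl
  let pV : ↥V₀.left := (⟨P, inferInstance⟩ : PrimeSpectrum R')
  -- the single point over `P`
  have fibre : ∀ b : ↥U₁.left, q₁.left b = pV → (show PrimeSpectrum B from ι.left b).asIdeal = P' := by
    intro b hb
    let Pb := (show PrimeSpectrum B from ι.left b)
    refine huniq Pb.asIdeal inferInstance ⟨?_⟩ ?_
    · exact (congrArg (fun z : PrimeSpectrum R' => z.asIdeal) hb).symm
    · intro heb
      have hb' : algebraMap B Be e ∈ (show PrimeSpectrum Be from b).asIdeal := heb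
      exact (show PrimeSpectrum Be from b).2.ne_top
        (Ideal.eq_top_of_isUnit_mem _ hb' (IsLocalization.Away.algebraMap_isUnit e))
  have hpC : pV ∉ C := by
    rintro ⟨z, hz, hzv⟩
    apply hz
    let κ := K.left.residueField z
    let k : Over.mk (K.left.fromSpecResidueField z ≫ K.hom) ⟶ K := overArrow (K.left.fromSpecResidueField z)
    have hk : ∀ c, k.left c = z := fun c => Scheme.fromSpecResidueField_apply z c
    let c₀ : ↥(Spec κ) := IsLocalRing.closedPoint κ
    let σ : ∀ x : K ⟶ U₁, CommRingCat.of B ⟶ κ := fun x => Spec.preimage ((k ≫ x ≫ ι).left)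
    have hσP : ∀ x : K ⟶ U₁, x ≫ q₁ = x₁ ≫ q₁ → RingHom.ker (σ x).hom = P' := by
      intro x hx
      have h1 : q₁.left (x.left z) = pV := by
        rw [← hzv]
        exact congrArg (fun m : K ⟶ V₀ => m.left z) hx
      rw [← fibre _ h1]
      have h2 : (Spec.map (σ x)) c₀ = ι.left (x.left z) := by
        rw [Spec.map_preimage]
        exact congrArg (fun p => ι.left (x.left p)) (hk c₀)
      rw [← h2]
      ext b
      change (σ x).hom b = 0 ↔ b ∈ Ideal.comap (σ x).hom (IsLocalRing.maximalIdeal κ)
      rw [Ideal.mem_comap, IsLocalRing.maximalIdeal_eq_bot, Ideal.mem_bot]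
    have key : σ x₁ = σ x₂ := by
      refine CommRingCat.hom_ext (hrad κ _ _ (hσP x₁ rfl) (hσP x₂ hxq.symm) ?_)
      have e₁ : CommRingCat.ofHom inL.toRingHom ≫ σ x₁ = CommRingCat.ofHom inL.toRingHom ≫ σ x₂ := by
        apply Spec.map_injective
        rw [Spec.map_comp, Spec.map_comp, Spec.map_preimage, Spec.map_preimage]
        exact congrArg (fun m : K ⟶ V₀ => k.left ≫ m.left) hxq
      exact congrArg CommRingCat.Hom.hom e₁
    have key' : k ≫ x₁ = k ≫ x₂ := by
      have hkey := congrArg Spec.map key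
      rw [Spec.map_preimage, Spec.map_preimage] at hkey
      have : Mono ι := (Over.forget S).mono_of_mono_map (inferInstanceAs (Mono ι.left))
      rw [← cancel_mono ι, Category.assoc, Category.assoc]
      exact Over.OverMorphism.ext hkey
    have hk' : k = (k ≫ x₁) ≫ δ := (yon S).map_injective (sqK.hom_ext
      (by rw [← Functor.map_comp, ← Functor.map_comp, Category.assoc, hδ₁, Category.comp_id])
      (by rw [← Functor.map_comp, ← Functor.map_comp, Category.assoc, hδ₂, Category.comp_id, key']))
    have h3 : δ.left ((k ≫ x₁).left c₀) = k.left c₀ := by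
      rw [← Scheme.Hom.comp_apply, ← Over.comp_left, ← hk']
    exact ⟨(k ≫ x₁).left c₀, h3.trans (hk c₀)⟩
  -- shrink the base
  obtain ⟨D, hD, hpD, hDC⟩ :=
    exists_isAffineOpen_mem_and_subset (X := V₀.left) (x := pV) (U := ⟨Cᶜ, hC.isOpen_compl⟩) hpC
  let V' : Over S := Over.mk (D.ι ≫ V₀.hom)
  let ιD : V' ⟶ V₀ := overArrow D.ι
  have : IsOpenImmersion ιD.left := inferInstanceAs (IsOpenImmersion D.ι)
  let v' : V' ⟶ Over.mk sT := ιD ≫ v₀
  have : Etale v'.left := inferInstanceAs (Etale (D.ι ≫ v₀.left))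
  have : IsSeparated v'.left := inferInstanceAs (IsSeparated (D.ι ≫ v₀.left))
  let OU : U₁.left.Opens := q₁.left ⁻¹ᵁ D
  let U' : Over S := Over.mk (OU.ι ≫ U₁.hom)
  let ιU : U' ⟶ U₁ := overArrow OU.ι
  have : IsOpenImmersion ιU.left := inferInstanceAs (IsOpenImmersion OU.ι)
  let q' : U' ⟶ V' := Over.homMk (q₁.left ∣_ D) (by
    change _ ≫ _ ≫ _ = _
    rw [morphismRestrict_ι_assoc, Over.w q₁]; rfl)
  have hq' : IsFinite q'.left :=
    MorphismProperty.of_isPullback (P := @IsFinite) (isPullback_morphismRestrict q₁.left D).flip hq₁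
  have hqD : q' ≫ ιD = ιU ≫ q₁ := Over.OverMorphism.ext (morphismRestrict_ι _ _)
  let P1' := pullback f ((yon S).map v')
  have sqP' : IsPullback (pullback.fst f ((yon S).map v')) (pullback.snd f ((yon S).map v')) f
      ((yon S).map v') := IsPullback.of_hasPullback _ _
  have hP1' : IsAlgSpace P1' :=
    isAlgSpace_pullback (IsAlgSpace.yon_obj _) hX (IsAlgSpace.yon_obj V') sqP'
  have hsepV' := isSeparatedMor_of_isPullback sqP' hsep
  let uX : (yon S).obj U' ⟶ X := (yon S).map (ιU ≫ a₁) ≫ u₀
  have wX : uX ≫ f = (yon S).map q' ≫ (yon S).map v' := by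
    rw [Category.assoc, w₀, ← Functor.map_comp, ← Functor.map_comp]
    congr 1
    change (ιU ≫ a₁) ≫ toBase sT A = q' ≫ ιD ≫ toBase sT R'
    rw [reassoc_of% hqD]
    simp only [a₁, q₁, Category.assoc, specMap_toBase]
  let u' : (yon S).obj U' ⟶ P1' := pullback.lift uX ((yon S).map q') wX
  let π : P1' ⟶ P1 := pullback.lift (pullback.fst _ _) (pullback.snd _ _ ≫ (yon S).map ιD)
    (by rw [Category.assoc, ← Functor.map_comp]; exact pullback.condition)
  have hπ : u' ≫ π = (yon S).map ιU ≫ u₁ := by
    apply pullback.hom_ext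
    · simp [u', π, u₁, u₂, uX, a₁]
    · simp only [u', π, u₁, u₂, Category.assoc, pullback.lift_snd, pullback.lift_snd_assoc,
        ← Functor.map_comp, hqD]
      rfl
  have : Mono ιD := (Over.forget S).mono_of_mono_map (inferInstanceAs (Mono D.ι))
  have : Mono ιU := (Over.forget S).mono_of_mono_map (inferInstanceAs (Mono OU.ι))
  have : Mono π := ⟨fun {Z} g h e => by
    apply pullback.hom_ext
    · simpa [π] using e =≫ pullback.fst _ _
    · rw [← cancel_mono ((yon S).map ιD)]
      simpa [π] using e =≫ pullback.snd _ _⟩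
  have hu'e : RepWith @Etale u' :=
    repWith_of_isPullback (isPullback_of_mono u' π)
      (hπ ▸ repWith_comp ((repWith_yon_map_iff @Etale ιU).2 (inferInstanceAs (Etale ιU.left))) hu₁)
  have : Mono u' := mono_of_yon u' fun T x z exz => by
    obtain ⟨x, rfl⟩ := (yon S).map_surjective x
    obtain ⟨z, rfl⟩ := (yon S).map_surjective z
    obtain ⟨r, hr⟩ := (yon S).map_surjective (sqK.lift ((yon S).map (x ≫ ιU)) ((yon S).map (z ≫ ιU))
      (by simp only [Functor.map_comp, Category.assoc, ← hπ, reassoc_of% exz]))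
    have hr₁ : r ≫ x₁ = x ≫ ιU := (yon S).map_injective (by
      rw [Functor.map_comp, hr]; exact sqK.lift_fst _ _ _)
    have hr₂ : r ≫ x₂ = z ≫ ιU := (yon S).map_injective (by
      rw [Functor.map_comp, hr]; exact sqK.lift_snd _ _ _)
    have hrδ : Set.range r.left ⊆ Set.range δ.left := by
      rintro _ ⟨t, rfl⟩
      by_contra hn
      have h1 : q₁.left (ιU.left (x.left t)) ∈ D := (x.left t).2
      refine hDC h1 ⟨r.left t, hn, ?_⟩
      rw [← Scheme.Hom.comp_apply, ← Over.comp_left, ← Category.assoc, hr₁]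
      simp only [Over.comp_left, Scheme.Hom.comp_apply]
    have : IsOpenImmersion δ.left := hδo
    let l : T ⟶ U₁ := Over.homMk (IsOpenImmersion.lift δ.left r.left hrδ) (by
      rw [← Over.w δ, IsOpenImmersion.lift_fac_assoc, Over.w r])
    have hl : l ≫ δ = r := Over.OverMorphism.ext (IsOpenImmersion.lift_fac _ _ _)
    have : x ≫ ιU = z ≫ ιU := by
      rw [← hr₁, ← hr₂, ← hl, Category.assoc, Category.assoc, hδ₁, hδ₂]
    rw [(cancel_mono ιU).1 this]
  have hu'o : RepWith @IsOpenImmersion u' := repWith_openImmersion_of_etale_mono u' hu'e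
  have hu'f : RepWith @IsFinite u' :=
    repWith_of_comp_of_diagonal (g := pullback.snd f ((yon S).map v'))
      (by rw [show u' ≫ pullback.snd f ((yon S).map v') = (yon S).map q' from pullback.lift_snd _ _ _]
          exact (repWith_yon_map_iff @IsFinite q').2 hq')
      (repWith_mono (Q := @IsFinite) (fun _ _ g (hg : IsClosedImmersion g) => inferInstance) hsepV')
  have hu'c : RepWith @IsClosedImmersion u' := repWith_closedImmersion_of_finite_mono u' hu'f
  -- the open subspace
  have hv'e : RepWith @Etale ((yon S).map v') := (repWith_yon_map_iff @Etale v').2 ‹_›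
  have huXe : RepWith @Etale uX := by
    rw [show uX = u' ≫ pullback.fst f ((yon S).map v') from (pullback.lift_fst _ _ _).symm]
    exact repWith_comp hu'e (repWith_of_isPullback sqP'.flip hv'e)
  let Wd : Set (Points X) := Set.range (Points.ofPt uX)
  have hWd : IsOpen Wd := (isOpenMap_ofPt uX huXe).isOpen_range
  have hr : RepWith @IsOpenImmersion (openSubι Wd) := repWith_openSubι hWd
  have hX₀ : IsAlgSpace (openSub Wd) := isAlgSpace_of_representable hr.1 hX
  obtain ⟨u₃, hu₃⟩ := exists_factor_openSub (W := Wd) uX (by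
    rintro _ ⟨x, rfl⟩
    obtain ⟨t, rfl⟩ := (Points.schemeEquiv U').surjective x
    exact ⟨t, Points.ofPt_eq_map_ofScheme uX t⟩)
  have hu₃e : RepWith @Etale u₃ :=
    repWith_of_isPullback (isPullback_of_mono u₃ (openSubι Wd)) (hu₃ ▸ huXe)
  have hu₃s : RepWith @Surjective u₃ := repWith_surjective_of_ofPt hu₃e.1 fun x => by
    obtain ⟨t, ht⟩ : Points.map (openSubι Wd) x ∈ Wd := (range_openSubι Wd).subset ⟨x, rfl⟩
    refine ⟨t, injective_map_of_openImmersion hr ?_⟩
    rw [Points.map_ofPt, hu₃, ht]
  have w₃ : u₃ ≫ openSubι Wd ≫ f = (yon S).map q' ≫ (yon S).map v' := by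
    rw [← Category.assoc, hu₃, wX]
  let φ : pullback (openSubι Wd ≫ f) ((yon S).map v') ⟶ P1' :=
    pullback.lift (pullback.fst _ _ ≫ openSubι Wd) (pullback.snd _ _)
      (by rw [Category.assoc]; exact pullback.condition)
  have : Mono φ := ⟨fun {Z} g h e => by
    apply pullback.hom_ext
    · rw [← cancel_mono (openSubι Wd)]
      simpa [φ] using e =≫ pullback.fst _ _
    · simpa [φ] using e =≫ pullback.snd _ _⟩
  let j₃ := pullback.lift u₃ ((yon S).map q') w₃
  have hj₃ : j₃ ≫ φ = u' := by
    apply pullback.hom_ext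
    · simp only [j₃, φ, u', Category.assoc, pullback.lift_fst, pullback.lift_fst_assoc]
      exact hu₃
    · simp [j₃, φ, u']
  have : LocallyQuasiFinite v'.left := locallyQuasiFinite_of_unramified _
  have : LocallyQuasiFinite q'.left := inferInstance
  have hqv : LocallyQuasiFinite (q' ≫ v').left ∧ LocallyOfFiniteType (q' ≫ v').left := by
    rw [Over.comp_left]; exact ⟨inferInstance, inferInstance⟩
  obtain ⟨_, _⟩ := hqv
  have : CompactSpace ↥V'.left := isCompact_iff_compactSpace.1 hD.isCompact
  obtain ⟨n, hn⟩ := exists_fibLE v'.left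
  obtain ⟨G, ⟨eG⟩⟩ := exists_iso_yon_of_clopen_chart n v' hn hX₀ (openSubι Wd ≫ f)
    (repWith_diagonal_comp (repWith_diagonal_of_mono _) hsep) u₃ hu₃e hu₃s q' w₃
    (repWith_of_isPullback (isPullback_of_mono j₃ φ) (hj₃ ▸ hu'o))
    (repWith_of_isPullback (isPullback_of_mono j₃ φ) (hj₃ ▸ hu'c))
  refine ⟨G, eG.hom ≫ openSubι Wd, (repWith_respectsIso_left eG.hom).2 hr, ?_⟩
  rw [map_comp_eq, Set.range_comp, (bijective_map_iso (e := eG.hom)).2.range_eq, Set.image_univ,
    range_openSubι]
  -- the point over `y` and `P`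
  obtain ⟨Pe, hPe⟩ : ∃ Pe : PrimeSpectrum Be, Pe.asIdeal.comap (algebraMap B Be) = P' := by
    have hd : Disjoint (Submonoid.powers e : Set B) P' :=
      (Ideal.disjoint_powers_iff_notMem_of_isPrime _).2 heP'
    exact ⟨⟨_, IsLocalization.isPrime_of_isPrime_disjoint (.powers e) Be P' ‹_› hd⟩,
      IsLocalization.comap_map_of_isPrime_disjoint (.powers e) Be ‹_› hd⟩
  let y₁ : ↥U₁.left := Pe
  have hy₁v : q₁.left y₁ = pV := by
    refine PrimeSpectrum.ext ?_
    change (Pe.asIdeal.comap (algebraMap B Be)).comap inL.toRingHom = P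
    rw [hPe]
    exact (Ideal.over_def P' P).symm
  have hy₁a : a₁.left y₁ = y := by
    refine PrimeSpectrum.ext ?_
    change (Pe.asIdeal.comap (algebraMap B Be)).comap inR.toRingHom = q₀
    rw [hPe]
    exact hP'q
  have hy₁D : y₁ ∈ OU := show q₁.left y₁ ∈ D from hy₁v.symm ▸ hpD
  refine ⟨⟨y₁, hy₁D⟩, ?_⟩
  rw [ofPt_map_comp, ← hy₁a]
  rfl

end Piece

section Main

open AffineDescent

/-- Any algebraic space separated and locally quasi-finite over a scheme is a scheme. -/
theorem exists_iso_yon_of_lqf_separated {T : Over S} {X : Sp S} (hX : IsAlgSpace X)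
    (f : X ⟶ (yon S).obj T) (hsep : IsSeparatedMor f)
    (hqf : LocP (@LocallyQuasiFinite ⊓ @LocallyOfFiniteType) f) :
    ∃ G : Over S, Nonempty ((yon S).obj G ≅ X) := by
  obtain ⟨U, p, hpe, hps⟩ := hX.atlas
  obtain ⟨h, hh⟩ := (yon S).map_surjective (p ≫ f)
  have key : ∀ x : Points X, ∃ (G : Over S) (g : (yon S).obj G ⟶ X),
      RepWith @IsOpenImmersion g ∧ x ∈ Set.range (Points.map g) := by
    intro x
    obtain ⟨y, rfl⟩ := surjective_ofPt hps x
    obtain ⟨D, hD, hyD, -⟩ :=
      exists_isAffineOpen_mem_and_subset (X := T.left) (x := h.left y) (U := ⊤) trivial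
    obtain ⟨O, hO, hyO, hOD⟩ :=
      exists_isAffineOpen_mem_and_subset (X := U.left) (x := y) (U := h.left ⁻¹ᵁ D) hyD
    let TD : Over S := Over.mk (D.ι ≫ T.hom)
    let ιD : TD ⟶ T := overArrow D.ι
    have sqD := IsPullback.of_hasPullback f ((yon S).map ιD)
    have hι : RepWith @IsOpenImmersion ((yon S).map ιD) :=
      (repWith_yon_map_iff _ _).2 (inferInstanceAs (IsOpenImmersion D.ι))
    have hXD : IsAlgSpace (pullback f ((yon S).map ιD)) :=
      isAlgSpace_pullback (IsAlgSpace.yon_obj _) hX (IsAlgSpace.yon_obj _) sqD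
    have hqfD := locP_of_isPullback hX (IsAlgSpace.yon_obj _) (IsAlgSpace.yon_obj _) sqD hqf
    let UO : Over S := Over.mk (O.ι ≫ U.hom)
    let hOD' : UO ⟶ TD := Over.homMk (IsOpenImmersion.lift D.ι (O.ι ≫ h.left) (by
      rintro _ ⟨t, rfl⟩; rw [D.range_ι]; exact hOD t.2)) (by
        change _ ≫ D.ι ≫ T.hom = _
        rw [IsOpenImmersion.lift_fac_assoc, Category.assoc, Over.w h]; rfl)
    have hODι : hOD' ≫ ιD = overArrow O.ι ≫ h := Over.OverMorphism.ext (IsOpenImmersion.lift_fac _ _ _)
    let uO : (yon S).obj UO ⟶ pullback f ((yon S).map ιD) :=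
      pullback.lift ((yon S).map (overArrow O.ι) ≫ p) ((yon S).map hOD') (by
        rw [Category.assoc, ← hh, ← Functor.map_comp, ← Functor.map_comp, hODι])
    have : Mono (pullback.fst f ((yon S).map ιD)) := by
      have : Mono ιD := (Over.forget S).mono_of_mono_map (inferInstanceAs (Mono D.ι))
      infer_instance
    have huO : RepWith @Etale uO := by
      refine repWith_of_isPullback (isPullback_of_mono uO (pullback.fst f ((yon S).map ιD))) ?_
      rw [pullback.lift_fst]
      exact repWith_etale_restrict hpe O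
    have : IsAffine TD.left := hD
    have : IsAffine UO.left := hO
    -- pass to spectra
    let sT : Spec Γ(TD.left, ⊤) ⟶ S := TD.left.isoSpec.inv ≫ TD.hom
    letI algA : Algebra Γ(TD.left, ⊤) Γ(UO.left, ⊤) := hOD'.left.appTop.hom.toAlgebra
    let eT : TD ≅ Over.mk sT := Over.isoMk TD.left.isoSpec (by simp [sT])
    have hA : UO.left.isoSpec.hom ≫ Spec.map hOD'.left.appTop = hOD'.left ≫ TD.left.isoSpec.hom :=
      Scheme.isoSpec_hom_naturality _
    let eU : UO ≅ specOver sT Γ(UO.left, ⊤) := Over.isoMk UO.left.isoSpec (by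
      change UO.left.isoSpec.hom ≫ Spec.map hOD'.left.appTop ≫ TD.left.isoSpec.inv ≫ TD.hom = UO.hom
      rw [reassoc_of% hA, Iso.hom_inv_id_assoc, Over.w hOD'])
    have hv : eU.hom ≫ toBase sT Γ(UO.left, ⊤) = hOD' ≫ eT.hom := Over.OverMorphism.ext hA
    have hq := hqfD (U := UO) (V := TD) uO (𝟙 _) hOD' huO (repWith_id _ _)
      (by rw [Category.comp_id, pullback.lift_snd])
    have : Algebra.QuasiFinite Γ(TD.left, ⊤) Γ(UO.left, ⊤) := by
      have := (HasRingHomProperty.iff_of_isAffine (P := @LocallyQuasiFinite) (f := hOD'.left)).1 hq.1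
      exact RingHom.quasiFinite_algebraMap.1 this
    have : Algebra.FiniteType Γ(TD.left, ⊤) Γ(UO.left, ⊤) :=
      RingHom.finiteType_algebraMap.1
        ((HasRingHomProperty.iff_of_isAffine (P := @LocallyOfFiniteType) (f := hOD'.left)).1 hq.2)
    obtain ⟨G, g, hg, hgx⟩ := exists_scheme_nbhd sT Γ(UO.left, ⊤) hXD
      (pullback.snd f ((yon S).map ιD) ≫ (yon S).map eT.hom)
      (repWith_diagonal_comp (isSeparatedMor_of_isPullback sqD hsep) (repWith_diagonal_of_mono _))
      ((yon S).map eU.inv ≫ uO) ((repWith_respectsIso_left _).2 huO) (by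
        rw [Category.assoc, pullback.lift_snd_assoc, ← Functor.map_comp, ← Functor.map_comp, ← hv,
          Iso.inv_hom_id_assoc])
      (eU.hom.left ⟨y, hyO⟩)
    refine ⟨G, g ≫ pullback.fst f ((yon S).map ιD), repWith_comp hg (repWith_of_isPullback sqD.flip hι), ?_⟩
    obtain ⟨z, hz⟩ := hgx
    refine ⟨z, ?_⟩
    rw [map_comp_eq, Function.comp_apply, hz, ofPt_map_comp, Points.map_ofPt, pullback.lift_fst]
    have : eU.inv.left (eU.hom.left ⟨y, hyO⟩) = (⟨y, hyO⟩ : ↥UO.left) :=
      congrArg (fun k : UO ⟶ UO => k.left ⟨y, hyO⟩) eU.hom_inv_id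
    rw [this, ofPt_map_comp]
    rfl
  choose G g hg hgx using key
  let κ := ↥U.left
  refine exists_iso_yon_of_openCover (F := X) (κ := κ) (w := fun k => g (Points.ofPt p k))
    (fun k => hg _) fun A gA t => ?_
  obtain ⟨k, hk⟩ := surjective_ofPt hps (Points.ofPt gA t)
  obtain ⟨z, hz⟩ : Points.ofPt gA t ∈ Set.range (Points.map (g (Points.ofPt p k))) := hk ▸ hgx _
  obtain ⟨v, -, hv⟩ := exists_pt_of_isPullback ((hg (Points.ofPt p k)).1.isPullback gA) hz
  exact ⟨k, v, hv⟩

/-- Separated locally quasi-finite maps of algebraic spaces are representable. -/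
theorem representable_of_lqf_separated {X Y : Sp S} (hX : IsAlgSpace X) (hY : IsAlgSpace Y)
    (f : X ⟶ Y) (hsep : IsSeparatedMor f)
    (hqf : LocP (@LocallyQuasiFinite ⊓ @LocallyOfFiniteType) f) : Representable f := by
  intro T g
  have sq := IsPullback.of_hasPullback f g
  have hP := isAlgSpace_pullback hY hX (IsAlgSpace.yon_obj T) sq
  obtain ⟨G, ⟨e⟩⟩ := exists_iso_yon_of_lqf_separated hP (pullback.snd f g)
    (isSeparatedMor_of_isPullback sq hsep) (locP_of_isPullback hX hY (IsAlgSpace.yon_obj T) sq hqf)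
  refine ⟨G, (yon S).preimage (e.hom ≫ pullback.snd f g), e.hom ≫ pullback.fst f g, ?_⟩
  rw [(yon S).map_preimage]
  exact IsPullback.of_iso sq e.symm (Iso.refl _) (Iso.refl _) (Iso.refl _)
    (by simp) (by simp) (by simp) (by simp)

end Main

end Groth.Agent.AlgSpace
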