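import Groth.Prelude.Def_AlgSp
import Mathlib.AlgebraicGeometry.Morphisms.FlatDescent
import Mathlib.AlgebraicGeometry.Morphisms.LocalFlatDescent
import Mathlib.CategoryTheory.Sites.LocallySurjective
import Mathlib.AlgebraicGeometry.Morphisms.Flat
import Mathlib.AlgebraicGeometry.Morphisms.FinitePresentation
import Mathlib.AlgebraicGeometry.Limits

/-!
# Basic lemmas on representable morphisms of fppf sheaves over a scheme

`RepWith` bookkeeping, covering sieves of `AlgSp.J S`, local surjectivity of representable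
flat surjective maps of finite presentation, and descent of `RepWith P` along locally surjective maps.
-/

universe u

set_option backward.isDefEq.respectTransparency.types false

open CategoryTheory CategoryTheory.Limits AlgebraicGeometry Opposite

namespace Groth.Agent.AlgSpace

open AlgSp

variable {S : Scheme.{u}}

section RepWith

variable {P Q : MorphismProperty Scheme.{u}}

lemma repWith_mono (h : P ≤ Q) {F G : Sp S} {f : F ⟶ G} (hf : RepWith P f) : RepWith Q f :=
  ⟨hf.1, fun _ _ g fst snd sq => h _ (hf.2 g fst snd sq)⟩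

lemma repWith_comp [P.IsStableUnderComposition] {F G H : Sp S} {f : F ⟶ G} {g : G ⟶ H}
    (hf : RepWith P f) (hg : RepWith P g) : RepWith P (f ≫ g) :=
  MorphismProperty.comp_mem _ _ _ hf hg

lemma repWith_of_isPullback {F G F' G' : Sp S} {f : F ⟶ G} {f' : F' ⟶ G'} {a : F' ⟶ F}
    {b : G' ⟶ G} (sq : IsPullback a f' f b) (hf : RepWith P f) : RepWith P f' :=
  MorphismProperty.of_isPullback sq hf

lemma representable_of_isPullback {F G F' G' : Sp S} {f : F ⟶ G} {f' : F' ⟶ G'} {a : F' ⟶ F}
    {b : G' ⟶ G} (sq : IsPullback a f' f b) (hf : Representable f) : Representable f' :=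
  MorphismProperty.of_isPullback sq hf

lemma repWith_inf {F G : Sp S} {f : F ⟶ G} (hP : RepWith P f) (hQ : RepWith Q f) :
    RepWith (P ⊓ Q) f :=
  ⟨hP.1, fun _ _ g fst snd sq => ⟨hP.2 g fst snd sq, hQ.2 g fst snd sq⟩⟩

lemma repWith_top {F G : Sp S} {f : F ⟶ G} (hf : Representable f) : RepWith ⊤ f :=
  ⟨hf, fun _ _ _ _ _ _ => trivial⟩

lemma repWith_respectsIso_left {F' F G : Sp S} (e : F' ⟶ F) [IsIso e] {f : F ⟶ G} :
    RepWith P (e ≫ f) ↔ RepWith P f :=
  MorphismProperty.cancel_left_of_respectsIso _ _ _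

lemma repWith_respectsIso_right {F G G' : Sp S} (e : G ⟶ G') [IsIso e] {f : F ⟶ G} :
    RepWith P (f ≫ e) ↔ RepWith P f :=
  MorphismProperty.cancel_right_of_respectsIso _ _ _

/-- To prove `RepWith P f` it is enough to exhibit one good square for each test map. -/
lemma repWith_mk [P.RespectsIso] {F G : Sp S} {f : F ⟶ G}
    (h : ∀ ⦃U : Over S⦄ (g : (yon S).obj U ⟶ G), ∃ (V : Over S) (fst : (yon S).obj V ⟶ F) (snd : V ⟶ U),
      IsPullback fst ((yon S).map snd) f g ∧ P snd.left) : RepWith P f :=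
  haveI : (P.inverseImage (Over.forget S)).RespectsIso :=
    MorphismProperty.RespectsIso.inverseImage P _
  MorphismProperty.relative.of_exists fun U g => by
    obtain ⟨V, fst, snd, sq, hP⟩ := h g
    exact ⟨V, fst, snd, sq, hP⟩

/-- `RepWith P` of a map between representable sheaves. -/
lemma repWith_yon_iff [P.IsStableUnderBaseChange] {U V : Over S}
    (g : (yon S).obj U ⟶ (yon S).obj V) : RepWith P g ↔ P ((yon S).preimage g).left := by
  conv_lhs => rw [← (yon S).map_preimage g]
  exact repWith_yon_map_iff P _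

end RepWith

section Covering

instance : Scheme.fppfPrecoverage.{u}.HasIsos where
  mem_coverings_of_isIso f _ := Scheme.Hom.singleton_mem_fppfPrecoverage f

instance : Scheme.JointlySurjective Scheme.fppfPrecoverage.{u} :=
  inferInstanceAs (Scheme.JointlySurjective (Scheme.precoverage (@Flat ⊓ @LocallyOfFinitePresentation)))

instance : Precoverage.Small.{u} Scheme.fppfPrecoverage.{u} :=
  inferInstanceAs (Precoverage.Small.{u} (Scheme.precoverage (@Flat ⊓ @LocallyOfFinitePresentation)))

lemma mem_J_iff {U : Over S} (R : Sieve U) :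
    R ∈ AlgSp.J S U ↔
      ∃ 𝒰 : Scheme.Cover.{u} Scheme.fppfPrecoverage.{u} U.left, ∀ i,
        Sieve.overEquiv U R (𝒰.f i) := by
  change R ∈ (Scheme.fppfTopology.over S) U ↔ _
  rw [GrothendieckTopology.mem_over_iff,
    Precoverage.mem_toGrothendieck_iff_of_isStableUnderComposition]
  constructor
  · rintro ⟨T, hT, hle⟩
    obtain ⟨𝒰, rfl⟩ := T.exists_eq_preZeroHypercover
    let 𝒱 : Scheme.Cover.{u+1} Scheme.fppfPrecoverage.{u} U.left := ⟨𝒰, hT⟩
    exact ⟨Precoverage.ZeroHypercover.restrictIndexOfSmall.{u} 𝒱, fun i => hle _ _ ⟨_⟩⟩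
  · rintro ⟨𝒰, h⟩
    refine ⟨_, 𝒰.mem₀, ?_⟩
    rintro _ _ ⟨i⟩
    exact h i

/-- The arrow of `Over S` into `U` attached to a morphism into `U.left`. -/
abbrev overArrow {U : Over S} {T : Scheme.{u}} (f : T ⟶ U.left) : Over.mk (f ≫ U.hom) ⟶ U :=
  Over.homMk f rfl

lemma overEquiv_arrow {U : Over S} (R : Sieve U) {T : Scheme.{u}} (f : T ⟶ U.left) :
    Sieve.overEquiv U R f ↔ R (overArrow f) := by
  rw [Sieve.overEquiv_iff]

/-- A covering sieve containing a flat, surjective, locally finitely presented map. -/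
lemma mem_J_of_singleton {U V : Over S} (f : V ⟶ U) [Flat f.left] [Surjective f.left]
    [LocallyOfFinitePresentation f.left] (R : Sieve U) (hR : R f) : R ∈ AlgSp.J S U := by
  change R ∈ (Scheme.fppfTopology.over S) U
  rw [GrothendieckTopology.mem_over_iff]
  refine GrothendieckTopology.superset_covering _ ?_
    (Precoverage.generate_mem_toGrothendieck (Scheme.Hom.singleton_mem_fppfPrecoverage f.left))
  rw [Sieve.generate_le_iff]
  rintro _ _ ⟨⟩
  rw [overEquiv_arrow]
  have : overArrow (U := U) f.left = (Over.homMk (𝟙 V.left) (by simp) : Over.mk (f.left ≫ U.hom) ⟶ V) ≫ f := by ext; simp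
  exact this ▸ R.downward_closed hR _

end Covering

section LocallySurjective

/-- The section of a sheaf attached to a map out of a representable sheaf. -/
abbrev sect {T : Over S} {F : Sp S} : ((yon S).obj T ⟶ F) ≃ F.obj.obj (op T) :=
  (AlgSp.J S).uliftYonedaEquiv

/-- A lift of a map along a map of sheaves lies in the image sieve. -/
lemma imageSieve_of_fac {F G : Sp S} (a : F ⟶ G) {T T' : Over S} (g : (yon S).obj T ⟶ G)
    (f : T' ⟶ T) (l : (yon S).obj T' ⟶ F) (h : l ≫ a = (yon S).map f ≫ g) :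
    Presheaf.imageSieve a.hom (sect g) f := by
  refine ⟨sect l, ?_⟩
  change a.hom.app _ (sect l) = G.obj.map f.op (sect g)
  rw [← GrothendieckTopology.uliftYonedaEquiv_comp, GrothendieckTopology.uliftYonedaEquiv_naturality]
  exact congrArg _ h

/-- Local surjectivity criterion: lifts after a flat surjective finitely presented map of schemes. -/
lemma isLocallySurjective_of_lifts {F G : Sp S} (a : F ⟶ G)
    (h : ∀ ⦃T : Over S⦄ (g : (yon S).obj T ⟶ G), ∃ (T' : Over S) (f : T' ⟶ T)
      (l : (yon S).obj T' ⟶ F), Flat f.left ∧ Surjective f.left ∧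
        LocallyOfFinitePresentation f.left ∧ l ≫ a = (yon S).map f ≫ g) :
    Sheaf.IsLocallySurjective a := by
  refine ⟨fun {T} s => ?_⟩
  obtain ⟨g, rfl⟩ := (sect (T := T) (F := G)).surjective s
  obtain ⟨T', f, l, h₁, h₂, h₃, hw⟩ := h g
  exact mem_J_of_singleton f _ (imageSieve_of_fac a g f l hw)

lemma isLocallySurjective_of_repWith {F G : Sp S} (a : F ⟶ G) (h₁ : RepWith @Flat a)
    (h₂ : RepWith @LocallyOfFinitePresentation a) (h₃ : RepWith @Surjective a) :
    Sheaf.IsLocallySurjective a :=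
  isLocallySurjective_of_lifts a fun T g =>
    have sq := h₁.1.isPullback g
    ⟨_, _, _, h₁.2 g _ _ sq, h₃.2 g _ _ sq, h₂.2 g _ _ sq, sq.w⟩

lemma etale_le_flat : (@Etale : MorphismProperty Scheme.{u}) ≤ @Flat :=
  fun _ _ _ _ => inferInstance

lemma etale_le_lfp : (@Etale : MorphismProperty Scheme.{u}) ≤ @LocallyOfFinitePresentation :=
  fun _ _ _ _ => inferInstance

/-- A representable etale surjective map of sheaves is locally surjective. -/
lemma isLocallySurjective_of_etale {F G : Sp S} {a : F ⟶ G} (he : RepWith @Etale a)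
    (hs : RepWith @Surjective a) : Sheaf.IsLocallySurjective a :=
  isLocallySurjective_of_repWith a (repWith_mono etale_le_flat he) (repWith_mono etale_le_lfp he) hs

/-- An fppf cover lifting a test map along a locally surjective map of sheaves. -/
lemma exists_cover_lift {F G : Sp S} (a : F ⟶ G) [Sheaf.IsLocallySurjective a] {T : Over S}
    (g : (yon S).obj T ⟶ G) :
    ∃ 𝒰 : Scheme.Cover.{u} Scheme.fppfPrecoverage.{u} T.left, ∀ i, ∃ l : (yon S).obj (Over.mk (𝒰.f i ≫ T.hom)) ⟶ F,
      l ≫ a = (yon S).map (overArrow (𝒰.f i)) ≫ g := by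
  obtain ⟨𝒰, h𝒰⟩ := (mem_J_iff _).1 (Presheaf.imageSieve_mem (AlgSp.J S) a.hom (U := op T) (sect g))
  refine ⟨𝒰, fun i => ?_⟩
  obtain ⟨x, hx⟩ := (overEquiv_arrow _ _).1 (h𝒰 i)
  refine ⟨sect.symm x, sect.injective ?_⟩
  rw [GrothendieckTopology.uliftYonedaEquiv_comp, Equiv.apply_symm_apply,
    ← GrothendieckTopology.uliftYonedaEquiv_naturality]
  exact hx

/-- `RepWith P` can be checked after base change along a locally surjective map, for `P` fppf local
on the target and `f` representable. -/
lemma repWith_of_locallySurjective {F G H Q' : Sp S} {a : F ⟶ G} (ha : Representable a)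
    {b : H ⟶ G} [Sheaf.IsLocallySurjective b] {b' : Q' ⟶ F} {a' : Q' ⟶ H}
    (sq : IsPullback b' a' a b) (P : MorphismProperty Scheme.{u}) [P.IsStableUnderBaseChange]
    [P.IsLocalAtTarget Scheme.fppfPrecoverage] (h : RepWith P a') : RepWith P a := by
  refine MorphismProperty.relative_of_snd ha fun U g => ?_
  change P (ha.snd g).left
  obtain ⟨𝒰, h𝒰⟩ := exists_cover_lift b g
  refine MorphismProperty.IsLocalAtTarget.of_zeroHypercover 𝒰 fun i => ?_
  obtain ⟨l, hl⟩ := h𝒰 i
  have sq₁ := IsPullback.of_hasPullback (ha.snd g) (overArrow (𝒰.f i))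
  have sq₂ : IsPullback ((yon S).map (pullback.fst (ha.snd g) (overArrow (𝒰.f i))) ≫ ha.fst g)
      ((yon S).map (pullback.snd (ha.snd g) (overArrow (𝒰.f i)))) a (l ≫ b) := by
    rw [hl]
    exact (sq₁.map (yon S)).paste_horiz (ha.isPullback g)
  have sq₃ := h.1.isPullback l
  have key : P (h.1.snd l).left := h.2 l _ _ sq₃
  have sq₄ := sq₃.paste_horiz sq
  have key' : P (pullback.snd (ha.snd g) (overArrow (𝒰.f i))).left := by
    let e := (yon S).preimageIso (sq₂.isoIsPullback _ _ sq₄)
    have he : e.hom ≫ h.1.snd l = pullback.snd (ha.snd g) (overArrow (𝒰.f i)) :=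
      (yon S).map_injective (by simp [e])
    rw [← he]
    have : IsIso e.hom.left := inferInstanceAs (IsIso ((Over.forget S).map e.hom))
    exact (P.cancel_left_of_respectsIso e.hom.left _).2 key
  let e := (sq₁.map (Over.forget S)).isoPullback
  have he : e.hom ≫ pullback.snd (ha.snd g).left (𝒰.f i) =
      (pullback.snd (ha.snd g) (overArrow (𝒰.f i))).left :=
    (sq₁.map (Over.forget S)).isoPullback_hom_snd
  rw [← he] at key'
  exact (P.cancel_left_of_respectsIso e.hom _).1 key'

end LocallySurjective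

section Local

/-- Descent along flat surjective finitely presented maps and Zariski locality give fppf locality. -/
lemma isLocalAtTarget_fppf (P : MorphismProperty Scheme.{u}) [P.IsStableUnderBaseChange]
    [IsZariskiLocalAtTarget P] [P.DescendsAlong (@Surjective ⊓ @Flat ⊓ @LocallyOfFinitePresentation)] :
    P.IsLocalAtTarget Scheme.fppfPrecoverage := by
  refine MorphismProperty.IsLocalAtTarget.mk_of_small (fun 𝒰 hf i => P.pullback_snd _ _ hf) ?_
  intro X Y f 𝒰 h
  let q : (∐ 𝒰.X) ⟶ Y := Sigma.desc 𝒰.f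
  have hq : (@Surjective ⊓ @Flat ⊓ @LocallyOfFinitePresentation : MorphismProperty Scheme.{u}) q := by
    refine ⟨⟨⟨fun y => ?_⟩, ?_⟩, ?_⟩
    · obtain ⟨i, x, hx⟩ := Scheme.Cover.exists_eq 𝒰 y
      refine ⟨Sigma.ι 𝒰.X i x, ?_⟩
      rw [← Scheme.Hom.comp_apply, Sigma.ι_desc]
      exact hx
    · refine (IsZariskiLocalAtSource.iff_of_openCover (P := (@Flat : MorphismProperty Scheme.{u})) (sigmaOpenCover 𝒰.X)).2 fun i => ?_
      have hι : Sigma.ι 𝒰.X i ≫ q = 𝒰.f i := Sigma.ι_desc _ _
      change _root_.id _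
      erw [hι]
      exact (Scheme.Cover.map_prop (P := @Flat ⊓ @LocallyOfFinitePresentation) 𝒰 i).1
    · refine (IsZariskiLocalAtSource.iff_of_openCover (P := (@LocallyOfFinitePresentation : MorphismProperty Scheme.{u}))
        (sigmaOpenCover 𝒰.X)).2 fun i => ?_
      have hι : Sigma.ι 𝒰.X i ≫ q = 𝒰.f i := Sigma.ι_desc _ _
      change _root_.id _
      erw [hι]
      exact (Scheme.Cover.map_prop (P := @Flat ⊓ @LocallyOfFinitePresentation) 𝒰 i).2
  refine MorphismProperty.of_isPullback_of_descendsAlong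
    (IsPullback.of_hasPullback f q).flip hq ?_
  refine (IsZariskiLocalAtTarget.iff_of_openCover (P := P) (sigmaOpenCover 𝒰.X)).2 fun i => ?_
  have sq := (IsPullback.of_hasPullback (pullback.snd f q) (Sigma.ι 𝒰.X i)).paste_horiz
    (IsPullback.of_hasPullback f q)
  change P (pullback.snd (pullback.snd f q) (Sigma.ι 𝒰.X i))
  rw [← sq.isoPullback_hom_snd]
  refine (P.cancel_left_of_respectsIso _ _).2 ?_
  have hι : Sigma.ι 𝒰.X i ≫ q = 𝒰.f i := Sigma.ι_desc _ _
  rw [hι]
  exact h i

end Local

end Groth.Agent.AlgSpace
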