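import Groth.Agent.Lib.AlgSpace.RadicialPiece
import Mathlib.AlgebraicGeometry.Morphisms.Etale
import Mathlib.AlgebraicGeometry.Morphisms.Finite
import Mathlib.AlgebraicGeometry.Morphisms.QuasiFinite
import Mathlib.AlgebraicGeometry.PullbackCarrier
import Mathlib.AlgebraicGeometry.AlgClosed.Basic
import Mathlib.AlgebraicGeometry.ZariskisMainTheorem
import Mathlib.RingTheory.Etale.Basic

/-!
# Etale localization of finitely many geometric points of a quasi-finite morphism
-/

universe u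

set_option backward.isDefEq.respectTransparency.types false

open CategoryTheory CategoryTheory.Limits AlgebraicGeometry TensorProduct

namespace Groth.Agent.AlgSpace.PieceLocal

lemma _root_.CategoryTheory.IsPullback.of_isPullback_comp_mono' {C : Type*} [Category C] {P A B Z Z' : C}
    {f : P ⟶ A} {g : P ⟶ B} {a : A ⟶ Z} {b : B ⟶ Z} (h : IsPullback f g a b) (m : Z ⟶ Z') [Mono m] :
    IsPullback f g (a ≫ m) (b ≫ m) :=
  IsPullback.of_isLimit (PullbackCone.IsLimit.mk (by rw [reassoc_of% h.w])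
    (fun s => h.lift s.fst s.snd ((cancel_mono m).1 (by simpa using s.condition)))
    (fun s => h.lift_fst _ _ _) (fun s => h.lift_snd _ _ _)
    fun s k hk₁ hk₂ => h.hom_ext (by simpa using hk₁) (by simpa using hk₂))

/-- Extension of a geometric point along an etale base change with prescribed kernel. -/
lemma exists_extension {A B : Type u} [CommRing A] [CommRing B] [Algebra A B] [Algebra.Etale A B]
    (Q : Ideal B) [Q.IsPrime] {K : Type u} [Field K] [IsAlgClosed K] (σ : A →+* K)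
    (hσ : RingHom.ker σ = Q.comap (algebraMap A B)) :
    ∃ ψ : B →+* K, ψ.comp (algebraMap A B) = σ ∧ RingHom.ker ψ = Q := by
  let q := Q.under A
  let σq : (A ⧸ q) →+* K := Ideal.Quotient.lift q σ fun a ha => by
    rw [← RingHom.mem_ker, hσ]; exact ha
  have hσq : Function.Injective σq :=
    RingHom.lift_injective_of_ker_le_ideal q _ (le_of_eq hσ)
  let σ' : q.ResidueField →+* K := IsFractionRing.lift hσq
  letI := σ'.toAlgebra
  letI := Localization.AtPrime.algebraOfLiesOver q Q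
  have : Algebra.IsAlgebraic q.ResidueField Q.ResidueField := Algebra.IsAlgebraic.of_finite _ _
  let ι : Q.ResidueField →ₐ[q.ResidueField] K := IsAlgClosed.lift
  refine ⟨ι.toRingHom.comp (algebraMap B Q.ResidueField), ?_, ?_⟩
  · ext a
    change ι (algebraMap B Q.ResidueField (algebraMap A B a)) = σ a
    rw [← IsScalarTower.algebraMap_apply A B Q.ResidueField,
      IsScalarTower.algebraMap_apply A q.ResidueField Q.ResidueField, ι.commutes,
      RingHom.algebraMap_toAlgebra, ← Ideal.algebraMap_quotient_residueField_mk,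
      IsFractionRing.lift_algebraMap]
    rfl
  · rw [← RingHom.comap_ker, (RingHom.injective_iff_ker_eq_bot _).1 ι.toRingHom.injective]
    exact Q.ker_algebraMap_residueField

/-- An etale neighbourhood with a finite piece isolating a geometric point. -/
theorem exists_piece_of_point {X T : Scheme.{u}} (π : X ⟶ T) [LocallyQuasiFinite π]
    [LocallyOfFiniteType π] (x : X) :
    ∃ (T₁ : Scheme.{u}) (e : T₁ ⟶ T) (V : (pullback π e).Opens), Etale e ∧
      IsFinite (V.ι ≫ pullback.snd π e) ∧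
      ∀ (K : Type u) [Field K] [IsAlgClosed K] (z : Spec (.of K) ⟶ X),
        z (IsLocalRing.closedPoint K) = x → ∃ l : Spec (.of K) ⟶ T₁, l ≫ e = z ≫ π ∧
          ∀ w : Spec (.of K) ⟶ pullback π e, w ≫ pullback.snd π e = l →
            (w (IsLocalRing.closedPoint K) ∈ V ↔ w ≫ pullback.fst π e = z) := by
  obtain ⟨D, hD, hxD, -⟩ := exists_isAffineOpen_mem_and_subset (X := T) (x := π x) (U := ⊤) trivial
  obtain ⟨O, hO, hxO, hOD⟩ := exists_isAffineOpen_mem_and_subset (X := X) (x := x) (U := π ⁻¹ᵁ D) hxD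
  let φ := π.appLE D O hOD
  letI := φ.hom.toAlgebra
  have : Algebra.FiniteType Γ(T, D) Γ(X, O) :=
    RingHom.finiteType_algebraMap.1 (π.finiteType_appLE hD hO hOD)
  have : Algebra.QuasiFinite Γ(T, D) Γ(X, O) :=
    RingHom.quasiFinite_algebraMap.1 (HasRingHomProperty.appLE @LocallyQuasiFinite π inferInstance
      ⟨D, hD⟩ ⟨O, hO⟩ hOD)
  let q := hO.primeIdealOf ⟨x, hxO⟩
  obtain ⟨R', _, _, _, P, _, e₀, he₀, P', hP', hP'P, hP'q, heP', hfin, huniq, hrad⟩ :=
    exists_etale_finite_radicial_piece (R := Γ(T, D)) (S := Γ(X, O)) q.asIdeal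
  let e : Spec (CommRingCat.of R') ⟶ T :=
    Spec.map (CommRingCat.ofHom (algebraMap Γ(T, D) R')) ≫ hD.fromSpec
  have : Etale (Spec.map (CommRingCat.ofHom (algebraMap Γ(T, D) R'))) := by
    rw [HasRingHomProperty.Spec_iff (P := @Etale)]
    exact RingHom.etale_algebraMap.2 inferInstance
  have hee : Etale e := inferInstance
  let inR : Spec (.of (R' ⊗[Γ(T, D)] Γ(X, O))) ⟶ Spec Γ(X, O) :=
    Spec.map (CommRingCat.ofHom Algebra.TensorProduct.includeRight.toRingHom)
  let inL : Spec (.of (R' ⊗[Γ(T, D)] Γ(X, O))) ⟶ Spec (.of R') :=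
    Spec.map (CommRingCat.ofHom Algebra.TensorProduct.includeLeftRingHom)
  have hw : (inR ≫ hO.fromSpec) ≫ π = inL ≫ e := by
    rw [Category.assoc, ← hD.SpecMap_appLE_fromSpec π hO hOD, ← Category.assoc, ← Spec.map_comp,
      ← Category.assoc, ← Spec.map_comp]
    exact congrArg (fun k => Spec.map k ≫ hD.fromSpec)
      (CommRingCat.isPushout_tensorProduct Γ(T, D) R' Γ(X, O)).w.symm
  let c := pullback.lift (f := π) (g := e) (inR ≫ hO.fromSpec) inL hw
  have sqc : IsPullback inR c hO.fromSpec (pullback.fst π e) := by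
    refine IsPullback.of_bot ?_ (pullback.lift_fst _ _ _).symm (IsPullback.of_hasPullback π e).flip.flip
    rw [pullback.lift_snd]
    have h := isPullback_SpecMap_of_isPushout _ _ _ _
      (CommRingCat.isPushout_tensorProduct Γ(T, D) R' Γ(X, O))
    rw [← hD.SpecMap_appLE_fromSpec π hO hOD]
    exact IsPullback.of_iso (IsPullback.of_isPullback_comp_mono' h.flip hD.fromSpec) (Iso.refl _)
      (Iso.refl _) (Iso.refl _) (Iso.refl _) (by simp [inR]) (by simp [inL]) (by simp; rfl) (by simp [e])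
  have : IsOpenImmersion c := MorphismProperty.of_isPullback sqc inferInstance
  let j : Spec (.of (Localization.Away e₀)) ⟶ Spec (.of (R' ⊗[Γ(T, D)] Γ(X, O))) :=
    Spec.map (CommRingCat.ofHom (algebraMap _ (Localization.Away e₀)))
  have : IsOpenImmersion j := inferInstance
  let J := j ≫ c
  refine ⟨_, e, J.opensRange, hee, ?_, fun K _ _ z hz => ?_⟩
  · rw [← MorphismProperty.cancel_left_of_respectsIso @IsFinite J.isoOpensRange.hom,
      Scheme.Hom.isoOpensRange_hom_ι_assoc, show J ≫ pullback.snd π e = j ≫ inL by simp [J, c, pullback.lift_snd],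
      ← Spec.map_comp, IsFinite.SpecMap_iff]
    change ((algebraMap (R' ⊗[Γ(T, D)] Γ(X, O)) (Localization.Away e₀)).comp (algebraMap R' _)).Finite
    rw [← IsScalarTower.algebraMap_eq]
    exact RingHom.finite_algebraMap.2 hfin
  have hzO : Set.range z ⊆ Set.range hO.fromSpec := by
    rintro _ ⟨t, rfl⟩
    rw [hO.range_fromSpec, Subsingleton.elim t (IsLocalRing.closedPoint K), hz]
    exact hxO
  obtain ⟨σ, hσ⟩ := Spec.map_surjective (IsOpenImmersion.lift hO.fromSpec z hzO)
  have hσz : Spec.map σ ≫ hO.fromSpec = z := hσ ▸ IsOpenImmersion.lift_fac _ _ _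
  have hσq : RingHom.ker σ.hom = q.asIdeal := by
    have h : Spec.map σ (IsLocalRing.closedPoint K) = q := hO.fromSpec.isOpenEmbedding.injective (by
      rw [hO.fromSpec_primeIdealOf, ← Scheme.Hom.comp_apply, hσz, hz])
    rw [← h]
    change _ = (IsLocalRing.maximalIdeal K).comap σ.hom
    rw [IsLocalRing.maximalIdeal_eq_bot]
    rfl
  let comm := Algebra.TensorProduct.comm Γ(T, D) Γ(X, O) R'
  let Q := P'.comap comm.toRingHom
  obtain ⟨ψ₀, hψ₀, hψ₀k⟩ := exists_extension (A := Γ(X, O)) (B := Γ(X, O) ⊗[Γ(T, D)] R') Q σ.hom (by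
    rw [hσq, ← hP'q]
    ext a
    simp [Q, comm])
  let ψ : R' ⊗[Γ(T, D)] Γ(X, O) →+* K := ψ₀.comp comm.symm.toRingHom
  have hψk : RingHom.ker ψ = P' := by
    rw [← RingHom.comap_ker, hψ₀k]
    ext a
    simp [Q]
  have hψR : ψ.comp Algebra.TensorProduct.includeRight.toRingHom = σ.hom := by
    rw [← hψ₀]
    ext a
    simp [ψ, comm]
  let Ψ : Spec (.of K) ⟶ Spec (.of (R' ⊗[Γ(T, D)] Γ(X, O))) := Spec.map (CommRingCat.ofHom ψ)
  have hΨz : Ψ ≫ inR ≫ hO.fromSpec = z := by
    rw [← Category.assoc, ← Spec.map_comp, ← hσz]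
    exact congrArg (fun k => Spec.map k ≫ hO.fromSpec) (CommRingCat.hom_ext hψR)
  refine ⟨Ψ ≫ inL, ?_, fun w hw' => ?_⟩
  · rw [Category.assoc, ← hw, ← hΨz]
    simp only [Category.assoc]
  have hmemJ : ∀ τ : R' ⊗[Γ(T, D)] Γ(X, O) →+* K,
      (Spec.map (CommRingCat.ofHom τ) ≫ c) (IsLocalRing.closedPoint K) ∈ J.opensRange ↔ τ e₀ ≠ 0 := by
    intro τ
    let y := Spec.map (CommRingCat.ofHom τ) (IsLocalRing.closedPoint K)
    have hy : y ∈ Set.range j ↔ τ e₀ ≠ 0 := by
      rw [show Set.range j = ((PrimeSpectrum.basicOpen e₀ : TopologicalSpace.Opens _) : Set (PrimeSpectrum _)) from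
        PrimeSpectrum.localization_away_comap_range (Localization.Away e₀) e₀]
      change e₀ ∉ y.asIdeal ↔ _
      change e₀ ∉ (IsLocalRing.maximalIdeal K).comap τ ↔ _
      rw [IsLocalRing.maximalIdeal_eq_bot, Ideal.mem_comap, Ideal.mem_bot]
    rw [← hy, Scheme.Hom.comp_apply]
    exact ⟨fun ⟨a, ha⟩ => ⟨a, c.isOpenEmbedding.injective ha⟩, fun ⟨a, ha⟩ => ⟨a, congrArg c ha⟩⟩
  constructor
  · intro hwV
    have hwc : Set.range w ⊆ Set.range c := by
      rintro _ ⟨t, rfl⟩
      rw [Subsingleton.elim t (IsLocalRing.closedPoint K)]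
      obtain ⟨a, ha⟩ := hwV
      exact ⟨j a, ha⟩
    obtain ⟨τ, hτ⟩ := Spec.map_surjective (IsOpenImmersion.lift c w hwc)
    have hτw : Spec.map τ ≫ c = w := hτ ▸ IsOpenImmersion.lift_fac _ _ _
    have hτe : τ.hom e₀ ≠ 0 := (hmemJ τ.hom).1 (by rw [← hτw] at hwV; exact hwV)
    have hτL : τ.hom.comp (algebraMap R' _) = ψ.comp (algebraMap R' _) := by
      have h : Spec.map τ ≫ inL = Ψ ≫ inL := by
        rw [← hw', ← hτw, Category.assoc]
        simp [c, pullback.lift_snd]
      rw [← Spec.map_comp, ← Spec.map_comp] at h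
      exact congrArg CommRingCat.Hom.hom (Spec.map_injective h)
    have hτk : RingHom.ker τ.hom = P' := by
      refine huniq _ (RingHom.ker_isPrime _) ⟨?_⟩ (by rwa [RingHom.mem_ker])
      rw [hP'P.over, ← hψk, Ideal.under, Ideal.under, RingHom.comap_ker, RingHom.comap_ker, hτL]
    have hτψ : τ.hom = ψ := hrad K τ.hom ψ hτk hψk hτL
    rw [← hτw, Category.assoc, pullback.lift_fst, show τ = CommRingCat.ofHom ψ from
      CommRingCat.hom_ext hτψ]
    exact hΨz
  · intro hwz
    have : w = Ψ ≫ c := by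
      apply pullback.hom_ext
      · rw [hwz, Category.assoc, pullback.lift_fst, hΨz]
      · rw [hw', Category.assoc, pullback.lift_snd]
    rw [this, hmemJ ψ]
    intro h
    exact heP' (hψk ▸ h)

/-- Every point of a locally quasi-finite scheme over an algebraically closed field is rational. -/
lemma exists_section_through {K : Type u} [Field K] [IsAlgClosed K] {X : Scheme.{u}}
    (s : X ⟶ Spec (.of K)) [LocallyQuasiFinite s] [LocallyOfFiniteType s] (x : X) :
    ∃ w : Spec (.of K) ⟶ X, w ≫ s = 𝟙 _ ∧ w (IsLocalRing.closedPoint K) = x := by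
  have h : s ⁻¹' {IsLocalRing.closedPoint K} = Set.univ :=
    Set.eq_univ_iff_forall.2 fun y => Subsingleton.elim _ _
  have hd := s.isDiscrete_preimage_singleton (IsLocalRing.closedPoint K)
  have hd : _root_.IsDiscrete (Set.univ : Set X) := h ▸ hd
  have : DiscreteTopology X := isDiscrete_univ_iff.1 hd
  exact ⟨pointOfClosedPoint s x (isClosed_discrete _), pointOfClosedPoint_comp s x _,
    pointOfClosedPoint_apply s x _ _⟩

/-- The union of two finite open pieces in a separated scheme is finite. -/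
lemma isFinite_sup {X T : Scheme.{u}} (s : X ⟶ T) [IsSeparated s] [LocallyQuasiFinite s]
    [LocallyOfFiniteType s] (A B : X.Opens) [IsFinite (A.ι ≫ s)] [IsFinite (B.ι ≫ s)] :
    IsFinite ((A ⊔ B).ι ≫ s) := by
  let π : (A : Scheme.{u}) ⨿ (B : Scheme.{u}) ⟶ (A ⊔ B : X.Opens) :=
    coprod.desc (X.homOfLE le_sup_left) (X.homOfLE le_sup_right)
  have e₁ : coprod.inl ≫ π = X.homOfLE le_sup_left := coprod.inl_desc _ _
  have e₂ : coprod.inr ≫ π = X.homOfLE le_sup_right := coprod.inr_desc _ _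
  have : Surjective π := by
    refine ⟨fun ⟨x, hx⟩ => ?_⟩
    rcases hx with h | h
    · refine ⟨(coprod.inl : (A : Scheme.{u}) ⟶ _) ⟨x, h⟩, ?_⟩
      rw [← Scheme.Hom.comp_apply, e₁]
      exact Subtype.ext (by simp)
    · refine ⟨(coprod.inr : (B : Scheme.{u}) ⟶ _) ⟨x, h⟩, ?_⟩
      rw [← Scheme.Hom.comp_apply, e₂]
      exact Subtype.ext (by simp)
  have h : IsFinite (π ≫ (A ⊔ B).ι ≫ s) := by
    rw [show π ≫ (A ⊔ B).ι ≫ s = coprod.desc (A.ι ≫ s) (B.ι ≫ s) by
      ext <;> simp [π]]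
    infer_instance
  have : UniversallyClosed ((A ⊔ B).ι ≫ s) := UniversallyClosed.of_comp_surjective π _
  have : IsProper ((A ⊔ B).ι ≫ s) := {}
  exact IsFinite.of_isProper_of_locallyQuasiFinite _

/-- An etale neighbourhood with a finite piece isolating finitely many geometric points. -/
theorem exists_piece_of_points {X T : Scheme.{u}} (π : X ⟶ T) [LocallyQuasiFinite π]
    [LocallyOfFiniteType π] [IsSeparated π] (xs : List X) :
    ∃ (T₁ : Scheme.{u}) (e : T₁ ⟶ T) (V : (pullback π e).Opens), Etale e ∧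
      IsFinite (V.ι ≫ pullback.snd π e) ∧
      ∀ (K : Type u) [Field K] [IsAlgClosed K] (t : Spec (.of K) ⟶ T)
        (zs : List (Spec (.of K) ⟶ X)),
        zs.map (fun z => z (IsLocalRing.closedPoint K)) = xs → (∀ z ∈ zs, z ≫ π = t) →
          ∃ l : Spec (.of K) ⟶ T₁, l ≫ e = t ∧
            ∀ w : Spec (.of K) ⟶ pullback π e, w ≫ pullback.snd π e = l →
              (w (IsLocalRing.closedPoint K) ∈ V ↔ w ≫ pullback.fst π e ∈ zs) := by
  induction xs with
  | nil =>
    have : IsEmpty (⊥ : (pullback π (𝟙 T)).Opens) := ⟨fun x => x.2⟩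
    refine ⟨T, 𝟙 T, ⊥, inferInstance, inferInstance, fun K _ _ t zs hzs hzt => ⟨t, Category.comp_id t, ?_⟩⟩
    obtain rfl : zs = [] := List.map_eq_nil_iff.1 hzs
    intro w hw
    simp
  | cons x xs ih =>
    obtain ⟨T₁, e₁, V₁, he₁, hV₁, h₁⟩ := exists_piece_of_point π x
    obtain ⟨T₂, e₂, V₂, he₂, hV₂, h₂⟩ := ih
    let e := pullback.fst e₁ e₂ ≫ e₁
    let p₁ : pullback π e ⟶ pullback π e₁ :=
      pullback.map _ _ _ _ (𝟙 X) (pullback.fst e₁ e₂) (𝟙 T) (by simp) (by simp [e])
    let p₂ : pullback π e ⟶ pullback π e₂ :=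
      pullback.map _ _ _ _ (𝟙 X) (pullback.snd e₁ e₂) (𝟙 T) (by simp) (by simp [e, pullback.condition])
    have sq : ∀ (T' : Scheme.{u}) (e' : T' ⟶ T) (q : pullback e₁ e₂ ⟶ T') (hq : e = q ≫ e')
        (m : pullback π e ⟶ pullback π e') (_ : m ≫ pullback.fst π e' = pullback.fst π e)
        (_ : m ≫ pullback.snd π e' = pullback.snd π e ≫ q),
        IsPullback m (pullback.snd π e) (pullback.snd π e') q := fun T' e' q hq m hm₁ hm₂ => by
      refine IsPullback.of_right ?_ hm₂ (IsPullback.of_hasPullback π e')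
      rw [hm₁, ← hq]
      exact IsPullback.of_hasPullback π e
    have sq₁ := sq T₁ e₁ (pullback.fst e₁ e₂) rfl p₁ (by simp [p₁, pullback.lift_fst]) (by simp [p₁, pullback.lift_snd])
    have sq₂ := sq T₂ e₂ (pullback.snd e₁ e₂) pullback.condition p₂ (by simp [p₂, pullback.lift_fst]) (by simp [p₂, pullback.lift_snd])
    have hf₁ : IsFinite ((p₁ ⁻¹ᵁ V₁).ι ≫ pullback.snd π e) :=
      MorphismProperty.of_isPullback ((isPullback_morphismRestrict p₁ V₁).paste_vert sq₁) hV₁
    have hf₂ : IsFinite ((p₂ ⁻¹ᵁ V₂).ι ≫ pullback.snd π e) :=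
      MorphismProperty.of_isPullback ((isPullback_morphismRestrict p₂ V₂).paste_vert sq₂) hV₂
    refine ⟨_, e, p₁ ⁻¹ᵁ V₁ ⊔ p₂ ⁻¹ᵁ V₂, inferInstance, isFinite_sup _ _ _, fun K _ _ t zs hzs hzt => ?_⟩
    obtain _ | ⟨z, zs⟩ := zs
    · simp at hzs
    rw [List.map_cons, List.cons.injEq] at hzs
    obtain ⟨l₁, hl₁, hw₁⟩ := h₁ K z hzs.1
    obtain ⟨l₂, hl₂, hw₂⟩ := h₂ K t zs hzs.2 fun z' hz' => hzt z' (List.mem_cons_of_mem _ hz')
    have hl₁t : l₁ ≫ e₁ = t := hl₁.trans (hzt z List.mem_cons_self)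
    refine ⟨pullback.lift l₁ l₂ (hl₁t.trans hl₂.symm), by simp [e, pullback.lift_fst_assoc, hl₁t], fun w hw => ?_⟩
    have e₁' := hw₁ (w ≫ p₁) (by rw [Category.assoc, sq₁.w, reassoc_of% hw, pullback.lift_fst])
    have e₂' := hw₂ (w ≫ p₂) (by rw [Category.assoc, sq₂.w, reassoc_of% hw, pullback.lift_snd])
    simp only [Category.assoc, Scheme.Hom.comp_apply, p₁, p₂, pullback.map, pullback.lift_fst,
      Category.comp_id] at e₁' e₂'
    rw [List.mem_cons, ← e₁', ← e₂']
    rfl

end Groth.Agent.AlgSpace.PieceLocal
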