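import Groth.Agent.Lib.AlgSpace.LqfDescent
import Groth.Agent.Lib.AlgSpace.Atlas
import Groth.Agent.Lib.AlgSpace.Space
import Groth.Agent.Lib.AlgSpace.Diag
import Mathlib.CategoryTheory.Sites.LocallyBijective

/-!
# Quotients by etale equivalence relations, and descent of algebraic spaces

Equivalence relations of schemes are effective in sheaves, sheaves covered by schemes with a
separated locally quasi-finite relation have representable diagonal.
-/

universe u

set_option backward.isDefEq.respectTransparency.types false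
set_option linter.unusedVariables false

open CategoryTheory CategoryTheory.Limits AlgebraicGeometry Opposite

namespace Groth.Agent.AlgSpace

open AlgSp

variable {S : Scheme.{u}}

attribute [local simp] prod.lift_fst prod.lift_snd prod.map_fst prod.map_snd limit.lift_π limit.lift_π_assoc

section Effective

variable {R U : Over S} {s t : R ⟶ U}

/-- The setoid of an equivalence relation on points with values in a test scheme. -/
def eqvSetoid (h : IsEqvRel s t) (T : Over S) : Setoid (T ⟶ U) :=
  ⟨_, h.equivalence T⟩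

/-- The presheaf quotient of an equivalence relation. -/
def quotPresheaf (h : IsEqvRel s t) : (Over S)ᵒᵖ ⥤ Type (u + 1) where
  obj T := ULift.{u + 1} (Quotient (eqvSetoid h T.unop))
  map {T T'} f := TypeCat.ofHom fun x => ⟨Quotient.map (sa := eqvSetoid h T.unop)
    (sb := eqvSetoid h T'.unop) (fun a => f.unop ≫ a) (by
      rintro a b ⟨r, rfl, rfl⟩
      exact ⟨f.unop ≫ r, Category.assoc _ _ _, Category.assoc _ _ _⟩) x.down⟩
  map_id T := by
    ext ⟨x⟩
    induction x using Quotient.ind with
    | _ a => simp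
  map_comp f g := by
    ext ⟨x⟩
    induction x using Quotient.ind with
    | _ a => simp

/-- The quotient map to the presheaf quotient. -/
def quotPresheafπ (h : IsEqvRel s t) : ((yon S).obj U).obj ⟶ quotPresheaf h where
  app T := TypeCat.ofHom fun x => ⟨Quotient.mk (eqvSetoid h T.unop) x.down⟩
  naturality _ _ _ := rfl

/-- An equivalence relation of schemes is the kernel pair of any coequalizer of it in sheaves. -/
theorem isPullback_of_isEqvRel (h : IsEqvRel s t) {F : Sp S} {p : (yon S).obj U ⟶ F}
    (w : (yon S).map s ≫ p = (yon S).map t ≫ p) (hc : IsColimit (Cofork.ofπ p w)) :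
    IsPullback ((yon S).map t) ((yon S).map s) p p := by
  let Q := quotPresheaf h
  let Q' : Sp S := (presheafToSheaf (AlgSp.J S) (Type (u + 1))).obj Q
  let q : (yon S).obj U ⟶ Q' :=
    ObjectProperty.homMk (quotPresheafπ h ≫ toSheafify (AlgSp.J S) Q)
  have hq : (yon S).map s ≫ q = (yon S).map t ≫ q := by
    apply ObjectProperty.hom_ext
    change ((yon S).map s).hom ≫ quotPresheafπ h ≫ toSheafify (AlgSp.J S) Q =
      ((yon S).map t).hom ≫ quotPresheafπ h ≫ toSheafify (AlgSp.J S) Q
    rw [← Category.assoc, ← Category.assoc]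
    congr 1
    ext T ⟨r⟩
    exact congrArg ULift.up (Quotient.sound ((h.equivalence _).symm ⟨r, rfl, rfl⟩))
  obtain ⟨φ, hφ⟩ := Cofork.IsColimit.desc' hc q hq
  have key : ∀ ⦃T : Over S⦄ (a b : T ⟶ U), (yon S).map a ≫ p = (yon S).map b ≫ p →
      ∃ r : T ⟶ R, r ≫ t = a ∧ r ≫ s = b := by
    intro T a b e
    replace e : (yon S).map a ≫ q = (yon S).map b ≫ q := by
      rw [← hφ]
      exact ((Category.assoc _ _ _).symm.trans (congrArg (· ≫ φ) e)).trans (Category.assoc _ _ _)
    have e' : (toSheafify (AlgSp.J S) Q).app (op T) ⟨Quotient.mk (eqvSetoid h T) a⟩ =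
        (toSheafify (AlgSp.J S) Q).app (op T) ⟨Quotient.mk (eqvSetoid h T) b⟩ := by
      have := congrArg (fun g : (yon S).obj T ⟶ Q' => g.hom.app (op T) ⟨𝟙 T⟩) e
      simpa [q, quotPresheafπ] using! this
    have hJ := Presheaf.equalizerSieve_mem (AlgSp.J S) (toSheafify (AlgSp.J S) Q) _ _ e'
    let K := Presheaf.equalizerSieve (F := Q) (X := op T) ⟨Quotient.mk (eqvSetoid h T) a⟩
      ⟨Quotient.mk (eqvSetoid h T) b⟩
    have hK : ∀ ⦃T' : Over S⦄ (f : T' ⟶ T), K f → ∃ r : T' ⟶ R, r ≫ t = f ≫ a ∧ r ≫ s = f ≫ b :=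
      fun T' f hf => Quotient.exact (congrArg ULift.down hf)
    choose r hr₁ hr₂ using hK
    let x : Presieve.FamilyOfElements ((yon S).obj R).obj K.arrows := fun T' f hf => ⟨r f hf⟩
    have hx : x.Compatible := fun Y₁ Y₂ Z g₁ g₂ f₁ f₂ h₁ h₂ ee => by
      apply ULift.ext
      refine h.injective Z _ _ ?_ ?_
      · change (g₁ ≫ r f₁ h₁) ≫ t = (g₂ ≫ r f₂ h₂) ≫ t
        rw [Category.assoc, hr₁, ← Category.assoc, ee, Category.assoc, Category.assoc, hr₁]
      · change (g₁ ≫ r f₁ h₁) ≫ s = (g₂ ≫ r f₂ h₂) ≫ s
        rw [Category.assoc, hr₂, ← Category.assoc, ee, Category.assoc, Category.assoc, hr₂]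
    have hR := (isSheaf_iff_isSheaf_of_type _ _).1 ((yon S).obj R).property K hJ
    have hU := ((isSheaf_iff_isSheaf_of_type _ _).1 ((yon S).obj U).property K hJ).isSeparatedFor
    refine ⟨(hR.amalgamate x hx).down, ?_, ?_⟩
    · refine congrArg ULift.down (hU.ext (t₁ := ⟨(hR.amalgamate x hx).down ≫ t⟩) (t₂ := ⟨a⟩)
        fun T' f hf => ?_)
      apply ULift.ext
      change f ≫ (hR.amalgamate x hx).down ≫ t = f ≫ a
      rw [← Category.assoc, show f ≫ (hR.amalgamate x hx).down = r f hf from
        congrArg ULift.down (hR.valid_glue hx f hf), hr₁]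
    · refine congrArg ULift.down (hU.ext (t₁ := ⟨(hR.amalgamate x hx).down ≫ s⟩) (t₂ := ⟨b⟩)
        fun T' f hf => ?_)
      apply ULift.ext
      change f ≫ (hR.amalgamate x hx).down ≫ s = f ≫ b
      rw [← Category.assoc, show f ≫ (hR.amalgamate x hx).down = r f hf from
        congrArg ULift.down (hR.valid_glue hx f hf), hr₂]
  have hmono : Mono (prod.lift ((yon S).map t) ((yon S).map s)) := mono_of_yon _ fun T x y e => by
    obtain ⟨x, rfl⟩ := (yon S).map_surjective x
    obtain ⟨y, rfl⟩ := (yon S).map_surjective y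
    have e₁ := e =≫ prod.fst
    have e₂ := e =≫ prod.snd
    simp only [Category.assoc, prod.lift_fst, prod.lift_snd, ← Functor.map_comp] at e₁ e₂
    rw [h.injective T x y ((yon S).map_injective e₁) ((yon S).map_injective e₂)]
  have sqP := IsPullback.of_hasPullback p p
  let c := sqP.lift ((yon S).map t) ((yon S).map s) w.symm
  have : IsIso c := by
    have hc₁ : c ≫ pullback.fst p p = (yon S).map t := sqP.lift_fst _ _ _
    have hc₂ : c ≫ pullback.snd p p = (yon S).map s := sqP.lift_snd _ _ _
    have : Mono (c ≫ prod.lift (pullback.fst p p) (pullback.snd p p)) := by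
      rw [show c ≫ prod.lift (pullback.fst p p) (pullback.snd p p) =
        prod.lift ((yon S).map t) ((yon S).map s) by
          rw [prod.comp_lift]; exact congrArg₂ prod.lift hc₁ hc₂]
      exact hmono
    have : Mono c := mono_of_mono c (prod.lift (pullback.fst p p) (pullback.snd p p))
    refine isIso_of_mono_of_lifts c fun T z => ?_
    obtain ⟨a, ha⟩ := (yon S).map_surjective (z ≫ pullback.fst p p)
    obtain ⟨b, hb⟩ := (yon S).map_surjective (z ≫ pullback.snd p p)
    obtain ⟨r, hr₁, hr₂⟩ := key a b (by
      rw [ha, hb, Category.assoc, Category.assoc, pullback.condition])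
    refine ⟨(yon S).map r, sqP.hom_ext ?_ ?_⟩
    · rw [Category.assoc, hc₁, ← Functor.map_comp, hr₁, ha]
    · rw [Category.assoc, hc₂, ← Functor.map_comp, hr₂, hb]
  exact IsPullback.of_iso sqP (asIso c).symm (Iso.refl _) (Iso.refl _) (Iso.refl _)
    (by simp [c]) (by simp [c]) (by simp) (by simp)

end Effective

section Cover

/-- The comparison of `QuotSh.quot` with a coequalizer of representable sheaves. -/
theorem nonempty_isColimit_quot {R U : Over S} (s t : R ⟶ U) :
    ∃ w : (yon S).map s ≫ ((QuotSh.repIsoUliftYoneda Scheme.fppfPrecoverage U).inv ≫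
          QuotSh.quotπ Scheme.fppfPrecoverage s t) =
        (yon S).map t ≫ ((QuotSh.repIsoUliftYoneda Scheme.fppfPrecoverage U).inv ≫
          QuotSh.quotπ Scheme.fppfPrecoverage s t),
      Nonempty (IsColimit (Cofork.ofπ (f := (yon S).map s) (g := (yon S).map t) _ w)) := by
  let eR := QuotSh.repIsoUliftYoneda Scheme.fppfPrecoverage R
  let eU := QuotSh.repIsoUliftYoneda Scheme.fppfPrecoverage U
  have hn : ∀ g : R ⟶ U, (yon S).map g ≫ eU.inv = eR.inv ≫ QuotSh.repMap Scheme.fppfPrecoverage g := by
    intro g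
    rw [Iso.eq_inv_comp, ← Category.assoc, Iso.comp_inv_eq]
    apply ObjectProperty.hom_ext
    apply sheafify_hom_ext _ _ _ ((yon S).obj U).property
    simp only [eR, eU, QuotSh.repIsoUliftYoneda, QuotSh.repMap]
    simp [sheafificationIso]
    have k₁ := toSheafify_sheafifyLift (QuotSh.J Scheme.fppfPrecoverage S)
      (𝟙 ((yon S).obj R).obj) ((yon S).obj R).property
    have k₂ := toSheafify_naturality (QuotSh.J Scheme.fppfPrecoverage S)
      (Functor.whiskerRight (yoneda.map g) uliftFunctor.{u + 1, u})
    refine ((Category.assoc _ _ _).symm.trans ((congrArg (· ≫ ((yon S).map g).hom) k₁).trans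
      (Category.id_comp _))).trans ?_
    refine Eq.trans ?_ ((Category.assoc _ _ _).trans rfl)
    refine Eq.trans ?_ (congrArg (· ≫ _) k₂)
    refine Eq.trans ?_ (Category.assoc _ _ _).symm
    refine Eq.trans ?_ (congrArg (_ ≫ ·) (toSheafify_sheafifyLift _ _ ((yon S).obj U).property).symm)
    exact (Category.comp_id _).symm
  have w : (yon S).map s ≫ eU.inv ≫ QuotSh.quotπ Scheme.fppfPrecoverage s t =
      (yon S).map t ≫ eU.inv ≫ QuotSh.quotπ Scheme.fppfPrecoverage s t := by
    rw [← Category.assoc, ← Category.assoc, hn, hn, Category.assoc, Category.assoc,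
      QuotSh.quot_condition]
  refine ⟨w, ⟨IsColimit.ofIsoColimit ((IsColimit.precomposeHomEquiv
    (parallelPair.ext eR.symm eU.symm (hn s) (hn t) : parallelPair ((yon S).map s) ((yon S).map t) ≅
      parallelPair (QuotSh.repMap Scheme.fppfPrecoverage s) (QuotSh.repMap Scheme.fppfPrecoverage t))
    _).symm (coequalizerIsCoequalizer _ _)) (Cofork.ext (Iso.refl _) ?_)⟩⟩
  simp [Cofork.π, eU]
  rfl

theorem isLocallySurjective_quotπ {R U : Over S} (s t : R ⟶ U) :
    Sheaf.IsLocallySurjective ((QuotSh.repIsoUliftYoneda Scheme.fppfPrecoverage U).inv ≫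
      QuotSh.quotπ Scheme.fppfPrecoverage s t) := by
  obtain ⟨w, ⟨hc⟩⟩ := nonempty_isColimit_quot s t
  rw [CategoryTheory.Sheaf.isLocallySurjective_iff_epi]
  exact Cofork.IsColimit.epi hc

/-- Products of locally surjective maps are locally surjective. -/
theorem isLocallySurjective_prod_map {F₁ F₂ G₁ G₂ : Sp S} (f₁ : F₁ ⟶ G₁) (f₂ : F₂ ⟶ G₂)
    [Sheaf.IsLocallySurjective f₁] [Sheaf.IsLocallySurjective f₂] :
    Sheaf.IsLocallySurjective (prod.map f₁ f₂) :=
  isLocallySurjective_of_lifts _ fun T g => by
    obtain ⟨V, v, l, h₁, h₂, h₃, hl⟩ := exists_single_cover_lift f₁ (g ≫ prod.fst)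
    obtain ⟨V', v', l', h₁', h₂', h₃', hl'⟩ :=
      exists_single_cover_lift f₂ ((yon S).map v ≫ g ≫ prod.snd)
    refine ⟨V', v' ≫ v, prod.lift ((yon S).map v' ≫ l) l', ?_, ?_, ?_, ?_⟩
    · rw [Over.comp_left]; infer_instance
    · rw [Over.comp_left]; infer_instance
    · rw [Over.comp_left]; infer_instance
    · apply Limits.prod.hom_ext <;> simp [hl, hl']

variable {F : Sp S} {U R : Over S} {p : (yon S).obj U ⟶ F} {t s : R ⟶ U}
  [Sheaf.IsLocallySurjective p] (sq : IsPullback ((yon S).map t) ((yon S).map s) p p)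

include sq in
/-- A sheaf covered by a scheme whose kernel pair is represented by a scheme locally of finite type
over the product has representable diagonal. -/
theorem representable_diag_of_cover [LocallyOfFiniteType (prod.lift t s).left] :
    Representable (Limits.diag F) := by
  have h : RepWith (MorphismProperty.monomorphisms Scheme.{u} ⊓ @LocallyOfFiniteType)
      (prod.lift ((yon S).map t) ((yon S).map s)) := by
    rw [← lift_comparison, repWith_respectsIso_right]
    refine (repWith_yon_map_iff _ _).2 ⟨?_, ‹_›⟩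
    have : Mono ((yon S).map (prod.lift t s) ≫ prodComparison (yon S) U U) := by
      rw [lift_comparison]
      exact (MorphismProperty.monomorphisms (Sp S)).of_isPullback (isPullback_diag sq)
        (inferInstanceAs (Mono (Limits.diag F)))
    have : Mono ((yon S).map (prod.lift t s)) := mono_of_mono _ (prodComparison (yon S) U U)
    have : Mono (prod.lift t s) := (yon S).mono_of_mono_map this
    exact inferInstanceAs (Mono ((Over.forget S).map (prod.lift t s)))
  have : (MorphismProperty.monomorphisms Scheme.{u}).DescendsAlong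
      (@Surjective ⊓ @Flat ⊓ @QuasiCompact : MorphismProperty Scheme.{u}) := by
    rw [← MorphismProperty.diagonal_isomorphisms]; infer_instance
  have : (MorphismProperty.monomorphisms Scheme.{u}).IsStableUnderBaseChange :=
    MorphismProperty.IsStableUnderBaseChange.monomorphisms _
  have := FpqcDesc.descendsAlong_inf (MorphismProperty.monomorphisms Scheme.{u}) @LocallyOfFiniteType
    (@Surjective ⊓ @Flat ⊓ @QuasiCompact : MorphismProperty Scheme.{u})
  have := isLocallySurjective_prod_map p p
  refine (repWith_of_locSurj_lqf (P := MorphismProperty.monomorphisms Scheme.{u} ⊓ @LocallyOfFiniteType)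
    (fun X Y j hj => ?_) (isPullback_diag sq) h).1
  have : Mono j := hj.1
  have : LocallyOfFiniteType j := hj.2
  exact ⟨.of_injective j.injective, hj.2, inferInstance⟩

include sq in
/-- A sheaf covered by a scheme with etale kernel pair is an algebraic space presented by it. -/
theorem isAlgSpace_of_etale_kernelPair (ht : Etale t.left) (hs : Etale s.left) :
    IsAlgSpace F ∧ RepWith @Etale p ∧ RepWith @Surjective p := by
  have : LocallyOfFiniteType ((prod.lift t s).left ≫ (prod.fst : U ⨯ U ⟶ U).left) := by
    rw [lift_left_fst]; infer_instance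
  have := locallyOfFiniteType_of_comp (prod.lift t s).left (prod.fst : U ⨯ U ⟶ U).left
  have hd := representable_diag_of_cover sq
  have hp : Representable p := Functor.relativelyRepresentable.of_diag hd p
  have : Surjective s.left := ⟨fun u => by
    obtain ⟨e, he⟩ := (yon S).map_surjective (sq.lift (𝟙 _) (𝟙 _) rfl)
    have he' : e ≫ s = 𝟙 U := (yon S).map_injective (by
      rw [Functor.map_comp, he, (yon S).map_id]; exact sq.lift_snd _ _ _)
    exact ⟨e.left u, congrArg (fun k : U ⟶ U => k.left u) he'⟩⟩
  have := isLocalAtTarget_fppf (@Etale : MorphismProperty Scheme.{u})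
  have := isLocalAtTarget_fppf (@Surjective : MorphismProperty Scheme.{u})
  have he : RepWith @Etale p :=
    repWith_of_locallySurjective hp sq _ ((repWith_yon_map_iff _ _).2 hs)
  have hsur : RepWith @Surjective p :=
    repWith_of_locallySurjective hp sq _ ((repWith_yon_map_iff _ _).2 ‹_›)
  exact ⟨⟨hd, U, p, he, hsur⟩, he, hsur⟩

end Cover

end Groth.Agent.AlgSpace
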