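import Groth.Agent.Lib.AlgSpace.QC
import Groth.Agent.Lib.AlgSpace.Proper
import Mathlib.AlgebraicGeometry.Morphisms.UniversallyClosed

/-!
# Universally closed maps of spaces are quasi-compact
-/

universe u

set_option backward.isDefEq.respectTransparency.types false
set_option linter.unusedVariables false

open CategoryTheory CategoryTheory.Limits AlgebraicGeometry Opposite

namespace Groth.Agent.AlgSpace

open AlgSp Groth.Agent.AlgSpDecent

variable {S : Scheme.{u}}

/-- A universally closed map to an affine scheme has finitely many charts over each point. -/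
theorem exists_finset_cover_fibre {R : CommRingCat.{u}} (str : Spec R ⟶ S) {P : Sp S}
    (π : P ⟶ (yon S).obj (Over.mk str)) (hc : IsUnivClosedMor π) {ι : Type u}
    (V : ι → Set (Points P)) (hV : ∀ i, IsOpen (V i)) (hcov : ∀ x, ∃ i, x ∈ V i)
    (p : PrimeSpectrum R) :
    ∃ σ : Finset ι, ∀ x, Points.map π x = Points.ofScheme (Over.mk str) p → ∃ i ∈ σ, x ∈ V i := by
  classical
  let q : Spec (CommRingCat.of (MvPolynomial ι R)) ⟶ Spec R :=
    Spec.map (CommRingCat.ofHom MvPolynomial.C)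
  let T : Over S := Over.mk (q ≫ str)
  let qT : T ⟶ Over.mk str := Over.homMk q rfl
  have sq := IsPullback.of_hasPullback π ((yon S).map qT)
  have hcl : IsClosedMap (Points.map (pullback.snd π ((yon S).map qT))) :=
    hc (IsAlgSpace.yon_obj T) _ _ _ sq
  let Ti : ι → Set (PrimeSpectrum (MvPolynomial ι R)) := fun i =>
    (PrimeSpectrum.basicOpen (MvPolynomial.X i)).carrier
  let hT := Points.schemeHomeo T
  let C : Set (Points (pullback π ((yon S).map qT))) :=
    (⋃ i, Points.map (pullback.snd π ((yon S).map qT)) ⁻¹' (hT '' Ti i) ∩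
      Points.map (pullback.fst π ((yon S).map qT)) ⁻¹' V i)ᶜ
  have hC : IsClosed C := (isOpen_iUnion fun i =>
    ((hT.isOpenMap _ (PrimeSpectrum.basicOpen _).isOpen).preimage (Points.continuous_map _)).inter
      ((hV i).preimage (Points.continuous_map _))).isClosed_compl
  let D : Set (PrimeSpectrum (MvPolynomial ι R)) :=
    hT ⁻¹' (Points.map (pullback.snd π ((yon S).map qT)) '' C)
  have hD : IsClosed D := (hcl _ hC).preimage hT.continuous
  let ψ : MvPolynomial ι R →ₐ[R] p.asIdeal.ResidueField := MvPolynomial.aeval fun _ => 1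
  let t : PrimeSpectrum (MvPolynomial ι R) := ⟨RingHom.ker ψ.toRingHom, RingHom.ker_isPrime _⟩
  have htT : ∀ i, t ∈ Ti i := fun i => show ψ (.X i) ≠ 0 by simp [ψ]
  have htp : t.asIdeal.comap MvPolynomial.C = p.asIdeal := by
    ext r
    change ψ (MvPolynomial.C r) = 0 ↔ r ∈ p.asIdeal
    simp [ψ, Ideal.algebraMap_residueField_eq_zero]
  have htD : t ∉ D := by
    rintro ⟨w, hw, hwt⟩
    obtain ⟨i, hi⟩ := hcov (Points.map (pullback.fst π ((yon S).map qT)) w)
    exact hw (Set.mem_iUnion.2 ⟨i, ⟨t, htT i, hwt.symm⟩, hi⟩)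
  obtain ⟨_, ⟨g, rfl⟩, htg, hgD⟩ := PrimeSpectrum.isTopologicalBasis_basic_opens.exists_subset_of_mem_open
    (show t ∈ Dᶜ from htD) hD.isOpen_compl
  let σ : Finset ι := g.vars
  let φ : MvPolynomial ι R →ₐ[R] MvPolynomial ι R :=
    MvPolynomial.aeval fun i => if i ∈ σ then MvPolynomial.X i else 0
  let t' : PrimeSpectrum (MvPolynomial ι R) := PrimeSpectrum.comap φ.toRingHom t
  have ht'g : g ∉ t'.asIdeal := by
    change φ g ∉ t.asIdeal
    rw [show φ g = g from MvPolynomial.aeval_ite_mem_eq_self g subset_rfl]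
    exact htg
  have ht'D : t' ∉ D := hgD ht'g
  refine ⟨σ, fun x hx => ?_⟩
  by_contra hcon
  simp only [not_exists, not_and] at hcon
  have hqt' : q t' = p := PrimeSpectrum.ext (by
    rw [← htp]
    change (t.asIdeal.comap φ.toRingHom).comap MvPolynomial.C = t.asIdeal.comap MvPolynomial.C
    rw [Ideal.comap_comap]
    exact congrArg (Ideal.comap · t.asIdeal) φ.comp_algebraMap)
  obtain ⟨w, hw₁, hw₂⟩ := exists_point_lift sq x (hT t') (by
    rw [hx, Points.map_yon_map_apply]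
    exact congrArg _ hqt'.symm)
  refine ht'D ⟨w, ?_, hw₂⟩
  intro hw
  obtain ⟨i, ⟨s, hs, hs'⟩, hi⟩ := Set.mem_iUnion.1 hw
  rw [hw₂] at hs'
  rw [hT.injective hs'] at hs
  rw [Set.mem_preimage, hw₁] at hi
  refine hcon i ?_ hi
  by_contra hiσ
  refine hs ?_
  change φ (.X i) ∈ t.asIdeal
  simp [φ, hiσ]

/-- **A universally closed map is quasi-compact.** -/
theorem isQuasiCompactMor_of_isUnivClosedMor {X Y : Sp S} (hX : IsAlgSpace X) (hY : IsAlgSpace Y)
    {f : X ⟶ Y} (hf : IsUnivClosedMor f) : IsQuasiCompactMor f := by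
  refine isQuasiCompactMor_of_affine hX hY fun Z hZ g P fst snd sq => ?_
  have hP : IsAlgSpace P := isAlgSpace_baseChange hX hY (IsAlgSpace.yon_obj Z) sq
  let e : Over.mk (Z.left.isoSpec.inv ≫ Z.hom) ≅ Z := Over.isoMk Z.left.isoSpec.symm rfl
  let π : P ⟶ (yon S).obj (Over.mk (Z.left.isoSpec.inv ≫ Z.hom)) := snd ≫ (yon S).map e.inv
  have hπ : IsUnivClosedMor π := univSp_of_isPullback (g := (yon S).map e.hom ≫ g) (fst := fst)
    (sq.of_iso (Iso.refl _) (Iso.refl _) ((yon S).mapIso e.symm) (Iso.refl _) (by simp) (by simp [π])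
      (by simp) (by simp [← Functor.map_comp_assoc])) hf
  have hcl : IsClosedMap (Points.map π) := isClosedMap_of_isUnivClosedMor (IsAlgSpace.yon_obj _) hπ
  obtain ⟨U, u, hue, hus⟩ := hP.atlas
  let V : U.left.affineOpens → Set (Points P) := fun i => Points.ofPt u '' (i.1 : Set ↥U.left)
  have hV : ∀ i, IsOpen (V i) := fun i => isOpenMap_ofPt u hue _ i.1.isOpen
  have hcov : ∀ x, ∃ i, x ∈ V i := fun x => by
    obtain ⟨a, rfl⟩ := surjective_ofPt hus x
    obtain ⟨W, hW, ha, -⟩ :=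
      exists_isAffineOpen_mem_and_subset (X := U.left) (x := a) (U := ⊤) trivial
    exact ⟨⟨W, hW⟩, a, ha, rfl⟩
  choose σ hσ using exists_finset_cover_fibre (R := Γ(Z.left, ⊤)) (Z.left.isoSpec.inv ≫ Z.hom) π hπ V hV hcov
  let hh := Points.schemeHomeo (Over.mk (Z.left.isoSpec.inv ≫ Z.hom))
  let N : PrimeSpectrum Γ(Z.left, ⊤) → Set (PrimeSpectrum Γ(Z.left, ⊤)) := fun z =>
    (hh ⁻¹' (Points.map π '' (⋃ i ∈ σ z, V i)ᶜ))ᶜ
  obtain ⟨s, hs⟩ := (isCompact_univ (X := PrimeSpectrum Γ(Z.left, ⊤))).elim_finite_subcover N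
    (fun z => ((hcl _ (isOpen_biUnion fun i _ => hV i).isClosed_compl).preimage
      hh.continuous).isOpen_compl) (fun z _ => by
    refine Set.mem_iUnion.2 ⟨z, ?_⟩
    rintro ⟨x, hx, hxz⟩
    obtain ⟨i, hi, hxi⟩ := hσ z x hxz
    exact hx (Set.mem_iUnion₂.2 ⟨i, hi, hxi⟩))
  refine ⟨?_⟩
  have huniv : (Set.univ : Set (Points P)) = ⋃ z ∈ s, ⋃ i ∈ σ z, V i := by
    refine (Set.eq_univ_of_forall fun x => ?_).symm
    obtain ⟨z, hz⟩ := hh.surjective (Points.map π x)
    obtain ⟨z', hz', hN⟩ := Set.mem_iUnion₂.1 (hs (Set.mem_univ z))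
    refine Set.mem_iUnion₂.2 ⟨z', hz', ?_⟩
    by_contra hx
    exact hN ⟨x, hx, hz.symm⟩
  rw [huniv]
  exact s.isCompact_biUnion fun z _ => (σ z).isCompact_biUnion fun i _ =>
    i.2.isCompact.image (Points.continuous_ofPt u)

end Groth.Agent.AlgSpace
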