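import Groth.Agent.Lib.AlgSpace.Quot
import Groth.Agent.Lib.AlgSpace.LqfScheme
import Groth.Agent.Lib.AlgSpace.Rep

/-!
# Sheaves with a cover by algebraic spaces

Representability of the diagonal of a sheaf covered flatly by an algebraic space, and descent of
algebraic spaces along etale maps representable by algebraic spaces.
-/

universe u

set_option backward.isDefEq.respectTransparency.types false
set_option linter.unusedVariables false

open CategoryTheory CategoryTheory.Limits AlgebraicGeometry Opposite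

namespace Groth.Agent.AlgSpace

open AlgSp Groth.Agent.AlgSpDecent

variable {S : Scheme.{u}}

attribute [local simp] prod.lift_fst prod.lift_snd limit.lift_π limit.lift_π_assoc

/-- A monomorphism of algebraic spaces locally of finite type into a scheme has a scheme as source. -/
theorem exists_iso_yon_of_mono_lft {T : Over S} {X : Sp S} (hX : IsAlgSpace X)
    (f : X ⟶ (yon S).obj T) [Mono f] (hf : LocP @LocallyOfFiniteType f) :
    ∃ G : Over S, Nonempty ((yon S).obj G ≅ X) := by
  have hd : RepWith @IsOpenImmersion (pullback.diagonal f) := repWith_diagonal_of_mono f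
  have hu := locP_unramified_of_diagonal hX (IsAlgSpace.yon_obj T) hf hd
  exact exists_iso_yon_of_lqf_separated hX f (repWith_diagonal_of_mono f)
    (locP_mono (fun A B g hg => by
      have : LocallyOfFiniteType g := hg.1
      have : FormallyUnramified g := hg.2
      exact ⟨locallyQuasiFinite_of_unramified g, ‹LocallyOfFiniteType g›⟩) hu)

section Cover

variable {F X : Sp S} (p : X ⟶ F) (hX : IsAlgSpace X)
  (hp : RepBySpWith (IsSurjectiveMor ⊓ LocP @Flat ⊓ LocP @LocallyOfFinitePresentation) p.hom)

omit hX in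
include hp in
/-- A map representable by algebraic spaces, flat, surjective and locally of finite presentation,
composed with an atlas, is a locally surjective map from a scheme whose base changes are covers. -/
theorem exists_flat_cover_lift {T : Over S} (g : (yon S).obj T ⟶ F) :
    ∃ (V : Over S) (v : V ⟶ T) (l : (yon S).obj V ⟶ X), Flat v.left ∧ Surjective v.left ∧
      LocallyOfFinitePresentation v.left ∧ l ≫ p = (yon S).map v ≫ g := by
  have sq := IsPullback.of_hasPullback p g
  obtain ⟨hP, ⟨hs, hfl⟩, hfp⟩ := (repBySpWith_hom_iff _ p).1 hp g _ _ sq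
  obtain ⟨V, a, hae, has⟩ := hP.atlas
  obtain ⟨v, hv⟩ := (yon S).map_surjective (a ≫ pullback.snd p g)
  have w : a ≫ pullback.snd p g = (yon S).map v ≫ 𝟙 _ := by rw [Category.comp_id, hv]
  refine ⟨V, v, a ≫ pullback.fst p g, hfl a (𝟙 _) v hae (repWith_id _ _) w, ⟨fun t => ?_⟩,
    hfp a (𝟙 _) v hae (repWith_id _ _) w, ?_⟩
  · obtain ⟨x, hx⟩ := hs (Points.ofScheme T t)
    obtain ⟨y, rfl⟩ := surjective_ofPt has x
    refine ⟨y, (Points.schemeEquiv T).injective ?_⟩
    change Points.ofScheme T (v.left y) = Points.ofScheme T t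
    rw [← ofPt_map_eq, hv, ← Points.map_ofPt]
    exact hx
  · rw [Category.assoc, pullback.condition, ← Category.assoc, hv]

include hX hp in
/-- A sheaf flatly covered by an algebraic space has representable diagonal. -/
theorem representable_diag_of_fppf_cover : Representable (Limits.diag F) := by
  obtain ⟨U, a, hae, has⟩ := hX.atlas
  let q : (yon S).obj U ⟶ F := a ≫ p
  have : Sheaf.IsLocallySurjective q := isLocallySurjective_of_lifts q fun T g => by
    obtain ⟨V, v, l, h₁, h₂, h₃, hl⟩ := exists_flat_cover_lift p hp g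
    have sqa := hae.1.isPullback l
    have : Etale (hae.1.snd l).left := hae.2 l _ _ sqa
    have : Surjective (hae.1.snd l).left := has.2 l _ _ sqa
    refine ⟨_, hae.1.snd l ≫ v, hae.1.fst l, ?_, ?_, ?_, ?_⟩
    · rw [Over.comp_left]; infer_instance
    · rw [Over.comp_left]; infer_instance
    · rw [Over.comp_left]; infer_instance
    · rw [← Category.assoc, sqa.w, Category.assoc, hl, Functor.map_comp_assoc]
  -- the relation
  have sq₁ := IsPullback.of_hasPullback p q
  obtain ⟨hR₁, -, hfp⟩ := (repBySpWith_hom_iff _ p).1 hp q _ _ sq₁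
  have sq₂ := IsPullback.of_hasPullback a (pullback.fst p q)
  have hR : IsAlgSpace (pullback a (pullback.fst p q)) :=
    isAlgSpace_pullback hX (IsAlgSpace.yon_obj U) hR₁ sq₂
  let r₁ := pullback.fst a (pullback.fst p q)
  let r₂ := pullback.snd a (pullback.fst p q) ≫ pullback.snd p q
  have sq : IsPullback r₁ r₂ q q := sq₂.paste_vert sq₁
  have hfp₁ : LocP @LocallyOfFinitePresentation r₂ :=
    locP_comp hR hR₁ (IsAlgSpace.yon_obj U)
      (locP_of_repWith hR₁ (repWith_mono etale_le_lfp (repWith_of_isPullback sq₂ hae))) hfp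
  let j : pullback a (pullback.fst p q) ⟶ (yon S).obj (U ⨯ U) :=
    prod.lift r₁ r₂ ≫ inv (prodComparison (yon S) U U)
  have hj₁ : j ≫ (yon S).map prod.fst = r₁ := by
    simp only [j, Category.assoc]
    rw [inv_prodComparison_map_fst, prod.lift_fst]
  have hj₂ : j ≫ (yon S).map prod.snd = r₂ := by
    simp only [j, Category.assoc]
    rw [inv_prodComparison_map_snd, prod.lift_snd]
  have : Mono j := by
    have : Mono (prod.lift r₁ r₂) :=
      ⟨fun x y e => sq.hom_ext (by simpa using e =≫ prod.fst) (by simpa using e =≫ prod.snd)⟩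
    infer_instance
  have hj : LocP @LocallyOfFiniteType j :=
    locP_of_comp (Q' := @LocallyOfFiniteType) (R := ⊤)
      (fun A B C k l hkl _ => by
        have : LocallyOfFiniteType (k ≫ l) := hkl
        exact locallyOfFiniteType_of_comp k l)
      hR (IsAlgSpace.yon_obj _) (IsAlgSpace.yon_obj U) (g := (yon S).map prod.snd)
      (by rw [hj₂]; exact locP_mono (Q := @LocallyOfFiniteType) (fun _ _ g (hg : LocallyOfFinitePresentation g) => inferInstance) hfp₁)
      (locP_top _)
  obtain ⟨W, ⟨e⟩⟩ := exists_iso_yon_of_mono_lft hR j hj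
  obtain ⟨t, ht⟩ := (yon S).map_surjective (e.hom ≫ r₁)
  obtain ⟨s, hs⟩ := (yon S).map_surjective (e.hom ≫ r₂)
  have sqW : IsPullback ((yon S).map t) ((yon S).map s) q q := by
    rw [ht, hs]
    exact IsPullback.of_iso sq e.symm (Iso.refl _) (Iso.refl _) (Iso.refl _) (by simp) (by simp)
      (by simp) (by simp)
  have hl : LocallyOfFiniteType (prod.lift t s).left := by
    have h : (yon S).map (prod.lift t s) = e.hom ≫ j := by
      rw [← Category.comp_id ((yon S).map (prod.lift t s)),
        ← IsIso.hom_inv_id (prodComparison (yon S) U U), ← Category.assoc, lift_comparison, ht, hs,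
        ← prod.comp_lift, Category.assoc]
    have := locP_comp (IsAlgSpace.yon_obj W) hR (IsAlgSpace.yon_obj _)
      (locP_of_repWith (P := @LocallyOfFiniteType) hR
        (MorphismProperty.of_isIso (RepWith (S := S) @LocallyOfFiniteType) e.hom)) hj
    exact this (𝟙 _) (𝟙 _) (prod.lift t s) (repWith_id _ _) (repWith_id _ _)
      (by rw [Category.id_comp, Category.comp_id, h])
  exact representable_diag_of_cover sqW

end Cover

/-- A sheaf with an etale surjection, representable by algebraic spaces, from an algebraic space is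
an algebraic space. -/
theorem isAlgSpace_of_repBySp_etale {F X : Sp S} (p : X ⟶ F) (hX : IsAlgSpace X)
    (hp : RepBySpWith (IsSurjectiveMor ⊓ IsEtaleMor) p.hom) : IsAlgSpace F := by
  have hp' : RepBySpWith (IsSurjectiveMor ⊓ LocP @Flat ⊓ LocP @LocallyOfFinitePresentation) p.hom := by
    intro T ξ F' fst snd sq
    obtain ⟨h, hF', hs, he⟩ := hp ξ fst snd sq
    exact ⟨h, hF', ⟨hs, locP_of_isEtaleMor he⟩, locP_of_isEtaleMor he⟩
  have hd := representable_diag_of_fppf_cover p hX hp'
  obtain ⟨U, a, hae, has⟩ := hX.atlas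
  have key : ∀ ⦃T : Over S⦄ (g : (yon S).obj T ⟶ F), ∃ (V : Over S) (fst : (yon S).obj V ⟶ (yon S).obj U)
      (v : V ⟶ T), IsPullback fst ((yon S).map v) (a ≫ p) g ∧ Etale v.left ∧ Surjective v.left := by
    intro T g
    have sq := IsPullback.of_hasPullback p g
    obtain ⟨hP, hs, he⟩ := (repBySpWith_hom_iff _ p).1 hp g _ _ sq
    obtain ⟨W, e₁, e₂, sqW⟩ := representable_diag_iff.1 hd (a ≫ p) g
    let k := sqW.isoIsPullback _ _ ((IsPullback.of_hasPullback a (pullback.fst p g)).paste_vert sq)
    let c : (yon S).obj W ⟶ pullback p g := k.hom ≫ pullback.snd a (pullback.fst p g)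
    have sqc := IsPullback.of_hasPullback a (pullback.fst p g)
    have hce : RepWith @Etale c := (repWith_respectsIso_left k.hom).2 (repWith_of_isPullback sqc hae)
    have hcs : RepWith @Surjective c := (repWith_respectsIso_left k.hom).2 (repWith_of_isPullback sqc has)
    have hc : c ≫ pullback.snd p g = (yon S).map e₂ := by
      simp only [c, Category.assoc]
      exact sqW.isoIsPullback_hom_snd _ _ _
    refine ⟨W, _, e₂, sqW, (repWith_yon_map_iff _ _).1 (hc ▸ he c hce), ⟨fun t => ?_⟩⟩
    obtain ⟨x, hx⟩ := hs (Points.ofScheme T t)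
    obtain ⟨y, rfl⟩ := surjective_ofPt hcs x
    refine ⟨y, (Points.schemeEquiv T).injective ?_⟩
    change Points.ofScheme T (e₂.left y) = Points.ofScheme T t
    rw [← ofPt_map_eq, ← hc, ← Points.map_ofPt]
    exact hx
  refine ⟨hd, U, a ≫ p, repWith_mk fun T g => ?_, repWith_mk fun T g => ?_⟩
  · obtain ⟨V, fst, v, sq, h, -⟩ := key g
    exact ⟨V, fst, v, sq, h⟩
  · obtain ⟨V, fst, v, sq, -, h⟩ := key g
    exact ⟨V, fst, v, sq, h⟩


/-- Separated locally quasi-finite maps descend along covers representable by algebraic spaces. -/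
theorem repWith_sepLqf_of_repBySp_cover {E F G H : Sp S} (a : E ⟶ F) (f : E ⟶ H) (g : F ⟶ G)
    (b : H ⟶ G) (sq : IsPullback a f g b)
    (hg : RepBySpWith (IsSurjectiveMor ⊓ LocP @Flat ⊓ LocP @LocallyOfFinitePresentation) g.hom)
    (ha : RepBySpWith (IsSeparatedMor ⊓ LocP (@LocallyQuasiFinite ⊓ @LocallyOfFiniteType)) a.hom) :
    RepWith sepLqf b := by
  have := descendsAlong_sepLqf.{u}
  refine repWith_of_cover_lqf (fun _ _ j hj => ⟨hj.1.1, hj.1.2, hj.2⟩) fun Z hZ h => ?_
  obtain ⟨V, v, l, h₁, h₂, h₃, hl⟩ := exists_flat_cover_lift g hg h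
  have sqa := IsPullback.of_hasPullback a l
  obtain ⟨hE, hsep, hqf⟩ := (repBySpWith_hom_iff _ a).1 ha l _ _ sqa
  obtain ⟨W, ⟨e⟩⟩ := exists_iso_yon_of_lqf_separated hE (pullback.snd a l) hsep hqf
  obtain ⟨i, hi⟩ := (yon S).map_surjective (e.hom ≫ pullback.snd a l)
  have sqW : IsPullback (e.hom ≫ pullback.fst a l) ((yon S).map i) a l :=
    IsPullback.of_iso sqa e.symm (Iso.refl _) (Iso.refl _) (Iso.refl _) (by simp) (by simp [hi])
      (by simp) (by simp)
  refine ⟨V, W, v, i, (e.hom ≫ pullback.fst a l) ≫ f, h₁, h₂, h₃, ?_, ?_, ?_⟩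
  · rw [← hl]
    exact sqW.paste_horiz sq.flip
  · exact (locP_comp (IsAlgSpace.yon_obj W) hE (IsAlgSpace.yon_obj V)
      (locP_of_repWith hE (MorphismProperty.of_isIso
        (RepWith (S := S) (@LocallyQuasiFinite ⊓ @LocallyOfFiniteType)) e.hom)) hqf)
      (𝟙 _) (𝟙 _) i (repWith_id _ _) (repWith_id _ _) (by rw [Category.id_comp, Category.comp_id, hi])
  · refine (isSeparatedMor_yon_map_iff i).1 ?_
    rw [hi]
    exact repWith_diagonal_comp (repWith_diagonal_of_mono e.hom) hsep

end Groth.Agent.AlgSpace
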