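import Groth.Agent.Lib.QcChart14.Basic
import Groth.Agent.Lib.ConsTop3.Basic

/-!
# Constructible sets of points of quasi-separated spaces
-/

universe u v

set_option backward.isDefEq.respectTransparency.types false

open CategoryTheory CategoryTheory.Limits AlgebraicGeometry AlgSp Opposite Topology
open Groth.Agent.AlgSpace Groth.Agent.AlgSpDecent

namespace Groth.Agent.AlgSpConstr15

local notation "τ" => constructibleTopology

section Top

variable {A : Type u} {B : Type v} [TopologicalSpace A] [TopologicalSpace B] [CompactSpace A] [QuasiSober A]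
  [PrespectralSpace A] [QuasiSeparatedSpace A] [CompactSpace B] [T0Space B] [QuasiSober B]
  [PrespectralSpace B] [QuasiSeparatedSpace B]

/-- A clopen of the constructible topology is constructible. -/
theorem isConstructible_of_isClopen {E : Set B} (ho : IsOpen[τ B] E) (hc : IsClosed[τ B] E) :
    IsConstructible E := by
  have h := ConsTop3.isOpen_iff_exists.1 ho
  choose C hC hpC hCE using h
  have hop : ∀ s : Set B, IsConstructible s → IsOpen[τ B] s := fun s hs =>
    ConsTop3.isOpen_of_isConstructible hs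
  have hcomp : @IsCompact B (τ B) E :=
    @IsClosed.isCompact B (τ B) E (ConsTop3.compactSpace_top (X := B)) hc
  obtain ⟨t, ht⟩ := @IsCompact.elim_finite_subcover B (τ B) E E hcomp (fun p : E => C p.1 p.2)
    (fun p => hop _ (hC _ _)) fun p hp => Set.mem_iUnion.2 ⟨⟨p, hp⟩, hpC p hp⟩
  rw [show E = ⋃ p ∈ t, C p.1 p.2 from subset_antisymm ht (Set.iUnion₂_subset fun p _ => hCE _ _)]
  exact IsConstructible.biUnion t.finite_toSet fun p _ => hC _ _

/-- Constructibility descends along surjective spectral maps. -/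
theorem isConstructible_of_preimage {g : A → B} (hg : Continuous g)
    (hk : ∀ U : Set B, IsOpen U → IsCompact U → IsCompact (g ⁻¹' U)) (hs : Function.Surjective g)
    {E : Set B} (hE : IsConstructible (g ⁻¹' E)) : IsConstructible E := by
  have hcont : Continuous[τ A, τ B] g := continuous_generateFrom_iff.2 fun s hs' => by
    rcases hs' with ⟨ho, hc⟩ | ⟨ho, hc⟩
    · exact (hk s ho hc).isOpen_constructibleTopology_of_isOpen (ho.preimage hg)
    · exact IsCompact.isOpen_constructibleTopology_of_isClosed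
        (by rw [← Set.preimage_compl]; exact hk _ ho.isOpen_compl hc) (ho.preimage hg)
  have key : ∀ D : Set B, IsConstructible (g ⁻¹' D) → IsClosed[τ B] D := fun D hD => by
    have hcl : IsClosed[τ A] (g ⁻¹' D) :=
      @IsClosed.mk A (τ A) _ (ConsTop3.isOpen_of_isConstructible hD.compl)
    have hcomp : @IsCompact A (τ A) (g ⁻¹' D) :=
      @IsClosed.isCompact A (τ A) _ (ConsTop3.compactSpace_top (X := A)) hcl
    have := @IsCompact.image A B (τ A) (τ B) _ _ hcomp hcont
    rw [Set.image_preimage_eq _ hs] at this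
    exact @IsCompact.isClosed B (τ B) (ConsTop3.t2Space_top (X := B)) D this
  refine isConstructible_of_isClopen ?_ (key E hE)
  have := key Eᶜ (by rw [Set.preimage_compl]; exact hE.compl)
  simpa using this.1

end Top

variable {S : Scheme.{u}} {F : Sp S}

/-- Affine etale charts of quasi-separated spaces are quasi-compact on points. -/
theorem isCompact_preimage [QuasiSeparatedSpace ↥S] (hF : IsAlgSpace F) (hqs : IsQuasiSeparatedSp F)
    {U : Over S} [IsAffine U.left] {a : (yon S).obj U ⟶ F} (ha : RepWith @Etale a)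
    {V : Set (Points F)} (hV : IsOpen V) (hVc : IsCompact V) :
    IsCompact (Points.ofPt a ⁻¹' V) := by
  have key : ∀ x : Points F, x ∈ V → ∃ W : Set (Points F), IsOpen W ∧ x ∈ W ∧ W ⊆ V ∧
      IsCompact (Points.ofPt a ⁻¹' W) := by
    intro x hx
    obtain ⟨T, p, hpe, hps⟩ := hF.atlas
    obtain ⟨w, rfl⟩ := surjective_ofPt hps x
    obtain ⟨_, ⟨(O : T.left.Opens), hO, rfl⟩, hwO, hOsub⟩ := T.left.isBasis_affineOpens.exists_subset_of_mem_open
      (show w ∈ Points.ofPt p ⁻¹' V from hx) (hV.preimage (Points.continuous_ofPt p))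
    let W' : Over S := Over.mk (O.ι ≫ T.hom)
    haveI : IsAffine W'.left := hO
    obtain ⟨q, hqe, hqr⟩ : ∃ q : (yon S).obj W' ⟶ F, RepWith @Etale q ∧
        Set.range (Points.ofPt q) = Points.ofPt p '' (O : Set ↥T.left) :=
      ⟨_, repWith_etale_restrict hpe O, range_ofPt_restrict p O⟩
    refine ⟨Set.range (Points.ofPt q), (isOpenMap_ofPt q hqe).isOpen_range, hqr ▸ ⟨w, hwO, rfl⟩,
      hqr ▸ Set.image_subset_iff.2 hOsub, ?_⟩
    obtain ⟨k, hk⟩ := (yon S).map_surjective (hqe.1.fst a)
    have sq : IsPullback ((yon S).map k) ((yon S).map (hqe.1.snd a)) q a := hk ▸ hqe.1.isPullback a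
    have : QuasiCompact (prod.lift k (hqe.1.snd a)).left := prop_lift_of_repWith_diag hqs sq
    have : CompactSpace ↥(W' ⨯ U).left := by
      have : CompactSpace ↥(pullback W'.hom U.hom) := inferInstance
      exact (Scheme.Hom.homeomorph (Over.prodLeftIsoPullback W' U).hom).symm.compactSpace
    have : CompactSpace ↥(hqe.1.pullback a).left :=
      QuasiCompact.compactSpace_of_compactSpace (prod.lift k (hqe.1.snd a)).left
    rw [← Set.image_univ, preimage_image_ofPt sq, Set.preimage_univ, Set.image_univ]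
    exact isCompact_range (hqe.1.snd a).left.continuous
  choose W hW hxW hWV hWc using key
  obtain ⟨t, ht⟩ := hVc.elim_finite_subcover (fun x : V => W x.1 x.2) (fun x => hW _ _)
    fun x hx => Set.mem_iUnion.2 ⟨⟨x, hx⟩, hxW x hx⟩
  have e : V = ⋃ x ∈ t, W x.1 x.2 := subset_antisymm ht (Set.iUnion₂_subset fun x _ => hWV _ _)
  rw [e, Set.preimage_iUnion₂]
  exact t.isCompact_biUnion fun x _ => hWc _ _

/-- Constructible sets of a quasi-separated space are the sets with constructible inverse images in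
etale charts. -/
theorem isLocallyConstructible_iff [QuasiSeparatedSpace ↥S] (hF : IsAlgSpace F)
    (hqs : IsQuasiSeparatedSp F) (E : Set (Points F)) :
    (∀ (U : Over S) (a : (yon S).obj U ⟶ F), RepWith @Etale a →
        IsLocallyConstructible (Points.ofPt a ⁻¹' E)) ↔ IsLocallyConstructible E := by
  constructor
  · intro h x
    obtain ⟨T, p, hpe, hps⟩ := hF.atlas
    obtain ⟨w, rfl⟩ := surjective_ofPt hps x
    obtain ⟨_, ⟨(O : T.left.Opens), hO, rfl⟩, hwO, -⟩ := T.left.isBasis_affineOpens.exists_subset_of_mem_open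
      (Set.mem_univ w) isOpen_univ
    let U : Over S := Over.mk (O.ι ≫ T.hom)
    haveI : IsAffine U.left := hO
    obtain ⟨a, hae, har⟩ : ∃ a : (yon S).obj U ⟶ F, RepWith @Etale a ∧
        Set.range (Points.ofPt a) = Points.ofPt p '' (O : Set ↥T.left) :=
      ⟨_, repWith_etale_restrict hpe O, range_ofPt_restrict p O⟩
    obtain ⟨V, hVdef⟩ : ∃ V, V = Set.range (Points.ofPt a) := ⟨_, rfl⟩
    have hwV : Points.ofPt p w ∈ V := hVdef ▸ har ▸ ⟨w, hwO, rfl⟩
    have hVo : IsOpen V := hVdef ▸ (isOpenMap_ofPt a hae).isOpen_range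
    have hVc : IsCompact V := hVdef ▸ isCompact_range (Points.continuous_ofPt a)
    refine ⟨V, hVo.mem_nhds hwV, hVo, ?_⟩
    have hdec := isDecent_of_isQuasiSeparatedSp hF hqs
    have := t0Space_of_finFibres hF (finFibres_of_isDecent hF.diag hdec)
    have := quasiSober_of_isDecent hF hdec
    have hemb := hVo.isOpenEmbedding_subtypeVal
    haveI : CompactSpace ↥V := isCompact_iff_compactSpace.1 hVc
    haveI : QuasiSober ↥V := hemb.quasiSober
    haveI : PrespectralSpace ↥V := by
      refine ⟨TopologicalSpace.isTopologicalBasis_of_isOpen_of_nhds (fun U hU => hU.1) fun y W hy hW => ?_⟩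
      obtain ⟨N, hN, hNc, hyN, hNW⟩ := exists_compact_nhd hF y.1 (hemb.isOpenMap _ hW) ⟨y, hy, rfl⟩
      refine ⟨Subtype.val ⁻¹' N, ⟨hN.preimage continuous_subtype_val, ?_⟩, hyN, fun z hz => ?_⟩
      · rw [Subtype.isCompact_iff, Subtype.image_preimage_coe, Set.inter_eq_right.2 fun z hz => ?_]
        · exact hNc
        · obtain ⟨z', -, rfl⟩ := hNW hz; exact z'.2
      · obtain ⟨z', hz', e⟩ := hNW hz
        exact Subtype.ext e ▸ hz'
    let g : ↥U.left → ↥V := fun u => ⟨Points.ofPt a u, hVdef ▸ ⟨u, rfl⟩⟩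
    have hgc : Continuous g := (Points.continuous_ofPt a).subtype_mk _
    have hgs : Function.Surjective g := fun y => by
      obtain ⟨u, hu⟩ : y.1 ∈ Set.range (Points.ofPt a) := hVdef ▸ y.2
      exact ⟨u, Subtype.ext hu⟩
    have hk : ∀ W : Set ↥V, IsOpen W → IsCompact W → IsCompact (g ⁻¹' W) := fun W hW hWc => by
      have := isCompact_preimage hF hqs hae (hemb.isOpenMap _ hW) (hWc.image continuous_subtype_val)
      rwa [show g ⁻¹' W = Points.ofPt a ⁻¹' (Subtype.val '' W) from by
        ext u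
        exact ⟨fun h => ⟨g u, h, rfl⟩, fun ⟨z, hz, e⟩ => by rw [show z = g u from Subtype.ext e] at hz; exact hz⟩]
    haveI : QuasiSeparatedSpace ↥V := ⟨fun A B hA hAc hB hBc => by
      have h := ((hk A hA hAc).inter_of_isOpen (hk B hB hBc) (hA.preimage hgc) (hB.preimage hgc)).image hgc
      rwa [← Set.preimage_inter, Set.image_preimage_eq _ hgs] at h⟩
    exact isConstructible_of_preimage hgc hk hgs (h U a hae).isConstructible
  · intro h U a ha u
    obtain ⟨N, hN, hNo, hNc⟩ := h (Points.ofPt a u)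
    have hmem : Points.ofPt a u ∈ N := mem_of_mem_nhds hN
    obtain ⟨V, hVo, hVc, huV, hVN⟩ := exists_compact_nhd hF _ hNo hmem
    obtain ⟨_, ⟨(O : U.left.Opens), hO, rfl⟩, huO, hOsub⟩ := U.left.isBasis_affineOpens.exists_subset_of_mem_open
      (show u ∈ Points.ofPt a ⁻¹' V from huV) (hVo.preimage (Points.continuous_ofPt a))
    refine ⟨O, O.isOpen.mem_nhds huO, O.isOpen, ?_⟩
    let U' : Over S := Over.mk (O.ι ≫ U.hom)
    haveI : IsAffine U'.left := hO
    obtain ⟨a', ha', hae'⟩ : ∃ a' : (yon S).obj U' ⟶ F, RepWith @Etale a' ∧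
        ∀ o : ↥O.toScheme, Points.ofPt a' o = Points.ofPt a o.1 :=
      ⟨_, repWith_etale_restrict ha O, fun o => ofPt_map_comp _ a _⟩
    let g : ↥O.toScheme → ↥N := fun o => ⟨Points.ofPt a' o, hVN (hae' o ▸ hOsub o.2)⟩
    have hgc : Continuous g := (Points.continuous_ofPt a').subtype_mk _
    have hconstr := hNc.preimage hgc fun W hW hWr => by
      have h1 : IsCompact ((Subtype.val ⁻¹' V : Set ↥N) ∩ W) := Set.inter_comm W _ ▸ hWr (by
        rw [Subtype.isCompact_iff, Subtype.image_preimage_coe, Set.inter_eq_right.2 hVN]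
        exact hVc) (hVo.preimage continuous_subtype_val)
      have h2 := isCompact_preimage hF hqs ha'
        (hNo.isOpenEmbedding_subtypeVal.isOpenMap _ ((hVo.preimage continuous_subtype_val).inter hW))
        (h1.image continuous_subtype_val)
      haveI : CompactSpace ↥O.toScheme := isCompact_iff_compactSpace.1 hO.isCompact
      haveI : QuasiSeparatedSpace ↥O.toScheme := inferInstanceAs (QuasiSeparatedSpace ↥U'.left)
      refine (QuasiSeparatedSpace.isRetrocompact_iff_isCompact (hW.preimage hgc)).2 ?_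
      rwa [show g ⁻¹' W = Points.ofPt a' ⁻¹' (Subtype.val '' ((Subtype.val ⁻¹' V : Set ↥N) ∩ W)) from by
        ext o
        exact ⟨fun h => ⟨g o, ⟨((congrArg (fun z => z ∈ V) (hae' o)).mpr (hOsub o.2) : Points.ofPt a' o ∈ V), h⟩, rfl⟩,
          fun ⟨z, hz, e⟩ => by rw [show z = g o from Subtype.ext e] at hz; exact hz.2⟩]
    have e : (g ⁻¹' (Subtype.val ⁻¹' E) : Set ↥O.toScheme) = Subtype.val ⁻¹' (Points.ofPt a ⁻¹' E) :=
      Set.ext fun o => (congrArg (fun z => z ∈ E) (hae' o)).to_iff
    exact e ▸ hconstr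

end Groth.Agent.AlgSpConstr15
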