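import Groth.Agent.Lib.AlgSpace.DVRLift
import Groth.Agent.Lib.AlgSpDecent.LocNoeth
import Mathlib.FieldTheory.IsAlgClosed.AlgebraicClosure

/-!
# The Noetherian valuative criteria for algebraic spaces
-/

universe u

set_option backward.isDefEq.respectTransparency.types false
set_option linter.unusedVariables false

open CategoryTheory CategoryTheory.Limits AlgebraicGeometry Opposite IsLocalRing

namespace Groth.Agent.AlgSpace

open AlgSp Groth.Agent.AlgSpDecent

variable {S : Scheme.{u}}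

lemma wLeft_preimage {W : Over S} [IsAffine W.left] {R : Type u} [CommRing R]
    (m : Spec (CommRingCat.of R) ⟶ W.left) :
    wLeft (Spec.preimage (m ≫ W.left.isoSpec.hom)).hom = m := by
  simp [wLeft, CommRingCat.ofHom_hom]

/-- Evaluation at a point is essentially of finite type. -/
lemma essFiniteType_preimage_fromSpecResidueField (U : Scheme.{u}) [IsAffine U] (u : U) :
    (Spec.preimage (U.fromSpecResidueField u ≫ U.isoSpec.hom)).hom.EssFiniteType := by
  have h : Spec.preimage (U.fromSpecResidueField u ≫ U.isoSpec.hom) =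
      U.presheaf.germ ⊤ u trivial ≫ U.residue u := Spec.map_injective (by
    rw [Spec.map_preimage, Scheme.fromSpecResidueField, Category.assoc, Spec.map_comp]
    exact congrArg (Spec.map (U.residue u) ≫ ·) (Scheme.fromSpecStalk_toSpecΓ U u))
  rw [h]
  refine RingHom.EssFiniteType.comp (f := (U.presheaf.germ ⊤ u trivial).hom) ?_ ?_
  · letI : Algebra Γ(U, ⊤) (U.presheaf.stalk u) := (U.presheaf.germ ⊤ u trivial).hom.toAlgebra
    haveI := (isAffineOpen_top U).isLocalization_stalk ⟨u, trivial⟩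
    have : Algebra.EssFiniteType Γ(U, ⊤) (U.presheaf.stalk u) :=
      Algebra.EssFiniteType.of_isLocalization _
        ((isAffineOpen_top U).primeIdealOf ⟨u, trivial⟩).asIdeal.primeCompl
    exact this
  · exact (RingHom.FiniteType.of_surjective _ (U.residue_surjective u)).essFiniteType

lemma exists_fraction_lift {A K L : Type u} [CommRing A] [IsDomain A] [Field K] [Algebra A K]
    [IsFractionRing A K] [Field L] (g : A →+* L) (hg : Function.Injective g) :
    ∃ ψ : K →+* L, ψ.comp (algebraMap A K) = g :=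
  ⟨IsFractionRing.lift (A := A) (K := K) hg,
    RingHom.ext fun a => IsFractionRing.lift_algebraMap hg a⟩

/-- Lifts along discrete valuation rings over the source of a morphism. -/
def DVRLifts {U X Y : Sp S} (h : U ⟶ X) (f : X ⟶ Y) : Prop :=
  ∀ sq : ValSq (h ≫ f), IsDiscreteValuationRing sq.A →
    ∃ l : (yon S).obj sq.ptA ⟶ X, (yon S).map sq.j ≫ l = sq.top ≫ h ∧ l ≫ f = sq.bot

/-- Lifts along discrete valuation rings, in a chart of the target. -/
lemma exists_lifts_chart {U X Y : Sp S} {f : X ⟶ Y} {h : U ⟶ X} (H : DVRLifts h f) {W : Over S}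
    [IsAffine W.left] {pW : (yon S).obj W ⟶ Y} {K : Type u} [Field K] {θ : Γ(W.left, ⊤) →+* K}
    (top₀ : (yon S).obj (wPt θ) ⟶ U) (htop₀ : (top₀ ≫ h) ≫ f = (yon S).map (wTo θ) ≫ pW) :
    ∀ (L : Type u) [Field L] (eL : K →+* L), eL.Finite → ∀ (A : ValuationSubring L),
      IsDiscreteValuationRing A → ∀ (θA : Γ(W.left, ⊤) →+* A) (hA : A.subtype.comp θA = eL.comp θ),
        ∃ l : (yon S).obj (wPt θA) ⟶ pullback f pW,
          (yon S).map (wMap A.subtype hA) ≫ l =
            (yon S).map (wMap eL rfl) ≫ pullback.lift (top₀ ≫ h) ((yon S).map (wTo θ)) htop₀ ∧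
          l ≫ pullback.snd f pW = (yon S).map (wTo θA) := by
  intro L _ eL _ A hA' θA hA
  let c : Over.mk (Spec.map (CommRingCat.ofHom A.subtype) ≫ wLeft θA ≫ W.hom) ⟶ wPt (eL.comp θ) :=
    castOver (by rw [← Category.assoc, wLeft_comp A.subtype hA])
  let c' : wPt (eL.comp θ) ⟶ Over.mk (Spec.map (CommRingCat.ofHom A.subtype) ≫ wLeft θA ≫ W.hom) :=
    castOver (by rw [← Category.assoc, wLeft_comp A.subtype hA])
  let s : ValSq (h ≫ f) :=
    { A := A, K := L, str := wLeft θA ≫ W.hom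
      top := (yon S).map (c ≫ wMap eL rfl) ≫ top₀
      bot := (yon S).map (wTo θA) ≫ pW
      comm := by
        rw [Category.assoc, ← Category.assoc top₀, htop₀, ← Functor.map_comp_assoc,
          ← Functor.map_comp_assoc]
        congr 2
        ext1
        change (𝟙 _ ≫ Spec.map _) ≫ wLeft θ = Spec.map (CommRingCat.ofHom A.subtype) ≫ wLeft θA
        rw [Category.id_comp, wLeft_comp eL rfl, wLeft_comp A.subtype hA] }
  obtain ⟨l₀, hl₀, hl₀'⟩ := H s hA'
  refine ⟨pullback.lift l₀ ((yon S).map (wTo θA)) hl₀', pullback.hom_ext ?_ ?_, pullback.lift_snd _ _ _⟩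
  · rw [Category.assoc, pullback.lift_fst, Category.assoc, pullback.lift_fst]
    have := congrArg ((yon S).map c' ≫ ·) hl₀
    simp only [s, ← Functor.map_comp_assoc, Category.assoc] at this ⊢
    refine Eq.trans ?_ (this.trans ?_)
    · refine (congrArg (fun m => (yon S).map m ≫ l₀) (?_ : wMap A.subtype hA = c' ≫ s.j)).trans
        ((congrArg (· ≫ l₀) ((yon S).map_comp c' s.j)).trans (Category.assoc _ _ _))
      ext1
      exact (Category.id_comp _).symm
    · refine ((Category.assoc _ _ _).symm.trans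
        (congrArg (· ≫ top₀ ≫ h) ((yon S).map_comp c' (c ≫ wMap eL rfl)).symm)).trans
        (congrArg (fun m => (yon S).map m ≫ top₀ ≫ h) ?_)
      ext1
      exact (Category.id_comp _).trans (Category.id_comp _)
  · rw [Category.assoc, pullback.lift_snd, Category.assoc, pullback.lift_snd, ← Functor.map_comp,
      ← Functor.map_comp, wMap_wTo, wMap_wTo]

set_option maxHeartbeats 2000000 in
/-- **Discrete valuation rings suffice.** -/
theorem hasLiftExt_of_dvrLifts {U X Y : Sp S} (hU : IsAlgSpace U) (hX : IsAlgSpace X)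
    (hY : IsAlgSpace Y) (hYN : IsLocNoethSp Y) {f : X ⟶ Y} {h : U ⟶ X} (hfs : IsSeparatedMor f)
    (hft : IsFiniteTypeMor f) (hhl : LocP @LocallyOfFiniteType h) (H : DVRLifts h f)
    (sq : ValSq f) (t : (yon S).obj sq.ptK ⟶ U) (ht : t ≫ h = sq.top) : sq.HasLiftExt := by
  -- a chart of the target at the closed point
  obtain ⟨W, pW, hW, hpW, w₀, hw₀⟩ := exists_affine_chart_at hY (Points.ofPt sq.bot (closedPoint sq.A))
  have : IsLocallyNoetherian W.left := isLocallyNoetherian_of_etale_chart hYN hpW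
  obtain ⟨A₁, _, _, _, φ₁, hφ₁, hφ₁l, l₁, hl₁⟩ :=
    exists_lift_valuationRing_of_flat (IsAlgSpace.yon_obj W) hY
      (locP_of_repWith hY (repWith_mono (fun _ _ g (hg : Etale g) => (inferInstance : Flat g)) hpW))
      sq.A sq.str sq.bot ⟨Points.schemeHomeo W w₀, by
        rw [← hw₀]; exact (Points.ofPt_eq_map_ofScheme pW w₀).symm⟩
  obtain ⟨l₁', rfl⟩ := (yon S).map_surjective l₁
  have hl₁W : l₁'.left ≫ W.hom = Spec.map (CommRingCat.ofHom φ₁) ≫ sq.str := Over.w l₁'
  let θ₁ : Γ(W.left, ⊤) →+* A₁ := (Spec.preimage (l₁'.left ≫ W.left.isoSpec.hom)).hom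
  have hθ₁ : wLeft θ₁ = l₁'.left := wLeft_preimage _
  let K₁ := FractionRing A₁
  obtain ⟨ψ₁, hψ₁⟩ := exists_fraction_lift (K := sq.K) ((algebraMap A₁ K₁).comp φ₁)
    ((IsFractionRing.injective A₁ K₁).comp hφ₁)
  let θK₁ : Γ(W.left, ⊤) →+* K₁ := (algebraMap A₁ K₁).comp θ₁
  let mψ : wPt θK₁ ⟶ sq.ptK := Over.homMk (Spec.map (CommRingCat.ofHom ψ₁)) (by
    change Spec.map _ ≫ Spec.map _ ≫ sq.str = wLeft θK₁ ≫ W.hom
    rw [← Spec.map_comp_assoc, ← CommRingCat.ofHom_comp, hψ₁, CommRingCat.ofHom_comp,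
      Spec.map_comp, Category.assoc, ← hl₁W, ← hθ₁, ← Category.assoc, wLeft_comp _ rfl])
  let m₁ : wPt θ₁ ⟶ sq.ptA := Over.homMk (Spec.map (CommRingCat.ofHom φ₁)) (by
    change Spec.map _ ≫ sq.str = wLeft θ₁ ≫ W.hom
    rw [hθ₁, hl₁W])
  have hm₁ : (yon S).map (wTo θ₁) ≫ pW = (yon S).map m₁ ≫ sq.bot := by
    let c : wPt θ₁ ⟶ Over.mk (Spec.map (CommRingCat.ofHom φ₁) ≫ sq.str) :=
      castOver (by rw [hθ₁, hl₁W])
    have h1 : wTo θ₁ = c ≫ l₁' := by
      ext1; exact hθ₁.trans (Category.id_comp _).symm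
    rw [h1, Functor.map_comp_assoc, hl₁, ← Functor.map_comp_assoc]
    congr 2
  -- the generic point in the chart of the source
  have sqU := IsPullback.of_hasPullback (h ≫ f) pW
  have hUW := isAlgSpace_baseChange hU hY (IsAlgSpace.yon_obj W) sqU
  let q₁ : (yon S).obj (wPt θK₁) ⟶ pullback (h ≫ f) pW :=
    sqU.lift ((yon S).map mψ ≫ t) ((yon S).map (wTo θK₁)) (by
      rw [Category.assoc, ← Category.assoc t, ht, sq.comm, ← Functor.map_comp_assoc,
        ← wMap_wTo (algebraMap A₁ K₁) (rfl : _ = θK₁)]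
      refine Eq.trans ?_ ((congrArg (· ≫ pW) ((yon S).map_comp _ _)).trans ((Category.assoc _ _ _).trans
        ((congrArg ((yon S).map (wMap (algebraMap A₁ K₁) rfl) ≫ ·) hm₁).trans
          ((Category.assoc _ _ _).symm.trans
            (congrArg (· ≫ sq.bot) ((yon S).map_comp _ _).symm))))).symm
      refine congrArg (fun m => (yon S).map m ≫ sq.bot) ?_
      ext1
      change Spec.map _ ≫ Spec.map _ = Spec.map _ ≫ Spec.map _
      rw [← Spec.map_comp, ← Spec.map_comp, ← CommRingCat.ofHom_comp, ← CommRingCat.ofHom_comp, hψ₁])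
  obtain ⟨U', p, hU', hp, v, hv⟩ := exists_affine_chart_at hUW (Points.ofPt q₁ (closedPoint K₁))
  obtain ⟨φU, hφU⟩ := (yon S).map_surjective (p ≫ pullback.snd (h ≫ f) pW)
  have hUlft : LocallyOfFiniteType φU.left :=
    locP_of_isPullback hU hY (IsAlgSpace.yon_obj W) sqU (locP_comp hU hX hY hhl hft.1) p (𝟙 _) φU hp
      (repWith_id _ W) (by rw [Category.comp_id, hφU])
  obtain ⟨E, cE, fE, sqE⟩ := (Functor.relativelyRepresentable.of_diag hUW.diag p) q₁
  obtain ⟨aE, rfl⟩ := (yon S).map_surjective fE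
  obtain ⟨w, -, -⟩ := exists_pt_of_isPullback sqE (x := Points.ofScheme U' v) (t := closedPoint K₁)
    (by rw [← Points.ofPt_eq_map_ofScheme]; exact hv)
  let K₂ := E.left.residueField w
  let e₁ : CommRingCat.of K₁ ⟶ K₂ := Spec.preimage (E.left.fromSpecResidueField w ≫ cE.left)
  have he₁ : Spec.map e₁ = E.left.fromSpecResidueField w ≫ cE.left := Spec.map_preimage _
  obtain ⟨A₂, hA₂, hA₂l⟩ := exists_factor_valuationRing (e₁.hom.comp (algebraMap A₁ K₁))
  let φ₂ : A₁ →+* A₂ := (e₁.hom.comp (algebraMap A₁ K₁)).codRestrict A₂.toSubring hA₂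
  let u := aE.left w
  let K := U'.left.residueField u
  let e₀ : K ⟶ K₂ := aE.left.residueFieldMap w
  have he₀ : Spec.map e₀ ≫ U'.left.fromSpecResidueField u = E.left.fromSpecResidueField w ≫ aE.left :=
    Scheme.Hom.SpecMap_residueFieldMap_fromSpecResidueField _ _
  let θ : Γ(W.left, ⊤) →+* K :=
    (φU.left.appTop ≫ Spec.preimage (U'.left.fromSpecResidueField u ≫ U'.left.isoSpec.hom)).hom
  have hθ : θ.EssFiniteType :=
    RingHom.EssFiniteType.comp
      (RingHom.FiniteType.essFiniteType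
        ((HasRingHomProperty.iff_of_isAffine (P := @LocallyOfFiniteType)).1 hUlft))
      (essFiniteType_preimage_fromSpecResidueField U'.left u)
  have hθw : wLeft θ = U'.left.fromSpecResidueField u ≫ φU.left := by
    change Spec.map (φU.left.appTop ≫ _) ≫ W.left.isoSpec.inv = _
    rw [Spec.map_comp, Category.assoc, Scheme.isoSpec_inv_naturality, Spec.map_preimage]
    simp
  let jU : wPt θ ⟶ U' := Over.homMk (U'.left.fromSpecResidueField u) (by
    change _ ≫ U'.hom = wLeft θ ≫ W.hom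
    rw [hθw, Category.assoc, Over.w φU])
  have hjU : jU ≫ φU = wTo θ := by ext1; exact hθw.symm
  -- the valuation ring on the algebraic closure
  let Ω := AlgebraicClosure K₂
  obtain ⟨R, hR, hRl⟩ := exists_factor_valuationRing ((algebraMap K₂ Ω).comp A₂.subtype)
  let φR : A₂ →+* R := ((algebraMap K₂ Ω).comp A₂.subtype).codRestrict R.toSubring hR
  let θR : Γ(W.left, ⊤) →+* R := φR.comp (φ₂.comp θ₁)
  let e : K →+* Ω := (algebraMap K₂ Ω).comp e₀.hom
  have hθK₂ : e₀.hom.comp θ = e₁.hom.comp θK₁ := by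
    have : CommRingCat.ofHom θ ≫ e₀ = CommRingCat.ofHom θK₁ ≫ e₁ := Spec.map_injective (by
      rw [← cancel_mono W.left.isoSpec.inv, Spec.map_comp, Spec.map_comp, Category.assoc,
        Category.assoc, he₁]
      change Spec.map e₀ ≫ wLeft θ = (_ ≫ cE.left) ≫ wLeft θK₁
      refine (congrArg (Spec.map e₀ ≫ ·) hθw).trans ?_
      rw [reassoc_of% he₀, Category.assoc]
      have h2 : aE ≫ φU = cE ≫ wTo θK₁ := (yon S).map_injective (by
        rw [Functor.map_comp, Functor.map_comp, hφU, reassoc_of% sqE.w, IsPullback.lift_snd])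
      exact congrArg (E.left.fromSpecResidueField w ≫ ·) (congrArg CommaMorphism.left h2))
    exact congrArg CommRingCat.Hom.hom this
  have hR' : R.subtype.comp θR = e.comp θ := RingHom.ext fun o =>
    congrArg (algebraMap K₂ Ω) (congrArg (fun m : _ →+* K₂ => m o) hθK₂).symm
  -- descend the discrete lifts
  have sqP := IsPullback.of_hasPullback f pW
  let top₀ := (yon S).map jU ≫ p ≫ pullback.fst (h ≫ f) pW
  have htop₀ : (top₀ ≫ h) ≫ f = (yon S).map (wTo θ) ≫ pW := by
    simp only [top₀, Category.assoc]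
    rw [sqU.w, ← reassoc_of% hφU, ← Functor.map_comp_assoc, hjU]
  let top := pullback.lift (top₀ ≫ h) ((yon S).map (wTo θ)) htop₀
  obtain ⟨l, hlt, hls⟩ := exists_lift_of_dvr (isAlgSpace_baseChange hX hY (IsAlgSpace.yon_obj W) sqP)
    (isSeparatedMor_of_isPullback sqP hfs) (isQuasiCompactMor_of_isPullback sqP hft.2) θ hθ top
    (pullback.lift_snd _ _ _) (exists_lifts_chart H top₀ htop₀) e R θR hR'
  -- assemble
  let φ : sq.A →+* R := φR.comp (φ₂.comp φ₁)
  let ψ : sq.K →+* Ω := (algebraMap K₂ Ω).comp (e₁.hom.comp ψ₁)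
  have hφl : IsLocalHom φ := by
    have : IsLocalHom φ₂ := hA₂l
    have : IsLocalHom φR := hRl
    exact RingHom.isLocalHom_comp _ _
  let ex : sq.DomExt :=
    { A' := R, K' := Ω, φ := φ, ψ := ψ, isLocalHom := hφl
      comm := RingHom.ext fun a =>
        congrArg (fun m : sq.A →+* K₁ => algebraMap K₂ Ω (e₁.hom (m a))) hψ₁.symm }
  have hstr : wLeft θR ≫ W.hom = Spec.map (CommRingCat.ofHom φ) ≫ sq.str := by
    rw [← wLeft_comp (φ := θ₁) (φ' := θR) (φR.comp φ₂) rfl, Category.assoc, hθ₁, hl₁W, ← Spec.map_comp_assoc]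
    rfl
  let cR : ex.ptA' ⟶ wPt θR := castOver hstr.symm
  let zE : wPt (e.comp θ) ⟶ E :=
    Over.homMk (Spec.map (CommRingCat.ofHom (algebraMap K₂ Ω)) ≫ E.left.fromSpecResidueField w) (by
      change (_ ≫ _) ≫ E.hom = wLeft (e.comp θ) ≫ W.hom
      rw [← wLeft_comp (φ := θ) e rfl, CommRingCat.ofHom_comp, Spec.map_comp, CommRingCat.ofHom_hom,
        Category.assoc (Spec.map _) (Spec.map e₀), hθw, reassoc_of% he₀]
      simp only [Category.assoc]
      rw [Over.w φU, Over.w aE])
  have hjE : wMap (φ := θ) e rfl ≫ jU = zE ≫ aE := by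
    ext1
    change Spec.map (CommRingCat.ofHom e) ≫ U'.left.fromSpecResidueField u = _ ≫ aE.left
    rw [CommRingCat.ofHom_comp, Spec.map_comp, CommRingCat.ofHom_hom, Category.assoc, he₀]
    exact (Category.assoc _ _ _).symm
  let cK : ex.ptK' ⟶ wPt (e.comp θ) := castOver (by
    change Spec.map (CommRingCat.ofHom R.subtype) ≫ Spec.map (CommRingCat.ofHom φ) ≫ sq.str = _
    rw [← hstr, ← Category.assoc, wLeft_comp R.subtype hR'])
  refine ⟨ex, (yon S).map cR ≫ l ≫ pullback.fst f pW, ?_, ?_⟩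
  · let jR : ex.ptK' ⟶ ex.ptA' := Over.homMk (Spec.map (CommRingCat.ofHom R.subtype)) rfl
    let mK : ex.ptK' ⟶ sq.ptK := Over.homMk (Spec.map (CommRingCat.ofHom ψ)) (by
      change Spec.map _ ≫ Spec.map _ ≫ _ = Spec.map _ ≫ Spec.map _ ≫ _
      rw [← Spec.map_comp_assoc, ← Spec.map_comp_assoc, ← CommRingCat.ofHom_comp,
        ← CommRingCat.ofHom_comp]
      exact congrArg (fun m => Spec.map (CommRingCat.ofHom m) ≫ sq.str) ex.comm.symm)
    change (yon S).map jR ≫ _ = (yon S).map mK ≫ sq.top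
    have e₁' : jR ≫ cR = cK ≫ wMap R.subtype hR' := by
      ext1; exact (Category.comp_id _).trans (Category.id_comp _).symm
    have e₂' : cK ≫ zE ≫ cE ≫ mψ = mK := by
      ext1
      change 𝟙 _ ≫ (Spec.map _ ≫ E.left.fromSpecResidueField w) ≫ cE.left ≫ Spec.map _ = Spec.map _
      rw [Category.id_comp, Category.assoc, ← reassoc_of% he₁, ← Spec.map_comp, ← Spec.map_comp]
      rfl
    rw [← Functor.map_comp_assoc, e₁', Functor.map_comp_assoc, ← Category.assoc _ l, hlt,
      Category.assoc, pullback.lift_fst]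
    simp only [top₀, Category.assoc]
    have hkey : (yon S).map (wMap (φ := θ) e rfl) ≫ (yon S).map jU ≫ p ≫ pullback.fst (h ≫ f) pW ≫ h =
        (yon S).map (zE ≫ cE ≫ mψ) ≫ sq.top := by
      rw [← ht]
      refine ((Category.assoc _ _ _).symm.trans
        (congrArg (· ≫ p ≫ pullback.fst (h ≫ f) pW ≫ h) (((yon S).map_comp _ _).symm.trans
          ((congrArg (yon S).map hjE).trans ((yon S).map_comp _ _))))).trans ?_
      rw [Category.assoc, reassoc_of% sqE.w,
        reassoc_of% (sqU.lift_fst ((yon S).map mψ ≫ t) ((yon S).map (wTo θK₁)) _)]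
      simp only [Functor.map_comp, Category.assoc]
    exact (congrArg ((yon S).map cK ≫ ·) hkey).trans ((Category.assoc _ _ _).symm.trans
      (congrArg (· ≫ sq.top) (((yon S).map_comp _ _).symm.trans (congrArg (yon S).map e₂'))))
  · rw [Category.assoc, Category.assoc, sqP.w, reassoc_of% hls, ← Functor.map_comp_assoc,
      ← wMap_wTo (φR.comp φ₂) (rfl : _ = θR), Functor.map_comp_assoc, Functor.map_comp_assoc, hm₁,
      ← Functor.map_comp_assoc, ← Functor.map_comp_assoc]
    congr 2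
    ext1
    change (𝟙 _ ≫ Spec.map _) ≫ Spec.map _ = Spec.map _
    rw [Category.id_comp, ← Spec.map_comp]
    rfl

/-- **The refined discrete valuative criterion of properness.** -/
theorem isProperMor_of_dvrLifts {U X Y : Sp S} (hU : IsAlgSpace U) (hX : IsAlgSpace X)
    (hY : IsAlgSpace Y) (hYN : IsLocNoethSp Y) {f : X ⟶ Y} {h : U ⟶ X} (hfs : IsSeparatedMor f)
    (hft : IsFiniteTypeMor f) (hh : IsFiniteTypeMor h) (hd : DenseRange (Points.map h))
    (H : DVRLifts h f) : IsProperMor f :=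
  ⟨hfs, hft, isUnivClosedMor_of_refined hU hX hY hft.2 hh.2 hd fun sq ⟨t, ht⟩ =>
    ⟨uniqVC_of_isSeparatedMor hfs sq,
      hasLiftExt_of_dvrLifts hU hX hY hYN hfs hft hh.1 H sq t ht⟩⟩

end Groth.Agent.AlgSpace
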