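import Groth.Agent.Lib.AlgSpace.DVRCriterion
import Groth.Agent.Lib.DVRVal.Basic
import Mathlib.RingTheory.PowerSeries.Inverse

/-!
# Discrete valuation rings centred in the closure of an image
-/

universe u

set_option backward.isDefEq.respectTransparency.types false
set_option linter.unusedVariables false

open CategoryTheory CategoryTheory.Limits AlgebraicGeometry Opposite IsLocalRing

namespace Groth.Agent.AlgSpace

open AlgSp Groth.Agent.AlgSpDecent

variable {S : Scheme.{u}}

/-- The data of a discrete valuation ring diagram at a point of the target. -/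
def DVRDiagram {X Y : Sp S} (f : X ⟶ Y) (y : Points Y) : Prop :=
  ∃ (A : Type u) (_ : CommRing A) (_ : IsDomain A) (_ : IsDiscreteValuationRing A)
    (a : Spec (CommRingCat.of A) ⟶ S)
    (α : (yon S).obj (Over.mk a) ⟶ Y)
    (κ : (yon S).obj
      (Over.mk (Spec.map (CommRingCat.ofHom (algebraMap A (FractionRing A))) ≫ a)) ⟶ X),
    κ ≫ f = (yon S).map
      (Over.homMk (Spec.map (CommRingCat.ofHom (algebraMap A (FractionRing A))))) ≫ α ∧
    Points.map α (Points.schemeEquiv (Over.mk a) (closedPoint A)) = y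

lemma dvrDiagram_of_map {X Y : Sp S} (f : X ⟶ Y) (x : Points X) :
    DVRDiagram f (Points.map f x) := by
  induction x using Points.ind with
  | h p =>
  let A := PowerSeries p.K
  let c : CommRingCat.of p.K ⟶ CommRingCat.of A := CommRingCat.ofHom (algebraMap p.K A)
  let m : Over.mk (Spec.map c ≫ p.pt.hom) ⟶ p.pt := Over.homMk (Spec.map c) rfl
  refine ⟨A, inferInstance, inferInstance, inferInstance, Spec.map c ≫ p.pt.hom,
    (yon S).map m ≫ p.toHom ≫ f,
    (yon S).map ((Over.homMk (Spec.map (CommRingCat.ofHom (algebraMap A (FractionRing A)))) rfl :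
      Over.mk (Spec.map (CommRingCat.ofHom (algebraMap A (FractionRing A))) ≫ Spec.map c ≫ p.pt.hom) ⟶
        Over.mk (Spec.map c ≫ p.pt.hom)) ≫ m) ≫
      p.toHom, ?_, ?_⟩
  · simp only [Functor.map_comp, Category.assoc]
  · refine (Points.ofPt_eq_map_ofScheme _ _).symm.trans ?_
    rw [ofPt_map_comp, ← Points.map_ofPt]
    exact congrArg (Points.map f) (Points.ofPt_toHom p _)

set_option maxHeartbeats 1000000 in
theorem dvrDiagram_of_mem_closure {X Y : Sp S} (hX : IsAlgSpace X) (hY : IsAlgSpace Y) {f : X ⟶ Y}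
    (hft : IsFiniteTypeMor f) (hYN : IsLocNoethSp Y) (y : Points Y)
    (hy : y ∈ closure (Set.range (Points.map f))) : DVRDiagram f y := by
  by_cases hmem : y ∈ Set.range (Points.map f)
  · obtain ⟨x, rfl⟩ := hmem
    exact dvrDiagram_of_map f x
  obtain ⟨W, pW, hW, hpW, w₀, hw₀⟩ := exists_affine_chart_at hY y
  have : IsLocallyNoetherian W.left := isLocallyNoetherian_of_etale_chart hYN hpW
  have := compactSpace_yon_of_affine W
  have sq := IsPullback.of_hasPullback f pW
  have : CompactSpace (Points (pullback f pW)) :=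
    compactSpace_of_isQuasiCompactMor hX hY hft.2 (IsAlgSpace.yon_obj W) sq
  have hXW := isAlgSpace_baseChange hX hY (IsAlgSpace.yon_obj W) sq
  obtain ⟨U', q, hU', hqe, hqs⟩ := exists_affine_chart ((isQuasiCompactSp_iff hXW).2 inferInstance)
  obtain ⟨π, hπ⟩ := (yon S).map_surjective (q ≫ pullback.snd f pW)
  have : LocallyOfFiniteType π.left :=
    locP_of_isPullback hX hY (IsAlgSpace.yon_obj W) sq hft.1 q (𝟙 _) π hqe (repWith_id _ W)
      (by rw [Category.comp_id, hπ])
  have hw : w₀ ∈ closure (π.left '' Set.univ) := by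
    refine closure_mono (fun v hv => ?_)
      ((isOpenMap_ofPt pW hpW).preimage_closure_subset_closure_preimage
        (show w₀ ∈ Points.ofPt pW ⁻¹' closure (Set.range (Points.map f)) by
          rw [Set.mem_preimage, hw₀]; exact hy))
    obtain ⟨x, hx⟩ := hv
    obtain ⟨w, -, hw⟩ := exists_point_lift sq x (Points.ofScheme W v)
      (by rw [← Points.ofPt_eq_map_ofScheme]; exact hx)
    obtain ⟨b, rfl⟩ := surjective_ofPt hqs w
    rw [Points.map_ofPt, ← hπ, ofPt_map_eq] at hw
    exact ⟨b, trivial, (Points.schemeEquiv W).injective hw⟩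
  obtain ⟨b, -, hb⟩ := GrpdB.exists_specializes_of_mem_closure_image π.left isClosed_univ hw
  have hne : w₀ ≠ π.left b := by
    intro e
    refine hmem ⟨Points.ofPt (q ≫ pullback.fst f pW) b, ?_⟩
    rw [Points.map_ofPt, Category.assoc, pullback.condition, ← reassoc_of% hπ, ofPt_map_comp, ← e, hw₀]
  obtain ⟨A, h, hA, hc, hh⟩ := DVRVal.exists_dvr_specializes π.left b w₀ hb hne
  obtain ⟨σ, hσ⟩ := exists_fraction_lift (A := A) (K := U'.left.residueField b)
    (algebraMap A (FractionRing A)) (IsFractionRing.injective A (FractionRing A))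
  let k : Over.mk (Spec.map (CommRingCat.ofHom (algebraMap A (FractionRing A))) ≫ h ≫ W.hom) ⟶ U' :=
    Over.homMk (Spec.map (CommRingCat.ofHom σ) ≫ U'.left.fromSpecResidueField b) (by
      change (_ ≫ _) ≫ U'.hom = Spec.map _ ≫ h ≫ W.hom
      rw [Category.assoc, ← Over.w π, ← reassoc_of% hh, ← Spec.map_comp_assoc]
      exact congrArg (fun m => Spec.map (CommRingCat.ofHom m) ≫ h ≫ W.hom) hσ)
  let j : Over.mk (Spec.map (CommRingCat.ofHom (algebraMap A (FractionRing A))) ≫ h ≫ W.hom) ⟶
      Over.mk (h ≫ W.hom) :=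
    Over.homMk (Spec.map (CommRingCat.ofHom (algebraMap A (FractionRing A))))
  let i : Over.mk (h ≫ W.hom) ⟶ W := Over.homMk h rfl
  refine ⟨A, inferInstance, inferInstance, hA, h ≫ W.hom, (yon S).map i ≫ pW,
    (yon S).map k ≫ q ≫ pullback.fst f pW, ?_, ?_⟩
  · rw [Category.assoc, Category.assoc, pullback.condition, ← reassoc_of% hπ, ← Functor.map_comp_assoc,
      ← Functor.map_comp_assoc]
    refine congrArg (fun m => (yon S).map m ≫ pW) ?_
    ext1
    change (Spec.map (CommRingCat.ofHom σ) ≫ U'.left.fromSpecResidueField b) ≫ π.left = Spec.map _ ≫ h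
    rw [Category.assoc, ← hh, ← Spec.map_comp_assoc]
    exact congrArg (fun m => Spec.map (CommRingCat.ofHom m) ≫ h) hσ
  · refine (Points.ofPt_eq_map_ofScheme _ _).symm.trans ?_
    rw [ofPt_map_comp]
    exact (congrArg (Points.ofPt pW) hc).trans hw₀

end Groth.Agent.AlgSpace
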