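import Mathlib.FieldTheory.IntermediateField.Adjoin.Basic
import Mathlib.FieldTheory.IsAlgClosed.Basic
import Mathlib.RingTheory.IntegralClosure.IsIntegralClosure.Basic
import Groth.Agent.Lib.DVRVal.Basic

/-!
# Algebra for the discrete valuative criteria
-/

universe u

set_option linter.unusedVariables false

open IsLocalRing

namespace Groth.Agent.AlgSpace

/-- A finite extension through which every map of a finite algebra into a field extension factors. -/
theorem exists_splitting (K F Ω : Type u) [Field K] [CommRing F] [Algebra K F] [Module.Finite K F]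
    [Field Ω] [Algebra K Ω] [IsAlgClosed Ω] :
    ∃ L : IntermediateField K Ω, FiniteDimensional K L ∧
      ∀ (L' : Type u) [Field L'] [Algebra K L'] (ι : L →ₐ[K] L') (σ : F →ₐ[K] L'),
        ∃ τ : F →ₐ[K] L, ι.comp τ = σ := by
  classical
  let b := Module.Free.chooseBasis K F
  let s : Set Ω := ⋃ i, (minpoly K (b i)).rootSet Ω
  have : Finite s := (Set.finite_iUnion fun i => Polynomial.rootSet_finite _ Ω).to_subtype
  have hint : ∀ x ∈ s, IsIntegral K x := fun x hx => by
    obtain ⟨i, hi⟩ := Set.mem_iUnion.1 hx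
    rw [Polynomial.mem_rootSet] at hi
    exact ⟨minpoly K (b i), minpoly.monic (Algebra.IsIntegral.isIntegral _), hi.2⟩
  let L := IntermediateField.adjoin K s
  refine ⟨L, IntermediateField.finiteDimensional_adjoin hint, fun L' _ _ ι σ => ?_⟩
  have hmem : ∀ i, σ (b i) ∈ ι.fieldRange := fun i => by
    let p := minpoly K (b i)
    have hs : (p.map (algebraMap K L)).Splits :=
      (IntermediateField.splits_iff_mem (IsAlgClosed.splits _)).2 fun x hx =>
        IntermediateField.subset_adjoin K s (Set.mem_iUnion.2 ⟨i, hx⟩)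
    have h1 : σ (b i) ∈ p.rootSet L' := by
      rw [Polynomial.mem_rootSet]
      exact ⟨minpoly.ne_zero (Algebra.IsIntegral.isIntegral _), by
        rw [Polynomial.aeval_algHom_apply, minpoly.aeval, map_zero]⟩
    rw [← hs.image_rootSet ι] at h1
    obtain ⟨y, -, hy⟩ := h1
    exact ⟨y, hy⟩
  have hall : ∀ x, σ x ∈ ι.range := by
    intro x
    have hx : x ∈ Submodule.span K (Set.range b) := by rw [b.span_eq]; trivial
    induction hx using Submodule.span_induction with
    | mem y hy => obtain ⟨i, rfl⟩ := hy; exact hmem i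
    | zero => rw [map_zero]; exact zero_mem _
    | add y z _ _ hy hz => rw [map_add]; exact add_mem hy hz
    | smul a y _ hy => rw [map_smul]; exact Subalgebra.smul_mem _ hy a
  let e := AlgEquiv.ofInjectiveField ι
  refine ⟨e.symm.toAlgHom.comp (σ.codRestrict ι.range hall), AlgHom.ext fun x => ?_⟩
  exact congrArg Subtype.val (e.apply_symm_apply ⟨σ x, hall x⟩)

/-- A discrete valuation ring of an essentially finite field extension meeting finitely many
conditions. -/
theorem exists_dvr_of_conditions {O L : Type u} [CommRing O] [IsNoetherianRing O] [Field L]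
    (θ : O →+* L) (hθ : θ.EssFiniteType) (R : ValuationSubring L) (hR : ∀ o, θ o ∈ R) {ι : Type u}
    [Finite ι] [Nonempty ι] (c : ι → L) (hc : ∀ i, c i ∈ R) (hm : ∀ i, R.valuation (c i) < 1)
    (hne : ∀ i, c i ≠ 0) :
    ∃ A : ValuationSubring L, IsDiscreteValuationRing A ∧ (∀ o, θ o ∈ A) ∧
      ∀ i, A.valuation (c i) < 1 := by
  classical
  letI : Algebra O L := θ.toAlgebra
  let C := Algebra.adjoin O (Set.range c)
  let R' : Subalgebra O L := { R.toSubring with algebraMap_mem' := hR }
  have hCR : C ≤ R' := Algebra.adjoin_le (by rintro _ ⟨i, rfl⟩; exact hc i)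
  let j : C →+* R := C.val.toRingHom.codRestrict R.toSubring fun y => hCR y.2
  let p : Ideal C := (maximalIdeal R).comap j
  haveI : IsNoetherianRing C :=
    isNoetherianRing_of_fg (Subalgebra.fg_def.mpr ⟨_, Set.finite_range c, rfl⟩)
  haveI hp : p.IsPrime := Ideal.comap_isPrime _ _
  let χ : Localization.AtPrime p →+* L :=
    IsLocalization.lift (M := p.primeCompl) (g := C.val.toRingHom) fun y =>
      isUnit_iff_ne_zero.mpr fun e => y.2 (by
        change j y.1 ∈ maximalIdeal R
        rw [show j y.1 = 0 from Subtype.ext e]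
        exact zero_mem _)
  have hχ : ∀ y : C, χ (algebraMap C _ y) = (y : L) := fun y => IsLocalization.lift_eq _ y
  have hχess : χ.EssFiniteType := by
    letI := χ.toAlgebra
    haveI : IsScalarTower O (Localization.AtPrime p) L :=
      IsScalarTower.of_algebraMap_eq fun o => by
        rw [IsScalarTower.algebraMap_apply O C (Localization.AtPrime p) o]
        exact (hχ (algebraMap O C o)).symm
    haveI : Algebra.EssFiniteType O L := hθ
    exact Algebra.EssFiniteType.of_comp O (Localization.AtPrime p) L
  have hcp : ∀ i, (⟨c i, Algebra.subset_adjoin ⟨i, rfl⟩⟩ : C) ∈ p := fun i =>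
    (R.valuation_lt_one_iff _).2 (hm i)
  have hker : RingHom.ker χ ≠ maximalIdeal (Localization.AtPrime p) := fun e => by
    obtain ⟨i₀⟩ := ‹Nonempty ι›
    have hmem : algebraMap C (Localization.AtPrime p) ⟨c i₀, Algebra.subset_adjoin ⟨i₀, rfl⟩⟩ ∈
        maximalIdeal (Localization.AtPrime p) :=
      (IsLocalization.AtPrime.to_map_mem_maximal_iff _ p _).mpr (hcp i₀)
    rw [← e, RingHom.mem_ker, hχ] at hmem
    exact hne i₀ hmem
  obtain ⟨A, hA, hAmem, hAlt⟩ := Groth.Agent.DVRVal.exists_dvr _ _ χ hχess hker
  refine ⟨A, hA, fun o => ?_, fun i => ?_⟩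
  · have := hAmem (algebraMap C _ (algebraMap O C o))
    rwa [hχ] at this
  · have := hAlt (algebraMap C _ ⟨c i, Algebra.subset_adjoin ⟨i, rfl⟩⟩)
      ((IsLocalization.AtPrime.to_map_mem_maximal_iff _ p _).mpr (hcp i))
    rwa [hχ] at this

end Groth.Agent.AlgSpace
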