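import Groth.Agent.Lib.AlgSpace.ValClosed
import Groth.Agent.Lib.AlgSpace.LocP
import Groth.Agent.Lib.AlgSpace.UnivClosedQC

/-!
# Valuation rings lift along flat morphisms
-/

universe u

set_option backward.isDefEq.respectTransparency.types false
set_option linter.unusedVariables false

open CategoryTheory CategoryTheory.Limits AlgebraicGeometry Opposite IsLocalRing

namespace Groth.Agent.AlgSpace

open AlgSp Groth.Agent.AlgSpDecent

variable {S : Scheme.{u}}

theorem exists_lift_valuationRing_of_flat {X Y : Sp S} (hX : IsAlgSpace X) (hY : IsAlgSpace Y)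
    {f : X ⟶ Y} (hf : LocP @Flat f) (A : Type u) [CommRing A] [IsDomain A] [ValuationRing A]
    (str : Spec (.of A) ⟶ S) (b : (yon S).obj (Over.mk str) ⟶ Y)
    (hb : Points.ofPt b (closedPoint A) ∈ Set.range (Points.map f)) :
    ∃ (A' : Type u) (_ : CommRing A') (_ : IsDomain A') (_ : ValuationRing A') (φ : A →+* A'),
      Function.Injective φ ∧ IsLocalHom φ ∧
      ∃ l : (yon S).obj (Over.mk (Spec.map (CommRingCat.ofHom φ) ≫ str)) ⟶ X,
        l ≫ f = (yon S).map (Over.homMk (Spec.map (CommRingCat.ofHom φ)) rfl :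
          Over.mk (Spec.map (CommRingCat.ofHom φ) ≫ str) ⟶ Over.mk str) ≫ b := by
  obtain ⟨x, hx⟩ := hb
  let T : Over S := Over.mk str
  have sq := IsPullback.of_hasPullback f b
  obtain ⟨w, -, hw⟩ := exists_point_lift sq x (Points.schemeHomeo T (closedPoint A)) (by
    rw [hx]; exact Points.ofPt_eq_map_ofScheme b _)
  have hP := isAlgSpace_baseChange hX hY (IsAlgSpace.yon_obj T) sq
  obtain ⟨U, p, hU, hp, u, hu⟩ := exists_affine_chart_at hP w
  obtain ⟨φU, hφU⟩ := (yon S).map_surjective (p ≫ pullback.snd f b)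
  have : Flat φU.left := locP_of_isPullback hX hY (IsAlgSpace.yon_obj T) sq hf p (𝟙 _) φU hp
    (repWith_id _ T) (by rw [Category.comp_id, hφU])
  have hu' : φU.left u = closedPoint A := by
    refine (Points.schemeHomeo T).injective ?_
    rw [← hw, ← hu, Points.map_ofPt, ← hφU, ofPt_map_eq]
    rfl
  let g₀ : Spec (CommRingCat.of A) := ⟨⊥, Ideal.isPrime_bot⟩
  obtain ⟨u₁, hu₁, hu₁'⟩ : ∃ u₁, u₁ ⤳ u ∧ φU.left u₁ = g₀ :=
    Flat.generalizingMap φU.left (by rw [hu']; exact specializes_closedPoint g₀)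
  obtain ⟨A', i, hi, hic⟩ := ValSq12.exists_square (𝟙 U.left) (x := u₁) (y := u) hu₁
  rw [Category.comp_id] at hi
  let φ : CommRingCat.of A ⟶ CommRingCat.of A' := Spec.preimage (i ≫ φU.left)
  have hφ : Spec.map φ = i ≫ φU.left := Spec.map_preimage _
  have hloc : IsLocalHom φ.hom := (IsLocalRing.isLocalHom_iff_comap_closedPoint φ.hom).2
    (show Spec.map φ (closedPoint A') = closedPoint A by rw [hφ, Scheme.Hom.comp_apply, hic, hu'])
  have hinj : Function.Injective φ.hom := by
    let k : CommRingCat.of A' ⟶ U.left.residueField u₁ :=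
      CommRingCat.ofHom (algebraMap A' (U.left.residueField u₁))
    have h1 : Spec.map (φ ≫ k) (closedPoint _) = g₀ := by
      rw [Spec.map_comp, hφ, ← Category.assoc, show Spec.map k ≫ i = _ from hi.symm,
        Scheme.Hom.comp_apply,
        Scheme.fromSpecResidueField_apply, hu₁']
    have h2 : (maximalIdeal (U.left.residueField u₁)).comap (φ ≫ k).hom = ⊥ :=
      congrArg PrimeSpectrum.asIdeal h1
    rw [maximalIdeal_eq_bot, ← RingHom.ker_eq_comap_bot, ← RingHom.injective_iff_ker_eq_bot] at h2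
    exact Function.Injective.of_comp (f := k.hom) h2
  have hstr : i ≫ U.hom = Spec.map φ ≫ str := by
    rw [hφ, Category.assoc]
    exact congrArg (i ≫ ·) (Over.w φU).symm
  refine ⟨A', inferInstance, inferInstance, inferInstance, φ.hom, hinj, hloc,
    (yon S).map (Over.homMk i hstr) ≫ p ≫ pullback.fst f b, ?_⟩
  rw [Category.assoc, Category.assoc, sq.w, ← reassoc_of% hφU, ← Functor.map_comp_assoc]
  congr 2
  ext1
  exact hφ.symm

end Groth.Agent.AlgSpace
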