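import Groth.Agent.Lib.AlgSpace.ValRefined
import Groth.Agent.Lib.AlgSpace.ValFlat
import Groth.Agent.Lib.AlgSpace.DVRSplit
import Groth.Agent.Lib.AlgSpDecent.MonoPointApps

/-!
# Lifts along discrete valuation rings give lifts along valuation rings
-/

universe u

set_option backward.isDefEq.respectTransparency.types false
set_option linter.unusedVariables false

open CategoryTheory CategoryTheory.Limits AlgebraicGeometry Opposite IsLocalRing

namespace Groth.Agent.AlgSpace

open AlgSp Groth.Agent.AlgSpDecent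

variable {S : Scheme.{u}} {W : Over S} [IsAffine W.left]

/-- The morphism to an affine scheme given by a ring map. -/
noncomputable def wLeft {R : Type u} [CommRing R] (φ : Γ(W.left, ⊤) →+* R) :
    Spec (CommRingCat.of R) ⟶ W.left :=
  Spec.map (CommRingCat.ofHom φ) ≫ W.left.isoSpec.inv

/-- The scheme over `S` given by a ring map. -/
noncomputable abbrev wPt {R : Type u} [CommRing R] (φ : Γ(W.left, ⊤) →+* R) : Over S :=
  Over.mk (wLeft φ ≫ W.hom)

/-- Its map to `W`. -/
noncomputable def wTo {R : Type u} [CommRing R] (φ : Γ(W.left, ⊤) →+* R) : wPt φ ⟶ W :=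
  Over.homMk (wLeft φ) rfl

lemma wLeft_comp {R R' : Type u} [CommRing R] [CommRing R'] {φ : Γ(W.left, ⊤) →+* R}
    {φ' : Γ(W.left, ⊤) →+* R'} (ψ : R →+* R') (h : ψ.comp φ = φ') :
    Spec.map (CommRingCat.ofHom ψ) ≫ wLeft φ = wLeft φ' := by
  subst h
  rw [wLeft, wLeft, CommRingCat.ofHom_comp, Spec.map_comp, Category.assoc]

/-- A compatible ring map. -/
noncomputable def wMap {R R' : Type u} [CommRing R] [CommRing R'] {φ : Γ(W.left, ⊤) →+* R}
    {φ' : Γ(W.left, ⊤) →+* R'} (ψ : R →+* R') (h : ψ.comp φ = φ') : wPt φ' ⟶ wPt φ :=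
  Over.homMk (Spec.map (CommRingCat.ofHom ψ)) (by
    change Spec.map _ ≫ wLeft φ ≫ W.hom = wLeft φ' ≫ W.hom
    rw [← Category.assoc, wLeft_comp ψ h])

lemma wMap_wTo {R R' : Type u} [CommRing R] [CommRing R'] {φ : Γ(W.left, ⊤) →+* R}
    {φ' : Γ(W.left, ⊤) →+* R'} (ψ : R →+* R') (h : ψ.comp φ = φ') :
    wMap ψ h ≫ wTo φ = wTo φ' := by
  ext1; exact wLeft_comp ψ h

lemma wMap_wMap {R R' R'' : Type u} [CommRing R] [CommRing R'] [CommRing R'']
    {φ : Γ(W.left, ⊤) →+* R} {φ' : Γ(W.left, ⊤) →+* R'} {φ'' : Γ(W.left, ⊤) →+* R''}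
    (ψ : R →+* R') (h : ψ.comp φ = φ') (ψ' : R' →+* R'') (h' : ψ'.comp φ' = φ'') :
    wMap ψ' h' ≫ wMap ψ h = wMap (φ := φ) (ψ'.comp ψ) (by rw [RingHom.comp_assoc, h, h']) := by
  ext1
  change Spec.map _ ≫ Spec.map _ = Spec.map _
  rw [← Spec.map_comp]; rfl

lemma wMap_congr {R R' : Type u} [CommRing R] [CommRing R'] {φ : Γ(W.left, ⊤) →+* R}
    {φ' : Γ(W.left, ⊤) →+* R'} {ψ ψ' : R →+* R'} (e : ψ = ψ') (h : ψ.comp φ = φ')
    (h' : ψ'.comp φ = φ') : wMap ψ h = wMap ψ' h' := by
  subst e; rfl

lemma wLeft_appTop {R : Type u} [CommRing R] (φ : Γ(W.left, ⊤) →+* R) :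
    (wLeft φ).appTop ≫ (Scheme.ΓSpecIso (CommRingCat.of R)).hom = CommRingCat.ofHom φ := by
  apply Spec.map_injective
  rw [← cancel_mono W.left.isoSpec.inv, Spec.map_comp, Category.assoc, Scheme.isoSpec_inv_naturality,
    Scheme.isoSpec_Spec_inv, ← Spec.map_comp_assoc, Iso.inv_hom_id, Spec.map_id, Category.id_comp]
  rfl

variable {P : Sp S} {g : P ⟶ (yon S).obj W}

set_option maxHeartbeats 1000000 in
/-- **Lifts along discrete valuation rings of finite extensions give a lift along a valuation ring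
of an algebraically closed extension.** -/
theorem exists_lift_of_dvr [IsLocallyNoetherian W.left] (hP : IsAlgSpace P) (hsep : IsSeparatedMor g)
    (hqc : IsQuasiCompactMor g) {K : Type u} [Field K] (θ : Γ(W.left, ⊤) →+* K) (hθ : θ.EssFiniteType)
    (top : (yon S).obj (wPt θ) ⟶ P) (htop : top ≫ g = (yon S).map (wTo θ))
    (H : ∀ (L : Type u) [Field L] (e : K →+* L), e.Finite → ∀ (A : ValuationSubring L),
      IsDiscreteValuationRing A → ∀ (θA : Γ(W.left, ⊤) →+* A) (hA : A.subtype.comp θA = e.comp θ),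
        ∃ l : (yon S).obj (wPt θA) ⟶ P,
          (yon S).map (wMap A.subtype hA) ≫ l = (yon S).map (wMap e rfl) ≫ top ∧
          l ≫ g = (yon S).map (wTo θA))
    {Ω : Type u} [Field Ω] [IsAlgClosed Ω] (e : K →+* Ω) (R : ValuationSubring Ω)
    (θR : Γ(W.left, ⊤) →+* R) (hR : R.subtype.comp θR = e.comp θ) :
    ∃ l : (yon S).obj (wPt θR) ⟶ P,
      (yon S).map (wMap R.subtype hR) ≫ l = (yon S).map (wMap e rfl) ≫ top ∧
      l ≫ g = (yon S).map (wTo θR) := by
  classical
  have := compactSpace_yon_of_affine W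
  have : CompactSpace (Points P) := by
    have := compactSpace_of_isQuasiCompactMor hP (IsAlgSpace.yon_obj W) hqc (IsAlgSpace.yon_obj W)
      (IsPullback.of_id_fst (f := g))
    exact this
  obtain ⟨V, pV, hV, hpVe, hpVs⟩ := exists_affine_chart ((isQuasiCompactSp_iff hP).2 inferInstance)
  obtain ⟨φV, hφV⟩ := (yon S).map_surjective (pV ≫ g)
  -- the fibre over the field
  obtain ⟨E, cE, fE, sqE⟩ := (Functor.relativelyRepresentable.of_diag hP.diag pV) top
  obtain ⟨aE, rfl⟩ := (yon S).map_surjective fE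
  have : Etale cE.left := hpVe.2 _ _ _ sqE
  have hEW : aE ≫ φV = cE ≫ wTo θ := (yon S).map_injective (by
    rw [Functor.map_comp, Functor.map_comp, hφV, reassoc_of% sqE.w, htop])
  have hclE : IsClosedImmersion (pullback.lift aE cE hEW).left := by
    have sqQ : IsPullback ((yon S).map (pullback.fst φV (wTo θ)))
        ((yon S).map (pullback.snd φV (wTo θ))) (pV ≫ g) (top ≫ g) := by
      rw [← hφV, htop]; exact (IsPullback.of_hasPullback φV (wTo θ)).map (yon S)
    exact hsep.2 _ _ _ (isPullback_diagonal_pair g sqE sqQ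
      (L := (yon S).map (pullback.lift aE cE hEW))
      (by rw [← Functor.map_comp, pullback.lift_fst]) (by rw [← Functor.map_comp, pullback.lift_snd]))
  have : IsAffine E.left := by
    have e0 := ((IsPullback.of_hasPullback φV (wTo θ)).map (Over.forget S)).isoPullback
    have : IsAffine ((Over.forget S).obj V) := hV
    have : IsAffine ((Over.forget S).obj W) := ‹IsAffine W.left›
    have : IsAffine ((Over.forget S).obj (wPt θ)) := inferInstanceAs (IsAffine (Spec _))
    have : IsAffine (pullback φV (wTo θ)).left := IsAffine.of_isIso e0.hom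
    exact isAffine_of_isAffineHom (pullback.lift aE cE hEW).left
  have : IsAffine (wPt θ).left := inferInstanceAs (IsAffine (Spec _))
  have : IsFinite cE.left := isFinite_of_etale_field (K := K) cE.left
  let F := Γ(E.left, ⊤)
  let eF : CommRingCat.of K ⟶ F := (Scheme.ΓSpecIso (CommRingCat.of K)).inv ≫ cE.left.appTop
  have heF : eF.hom.Finite :=
    RingHom.Finite.comp cE.left.finite_appTop
      (RingHom.Finite.of_surjective _
        (ConcreteCategory.bijective_of_isIso (Scheme.ΓSpecIso (CommRingCat.of K)).inv).2)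
  letI : Algebra K F := eF.hom.toAlgebra
  have : Module.Finite K F := heF
  letI : Algebra K Ω := e.toAlgebra
  obtain ⟨L, hLfin, hL⟩ := exists_splitting K F Ω
  let aV : Γ(V.left, ⊤) →+* F := aE.left.appTop.hom
  let θV : Γ(W.left, ⊤) →+* Γ(V.left, ⊤) := φV.left.appTop.hom
  have haV : aV.comp θV = (algebraMap K F).comp θ := by
    have h1 : φV.left.appTop ≫ aE.left.appTop = (wTo θ).left.appTop ≫ cE.left.appTop := by
      rw [← Scheme.Hom.comp_appTop, ← Scheme.Hom.comp_appTop, ← Over.comp_left, ← Over.comp_left, hEW]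
    have h2 : φV.left.appTop ≫ aE.left.appTop = CommRingCat.ofHom θ ≫ eF := by
      rw [h1, ← wLeft_appTop θ]
      simp [eF, wTo]
    exact congrArg CommRingCat.Hom.hom h2
  by_cases hcase : ∃ τ : F →ₐ[K] L, ∀ b, ((τ (aV b) : L) : Ω) ∈ R
  · obtain ⟨τ, hτ⟩ := hcase
    let β : Γ(V.left, ⊤) →+* R := (L.val.toRingHom.comp (τ.toRingHom.comp aV)).codRestrict R.toSubring hτ
    have hβ : β.comp θV = θR := by
      refine RingHom.ext fun o => Subtype.ext ?_
      change L.val (τ (aV (θV o))) = _
      rw [show aV (θV o) = algebraMap K F (θ o) from congrArg (fun m : _ →+* F => m o) haV,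
        AlgHom.commutes, AlgHom.commutes]
      exact (congrArg (fun m : _ →+* Ω => m o) hR).symm
    let iV : Spec (CommRingCat.of R) ⟶ V.left := Spec.map (CommRingCat.ofHom β) ≫ V.left.isoSpec.inv
    have hiV : iV ≫ φV.left = wLeft θR := by
      rw [wLeft, ← hβ, CommRingCat.ofHom_comp, Spec.map_comp, Category.assoc]
      simp only [iV, Category.assoc]
      rw [← Scheme.isoSpec_inv_naturality]
      rfl
    let m : wPt θR ⟶ V := Over.homMk iV (by
      change iV ≫ V.hom = wLeft θR ≫ W.hom
      rw [← Over.w φV, reassoc_of% hiV])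
    let σ : CommRingCat.of F ⟶ CommRingCat.of Ω :=
      CommRingCat.ofHom (L.val.toRingHom.comp τ.toRingHom)
    let iE : Spec (CommRingCat.of Ω) ⟶ E.left := Spec.map σ ≫ E.left.isoSpec.inv
    have hiEc : iE ≫ cE.left = Spec.map (CommRingCat.ofHom e) := by
      have : eF ≫ σ = CommRingCat.ofHom e := by
        ext k; exact (congrArg L.val (τ.commutes k)).trans (L.val.commutes k)
      rw [← this, Spec.map_comp]
      simp only [iE, eF, Category.assoc, Spec.map_comp]
      rw [← Scheme.isoSpec_inv_naturality]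
      simp [Scheme.isoSpec_Spec_inv]
    let zE : wPt (e.comp θ) ⟶ E := Over.homMk iE (by
      change iE ≫ E.hom = _
      rw [← Over.w cE, reassoc_of% hiEc]
      exact (congrArg (· ≫ W.hom) (wLeft_comp e rfl)).trans rfl |> fun h =>
        ((Category.assoc _ _ _).symm.trans h))
    refine ⟨(yon S).map m ≫ pV, ?_, ?_⟩
    · have e₁ : wMap R.subtype hR ≫ m = zE ≫ aE := by
        ext1
        change Spec.map _ ≫ iV = iE ≫ aE.left
        simp only [iV, iE, Category.assoc]
        rw [← Scheme.isoSpec_inv_naturality, ← Spec.map_comp_assoc, ← Spec.map_comp_assoc]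
        rfl
      have e₂ : zE ≫ cE = wMap e rfl := by ext1; exact hiEc
      rw [← Functor.map_comp_assoc, e₁, Functor.map_comp_assoc, sqE.w, ← Functor.map_comp_assoc, e₂]
    · rw [Category.assoc, ← hφV, ← Functor.map_comp]
      congr 1
      ext1
      exact hiV
  exfalso
  simp only [not_exists, not_forall] at hcase
  choose b hb using hcase
  -- the splitting field is not empty of maps
  have hne : Nonempty (F →ₐ[K] L) := by
    obtain ⟨v, hv⟩ := surjective_ofPt hpVs (Points.ofPt top (closedPoint K))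
    obtain ⟨w, -, -⟩ := exists_pt_of_isPullback sqE (x := Points.ofScheme V v) (t := closedPoint K)
      (by rw [← Points.ofPt_eq_map_ofScheme]; exact hv)
    let κ := Spec.preimage (E.left.fromSpecResidueField w ≫ E.left.isoSpec.hom)
    letI : Algebra K (E.left.residueField w) := (κ.hom.comp (algebraMap K F)).toAlgebra
    let σ₀ : F →ₐ[K] E.left.residueField w := { κ.hom with commutes' := fun _ => rfl }
    have : Module.Finite K σ₀.range :=
      Module.Finite.of_surjective σ₀.rangeRestrict.toLinearMap σ₀.rangeRestrict_surjective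
    have : Algebra.IsAlgebraic K σ₀.range := Algebra.IsAlgebraic.of_finite K σ₀.range
    obtain ⟨τ, -⟩ := hL Ω L.val ((IsAlgClosed.lift (M := Ω)).comp σ₀.rangeRestrict)
    exact ⟨τ⟩
  let θL : Γ(W.left, ⊤) →+* L := (algebraMap K L).comp θ
  have hθL : θL.EssFiniteType :=
    RingHom.EssFiniteType.comp hθ
      (RingHom.FiniteType.essFiniteType (RingHom.Finite.finiteType
        (RingHom.finite_algebraMap.2 hLfin)))
  let RL : ValuationSubring L := R.comap L.val.toRingHom
  have hRL : ∀ o, θL o ∈ RL := fun o => by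
    change L.val (algebraMap K L (θ o)) ∈ R
    rw [AlgHom.commutes]
    exact (congrArg (fun m : _ →+* Ω => m o) hR) ▸ (θR o).2
  have : IsNoetherianRing Γ(W.left, ⊤) :=
    IsLocallyNoetherian.component_noetherian ⟨⊤, isAffineOpen_top W.left⟩
  have hb0 : ∀ τ : F →ₐ[K] L, τ (aV (b τ)) ≠ 0 := fun τ h => hb τ (by rw [h]; exact R.zero_mem)
  obtain ⟨A, hA, hAθ, hAc⟩ := exists_dvr_of_conditions θL hθL RL hRL (fun τ => (τ (aV (b τ)))⁻¹)
    (fun τ => (RL.mem_or_inv_mem _).resolve_left (hb τ))
    (fun τ => by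
      have h1 : ¬ RL.valuation (τ (aV (b τ))) ≤ 1 := fun h => hb τ ((RL.valuation_le_one_iff _).1 h)
      rw [map_inv₀]
      exact inv_lt_one_of_one_lt₀ (not_le.1 h1))
    (fun τ => inv_ne_zero (hb0 τ))
  obtain ⟨l, hl₁, hl₂⟩ := H L (algebraMap K L) (RingHom.finite_algebraMap.2 hLfin) A hA
    (θL.codRestrict A.toSubring hAθ) rfl
  let θA := θL.codRestrict A.toSubring hAθ
  -- lift to the chart after an extension
  obtain ⟨EA, cA, fA, sqA⟩ := (Functor.relativelyRepresentable.of_diag hP.diag pV) l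
  obtain ⟨aA, rfl⟩ := (yon S).map_surjective fA
  have : Etale cA.left := hpVe.2 _ _ _ sqA
  obtain ⟨v, hv⟩ := surjective_ofPt hpVs (Points.ofPt l (closedPoint A))
  obtain ⟨r, -, hr⟩ := exists_pt_of_isPullback sqA (x := Points.ofScheme V v) (t := closedPoint A)
    (by rw [← Points.ofPt_eq_map_ofScheme]; exact hv)
  let g₀ : Spec (CommRingCat.of A) := ⟨⊥, Ideal.isPrime_bot⟩
  obtain ⟨r₁, hr₁, hr₁'⟩ : ∃ r₁, r₁ ⤳ r ∧ cA.left r₁ = g₀ :=
    Flat.generalizingMap cA.left (by rw [hr]; exact specializes_closedPoint g₀)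
  obtain ⟨A', i, hi, hic⟩ := ValSq12.exists_square (𝟙 EA.left) (x := r₁) (y := r) hr₁
  rw [Category.comp_id] at hi
  let φA : CommRingCat.of A ⟶ CommRingCat.of A' := Spec.preimage (i ≫ cA.left)
  have hφA : Spec.map φA = i ≫ cA.left := Spec.map_preimage _
  have hloc : IsLocalHom φA.hom := (IsLocalRing.isLocalHom_iff_comap_closedPoint φA.hom).2
    (show Spec.map φA (closedPoint A') = closedPoint A by rw [hφA, Scheme.Hom.comp_apply, hic, hr])
  let k : CommRingCat.of A' ⟶ EA.left.residueField r₁ :=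
    CommRingCat.ofHom (algebraMap A' (EA.left.residueField r₁))
  let φK : A →+* EA.left.residueField r₁ := (φA ≫ k).hom
  have hinj : Function.Injective φK := by
    have h1 : Spec.map (φA ≫ k) (closedPoint _) = g₀ := by
      rw [Spec.map_comp, hφA, ← Category.assoc, show Spec.map k ≫ i = _ from hi.symm,
        Scheme.Hom.comp_apply, Scheme.fromSpecResidueField_apply, hr₁']
    have h2 : (maximalIdeal (EA.left.residueField r₁)).comap φK = ⊥ :=
      congrArg PrimeSpectrum.asIdeal h1
    rw [maximalIdeal_eq_bot, ← RingHom.ker_eq_comap_bot, ← RingHom.injective_iff_ker_eq_bot] at h2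
    exact h2
  let ιL : L →+* EA.left.residueField r₁ := IsFractionRing.lift (A := A) (K := L) hinj
  have hιL : ιL.comp A.subtype = φK :=
    RingHom.ext fun a => IsFractionRing.lift_algebraMap (A := A) (K := L) hinj a
  letI : Algebra K (EA.left.residueField r₁) := (ιL.comp (algebraMap K L)).toAlgebra
  let ι : L →ₐ[K] EA.left.residueField r₁ := { ιL with commutes' := fun _ => rfl }
  -- the generic point of the lift lies in the fibre over the field
  have hk₁ : Spec.map (CommRingCat.ofHom ιL) ≫ Spec.map (CommRingCat.ofHom A.subtype) =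
      EA.left.fromSpecResidueField r₁ ≫ cA.left := by
    rw [← Spec.map_comp, ← CommRingCat.ofHom_comp, hιL, hi, Category.assoc, ← hφA, ← Spec.map_comp]
    rfl
  let ptr : Over S := Over.mk (EA.left.fromSpecResidueField r₁ ≫ EA.hom)
  let zA : ptr ⟶ EA := Over.homMk (EA.left.fromSpecResidueField r₁) rfl
  let zL : ptr ⟶ wPt θL := Over.homMk (Spec.map (CommRingCat.ofHom ιL)) (by
    change _ ≫ wLeft θL ≫ W.hom = EA.left.fromSpecResidueField r₁ ≫ EA.hom
    rw [← Over.w cA, ← reassoc_of% hk₁]
    exact congrArg (Spec.map _ ≫ ·) ((congrArg (· ≫ W.hom) (wLeft_comp (φ := θA) A.subtype rfl)).symm.trans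
      (Category.assoc _ _ _)))
  have hz : zL ≫ wMap (φ := θA) A.subtype rfl = zA ≫ cA := by ext1; exact hk₁
  have hcomm : (yon S).map (zA ≫ aA) ≫ pV =
      (yon S).map (zL ≫ wMap (algebraMap K L) rfl) ≫ top := by
    rw [Functor.map_comp_assoc, sqA.w, ← Functor.map_comp_assoc, ← hz, Functor.map_comp_assoc, hl₁,
      ← Functor.map_comp_assoc]
  obtain ⟨w, hw⟩ := (yon S).map_surjective (sqE.lift _ _ hcomm)
  have hw₁ : w ≫ aE = zA ≫ aA := (yon S).map_injective (by
    rw [Functor.map_comp, hw, IsPullback.lift_fst])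
  have hw₂ : w ≫ cE = zL ≫ wMap (algebraMap K L) rfl := (yon S).map_injective (by
    rw [Functor.map_comp, hw, IsPullback.lift_snd])
  let σ : F →+* EA.left.residueField r₁ :=
    (w.left.appTop ≫ (Scheme.ΓSpecIso (EA.left.residueField r₁)).hom).hom
  have hσ : σ.comp (algebraMap K F) = ιL.comp (algebraMap K L) := by
    have h1 : cE.left.appTop ≫ w.left.appTop =
        (wMap (algebraMap K L) (rfl : _ = θL)).left.appTop ≫ zL.left.appTop := by
      rw [← Scheme.Hom.comp_appTop, ← Scheme.Hom.comp_appTop, ← Over.comp_left, ← Over.comp_left, hw₂]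
    have h2 : eF ≫ w.left.appTop ≫ (Scheme.ΓSpecIso (EA.left.residueField r₁)).hom =
        CommRingCat.ofHom (algebraMap K L) ≫ CommRingCat.ofHom ιL := by
      simp only [eF, Category.assoc]
      rw [reassoc_of% h1]
      simp [wMap, zL, Scheme.ΓSpecIso_naturality, Scheme.ΓSpecIso_naturality_assoc]
      rfl
    exact congrArg CommRingCat.Hom.hom h2
  obtain ⟨τ, hτ⟩ := hL (EA.left.residueField r₁) ι
    { σ with commutes' := fun x => congrArg (fun m : K →+* _ => m x) hσ }
  -- the contradiction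
  let β := Spec.preimage (i ≫ aA.left ≫ V.left.isoSpec.hom)
  have hβ : ∀ c, algebraMap A' (EA.left.residueField r₁) (β.hom c) = ιL (τ (aV c)) := by
    intro c
    have h1 : β ≫ k = aE.left.appTop ≫ w.left.appTop ≫
        (Scheme.ΓSpecIso (EA.left.residueField r₁)).hom := by
      apply Spec.map_injective
      rw [← cancel_mono V.left.isoSpec.inv]
      simp only [Spec.map_comp, β, Spec.map_preimage, Category.assoc, Iso.hom_inv_id, Category.comp_id]
      rw [show Spec.map k ≫ i ≫ aA.left = zA.left ≫ aA.left by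
        rw [← Category.assoc]; exact congrArg (· ≫ aA.left) hi.symm, ← Over.comp_left, ← hw₁,
        Scheme.isoSpec_inv_naturality]
      simp only [Over.comp_left, ← Category.assoc]
      congr 1
      simp [← Scheme.toSpecΓ_naturality_assoc, Scheme.isoSpec_Spec_hom, Scheme.isoSpec]
    exact (congrArg (fun m : Γ(V.left, ⊤) ⟶ EA.left.residueField r₁ => m c) h1).trans
      (congrArg (fun m : F →ₐ[K] EA.left.residueField r₁ => m (aV c)) hτ).symm
  have hcA : (τ (aV (b τ)))⁻¹ ∈ A := (A.valuation_le_one_iff _).1 (hAc τ).le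
  let cel : A := ⟨_, hcA⟩
  have hcm : cel ∈ maximalIdeal A := (A.valuation_lt_one_iff cel).2 (hAc τ)
  have hu : φA.hom cel * β.hom (b τ) = 1 := by
    refine IsFractionRing.injective A' (EA.left.residueField r₁) ?_
    rw [map_mul, map_one, hβ, show algebraMap A' _ (φA.hom cel) = ιL (A.subtype cel) from
      (congrArg (fun m : A →+* _ => m cel) hιL).symm, ← map_mul]
    rw [show A.subtype cel = (τ (aV (b τ)))⁻¹ from rfl, inv_mul_cancel₀ (hb0 τ), map_one]
  exact hcm (hloc.map_nonunit cel (IsUnit.of_mul_eq_one _ hu))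

end Groth.Agent.AlgSpace
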