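import Groth.Agent.Lib.AlgSpace.DVRCriterion

/-!
# Separatedness from discrete valuation rings
-/

universe u

set_option backward.isDefEq.respectTransparency.types false
set_option linter.unusedVariables false

open CategoryTheory CategoryTheory.Limits AlgebraicGeometry Opposite IsLocalRing

namespace Groth.Agent.AlgSpace

open AlgSp Groth.Agent.AlgSpDecent

attribute [local simp] pullback.lift_fst pullback.lift_snd limit.lift_π

variable {S : Scheme.{u}}

theorem isLocNoethSp_of_locP_lft {X Y : Sp S} (hX : IsAlgSpace X) (hY : IsAlgSpace Y) {f : X ⟶ Y}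
    (hf : LocP @LocallyOfFiniteType f) (hN : IsLocNoethSp Y) : IsLocNoethSp X := by
  obtain ⟨U, V, a, b, k, hae, has, hbe, hbs, w⟩ := exists_chart_square hX hY f
  have : IsLocallyNoetherian V.left := isLocallyNoetherian_of_etale_chart hN hbe
  have : LocallyOfFiniteType k.left := hf a b k hae hbe w
  exact ⟨U, a, hae, has, LocallyOfFiniteType.isLocallyNoetherian k.left⟩

theorem repWith_of_isIso (P : MorphismProperty Scheme.{u}) [P.ContainsIdentities] [P.RespectsIso]
    {F G : Sp S} (e : F ⟶ G) [IsIso e] : RepWith P e := by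
  refine (repWith_iff P e).2 ⟨Functor.relativelyRepresentable.isomorphisms_le _ _
    (inferInstance : IsIso e), fun U V g fst snd sq => ?_⟩
  have : IsIso ((yon S).map snd) := sq.isIso_snd_of_isIso
  have : IsIso snd := isIso_of_fully_faithful (yon S) snd
  have : IsIso snd.left := (Over.forget S).map_isIso snd
  exact MorphismProperty.of_isIso P snd.left

/-- At most one lift along discrete valuation rings gives separatedness. -/
theorem isSeparatedMor_of_dvrUniq {U X Y : Sp S} (hU : IsAlgSpace U) (hX : IsAlgSpace X)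
    (hY : IsAlgSpace Y) (hYN : IsLocNoethSp Y) {f : X ⟶ Y} {h : U ⟶ X}
    (hft : LocP @LocallyOfFiniteType f) (hqs : IsQuasiSeparatedMor f) (hh : IsFiniteTypeMor h)
    (hd : DenseRange (Points.map h))
    (H : ∀ sq : ValSq (h ≫ f), IsDiscreteValuationRing sq.A →
      ∀ l l' : (yon S).obj sq.ptA ⟶ X, (yon S).map sq.j ≫ l = sq.top ≫ h ∧ l ≫ f = sq.bot →
        (yon S).map sq.j ≫ l' = sq.top ≫ h ∧ l' ≫ f = sq.bot → l = l') : IsSeparatedMor f := by
  have sq₂ := IsPullback.of_hasPullback f f
  have hXX : IsAlgSpace (pullback f f) := isAlgSpace_baseChange hX hY hX sq₂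
  have hqc : IsQuasiCompactMor (pullback.diagonal f) := (repWith_quasiCompact_iff hX hXX hqs.1).1 hqs
  have : Mono (pullback.diagonal f) := inferInstance
  have hXXN : IsLocNoethSp (pullback f f) :=
    isLocNoethSp_of_locP_lft hXX hY
      (locP_comp hXX hX hY (locP_of_isPullback hX hY hX sq₂.flip hft) hft) hYN
  have hΔft : IsFiniteTypeMor (pullback.diagonal f) :=
    ⟨locP_of_repWith hXX (repWith_diagonal_lft hX f), hqc⟩
  have hΔs : IsSeparatedMor (pullback.diagonal f) :=
    isSeparatedMor_of_uniqVC hX
      (repWith_of_isIso _ (pullback.diagonal (pullback.diagonal f))) (fun sq l l' _ h₂ _ h₂' =>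
      (cancel_mono (pullback.diagonal f)).1 (h₂.trans h₂'.symm))
  have hΔp : IsProperMor (pullback.diagonal f) := by
    refine isProperMor_of_dvrLifts hU hX hXX hXXN hΔs hΔft hh hd fun sq hA => ?_
    have e₁ : sq.top ≫ h = (yon S).map sq.j ≫ sq.bot ≫ pullback.fst f f := by
      simpa [Category.assoc] using sq.comm =≫ pullback.fst f f
    have e₂ : sq.top ≫ h = (yon S).map sq.j ≫ sq.bot ≫ pullback.snd f f := by
      simpa [Category.assoc] using sq.comm =≫ pullback.snd f f
    let s : ValSq (h ≫ f) :=
      { A := sq.A, K := sq.K, str := sq.str, top := sq.top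
        bot := sq.bot ≫ pullback.fst f f ≫ f
        comm := (Category.assoc _ _ _).symm.trans ((congrArg (· ≫ f) e₁).trans
          (by simp only [Category.assoc])) }
    have heq : sq.bot ≫ pullback.fst f f = sq.bot ≫ pullback.snd f f :=
      H s hA _ _ ⟨e₁.symm, Category.assoc _ _ _⟩ ⟨e₂.symm, by simp [s, pullback.condition]⟩
    refine ⟨sq.bot ≫ pullback.fst f f, e₁.symm, ?_⟩
    apply pullback.hom_ext
    · simp
    · simpa using heq
  refine repWith_mono (P := @UniversallyClosed ⊓ (@LocallyOfFiniteType ⊓
    (@QuasiCompact ⊓ MorphismProperty.monomorphisms Scheme.{u}))) (fun A B n hn => ?_)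
    (repWith_inf ((repWith_universallyClosed_iff hqs.1).2 hΔp.2.2)
      (repWith_inf (repWith_diagonal_lft hX f) (repWith_inf hqs (repWith_diagonal_mono hX f))))
  have := hn.1
  have := hn.2.1
  have := hn.2.2.1
  have : Mono n := hn.2.2.2
  have : IsProper n := {}
  exact (IsClosedImmersion.iff_isProper_and_mono n).2 ⟨inferInstance, inferInstance⟩

end Groth.Agent.AlgSpace
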