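import Groth.Agent.Lib.AlgSpace.Space
import Groth.Prelude.Def_AlgSpRep

/-!
# Presheaf-level representability
-/

universe u v w

set_option backward.isDefEq.respectTransparency.types false
set_option linter.unusedVariables false

open CategoryTheory CategoryTheory.Limits AlgebraicGeometry Opposite

namespace Groth.Agent.AlgSpace

section General

variable {C : Type u} [Category.{v} C]

/-- A presheaf over a sheaf all whose pullbacks to representables are sheaves is a sheaf. -/
lemma isSheaf_of_pullbacks {J : GrothendieckTopology C} {F G : Cᵒᵖ ⥤ Type (max v w)} (a : F ⟶ G)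
    (hG : Presheaf.IsSheaf J G)
    (h : ∀ (T : C) (ξ : CategoryTheory.uliftYoneda.{w}.obj T ⟶ G), ∃ (F' : Cᵒᵖ ⥤ Type (max v w))
      (fst : F' ⟶ F) (snd : F' ⟶ CategoryTheory.uliftYoneda.{w}.obj T),
        IsPullback fst snd a ξ ∧ Presheaf.IsSheaf J F') :
    Presheaf.IsSheaf J F := by
  rw [isSheaf_iff_isSheaf_of_type] at hG ⊢
  intro T R hR
  refine (Presieve.isSeparatedFor_and_exists_isAmalgamation_iff_isSheafFor).1
    ⟨fun x t₁ t₂ h₁ h₂ => ?_, fun x hx => ?_⟩
  · have hy : a.app _ t₁ = a.app _ t₂ := by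
      refine ((hG R hR).isSeparatedFor).ext fun Y f hf => ?_
      rw [← NatTrans.naturality_apply, ← NatTrans.naturality_apply, h₁ f hf, h₂ f hf]
    obtain ⟨F', fst, snd, sq, hF'⟩ :=
      h T (CategoryTheory.uliftYonedaEquiv.symm (a.app _ t₁))
    rw [isSheaf_iff_isSheaf_of_type] at hF'
    have hsq := sq.map ((evaluation _ _).obj (op T))
    obtain ⟨z₁, hz₁, hz₁'⟩ := Types.exists_of_isPullback hsq t₁ ⟨𝟙 T⟩
      (by simp [CategoryTheory.uliftYonedaEquiv])
    obtain ⟨z₂, hz₂, hz₂'⟩ := Types.exists_of_isPullback hsq t₂ ⟨𝟙 T⟩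
      (by simp [CategoryTheory.uliftYonedaEquiv, hy])
    suffices z₁ = z₂ by rw [← hz₁, ← hz₂, this]
    refine ((hF' R hR).isSeparatedFor).ext fun Y f hf => ?_
    refine Types.ext_of_isPullback (sq.map ((evaluation _ _).obj (op Y))) ?_ ?_
    · dsimp at hz₁ hz₂ ⊢
      rw [NatTrans.naturality_apply, NatTrans.naturality_apply, hz₁, hz₂, h₁ f hf, h₂ f hf]
    · dsimp at hz₁' hz₂' ⊢
      rw [NatTrans.naturality_apply, NatTrans.naturality_apply, hz₁', hz₂']
  · obtain ⟨y, hy⟩ : ∃ y, (x.map a).IsAmalgamation y :=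
      ⟨_, (hG R hR).isAmalgamation (hx.map a)⟩
    obtain ⟨F', fst, snd, sq, hF'⟩ := h T (CategoryTheory.uliftYonedaEquiv.symm y)
    rw [isSheaf_iff_isSheaf_of_type] at hF'
    have ex : ∀ ⦃Y : C⦄ (f : Y ⟶ T) (hf : R.arrows f), ∃ z : F'.obj (op Y),
        fst.app _ z = x f hf ∧ snd.app _ z = ⟨f⟩ := fun Y f hf =>
      Types.exists_of_isPullback (sq.map ((evaluation _ _).obj (op Y))) (x f hf) ⟨f⟩
        (by simpa [CategoryTheory.uliftYonedaEquiv, Presieve.FamilyOfElements.map] using (hy f hf).symm)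
    choose z hz₁ hz₂ using ex
    let zf : Presieve.FamilyOfElements F' R.arrows := fun Y f hf => z f hf
    have hzf : zf.Compatible := by
      intro Y₁ Y₂ Z g₁ g₂ f₁ f₂ hf₁ hf₂ hc
      refine Types.ext_of_isPullback (sq.map ((evaluation _ _).obj (op Z))) ?_ ?_
      · dsimp [zf]
        rw [NatTrans.naturality_apply, NatTrans.naturality_apply, hz₁, hz₁]
        exact hx g₁ g₂ hf₁ hf₂ hc
      · dsimp [zf]
        rw [NatTrans.naturality_apply, NatTrans.naturality_apply, hz₂, hz₂]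
        simp [hc]
    refine ⟨fst.app _ ((hF' R hR).amalgamate zf hzf), fun Y f hf => ?_⟩
    rw [← NatTrans.naturality_apply, (hF' R hR).valid_glue hzf f hf, hz₁]

end General

open AlgSp

variable {S : Scheme.{u}}

lemma isSheaf_pyon (V : Over S) : Presheaf.IsSheaf (AlgSp.J S) ((pyon S).obj V) :=
  ((yon S).obj V).property

lemma isSheaf_of_relRep {F G : PSp S} (a : F ⟶ G) (ha : (pyon S).relativelyRepresentable a)
    (hG : Presheaf.IsSheaf (AlgSp.J S) G) : Presheaf.IsSheaf (AlgSp.J S) F :=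
  isSheaf_of_pullbacks a hG fun T ξ =>
    ⟨_, _, _, ha.isPullback ξ, isSheaf_pyon _⟩

lemma isSheaf_of_repBySp' {F G : PSp S} (a : F ⟶ G) (ha : RepBySp a)
    (hG : Presheaf.IsSheaf (AlgSp.J S) G) : Presheaf.IsSheaf (AlgSp.J S) F :=
  isSheaf_of_pullbacks a hG fun T ξ =>
    ⟨_, _, _, IsPullback.of_hasPullback a ξ, (ha ξ _ _ (IsPullback.of_hasPullback a ξ)).1⟩

/-- A map of sheaves representable on presheaves is representable in sheaves. -/
lemma representable_of_relRep {F G : Sp S} (a : F ⟶ G)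
    (ha : (pyon S).relativelyRepresentable a.hom) : Representable a := by
  intro U g
  obtain ⟨V, snd, fst, sq⟩ := ha g.hom
  exact ⟨V, snd, ObjectProperty.homMk fst,
    IsPullback.of_map_of_faithful (sheafToPresheaf (AlgSp.J S) (Type (u + 1))) sq⟩

end Groth.Agent.AlgSpace
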