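import Groth.Agent.Lib.AlgSpace.FppfLocal
import Groth.Agent.Lib.AlgSpace.Presheaf
import Groth.Agent.Lib.AlgSpace.LocP
import Groth.Agent.Lib.SmoothSection.Scheme
import Mathlib.AlgebraicGeometry.Morphisms.LocalFlatDescent
import Mathlib.AlgebraicGeometry.Sites.Etale
import Groth.Prelude.Def_AlgSpRep
import Groth.Prelude.Def_QuotSh

/-!
# Etale sheaves with a smooth cover by an algebraic space are algebraic spaces
-/

universe u

set_option backward.isDefEq.respectTransparency.types false
set_option linter.unusedVariables false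

open CategoryTheory CategoryTheory.Limits AlgebraicGeometry Opposite

namespace Groth.Agent.AlgSpace

open AlgSp Groth.Agent.AlgSpDecent

variable {S : Scheme.{u}}

/-- A sieve containing a jointly surjective family of etale maps is an etale covering. -/
lemma mem_etale_J {T : Over S} (R : Sieve T)
    (h : ∀ t : ↥T.left, ∃ (Z : Over S) (f : Z ⟶ T), Etale f.left ∧ R f ∧ t ∈ Set.range f.left) :
    R ∈ QuotSh.J Scheme.etalePrecoverage S T := by
  choose Z f he hR ht using h
  let E : PreZeroHypercover.{u} T.left := ⟨↥T.left, fun t => (Z t).left, fun t => (f t).left⟩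
  have hE : E.presieve₀ ∈ Scheme.etalePrecoverage T.left := by
    change E.presieve₀ ∈ Scheme.precoverage @Etale T.left
    rw [Scheme.presieve₀_mem_precoverage_iff]
    exact ⟨fun t => ⟨t, ht t⟩, he⟩
  rw [GrothendieckTopology.mem_over_iff]
  refine GrothendieckTopology.superset_covering _ ?_ (Precoverage.generate_mem_toGrothendieck hE)
  rw [Sieve.generate_le_iff]
  rintro _ _ ⟨t⟩
  rw [overEquiv_arrow]
  have : overArrow (U := T) (f t).left =
      (Over.homMk (𝟙 (Z t).left) (by simp) : Over.mk ((f t).left ≫ T.hom) ⟶ Z t) ≫ f t := by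
    ext; simp
  exact this ▸ R.downward_closed (hR t) _

/-- Etale coverings are fppf coverings. -/
lemma etale_le_fppf {T : Over S} (R : Sieve T)
    (h : R ∈ QuotSh.J Scheme.etalePrecoverage S T) : R ∈ AlgSp.J S T := by
  rw [GrothendieckTopology.mem_over_iff] at h ⊢
  exact Scheme.grothendieckTopology_monotone (P := @Etale) (Q := @Flat ⊓ @LocallyOfFinitePresentation)
    (fun X Y f (_ : Etale f) => ⟨inferInstance, inferInstance⟩) _ h

/-- Evaluation of a section restricted along a map. -/
lemma uly_map {G : PSp S} {V T : Over S} (v : V ⟶ T) (x : G.obj (op T)) :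
    CategoryTheory.uliftYonedaEquiv.{u + 1} ((pyon S).map v ≫
      CategoryTheory.uliftYonedaEquiv.{u + 1}.symm x) = G.map v.op x := by
  refine (congrArg _ (CategoryTheory.uliftYonedaEquiv_symm_map.{u + 1} v.op x).symm).trans ?_
  exact Equiv.apply_symm_apply _ _

/-- A cartesian square with vertices over a monomorphism. -/
lemma isPullback_of_mono_target {C : Type*} [Category C] {A B D E E' : C} {fst : A ⟶ B} {snd : A ⟶ D}
    {f : B ⟶ E} {g : D ⟶ E} (m : E ⟶ E') [Mono m] (sq : IsPullback fst snd (f ≫ m) (g ≫ m)) :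
    IsPullback fst snd f g := by
  have w : fst ≫ f = snd ≫ g := by
    rw [← cancel_mono m, Category.assoc, Category.assoc]; exact sq.w
  exact ⟨⟨w⟩, ⟨PullbackCone.IsLimit.mk w (fun s => sq.lift s.fst s.snd (by
    rw [← Category.assoc, s.condition, Category.assoc]))
    (fun s => sq.lift_fst _ _ _) (fun s => sq.lift_snd _ _ _)
    (fun s x h₁ h₂ => sq.hom_ext (by rw [h₁, sq.lift_fst]) (by rw [h₂, sq.lift_snd]))⟩⟩

/-- Etale locally, a smooth surjective map of schemes has a section. -/
lemma mem_etale_J_of_smooth {T V : Over S} (v : V ⟶ T) [Smooth v.left] [Surjective v.left]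
    (R : Sieve T) (hR : R v) : R ∈ QuotSh.J Scheme.etalePrecoverage S T := by
  refine mem_etale_J R fun t => ?_
  obtain ⟨x, rfl⟩ := v.left.surjective t
  obtain ⟨T', g, t', hg, hgt, h, hh⟩ := SmoothSection.exists_etale_section v.left x
  let f : Over.mk (g ≫ T.hom) ⟶ T := overArrow g
  let k : Over.mk (g ≫ T.hom) ⟶ V := Over.homMk h (by
    change h ≫ V.hom = g ≫ T.hom
    rw [← hh, Category.assoc, Over.w v])
  have hk : k ≫ v = f := Over.OverMorphism.ext hh
  exact ⟨_, f, hg, hk ▸ R.downward_closed hR k, t', hgt⟩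

/-- A map from an algebraic space to a scheme which becomes smooth and surjective after an fppf base
change has sections etale locally. -/
lemma exists_smooth_chart {W W' : Sp S} {T T' : Over S} (hW : IsAlgSpace W) (π : W ⟶ (yon S).obj T)
    (c : T' ⟶ T) [Flat c.left] [Surjective c.left] [LocallyOfFinitePresentation c.left]
    {j : W' ⟶ W} {π' : W' ⟶ (yon S).obj T'} (sq : IsPullback j π' π ((yon S).map c))
    (hs : IsSurjectiveMor π') (hsm : LocP @Smooth π') :
    ∃ (V : Over S) (a : (yon S).obj V ⟶ W) (v : V ⟶ T), (yon S).map v = a ≫ π ∧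
      Smooth v.left ∧ Surjective v.left := by
  obtain ⟨V, a, hae, has⟩ := hW.atlas
  obtain ⟨v, hv⟩ := (yon S).map_surjective (a ≫ π)
  -- the base change of the chart
  let a' : pullback v c ⟶ V := pullback.fst v c
  let v' : pullback v c ⟶ T' := pullback.snd v c
  have sqs : IsPullback a' v' v c := IsPullback.of_hasPullback v c
  have sqy := sqs.map (yon S)
  rw [hv] at sqy
  let h := sq.lift ((yon S).map a' ≫ a) ((yon S).map v') (by rw [Category.assoc]; exact sqy.w)
  have hv' : h ≫ π' = (yon S).map v' := sq.lift_snd _ _ _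
  have sqh : IsPullback ((yon S).map a') h a j :=
    IsPullback.of_bot (by rw [hv']; exact sqy) (sq.lift_fst _ _ _).symm sq
  have hfe : RepWith @Etale h := repWith_of_isPullback sqh hae
  have hfs : RepWith @Surjective h := repWith_of_isPullback sqh has
  have sqs' := sqs.map (Over.forget S)
  have hv's : Smooth v'.left :=
    hsm h (𝟙 _) v' hfe (repWith_id _ _) (by rw [Category.comp_id, hv'])
  have hsurj : Surjective v'.left := ⟨fun t => by
    obtain ⟨x, hx⟩ := hs (Points.ofScheme T' t)
    obtain ⟨y, rfl⟩ := surjective_ofPt hfs x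
    refine ⟨y, (Points.schemeEquiv T').injective ?_⟩
    change Points.ofScheme T' (v'.left y) = Points.ofScheme T' t
    rw [← ofPt_map_eq, ← hv', ← Points.map_ofPt]
    exact hx⟩
  refine ⟨V, a, v, hv, ?_, ⟨fun t => ?_⟩⟩
  · exact MorphismProperty.of_isPullback_of_descendsAlong
      (Q := @Surjective ⊓ @Flat ⊓ @LocallyOfFinitePresentation) sqs'.flip
      ⟨⟨‹Surjective c.left›, ‹Flat c.left›⟩, ‹_›⟩ hv's
  · obtain ⟨t', rfl⟩ := c.left.surjective t
    obtain ⟨y, rfl⟩ := v'.left.surjective t'
    exact ⟨a'.left y, congrArg (fun f : _ ⟶ T.left => f y) sqs'.w⟩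

section Main

variable {F : PSp S} (h1 : Presheaf.IsSheaf (QuotSh.J Scheme.etalePrecoverage S) F) {U : Sp S}
  (hU : IsAlgSpace U) (p : U.obj ⟶ F) (h2 : RepBySpWith (IsSurjectiveMor ⊓ LocP @Smooth) p)

include h2 in
/-- Sections lift etale locally along the cover. -/
lemma imageSieve_mem_etale {T : Over S} (a : F.obj (op T)) :
    Presheaf.imageSieve p a ∈ QuotSh.J Scheme.etalePrecoverage S T := by
  let ξ : (pyon S).obj T ⟶ F := CategoryTheory.uliftYonedaEquiv.{u + 1}.symm a
  obtain ⟨hP, hW, hs, hsm⟩ := h2 ξ _ _ (IsPullback.of_hasPullback p ξ)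
  let W : Sp S := ⟨pullback p ξ, hP⟩
  let π : W ⟶ (yon S).obj T := ObjectProperty.homMk (pullback.snd p ξ)
  have : Flat (𝟙 T.left) := inferInstance
  obtain ⟨V, l, v, hv, _, _⟩ := @exists_smooth_chart _ W W T T hW π (𝟙 T)
    (inferInstanceAs (Flat (𝟙 T.left))) (inferInstanceAs (Surjective (𝟙 T.left)))
    (inferInstanceAs (LocallyOfFinitePresentation (𝟙 T.left))) (𝟙 W) π
    (IsPullback.of_horiz_isIso ⟨by rw [Category.id_comp, (yon S).map_id, Category.comp_id]⟩) hs hsm
  refine mem_etale_J_of_smooth v _ ⟨uliftYonedaEquiv (l.hom ≫ pullback.fst p ξ), ?_⟩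
  refine (uliftYonedaEquiv_comp _ p).symm.trans ?_
  have e : (l.hom ≫ pullback.fst p ξ) ≫ p = (pyon S).map v ≫ ξ := by
    rw [Category.assoc, pullback.condition, ← Category.assoc, ← yon_map_hom, hv]
    rfl
  refine (congrArg _ e).trans ?_
  exact uly_map v a

include h1 h2 in
/-- The map to the fppf sheafification is injective. -/
lemma injective_toSheafify {T : Over S} (a b : F.obj (op T))
    (e : (toSheafify (AlgSp.J S) F).app (op T) a = (toSheafify (AlgSp.J S) F).app (op T) b) :
    a = b := by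
  have hK := Presheaf.equalizerSieve_mem (AlgSp.J S) (toSheafify (AlgSp.J S) F) _ _ e
  have hF := (isSheaf_iff_isSheaf_of_type _ _).1 h1
  refine (hF _ (imageSieve_mem_etale p h2 b)).isSeparatedFor.ext fun T' f hf => ?_
  obtain ⟨v, hv⟩ := hf
  let ξ : (pyon S).obj T' ⟶ F := CategoryTheory.uliftYonedaEquiv.{u + 1}.symm (F.map f.op a)
  have sq := IsPullback.of_hasPullback p ξ
  obtain ⟨hP, -, -⟩ := h2 ξ _ _ sq
  let L : Sieve T' := (Presheaf.equalizerSieve (F := F) (X := op T) a b).pullback f
  have hL : L ∈ AlgSp.J S T' := (AlgSp.J S).pullback_stable f hK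
  have ex : ∀ ⦃T'' : Over S⦄ (g : T'' ⟶ T') (hg : L g), ∃ w : (pullback p ξ).obj (op T''),
      (pullback.fst p ξ).app _ w = U.obj.map g.op v ∧ (pullback.snd p ξ).app _ w = ⟨g⟩ :=
    fun T'' g hg => Types.exists_of_isPullback (sq.map ((evaluation _ _).obj (op T''))) _ _ (by
      change p.app _ (U.obj.map g.op v) = F.map g.op (F.map f.op a)
      rw [NatTrans.naturality_apply]
      change F.map g.op (p.app _ v) = _
      rw [hv, ← Functor.map_comp_apply, ← Functor.map_comp_apply]
      exact hg.symm)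
  choose w hw₁ hw₂ using ex
  let x : Presieve.FamilyOfElements (pullback p ξ) L.arrows := fun T'' g hg => w g hg
  have hx : x.Compatible := fun Y₁ Y₂ Z g₁ g₂ f₁ f₂ h₁ h₂ ee => by
    refine Types.ext_of_isPullback (sq.map ((evaluation _ _).obj (op Z))) ?_ ?_
    · dsimp [x]
      rw [NatTrans.naturality_apply, NatTrans.naturality_apply, hw₁, hw₁, ← Functor.map_comp_apply,
        ← Functor.map_comp_apply, ← op_comp, ← op_comp, ee]
    · dsimp [x]
      rw [NatTrans.naturality_apply, NatTrans.naturality_apply, hw₂, hw₂]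
      simp [ee]
  have hW := (isSheaf_iff_isSheaf_of_type _ _).1 hP L hL
  have hUs := ((isSheaf_iff_isSheaf_of_type _ _).1 U.property L hL).isSeparatedFor
  have hTs := ((isSheaf_iff_isSheaf_of_type _ _).1 (isSheaf_pyon T') L hL).isSeparatedFor
  have e₁ : (pullback.fst p ξ).app _ (hW.amalgamate x hx) = v := hUs.ext fun T'' g hg => by
    rw [← NatTrans.naturality_apply, hW.valid_glue hx g hg, hw₁]
  have e₂ : (pullback.snd p ξ).app _ (hW.amalgamate x hx) = ⟨𝟙 T'⟩ := hTs.ext fun T'' g hg => by
    rw [← NatTrans.naturality_apply, hW.valid_glue hx g hg, hw₂]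
    exact congrArg ULift.up (Category.comp_id g).symm
  have key := congrArg (fun γ : pullback p ξ ⟶ F => γ.app (op T') (hW.amalgamate x hx))
    (pullback.condition (f := p) (g := ξ))
  change p.app _ ((pullback.fst p ξ).app _ _) = ξ.app _ ((pullback.snd p ξ).app _ _) at key
  rw [e₁, e₂, hv] at key
  refine Eq.trans ?_ key.symm
  exact ((CategoryTheory.uliftYonedaEquiv.{u + 1}).apply_symm_apply (F.map f.op a)).symm

include h1 hU h2 in
/-- **An etale sheaf with a smooth cover by an algebraic space is an fppf sheaf.** -/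
theorem isSheaf_fppf_of_smooth_cover : Presheaf.IsSheaf (AlgSp.J S) F := by
  let X : Sp S := (presheafToSheaf (AlgSp.J S) (Type (u + 1))).obj F
  let η : F ⟶ X.obj := toSheafify (AlgSp.J S) F
  let P : U ⟶ X := ObjectProperty.homMk (p ≫ η)
  have hinj : ∀ T, Function.Injective (η.app (op T)) :=
    fun T a b e => injective_toSheafify h1 p h2 a b e
  have hmono : Mono η := by
    have : ∀ T, Mono (η.app T) := fun T => (mono_iff_injective _).2 (hinj T.unop)
    exact NatTrans.mono_of_mono_app η
  -- lifts of sections of the sheafification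
  have hlift : ∀ (T : Over S) (x : X.obj.obj (op T)),
      Presheaf.imageSieve η x ∈ QuotSh.J Scheme.etalePrecoverage S T := by
    intro T x
    obtain ⟨T₁, c, hc₁, hc₂, hc₃, a, ha⟩ : ∃ (T₁ : Over S) (c : T₁ ⟶ T), Flat c.left ∧
        Surjective c.left ∧ LocallyOfFinitePresentation c.left ∧
        ∃ a : (pyon S).obj T₁ ⟶ U.obj, (a ≫ p) ≫ η = (pyon S).map c ≫ CategoryTheory.uliftYonedaEquiv.{u + 1}.symm x := by
      have : Sheaf.IsLocallySurjective P := by
        change Presheaf.IsLocallySurjective (AlgSp.J S) (p ≫ η)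
        have : Presheaf.IsLocallySurjective (AlgSp.J S) p := ⟨fun {T} b => by
          obtain ⟨hP, hW, hs, hsm⟩ := h2 _ _ _ (IsPullback.of_hasPullback p (CategoryTheory.uliftYonedaEquiv.{u + 1}.symm b))
          have := imageSieve_mem_etale p h2 b
          exact etale_le_fppf _ this⟩
        infer_instance
      obtain ⟨T₁, c, l, h₁, h₂, h₃, hl⟩ := exists_single_cover_lift P
        ((sect (T := T) (F := X)).symm x)
      exact ⟨T₁, c, h₁, h₂, h₃, l.hom, (Category.assoc _ _ _).trans
        (congrArg (fun γ : (yon S).obj T₁ ⟶ X => γ.hom) hl)⟩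
    let ξ : (yon S).obj T ⟶ X := (sect (T := T) (F := X)).symm x
    have sqW := IsPullback.of_hasPullback P ξ
    have sqc := IsPullback.of_hasPullback (pullback.snd P ξ) ((yon S).map c)
    -- over the cover, the fibre product is the one of `p`
    have sq₁ := (sqc.paste_horiz sqW).map (sheafToPresheaf (AlgSp.J S) (Type (u + 1)))
    have sq₂ : IsPullback ((pullback.fst (pullback.snd P ξ) ((yon S).map c) ≫ pullback.fst P ξ).hom)
        ((pullback.snd (pullback.snd P ξ) ((yon S).map c)).hom) p (a ≫ p) := by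
      refine isPullback_of_mono_target η ?_
      exact (congrArg (IsPullback _ _ (p ≫ η)) ha).mpr sq₁
    obtain ⟨hP₁, hW₁, hs₁, hsm₁⟩ := h2 (a ≫ p) _ _ sq₂
    have hW : IsAlgSpace (pullback P ξ) := isAlgSpace_of_fppf (pullback.fst (pullback.snd P ξ) _)
      hW₁ (repWith_of_isPullback sqc.flip ((repWith_yon_map_iff _ _).2 hc₁))
      (repWith_of_isPullback sqc.flip ((repWith_yon_map_iff _ _).2 hc₃))
      (repWith_of_isPullback sqc.flip ((repWith_yon_map_iff _ _).2 hc₂))
    obtain ⟨V, l, v, hv, _, _⟩ := exists_smooth_chart hW (pullback.snd P ξ) c sqc hs₁ hsm₁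
    refine mem_etale_J_of_smooth v _ ⟨uliftYonedaEquiv ((l ≫ pullback.fst P ξ).hom ≫ p), ?_⟩
    refine (uliftYonedaEquiv_comp _ η).symm.trans ?_
    have e : ((l ≫ pullback.fst P ξ).hom ≫ p) ≫ η = (pyon S).map v ≫ CategoryTheory.uliftYonedaEquiv.{u + 1}.symm x :=
      (Category.assoc _ _ _).trans (congrArg (fun γ : (yon S).obj V ⟶ X => γ.hom)
        (show (l ≫ pullback.fst P ξ) ≫ P = (yon S).map v ≫ ξ by
          rw [Category.assoc, pullback.condition, ← Category.assoc, hv]))
    refine (congrArg _ e).trans ?_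
    exact uly_map v x
  have hF := (isSheaf_iff_isSheaf_of_type _ _).1 h1
  have hsurj : ∀ T, Function.Surjective (η.app (op T)) := by
    intro T x
    let K := Presheaf.imageSieve η x
    let y : Presieve.FamilyOfElements F K.arrows := fun T' f hf => hf.choose
    have hy : ∀ ⦃T'⦄ (f : T' ⟶ T) (hf : K f), η.app _ (y f hf) = X.obj.map f.op x :=
      fun T' f hf => hf.choose_spec
    have hyc : y.Compatible := fun Y₁ Y₂ Z g₁ g₂ f₁ f₂ h₁ h₂ ee => hinj Z (by
      rw [NatTrans.naturality_apply, NatTrans.naturality_apply, hy, hy, ← Functor.map_comp_apply,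
        ← Functor.map_comp_apply, ← op_comp, ← op_comp, ee])
    refine ⟨(hF K (hlift T x)).amalgamate y hyc, ?_⟩
    have hX := (isSheaf_iff_isSheaf_of_type _ _).1 X.property
    refine (hX K (etale_le_fppf _ (hlift T x))).isSeparatedFor.ext fun T' f hf => ?_
    rw [← NatTrans.naturality_apply, (hF K (hlift T x)).valid_glue hyc f hf, hy]
  have : ∀ T, IsIso (η.app T) := fun T =>
    (isIso_iff_bijective _).2 ⟨hinj T.unop, hsurj T.unop⟩
  have : IsIso η := NatIso.isIso_of_isIso_app η
  exact (Presheaf.isSheaf_of_iso_iff (asIso η)).2 X.property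

end Main

/-- **An etale sheaf with a smooth cover by an algebraic space is an algebraic space.** -/
theorem isAlgSpaceP_of_smooth_cover {F : PSp S}
    (h1 : Presheaf.IsSheaf (QuotSh.J Scheme.etalePrecoverage S) F) {U : Sp S} (hU : IsAlgSpace U)
    (p : U.obj ⟶ F) (h2 : RepBySpWith (IsSurjectiveMor ⊓ LocP @Smooth) p) : IsAlgSpaceP F := by
  have hF := isSheaf_fppf_of_smooth_cover h1 hU p h2
  refine ⟨hF, isAlgSpace_of_repBySp_fppf (F := ⟨F, hF⟩) (ObjectProperty.homMk p) hU ?_⟩
  intro T ξ F' fst snd sq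
  obtain ⟨h, hA, hs, hsm⟩ := h2 ξ fst snd sq
  exact ⟨h, hA, ⟨hs, locP_mono (fun _ _ f (_ : Smooth f) => (inferInstance : Flat f)) hsm⟩,
    locP_mono (fun _ _ f (_ : Smooth f) => (inferInstance : LocallyOfFinitePresentation f)) hsm⟩

/-- An etale cover by an algebraic space is a smooth cover. -/
theorem repBySpWith_smooth_of_etale {F G : PSp S} {p : F ⟶ G}
    (h : RepBySpWith (IsSurjectiveMor ⊓ IsEtaleMor) p) :
    RepBySpWith (IsSurjectiveMor ⊓ LocP @Smooth) p := by
  intro T ξ F' fst snd sq
  obtain ⟨h', hA, hs, he⟩ := h ξ fst snd sq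
  exact ⟨h', hA, hs, locP_of_isEtaleMor he⟩

/-- A representable etale surjection from a scheme is a smooth cover. -/
theorem repBySpWith_smooth_of_relative {F : PSp S} {U : Over S} (p : (pyon S).obj U ⟶ F)
    (he : (MorphismProperty.inverseImage @Etale (Over.forget S)).relative (pyon S) p)
    (hs : (MorphismProperty.inverseImage @Surjective (Over.forget S)).relative (pyon S) p) :
    RepBySpWith (IsSurjectiveMor ⊓ LocP @Smooth) p := by
  intro T ξ F' fst snd sq
  let sqR := he.1.isPullback ξ
  let e := sqR.isoIsPullback _ _ sq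
  have h : Presheaf.IsSheaf (AlgSp.J S) F' :=
    (Presheaf.isSheaf_of_iso_iff e).1 (isSheaf_pyon _)
  let e' : (yon S).obj (he.1.pullback ξ) ≅ (⟨F', h⟩ : Sp S) :=
    (fullyFaithfulSheafToPresheaf (AlgSp.J S) _).preimageIso
      (X := (yon S).obj (he.1.pullback ξ)) (Y := (⟨F', h⟩ : Sp S)) e
  let snd' : (⟨F', h⟩ : Sp S) ⟶ (yon S).obj T := ObjectProperty.homMk snd
  have hsnd : e'.hom ≫ snd' = (yon S).map (he.1.snd ξ) := by
    apply ObjectProperty.hom_ext
    exact sqR.isoIsPullback_hom_snd _ _ sq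
  have hE : RepWith @Etale snd' := (repWith_respectsIso_left e'.hom).1
    (hsnd ▸ (repWith_yon_map_iff _ _).2 (he.2 ξ _ _ sqR))
  have hS : RepWith @Surjective snd' := (repWith_respectsIso_left e'.hom).1
    (hsnd ▸ (repWith_yon_map_iff _ _).2 (hs.2 ξ _ _ sqR))
  exact ⟨h, (IsAlgSpace.yon_obj _).of_iso e', surjective_map_of_repWith hS,
    locP_mono (fun _ _ f (_ : Etale f) => (inferInstance : Smooth f))
      (locP_of_repWith (IsAlgSpace.yon_obj T) hE)⟩

end Groth.Agent.AlgSpace
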