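import Groth.Agent.Lib.AlgSpace.QfCover

/-!
# A sheaf with representable diagonal and a flat cover by a scheme is an algebraic space
-/

universe u

set_option backward.isDefEq.respectTransparency.types false
set_option linter.unusedVariables false

open CategoryTheory CategoryTheory.Limits AlgebraicGeometry Opposite

namespace Groth.Agent.AlgSpace

open AlgSp AlgSpDecent

variable {S : Scheme.{u}} {F : Sp S} {U : Over S} {p : (yon S).obj U ⟶ F}

/-- Every point of the source lifts to the universal pointed piece. -/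
theorem UnivPiece.surjective_u {hp : GoodMap p} (P : UnivPiece hp) (x₀ : ↥U.left) :
    ∃ z, P.u.left z = x₀ := by
  obtain ⟨uX, huX⟩ := (yon S).map_surjective (hp.sepLqf.1.fst p)
  let X := hp.sepLqf.1.pullback p
  let π : X ⟶ U := hp.sepLqf.1.snd p
  have sq : IsPullback ((yon S).map uX) ((yon S).map π) p p := huX ▸ hp.sepLqf.1.isPullback p
  have hπ := hp.sepLqf.2 p _ _ sq
  have : LocallyQuasiFinite π.left := hπ.1.1
  have : LocallyOfFiniteType π.left := hπ.1.2
  have : IsSeparated π.left := hπ.2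
  obtain ⟨e, he₁, he₂⟩ := square_lift sq (𝟙 U) (𝟙 U) rfl
  obtain ⟨T₁, ε, V, hεet, hV, hpts⟩ := PieceLocal.exists_piece_of_points π.left [e.left x₀]
  let Ti : Over S := Over.mk (ε ≫ U.hom)
  let ei : Ti ⟶ U := Over.homMk ε rfl
  let Xi : Over S := Over.mk (pullback.fst π.left ε ≫ X.hom)
  let qi : Xi ⟶ X := Over.homMk (pullback.fst π.left ε) rfl
  let ri : Xi ⟶ Ti := Over.homMk (pullback.snd π.left ε) (by
    change pullback.snd π.left ε ≫ ε ≫ U.hom = pullback.fst π.left ε ≫ X.hom
    rw [← pullback.condition_assoc, Over.w π])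
  have sqi : IsPullback qi ri π ei :=
    IsPullback.of_map_of_faithful (Over.forget S) (IsPullback.of_hasPullback π.left ε)
  have hpiece : IsPiece p ((yon S).map ei ≫ p) (pieceSet (qi ≫ uX) ri V) :=
    ⟨_, _, _, isPullback_comap sq sqi, V, hV, rfl⟩
  obtain ⟨c, hc₁, hc₂⟩ := exists_map_to_pieces (hp := hp) hpiece
  let K := AlgebraicClosure (U.left.residueField x₀)
  let zK : Spec (.of K) ⟶ U.left :=
    Spec.map (CommRingCat.ofHom (algebraMap (U.left.residueField x₀) K)) ≫
      U.left.fromSpecResidueField x₀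
  let pt : ↥(Spec (.of K)) := IsLocalRing.closedPoint K
  have hzK : zK pt = x₀ := Scheme.fromSpecResidueField_apply x₀ _
  have he₁' : e.left ≫ π.left = 𝟙 _ := congrArg CommaMorphism.left he₁
  obtain ⟨l, hl, hlw⟩ := hpts K zK [zK ≫ e.left] (by simp [pt] at *; exact congrArg e.left hzK)
    (by
      intro z hz
      rw [List.mem_singleton.1 hz, Category.assoc, he₁', Category.comp_id])
  let K' : Over S := Over.mk (zK ≫ U.hom)
  let k : K' ⟶ U := Over.homMk zK rfl
  let l' : K' ⟶ Ti := Over.homMk l (by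
    change l ≫ ε ≫ U.hom = zK ≫ U.hom
    rw [reassoc_of% hl])
  let w := sqi.lift (k ≫ e) l' (by
    rw [Category.assoc, he₁, Category.comp_id]
    exact (Over.OverMorphism.ext hl).symm)
  have hw₁ : w ≫ qi = k ≫ e := sqi.lift_fst _ _ _
  have hw₂ : w ≫ ri = l' := sqi.lift_snd _ _ _
  have hwV : w.left pt ∈ V := by
    refine (hlw w.left ?_).2 (List.mem_singleton.2 ?_)
    · exact congrArg CommaMorphism.left hw₂
    · exact congrArg CommaMorphism.left hw₁
  have hmem : (⟨K', (𝟙 K', k)⟩ : Σ T' : Over S, (T' ⟶ K') × (T' ⟶ U)) ∈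
      pieceOf ((yon S).map l' ≫ c) := by
    rw [pieceOf_comp, hc₂]
    refine ⟨w, hw₂.trans (Category.id_comp _).symm, ?_, fun t => ?_⟩
    · rw [← Category.assoc, hw₁, Category.assoc, he₂, Category.comp_id]
    · rw [show t = pt from Subsingleton.elim (α := PrimeSpectrum K) _ _]
      exact hwV
  obtain ⟨n, hn, -⟩ := P.lift _ _ hmem
  refine ⟨n.left pt, ?_⟩
  exact (congrArg (fun φ : K' ⟶ U => φ.left pt) hn).trans hzK

/-- A family of etale maps from schemes which is jointly surjective on points gives an atlas. -/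
theorem isAlgSpace_of_etale_family (hd : Representable (Limits.diag F)) {κ : Type u} (Q : κ → Over S)
    (q : ∀ k, (yon S).obj (Q k) ⟶ F) (he : ∀ k, RepWith @Etale (q k))
    (hs : ∀ x : Points F, ∃ k y, Points.ofPt (q k) y = x) : IsAlgSpace F := by
  let d : (∐ fun k => (Q k).left) ⟶ S := Sigma.desc fun k => (Q k).hom
  let A : Over S := Over.mk d
  let ι : ∀ k, Q k ⟶ A := fun k => Over.homMk (Sigma.ι (fun k => (Q k).left) k) (Sigma.ι_desc _ _)
  have hι : ∀ k, IsOpenImmersion (ι k).left := fun k =>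
    inferInstanceAs (IsOpenImmersion (Sigma.ι (fun k => (Q k).left) k))
  have hcov : ∀ x : ↥A.left, ∃ k y, (ι k).left y = x := fun x => by
    obtain ⟨k, y, hy⟩ := (sigmaOpenCover fun k => (Q k).left).exists_eq x
    exact ⟨k, y, hy⟩
  obtain ⟨L, hL, -⟩ := existsUnique_glue ι hι hcov q fun i j W a b h => by
    rcases eq_or_ne i j with rfl | hij
    · have := hι i
      have : Mono (ι i) := (Over.forget S).mono_of_mono_map (inferInstanceAs (Mono (ι i).left))
      rw [(cancel_mono (ι i)).1 h]
    · have : IsEmpty ↥W.left := ⟨fun w => by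
        have h₁ : Sigma.ι (fun k => (Q k).left) i (a.left w) = Sigma.ι (fun k => (Q k).left) j (b.left w) :=
          congrArg (fun φ : W ⟶ A => φ.left w) h
        have hd := disjoint_opensRange_sigmaι (fun k => (Q k).left) i j hij
        rw [disjoint_iff_inf_le] at hd
        exact hd (show _ ∈ (Sigma.ι (fun k => (Q k).left) i).opensRange ⊓
          (Sigma.ι (fun k => (Q k).left) j).opensRange from ⟨⟨a.left w, rfl⟩, ⟨b.left w, h₁.symm⟩⟩)⟩
      exact hom_ext_of_isEmpty _ _
  have hLr : Representable L := Functor.relativelyRepresentable.of_diag hd L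
  have hLe : RepWith @Etale L := by
    refine ⟨hLr, fun T V g fst snd sq => ?_⟩
    obtain ⟨f, rfl⟩ := (yon S).map_surjective fst
    refine (IsZariskiLocalAtSource.iff_of_openCover (P := @Etale) ⟨⟨κ,
      fun k => pullback (ι k).left f.left, fun k => pullback.snd _ _⟩, ?_⟩).2 fun k => ?_
    · rw [Scheme.presieve₀_mem_precoverage_iff]
      refine ⟨fun v => ?_, fun k => inferInstance⟩
      obtain ⟨k, y, hy⟩ := hcov (f.left v)
      obtain ⟨w, -, hw⟩ := Scheme.Pullback.exists_preimage_pullback (f := (ι k).left) (g := f.left) y v hy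
      exact ⟨k, w, hw⟩
    · let W : Over S := Over.mk (pullback.fst (ι k).left f.left ≫ (Q k).hom)
      let a : W ⟶ Q k := Over.homMk (pullback.fst (ι k).left f.left) rfl
      let b : W ⟶ V := Over.homMk (pullback.snd (ι k).left f.left) (by
        change pullback.snd (ι k).left f.left ≫ V.hom = pullback.fst (ι k).left f.left ≫ (Q k).hom
        rw [← Over.w f, ← pullback.condition_assoc, Over.w (ι k)])
      have sqW : IsPullback a b (ι k) f :=
        IsPullback.of_map_of_faithful (Over.forget S) (IsPullback.of_hasPullback _ _)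
      have sq' : IsPullback ((yon S).map a) ((yon S).map (b ≫ snd)) (q k) g := by
        rw [Functor.map_comp, ← hL k]
        exact (sqW.map (yon S)).paste_vert sq
      exact (he k).2 g _ _ sq'
  refine ⟨hd, A, L, hLe, repWith_surjective_of_ofPt hLr fun x => ?_⟩
  obtain ⟨k, y, rfl⟩ := hs x
  exact ⟨(ι k).left y, by rw [← hL k, ofPt_map_comp]⟩

/-- A sheaf with representable diagonal and a flat, surjective, locally finitely presented map from
a scheme is an algebraic space. -/
theorem isAlgSpace_of_flat_cover (hd : Representable (Limits.diag F)) (p : (yon S).obj U ⟶ F)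
    (hfl : RepWith @Flat p) (hfp : RepWith @LocallyOfFinitePresentation p)
    (hs : RepWith @Surjective p) : IsAlgSpace F := by
  obtain ⟨Y, g, h₁, h₂, h₃, h₄⟩ := exists_sepLqf_cover hd p hfl hfp hs
  let r := (yon S).map g ≫ p
  have hO : ∀ O : Y.left.affineOpens, GoodMap ((yon S).map (overArrow (O : Y.left.Opens).ι) ≫ r) := fun O => by
    have hι : IsOpenImmersion (overArrow (U := Y) (O : Y.left.Opens).ι).left :=
      inferInstanceAs (IsOpenImmersion (O : Y.left.Opens).ι)
    refine ⟨?_, repWith_comp ((repWith_yon_map_iff _ _).2 inferInstance) h₂,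
      repWith_comp ((repWith_yon_map_iff _ _).2 inferInstance) h₃⟩
    have : (sepLqf.{u}).IsStableUnderComposition := MorphismProperty.IsStableUnderComposition.inf
    refine repWith_comp ((repWith_yon_map_iff _ _).2 ?_) h₁
    exact ⟨⟨inferInstance, inferInstance⟩, inferInstance⟩
  let P : ∀ O : Y.left.affineOpens, UnivPiece (hO O) := fun O => (exists_univPiece (hO O)).some
  let κ := Σ O : Y.left.affineOpens, ↥(P O).Z.left
  have hch : ∀ k : κ, ∃ (Q : Over S) (b : (yon S).obj Q ⟶ F), RepWith @Etale b ∧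
      ∃ x, Points.ofPt b x = Points.ofPt r ((k.1 : Y.left.Opens).ι ((P k.1).u.left k.2)) := fun k => by
    have : IsAffine (Over.mk ((k.1 : Y.left.Opens).ι ≫ Y.hom)).left := k.1.2
    obtain ⟨Q, b, hb, x, hx⟩ := (P k.1).exists_chart k.2
    exact ⟨Q, b, hb, x, hx.trans (ofPt_map_comp _ _ _)⟩
  choose Q b hb x hx using hch
  refine isAlgSpace_of_etale_family hd Q b hb fun pt => ?_
  obtain ⟨y, rfl⟩ := surjective_ofPt h₄ pt
  obtain ⟨O, hO', hyO, -⟩ := exists_isAffineOpen_mem_and_subset (X := Y.left) (x := y) (U := ⊤) trivial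
  obtain ⟨z, hz⟩ := (P ⟨O, hO'⟩).surjective_u ⟨y, hyO⟩
  refine ⟨⟨⟨O, hO'⟩, z⟩, x _, ?_⟩
  rw [hx, hz]
  rfl

end Groth.Agent.AlgSpace
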