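import Groth.Agent.Lib.AlgSpace.FlatQuot
import Groth.Agent.Lib.AlgSpace.Coprod
import Groth.Agent.Lib.AlgSpDescent.Covers
import Groth.Prelude.Def_AlgSpCov

/-!
# Being an algebraic space is fppf local
-/

universe u

set_option backward.isDefEq.respectTransparency.types false
set_option linter.unusedVariables false

open CategoryTheory CategoryTheory.Limits AlgebraicGeometry Opposite

namespace Groth.Agent.AlgSpace

open AlgSp AlgSpDecent

variable {S : Scheme.{u}}

/-- A representable fppf cover is a cover representable by algebraic spaces. -/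
theorem repBySpWith_fppf_of_repWith {F G : Sp S} {f : F ⟶ G} (h₁ : RepWith @Flat f)
    (h₂ : RepWith @LocallyOfFinitePresentation f) (h₃ : RepWith @Surjective f) :
    RepBySpWith (IsSurjectiveMor ⊓ LocP @Flat ⊓ LocP @LocallyOfFinitePresentation) f.hom := by
  refine (repBySpWith_hom_iff _ f).2 fun T ξ P fst snd sq => ⟨?_, ⟨?_, ?_⟩, ?_⟩
  · obtain ⟨e⟩ : Nonempty ((yon S).obj (h₁.1.pullback ξ) ≅ P) := ⟨(h₁.1.isPullback ξ).isoIsPullback _ _ sq⟩
    exact (IsAlgSpace.yon_obj _).of_iso e
  · exact surjective_map_of_repWith (repWith_of_isPullback sq h₃)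
  · exact locP_of_repWith (IsAlgSpace.yon_obj T) (repWith_of_isPullback sq h₁)
  · exact locP_of_repWith (IsAlgSpace.yon_obj T) (repWith_of_isPullback sq h₂)

/-- A representable etale cover is an etale cover representable by algebraic spaces. -/
theorem repBySpWith_etale_of_repWith {F G : Sp S} {f : F ⟶ G} (h₁ : RepWith @Etale f)
    (h₃ : RepWith @Surjective f) : RepBySpWith (IsSurjectiveMor ⊓ IsEtaleMor) f.hom := by
  refine (repBySpWith_hom_iff _ f).2 fun T ξ P fst snd sq => ⟨?_, ?_, fun V φ hφ => ?_⟩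
  · obtain ⟨e⟩ : Nonempty ((yon S).obj (h₁.1.pullback ξ) ≅ P) := ⟨(h₁.1.isPullback ξ).isoIsPullback _ _ sq⟩
    exact (IsAlgSpace.yon_obj _).of_iso e
  · exact surjective_map_of_repWith (repWith_of_isPullback sq h₃)
  · exact repWith_comp hφ (repWith_of_isPullback sq h₁)

/-- Descent along a representable fppf cover. -/
theorem isAlgSpace_of_fppf {F X : Sp S} (p : X ⟶ F) (hX : IsAlgSpace X) (h₁ : RepWith @Flat p)
    (h₂ : RepWith @LocallyOfFinitePresentation p) (h₃ : RepWith @Surjective p) : IsAlgSpace F :=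
  isAlgSpace_of_repBySp_fppf p hX (repBySpWith_fppf_of_repWith h₁ h₂ h₃)

/-- Descent of `RepBySp` along a cover representable by algebraic spaces. -/
theorem repBySp_of_precomp_cover {F G H : Sp S} (a : F ⟶ G) (b : G ⟶ H)
    (ha : RepBySpWith (IsSurjectiveMor ⊓ LocP @Flat ⊓ LocP @LocallyOfFinitePresentation) a.hom)
    (hab : RepBySp (a ≫ b).hom) : RepBySp b.hom := by
  refine (repBySp_hom_iff b).2 fun T ξ G' fst snd sq => ?_
  have sqa := IsPullback.of_hasPullback a fst
  have hF' : IsAlgSpace (pullback a fst) := (repBySp_hom_iff (a ≫ b)).1 hab ξ (pullback.fst a fst)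
    (pullback.snd a fst ≫ snd) (sqa.flip.paste_horiz sq.flip).flip
  refine isAlgSpace_of_repBySp_fppf (pullback.snd a fst) hF' ((repBySpWith_hom_iff _ _).2 ?_)
  intro V η P p₁ p₂ sqP
  exact (repBySpWith_hom_iff _ a).1 ha (η ≫ fst) (p₁ ≫ pullback.fst a fst) p₂
    (sqP.paste_horiz sqa)

section Disjoint

variable {κ : Type u} {A : Over S} {Ti : κ → Over S} (ι : ∀ k, Ti k ⟶ A)

/-- A sheaf over a disjoint union which is an algebraic space over each part is one. -/
theorem isAlgSpace_of_disjoint (hι : ∀ k, IsOpenImmersion (ι k).left)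
    (hcov : ∀ x : ↥A.left, ∃ k y, (ι k).left y = x)
    (hdisj : ∀ i j, i ≠ j → ∀ y z, (ι i).left y ≠ (ι j).left z) {F : Sp S} (r : F ⟶ (yon S).obj A)
    (h : ∀ k, IsAlgSpace (pullback r ((yon S).map (ι k)))) : IsAlgSpace F := by
  have hmono : ∀ k, Mono (ι k) := fun k =>
    (Over.forget S).mono_of_mono_map (have := hι k; inferInstanceAs (Mono (ι k).left))
  let G : κ → Sp S := fun k => pullback r ((yon S).map (ι k))
  let c : Cofan G := Cofan.mk (∐ G) (Sigma.ι G)
  have hc : IsColimit c := coproductIsCoproduct G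
  let φ : c.pt ⟶ F := Sigma.desc fun k => pullback.fst r ((yon S).map (ι k))
  have hφ : ∀ k, c.inj k ≫ φ = pullback.fst r ((yon S).map (ι k)) := fun k => Sigma.ι_desc _ _
  have comp : ∀ {T : Over S} (x : (yon S).obj T ⟶ c.pt) {a : T ⟶ A} (_ : (yon S).map a = x ≫ φ ≫ r)
      (t : ↥T.left) {i : κ} (_ : t ∈ componentOpen hc x i), a.left t ∈ Set.range (ι i).left := by
    intro T x a ha t i hi
    obtain ⟨l, sq⟩ := exists_isPullback_component hc x i
    obtain ⟨m, hm⟩ := (yon S).map_surjective (l ≫ pullback.snd r ((yon S).map (ι i)))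
    refine ⟨m.left (⟨t, hi⟩ : ↥(componentOpen hc x i)), ?_⟩
    have e : m ≫ ι i = overArrow (componentOpen hc x i).ι ≫ a := by
      apply (yon S).map_injective
      rw [Functor.map_comp, hm, Functor.map_comp, ha, Category.assoc, ← pullback.condition,
        ← reassoc_of% sq.w, reassoc_of% hφ i]
    exact congrArg (fun f : _ ⟶ A => f.left (⟨t, hi⟩ : ↥(componentOpen hc x i))) e
  have : Mono φ := mono_of_yon _ fun T x y e => by
    obtain ⟨a, ha⟩ := (yon S).map_surjective (x ≫ φ ≫ r)
    have ha' : (yon S).map a = y ≫ φ ≫ r := by rw [ha, reassoc_of% e]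
    refine hom_ext_glue (fun k => overArrow (componentOpen hc x k).ι)
      (fun k => inferInstanceAs (IsOpenImmersion (componentOpen hc x k).ι))
      (fun t => by
        obtain ⟨k, hk⟩ := exists_mem_componentOpen hc x t
        exact ⟨k, ⟨t, hk⟩, rfl⟩) fun k => ?_
    obtain ⟨l, hl⟩ := exists_lift_component hc ((yon S).map (overArrow (componentOpen hc x k).ι) ≫ x)
      fun v => by rw [componentOpen_comp]; exact v.2
    obtain ⟨l', hl'⟩ := exists_lift_component hc ((yon S).map (overArrow (componentOpen hc x k).ι) ≫ y)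
      fun v => by
        rw [componentOpen_comp]
        obtain ⟨j, hj⟩ := exists_mem_componentOpen hc y v.1
        obtain ⟨z, hz⟩ := comp x ha v.1 v.2
        obtain ⟨z', hz'⟩ := comp y ha' v.1 hj
        rcases eq_or_ne k j with rfl | hkj
        · exact hj
        · exact absurd (hz.trans hz'.symm) (hdisj k j hkj z z')
    rw [← hl, ← hl']
    refine congrArg (· ≫ _) ?_
    have := hmono k
    have hf : l ≫ pullback.fst r ((yon S).map (ι k)) = l' ≫ pullback.fst r ((yon S).map (ι k)) := by
      rw [← hφ, reassoc_of% hl, reassoc_of% hl', e]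
    refine pullback.hom_ext hf ?_
    rw [← cancel_mono ((yon S).map (ι k)), Category.assoc, Category.assoc, ← pullback.condition,
      reassoc_of% hf]
  have : IsIso φ := isIso_of_mono_of_lifts φ fun T g => by
    obtain ⟨a, ha⟩ := (yon S).map_surjective (g ≫ r)
    let O : κ → T.left.Opens := fun k => a.left ⁻¹ᵁ (have := hι k; (ι k).left.opensRange)
    have key : ∀ k, ∃ l : (yon S).obj (Over.mk ((O k).ι ≫ T.hom)) ⟶ c.pt,
        l ≫ φ = (yon S).map (overArrow (O k).ι) ≫ g := fun k => by
      have := hι k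
      have hr : Set.range ((O k).ι ≫ a.left) ⊆ Set.range (ι k).left := by
        rintro _ ⟨v, rfl⟩; exact v.2
      let m : Over.mk ((O k).ι ≫ T.hom) ⟶ Ti k := Over.homMk (IsOpenImmersion.lift _ _ hr) (by
        change _ ≫ (Ti k).hom = (O k).ι ≫ T.hom
        rw [← Over.w (ι k), IsOpenImmersion.lift_fac_assoc, Category.assoc, Over.w a])
      have hm : m ≫ ι k = overArrow (O k).ι ≫ a := Over.OverMorphism.ext (IsOpenImmersion.lift_fac _ _ _)
      exact ⟨pullback.lift ((yon S).map (overArrow (O k).ι) ≫ g) ((yon S).map m)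
        (by rw [Category.assoc, ← ha, ← Functor.map_comp, ← Functor.map_comp, hm]) ≫ c.inj k,
        by rw [Category.assoc, hφ, pullback.lift_fst]⟩
    choose l hl using key
    obtain ⟨L, hL, -⟩ := existsUnique_glue (fun k => overArrow (U := T) (O k).ι)
      (fun k => inferInstanceAs (IsOpenImmersion (O k).ι))
      (fun t => by
        obtain ⟨k, y, hy⟩ := hcov (a.left t)
        exact ⟨k, ⟨t, ⟨y, hy⟩⟩, rfl⟩) l fun i j W p q e => by
          rw [← cancel_mono φ, Category.assoc, Category.assoc, hl, hl, ← Functor.map_comp_assoc,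
            ← Functor.map_comp_assoc, e]
    refine ⟨L, hom_ext_glue (fun k => overArrow (U := T) (O k).ι)
      (fun k => inferInstanceAs (IsOpenImmersion (O k).ι))
      (fun t => by
        obtain ⟨k, y, hy⟩ := hcov (a.left t)
        exact ⟨k, ⟨t, ⟨y, hy⟩⟩, rfl⟩) fun k => ?_⟩
    rw [← Category.assoc, hL, hl]
  exact (isAlgSpace_cofan hc h).of_iso (asIso φ)

end Disjoint

/-- Being an algebraic space is fppf local on the base scheme. -/
theorem isAlgSpace_of_base_cover {F : Sp S} {κ : Type u} (Si : κ → Over S)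
    (hfl : ∀ i, Flat (Si i).hom) (hfp : ∀ i, LocallyOfFinitePresentation (Si i).hom)
    (hsurj : ∀ x : ↥S, ∃ (i : κ) (y : ↥(Si i).left), (Si i).hom.base y = x)
    (h : ∀ i, IsAlgSpace ((yon S).obj (Si i) ⨯ F)) : IsAlgSpace F := by
  let A : Over S := Over.mk (Sigma.desc fun i => (Si i).hom)
  let ι : ∀ i, Si i ⟶ A := fun i => Over.homMk (Sigma.ι (fun i => (Si i).left) i) (Sigma.ι_desc _ _)
  have hcov : ∀ x : ↥A.left, ∃ k y, (ι k).left y = x := fun x => by
    obtain ⟨k, y, hy⟩ := (sigmaOpenCover fun i => (Si i).left).exists_eq x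
    exact ⟨k, y, hy⟩
  have hA : IsAlgSpace ((yon S).obj A ⨯ F) := by
    refine isAlgSpace_of_disjoint ι (fun i => inferInstanceAs (IsOpenImmersion (Sigma.ι _ i))) hcov
      (fun i j hij y z e => ?_) (Limits.prod.fst) fun i => ?_
    · have hd := disjoint_opensRange_sigmaι (fun k => (Si k).left) i j hij
      rw [disjoint_iff_inf_le] at hd
      exact hd (show _ ∈ (Sigma.ι (fun k => (Si k).left) i).opensRange ⊓
        (Sigma.ι (fun k => (Si k).left) j).opensRange from ⟨⟨y, rfl⟩, ⟨z, e.symm⟩⟩)
    · exact (h i).of_iso ((isPullback_prod_map_left ((yon S).map (ι i)) F).isoPullback ≪≫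
        pullbackSymmetry _ _)
  have hAfl : Flat A.hom := IsZariskiLocalAtSource.sigmaDesc (P := @Flat) hfl
  have hAfp : LocallyOfFinitePresentation A.hom :=
    IsZariskiLocalAtSource.sigmaDesc (P := @LocallyOfFinitePresentation) hfp
  have hAs : Surjective A.hom := ⟨fun x => by
    obtain ⟨i, y, hy⟩ := hsurj x
    refine ⟨(ι i).left y, ?_⟩
    rw [← Scheme.Hom.comp_apply, Over.w (ι i)]
    exact hy⟩
  have key : ∀ ⦃T : Over S⦄ (ξ : (yon S).obj T ⟶ F), ∃ (W : Over S) (fst : (yon S).obj W ⟶ (yon S).obj A ⨯ F)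
      (w : W ⟶ T) (a : W.left ⟶ A.left), IsPullback a w.left A.hom T.hom ∧
      IsPullback fst ((yon S).map w) Limits.prod.snd ξ := fun T ξ => by
    let W : Over S := Over.mk (pullback.fst A.hom T.hom ≫ A.hom)
    let p₁ : W ⟶ A := Over.homMk (pullback.fst A.hom T.hom) rfl
    let p₂ : W ⟶ T := Over.homMk (pullback.snd A.hom T.hom) pullback.condition.symm
    have w : prod.lift ((yon S).map p₁) ((yon S).map p₂ ≫ ξ) ≫ Limits.prod.snd =
        (yon S).map p₂ ≫ ξ := prod.lift_snd _ _
    let c := pullback.lift _ _ w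
    have hc : ∀ {V : Over S} (n : V ⟶ W),
        (yon S).map n ≫ c ≫ pullback.fst _ _ ≫ Limits.prod.fst = (yon S).map (n ≫ p₁) ∧
        (yon S).map n ≫ c ≫ pullback.snd _ _ = (yon S).map (n ≫ p₂) := fun n => by
      constructor <;> simp [c, pullback.lift_fst, pullback.lift_snd, pullback.lift_fst_assoc, prod.lift_fst]
    have : Mono c := mono_of_yon _ fun V x y e => by
      obtain ⟨x, rfl⟩ := (yon S).map_surjective x
      obtain ⟨y, rfl⟩ := (yon S).map_surjective y
      have e₁ := (hc x).1.symm.trans (((Category.assoc _ _ _).symm.trans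
        ((congrArg (· ≫ _) e).trans (Category.assoc _ _ _))).trans (hc y).1)
      have e₂ := (hc x).2.symm.trans (((Category.assoc _ _ _).symm.trans
        ((congrArg (· ≫ _) e).trans (Category.assoc _ _ _))).trans (hc y).2)
      exact congrArg _ (Over.OverMorphism.ext (pullback.hom_ext
        (congrArg CommaMorphism.left ((yon S).map_injective e₁))
        (congrArg CommaMorphism.left ((yon S).map_injective e₂))))
    have : IsIso c := isIso_of_mono_of_lifts c fun V z => by
      obtain ⟨x, hx⟩ := (yon S).map_surjective (z ≫ pullback.fst _ _ ≫ Limits.prod.fst)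
      obtain ⟨y, hy⟩ := (yon S).map_surjective (z ≫ pullback.snd _ _)
      let n : V ⟶ W := Over.homMk (pullback.lift x.left y.left ((Over.w x).trans (Over.w y).symm)) (by
        change _ ≫ pullback.fst A.hom T.hom ≫ A.hom = V.hom
        rw [pullback.lift_fst_assoc, Over.w x])
      have hn₁ : n ≫ p₁ = x := Over.OverMorphism.ext (pullback.lift_fst _ _ _)
      have hn₂ : n ≫ p₂ = y := Over.OverMorphism.ext (pullback.lift_snd _ _ _)
      refine ⟨(yon S).map n, pullback.hom_ext (Limits.prod.hom_ext ?_ ?_) ?_⟩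
      · simp only [Category.assoc]
        rw [(hc n).1, hn₁, hx]
      · simp only [Category.assoc, pullback.condition]
        rw [← Category.assoc c, ← Category.assoc ((yon S).map n), (hc n).2, hn₂, hy, Category.assoc]
      · rw [Category.assoc, (hc n).2, hn₂, hy]
    exact ⟨W, _, p₂, pullback.fst A.hom T.hom, IsPullback.of_hasPullback _ _,
      IsPullback.of_iso_pullback ⟨w⟩ (asIso c) (pullback.lift_fst _ _ _) (pullback.lift_snd _ _ _)⟩
  refine isAlgSpace_of_fppf (Limits.prod.snd : (yon S).obj A ⨯ F ⟶ F) hA (repWith_mk fun T ξ => ?_)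
    (repWith_mk fun T ξ => ?_) (repWith_mk fun T ξ => ?_) <;> obtain ⟨W, fst, w, a, sqa, sq⟩ := key ξ
  · exact ⟨W, fst, w, sq, MorphismProperty.of_isPullback sqa hAfl⟩
  · exact ⟨W, fst, w, sq, MorphismProperty.of_isPullback sqa hAfp⟩
  · exact ⟨W, fst, w, sq, MorphismProperty.of_isPullback sqa hAs⟩

/-- Descent data for algebraic spaces along fppf coverings of algebraic spaces are effective. -/
theorem isAlgSpace_of_fppf_cover {X : Sp S} (hX : IsAlgSpace X) {κ : Type u} {Xi : κ → Sp S}
    (hXi : ∀ i, IsAlgSpace (Xi i)) {g : ∀ i, Xi i ⟶ X} (hcov : IsFppfCover Xi g) {F : Sp S}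
    (p : F ⟶ X) (h : ∀ i, IsAlgSpace (pullback p (g i))) : IsAlgSpace F := by
  obtain ⟨V, a, hae, has⟩ := hX.atlas
  obtain ⟨W, c, l, hc, hl, hs⟩ := AlgSpDescent.exists_lifts_of_bc hX hXi
    (AlgSpDescent.bc_fppf_of_isFppfCover hX hXi hcov) hcov.2 V a
  let Y : Over S := Over.mk (Sigma.desc fun i => (W i).hom)
  let ι : ∀ i, W i ⟶ Y := fun i => Over.homMk (Sigma.ι (fun i => (W i).left) i) (Sigma.ι_desc _ _)
  let v : Y ⟶ V := Over.homMk (Sigma.desc fun i => (c i).left) (Sigma.hom_ext _ _ fun i => by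
    rw [Sigma.ι_desc_assoc]
    exact (Over.w (c i)).trans (Sigma.ι_desc (fun i => (W i).hom) i).symm)
  have hιv : ∀ i, ι i ≫ v = c i := fun i => Over.OverMorphism.ext (Sigma.ι_desc _ _)
  have hcovY : ∀ x : ↥Y.left, ∃ k y, (ι k).left y = x := fun x => by
    obtain ⟨k, y, hy⟩ := (sigmaOpenCover fun i => (W i).left).exists_eq x
    exact ⟨k, y, hy⟩
  have hvfl : Flat v.left := IsZariskiLocalAtSource.sigmaDesc (P := @Flat) fun i => (hc i).1
  have hvfp : LocallyOfFinitePresentation v.left :=
    IsZariskiLocalAtSource.sigmaDesc (P := @LocallyOfFinitePresentation) fun i => (hc i).2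
  have hvs : Surjective v.left := ⟨fun z => by
    obtain ⟨i, y, hy⟩ := hs z
    exact ⟨(ι i).left y, (congrArg (fun f : W i ⟶ V => f.left y) (hιv i)).trans hy⟩⟩
  let FV := pullback p a
  let FY := pullback (pullback.snd p a) ((yon S).map v)
  have hFY : IsAlgSpace FY := by
    refine isAlgSpace_of_disjoint ι (fun i => inferInstanceAs (IsOpenImmersion (Sigma.ι _ i))) hcovY
      (fun i j hij y z e => ?_) (pullback.snd (pullback.snd p a) ((yon S).map v)) fun i => ?_
    · have hd := disjoint_opensRange_sigmaι (fun k => (W k).left) i j hij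
      rw [disjoint_iff_inf_le] at hd
      exact hd (show _ ∈ (Sigma.ι (fun k => (W k).left) i).opensRange ⊓
        (Sigma.ι (fun k => (W k).left) j).opensRange from ⟨⟨y, rfl⟩, ⟨z, e.symm⟩⟩)
    · have sq₁ := ((IsPullback.of_hasPullback (pullback.snd (pullback.snd p a) ((yon S).map v))
        ((yon S).map (ι i))).paste_horiz (IsPullback.of_hasPullback (pullback.snd p a)
        ((yon S).map v))).paste_horiz (IsPullback.of_hasPullback p a)
      have e : ((yon S).map (ι i) ≫ (yon S).map v) ≫ a = l i ≫ g i := by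
        rw [← Functor.map_comp, hιv, hl]
      rw [e] at sq₁
      have sqg := IsPullback.of_hasPullback p (g i)
      have sq₂ : IsPullback (sqg.lift _ (pullback.snd _ ((yon S).map (ι i)) ≫ l i)
          (by rw [Category.assoc]; exact sq₁.w)) (pullback.snd _ ((yon S).map (ι i)))
          (pullback.snd p (g i)) (l i) :=
        IsPullback.of_right (by rw [sqg.lift_fst]; exact sq₁) (sqg.lift_snd _ _ _) sqg
      exact isAlgSpace_pullback (hXi i) (h i) (IsAlgSpace.yon_obj _) sq₂
  have hFV : IsAlgSpace FV := by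
    have sq := IsPullback.of_hasPullback (pullback.snd p a) ((yon S).map v)
    exact isAlgSpace_of_fppf (pullback.fst (pullback.snd p a) ((yon S).map v)) hFY
      (repWith_of_isPullback sq.flip ((repWith_yon_map_iff _ _).2 hvfl))
      (repWith_of_isPullback sq.flip ((repWith_yon_map_iff _ _).2 hvfp))
      (repWith_of_isPullback sq.flip ((repWith_yon_map_iff _ _).2 hvs))
  have sq := IsPullback.of_hasPullback p a
  exact isAlgSpace_of_repBySp_etale (pullback.fst p a) hFV (repBySpWith_etale_of_repWith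
    (repWith_of_isPullback sq.flip hae) (repWith_of_isPullback sq.flip has))

/-- The quotient map of a flat equivalence relation is a cover. -/
theorem quotSpπ_cover {R U : Sp S} (hR : IsAlgSpace R) (hU : IsAlgSpace U) {s t : R ⟶ U}
    (h : IsEqvRelSp s t) (hfl : LocP @Flat s) (hfp : LocP @LocallyOfFinitePresentation s)
    (hF : IsAlgSpace (quotSp s t)) :
    IsSurjectiveMor (quotSpπ s t) ∧ LocP @Flat (quotSpπ s t) ∧
      LocP @LocallyOfFinitePresentation (quotSpπ s t) := by
  have sq := isPullback_quotSp h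
  have : Epi (quotSpπ s t) := inferInstanceAs (Epi (coequalizer.π s t))
  have hls : Sheaf.IsLocallySurjective (quotSpπ s t) := by
    rw [CategoryTheory.Sheaf.isLocallySurjective_iff_epi]; infer_instance
  obtain ⟨V, b, hbe, hbs⟩ := hF.atlas
  have sqb := IsPullback.of_hasPullback (quotSpπ s t) b
  have hP : IsAlgSpace (pullback (quotSpπ s t) b) := isAlgSpace_pullback hF hU (IsAlgSpace.yon_obj V) sqb
  obtain ⟨W, c, d₁, _, _, _, hd⟩ := exists_single_cover_lift (quotSpπ s t) b
  -- after base change along `W`, the map becomes a base change of `s`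
  have sqW := IsPullback.of_hasPullback (pullback.snd (quotSpπ s t) b) ((yon S).map c)
  have sqWb := sqW.paste_horiz sqb
  rw [← hd] at sqWb
  let m := sq.lift (pullback.fst (pullback.snd (quotSpπ s t) b) ((yon S).map c) ≫ pullback.fst (quotSpπ s t) b)
    (pullback.snd (pullback.snd (quotSpπ s t) b) ((yon S).map c) ≫ d₁)
    (by rw [Category.assoc (pullback.snd _ _)]; exact sqWb.w)
  have sqm : IsPullback m (pullback.snd (pullback.snd (quotSpπ s t) b) ((yon S).map c)) s d₁ :=
    IsPullback.of_right (by rw [sq.lift_fst]; exact sqWb) (sq.lift_snd _ _ _) sq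
  have hW := isAlgSpace_pullback (IsAlgSpace.yon_obj V) hP (IsAlgSpace.yon_obj W) sqW
  have h₁ := locP_of_isPullback hR hU (IsAlgSpace.yon_obj W) sqm hfl
  have h₂ := locP_of_isPullback hR hU (IsAlgSpace.yon_obj W) sqm hfp
  obtain ⟨O, o, hoe, hos⟩ := hW.atlas
  obtain ⟨k, hk⟩ := (yon S).map_surjective
    (o ≫ pullback.snd (pullback.snd (quotSpπ s t) b) ((yon S).map c))
  obtain ⟨U₀, a, hae, has⟩ := hP.atlas
  obtain ⟨j, hj⟩ := (yon S).map_surjective (a ≫ pullback.snd (quotSpπ s t) b)
  have sqj := IsPullback.of_hasPullback j c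
  let o' : (yon S).obj (Limits.pullback j c) ⟶ _ := sqW.lift ((yon S).map (pullback.fst j c) ≫ a) ((yon S).map (pullback.snd j c))
    (by rw [Category.assoc, ← hj, ← Functor.map_comp, ← Functor.map_comp, pullback.condition])
  have ho' : IsPullback ((yon S).map (pullback.fst j c)) o' a (pullback.fst _ _) :=
    IsPullback.of_bot (by rw [sqW.lift_snd, ← hj]; exact sqj.map (yon S)) (sqW.lift_fst _ _ _).symm sqW
  have ho'e : RepWith @Etale o' := repWith_of_isPullback ho' hae
  have w : o' ≫ pullback.snd _ ((yon S).map c) = (yon S).map (pullback.snd j c) ≫ 𝟙 _ := by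
    rw [sqW.lift_snd, Category.comp_id]
  have hj₁ : Flat (pullback.snd j c).left := h₁ o' (𝟙 _) _ ho'e (repWith_id _ _) w
  have hj₂ : LocallyOfFinitePresentation (pullback.snd j c).left := h₂ o' (𝟙 _) _ ho'e (repWith_id _ _) w
  have hjfl : Flat j.left := by
    have := descendsAlong_flat.{u}
    exact MorphismProperty.of_isPullback_of_descendsAlong
      (Q := (@Surjective ⊓ @Flat ⊓ @LocallyOfFinitePresentation : MorphismProperty Scheme.{u}))
      (sqj.map (Over.forget S)).flip ⟨⟨‹_›, ‹_›⟩, ‹_›⟩ hj₁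
  have hjfp : LocallyOfFinitePresentation j.left :=
    MorphismProperty.of_isPullback_of_descendsAlong
      (Q := (@Surjective ⊓ @Flat ⊓ @LocallyOfFinitePresentation : MorphismProperty Scheme.{u}))
      (sqj.map (Over.forget S)).flip ⟨⟨‹_›, ‹_›⟩, ‹_›⟩ hj₂
  have hae' := repWith_comp hae (repWith_of_isPullback sqb.flip hbe)
  have has' := repWith_comp has (repWith_of_isPullback sqb.flip hbs)
  have wj : (a ≫ pullback.fst (quotSpπ s t) b) ≫ quotSpπ s t = (yon S).map j ≫ b := by
    rw [Category.assoc, pullback.condition, ← Category.assoc, hj]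
  refine ⟨fun x => ?_, locP_of_one_chart _ b j hae' has' hbe wj hjfl,
    locP_of_one_chart _ b j hae' has' hbe wj hjfp⟩
  obtain ⟨T, g, z, rfl⟩ := exists_ofPt_eq x
  obtain ⟨T', e, l', h₁', h₂', h₃', hl'⟩ := exists_single_cover_lift (quotSpπ s t) g
  obtain ⟨z', rfl⟩ := e.left.surjective z
  exact ⟨Points.ofPt l' z', by rw [Points.map_ofPt, hl', ofPt_map_comp]⟩

end Groth.Agent.AlgSpace
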