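import Groth.Agent.Lib.AlgSpace.Quot
import Groth.Agent.Lib.HTop25.Basic
import Groth.Agent.Lib.AlgSpace.MorDiag
import Mathlib.AlgebraicGeometry.Morphisms.Finite
import Mathlib.AlgebraicGeometry.EffectiveEpi
import Mathlib.CategoryTheory.Limits.Preserves.Basic

/-!
# Quotients by free actions of abstract groups
-/

universe u

set_option backward.isDefEq.respectTransparency.types false
set_option linter.unusedVariables false

open CategoryTheory CategoryTheory.Limits AlgebraicGeometry Opposite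

namespace Groth.Agent.FreeQuot14

open AlgSp Groth.Agent.AlgSpace

variable {S : Scheme.{u}} {U : Over S} {G : Type u} [Group G] (ρ : G →* Aut U)

/-- No non-identity element fixes a point and its residue field. -/
abbrev IsFreeAct : Prop := ∀ (g : G) (x : U.left), g ≠ 1 →
  U.left.fromSpecResidueField x ≫ (ρ g).hom.left ≠ U.left.fromSpecResidueField x

variable {ρ}

theorem ρ_mul_hom (g g' : G) : (ρ (g * g')).hom = (ρ g').hom ≫ (ρ g).hom := by
  rw [map_mul]; rfl

theorem ρ_one_hom : (ρ 1).hom = 𝟙 U := by rw [map_one]; rfl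

theorem eq_of_free (hfree : IsFreeAct ρ) {T : Over S} (u : T ⟶ U) {g g' : G}
    (h : u ≫ (ρ g).hom = u ≫ (ρ g').hom) (t : ↥T.left) : g = g' := by
  by_contra hne
  have h1 : u ≫ (ρ (g'⁻¹ * g)).hom = u := by
    rw [ρ_mul_hom, ← Category.assoc, h, Category.assoc, ← ρ_mul_hom, inv_mul_cancel, ρ_one_hom,
      Category.comp_id]
  have h2 := congrArg (fun k : T ⟶ U => k.left) h1
  simp only [Over.comp_left] at h2
  refine hfree (g'⁻¹ * g) (u.left t) (fun e => hne (inv_mul_eq_one.1 e).symm) ?_
  let σ := Spec.map (u.left.residueFieldMap t)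
  have hσ : σ ≫ U.left.fromSpecResidueField (u.left t) = T.left.fromSpecResidueField t ≫ u.left :=
    Scheme.Hom.SpecMap_residueFieldMap_fromSpecResidueField _ _
  have : Flat σ := by
    rw [Flat.SpecMap_iff]
    algebraize [(u.left.residueFieldMap t).hom]
    have hff : Module.Flat (U.left.residueField (u.left t)) (T.left.residueField t) := inferInstance
    exact hff
  have : Surjective σ := ⟨fun x => ⟨IsLocalRing.closedPoint _, Subsingleton.elim _ _⟩⟩
  have : Epi σ := Flat.epi_of_flat_of_surjective σ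
  rw [← cancel_epi σ, ← Category.assoc, hσ, Category.assoc, h2]

variable {c : Cofan (fun _ : G => U)} (hc : IsColimit c)

include hc

omit [Group G] in
theorem exists_sigma_iso : ∃ e : (∐ fun _ : G => U.left) ≅ c.pt.left,
    ∀ g, Sigma.ι (fun _ : G => U.left) g ≫ e.hom = (c.inj g).left := by
  have hc' := isColimitCofanMkObjOfIsColimit (Over.forget S) _ _
    (IsColimit.ofIsoColimit hc (Cofan.ext (Iso.refl _) (fun _ => by simp) :
      c ≅ Cofan.mk c.pt c.inj))
  exact ⟨(hc'.coconePointUniqueUpToIso (coproductIsCoproduct fun _ : G => U.left)).symm,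
    fun g => hc'.comp_coconePointUniqueUpToIso_inv (coproductIsCoproduct fun _ : G => U.left) ⟨g⟩⟩

omit [Group G] in
theorem isOpenImmersion_inj (g : G) : IsOpenImmersion (c.inj g).left := by
  obtain ⟨e, he⟩ := exists_sigma_iso hc
  rw [← he]
  infer_instance

omit [Group G] in
theorem exists_inj_eq (x : ↥c.pt.left) : ∃ g y, (c.inj g).left y = x := by
  obtain ⟨e, he⟩ := exists_sigma_iso hc
  obtain ⟨g, y, hy⟩ := HTop25.exists_sigma_ι (Y := fun _ : G => U.left) (e.inv x)
  refine ⟨g, y, ?_⟩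
  rw [← he, Scheme.Hom.comp_apply, hy, ← Scheme.Hom.comp_apply, e.inv_hom_id]
  rfl

variable {s t : c.pt ⟶ U} (hs : ∀ g, c.inj g ≫ s = 𝟙 U) (ht : ∀ g, c.inj g ≫ t = (ρ g).hom)

include hs ht in
/-- Points of the relation are locally given by a group element. -/
theorem exists_local {T : Over S} (r : T ⟶ c.pt) (x : ↥T.left) : ∃ (O : T.left.Opens) (g : G),
    x ∈ O ∧ overArrow O.ι ≫ r = (overArrow O.ι ≫ r ≫ s) ≫ c.inj g ∧
      (overArrow O.ι ≫ r ≫ s) ≫ (ρ g).hom = overArrow O.ι ≫ r ≫ t := by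
  obtain ⟨g, y, hy⟩ := exists_inj_eq hc (r.left x)
  have := isOpenImmersion_inj hc g
  let O : T.left.Opens := r.left ⁻¹ᵁ (c.inj g).left.opensRange
  have hr : Set.range (O.ι ≫ r.left) ⊆ Set.range (c.inj g).left := by
    rintro _ ⟨z, rfl⟩
    exact z.2
  let l : Over.mk (O.ι ≫ T.hom) ⟶ U := Over.homMk (IsOpenImmersion.lift (c.inj g).left _ hr) (by
    rw [← Over.w (c.inj g), IsOpenImmersion.lift_fac_assoc, Category.assoc, Over.w r]; rfl)
  have hl : l ≫ c.inj g = overArrow O.ι ≫ r :=
    Over.OverMorphism.ext (IsOpenImmersion.lift_fac _ _ _)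
  have hl' : overArrow O.ι ≫ r ≫ s = l := by
    rw [← Category.assoc, ← hl, Category.assoc, hs, Category.comp_id]
  refine ⟨O, g, ⟨y, hy⟩, by rw [hl', hl], ?_⟩
  rw [hl', ← ht, ← Category.assoc, hl, Category.assoc]

include hs ht in
theorem injective (hfree : IsFreeAct ρ) (T : Over S) (r r' : T ⟶ c.pt) (h₁ : r ≫ t = r' ≫ t)
    (h₂ : r ≫ s = r' ≫ s) : r = r' := by
  choose O g hO hO₁ hO₂ using exists_local hc hs ht r
  choose O' g' hO' hO₁' hO₂' using exists_local hc hs ht r'
  refine (yon S).map_injective (hom_ext_glue (T' := fun x => Over.mk ((O x ⊓ O' x).ι ≫ T.hom))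
    (fun x => overArrow (O x ⊓ O' x).ι) (fun x => inferInstanceAs (IsOpenImmersion (O x ⊓ O' x).ι))
    (fun x => ⟨x, ⟨x, hO x, hO' x⟩, rfl⟩) fun x => ?_)
  rw [← Functor.map_comp, ← Functor.map_comp]
  refine congrArg _ ?_
  let a : Over.mk ((O x ⊓ O' x).ι ≫ T.hom) ⟶ Over.mk ((O x).ι ≫ T.hom) :=
    Over.homMk (T.left.homOfLE inf_le_left) (by simp)
  let a' : Over.mk ((O x ⊓ O' x).ι ≫ T.hom) ⟶ Over.mk ((O' x).ι ≫ T.hom) :=
    Over.homMk (T.left.homOfLE inf_le_right) (by simp)
  let π : Over.mk ((O x ⊓ O' x).ι ≫ T.hom) ⟶ T := overArrow (O x ⊓ O' x).ι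
  have ha : a ≫ overArrow (O x).ι = π := Over.OverMorphism.ext (by simp [a, π, overArrow])
  have ha' : a' ≫ overArrow (O' x).ι = π := Over.OverMorphism.ext (by simp [a', π, overArrow])
  change π ≫ r = π ≫ r'
  have e := congrArg (a ≫ ·) (hO₁ x)
  have e' := congrArg (a' ≫ ·) (hO₁' x)
  have q := congrArg (a ≫ ·) (hO₂ x)
  have q' := congrArg (a' ≫ ·) (hO₂' x)
  simp only [← Category.assoc, ha, ha'] at e e' q q'
  rw [e, e', show (π ≫ r) ≫ s = (π ≫ r') ≫ s by rw [Category.assoc, h₂, Category.assoc]]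
  rw [show (π ≫ r) ≫ s = (π ≫ r') ≫ s by rw [Category.assoc, h₂, Category.assoc],
    show (π ≫ r) ≫ t = (π ≫ r') ≫ t by rw [Category.assoc, h₁, Category.assoc], ← q'] at q
  rw [eq_of_free hfree _ q ⟨x, hO x, hO' x⟩]

include hs ht in
theorem exists_rel (hfree : IsFreeAct ρ) {T : Over S} (a b : T ⟶ U)
    (h : ∀ x : ↥T.left, ∃ (O : T.left.Opens) (g : G), x ∈ O ∧
      (overArrow O.ι ≫ b) ≫ (ρ g).hom = overArrow O.ι ≫ a) :
    ∃ r : T ⟶ c.pt, r ≫ t = a ∧ r ≫ s = b := by
  choose O g hO hg using h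
  let π : ∀ x, Over.mk ((O x).ι ≫ T.hom) ⟶ T := fun x => overArrow (O x).ι
  have hπ : ∀ x, IsOpenImmersion (π x).left := fun x => inferInstanceAs (IsOpenImmersion (O x).ι)
  have hcov : ∀ z : ↥T.left, ∃ x v, (π x).left v = z := fun z => ⟨z, ⟨z, hO z⟩, rfl⟩
  let l : ∀ x, Over.mk ((O x).ι ≫ T.hom) ⟶ c.pt := fun x => (π x ≫ b) ≫ c.inj (g x)
  have hls : ∀ x, l x ≫ s = π x ≫ b := fun x => by rw [Category.assoc, hs, Category.comp_id]
  have hlt : ∀ x, l x ≫ t = π x ≫ a := fun x => by rw [Category.assoc, ht]; exact hg x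
  obtain ⟨R, hR, -⟩ := existsUnique_glue π hπ hcov (F := (yon S).obj c.pt)
    (fun x => (yon S).map (l x)) fun i j W p q e => by
      rw [← Functor.map_comp, ← Functor.map_comp]
      refine congrArg _ (injective hc hs ht hfree _ _ _ ?_ ?_)
      · rw [Category.assoc p (l i), Category.assoc q (l j), hlt, hlt, ← Category.assoc, ← Category.assoc, e]
      · rw [Category.assoc p (l i), Category.assoc q (l j), hls, hls, ← Category.assoc, ← Category.assoc, e]
  obtain ⟨r, rfl⟩ := (yon S).map_surjective R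
  refine ⟨r, ?_, ?_⟩
  · refine (yon S).map_injective (hom_ext_glue π hπ hcov fun x => ?_)
    rw [Functor.map_comp, ← Category.assoc, hR, ← Functor.map_comp, ← Functor.map_comp, hlt]
  · refine (yon S).map_injective (hom_ext_glue π hπ hcov fun x => ?_)
    rw [Functor.map_comp, ← Category.assoc, hR, ← Functor.map_comp, ← Functor.map_comp, hls]

include hs ht in
theorem etale_s_t : Etale s.left ∧ Etale t.left := by
  let 𝒰 : c.pt.left.OpenCover := Scheme.Cover.mkOfCovers G (fun _ => U.left) (fun g => (c.inj g).left)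
    (fun x => exists_inj_eq hc x) (fun g => isOpenImmersion_inj hc g)
  refine ⟨(IsZariskiLocalAtSource.iff_of_openCover (P := @Etale) 𝒰).2 fun g => ?_,
    (IsZariskiLocalAtSource.iff_of_openCover (P := @Etale) 𝒰).2 fun g => ?_⟩
  · change Etale ((c.inj g).left ≫ s.left)
    rw [← Over.comp_left, hs]
    exact inferInstanceAs (Etale (𝟙 U.left))
  · change Etale ((c.inj g).left ≫ t.left)
    rw [← Over.comp_left, ht]
    have : IsIso (ρ g).hom.left := inferInstanceAs (IsIso ((Over.forget S).map (ρ g).hom))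
    infer_instance

include hs ht in
/-- A free action gives an etale equivalence relation. -/
theorem isEtaleEqvRel (hfree : IsFreeAct ρ) : IsEtaleEqvRel s t where
  injective := injective hc hs ht hfree
  equivalence T := by
    refine ⟨fun u => exists_rel hc hs ht hfree u u fun x => ⟨⊤, 1, trivial, ?_⟩, fun {a b} h => ?_,
      fun {a b d} h h' => ?_⟩
    · rw [ρ_one_hom, Category.comp_id]
    · obtain ⟨r, rfl, rfl⟩ := h
      refine exists_rel hc hs ht hfree _ _ fun x => ?_
      obtain ⟨O, g, hx, -, hg⟩ := exists_local hc hs ht r x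
      refine ⟨O, g⁻¹, hx, ?_⟩
      rw [← hg, Category.assoc, ← ρ_mul_hom, inv_mul_cancel, ρ_one_hom, Category.comp_id]
    · obtain ⟨r, rfl, rfl⟩ := h
      obtain ⟨r', hr', rfl⟩ := h'
      refine exists_rel hc hs ht hfree _ _ fun x => ?_
      obtain ⟨O, g, hx, -, hg⟩ := exists_local hc hs ht r x
      obtain ⟨O', g', hx', -, hg'⟩ := exists_local hc hs ht r' x
      let O₂ := O ⊓ O'
      let α : Over.mk (O₂.ι ≫ T.hom) ⟶ Over.mk (O.ι ≫ T.hom) :=
        Over.homMk (T.left.homOfLE inf_le_left) (by simp [O₂])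
      let α' : Over.mk (O₂.ι ≫ T.hom) ⟶ Over.mk (O'.ι ≫ T.hom) :=
        Over.homMk (T.left.homOfLE inf_le_right) (by simp [O₂])
      let π : Over.mk (O₂.ι ≫ T.hom) ⟶ T := overArrow O₂.ι
      have hα : α ≫ overArrow O.ι = π := Over.OverMorphism.ext (by simp [α, π, O₂, overArrow])
      have hα' : α' ≫ overArrow O'.ι = π := Over.OverMorphism.ext (by simp [α', π, O₂, overArrow])
      refine ⟨O₂, g * g', ⟨hx, hx'⟩, ?_⟩
      have q := congrArg (α ≫ ·) hg
      have q' := congrArg (α' ≫ ·) hg'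
      simp only [← Category.assoc, hα, hα'] at q q'
      change ((π ≫ r' ≫ s) ≫ (ρ (g * g')).hom) = π ≫ r ≫ t
      rw [ρ_mul_hom, ← Category.assoc, ← Category.assoc π, q', Category.assoc π r' t, hr',
        ← Category.assoc π r s, ← Category.assoc π r t]
      exact q
  etale_left := (etale_s_t hc hs ht).1
  etale_right := (etale_s_t hc hs ht).2

omit hc in
theorem quasiCompact_sigmaDesc {ι : Type u} [Finite ι] {Y : ι → Scheme.{u}} {X : Scheme.{u}}
    (f : ∀ i, Y i ⟶ X) [∀ i, QuasiCompact (f i)] : QuasiCompact (Sigma.desc f) := by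
  refine ⟨fun V hV hVc => ?_⟩
  have e : (Sigma.desc f) ⁻¹' V = ⋃ i, Sigma.ι Y i '' (f i ⁻¹' V) := by
    ext w
    simp only [Set.mem_iUnion, Set.mem_preimage, Set.mem_image]
    constructor
    · intro hw
      obtain ⟨i, y, rfl⟩ := HTop25.exists_sigma_ι (Y := Y) w
      refine ⟨i, y, ?_, rfl⟩
      rw [← Sigma.ι_desc f i]
      exact hw
    · rintro ⟨i, y, hy, rfl⟩
      rw [← Scheme.Hom.comp_apply, Sigma.ι_desc]
      exact hy
  rw [e]
  exact isCompact_iUnion fun i =>
    (QuasiCompact.isCompact_preimage (f := f i) V hV hVc).image (Sigma.ι Y i).continuous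

/-- The graph components of the relation. -/
noncomputable def graph (g : G) : U.left ⟶ (U ⨯ U).left := (prod.lift (ρ g).hom (𝟙 U)).left

include hs ht in
theorem exists_decomp : ∃ e : c.pt.left ≅ ∐ fun _ : G => U.left,
    (prod.lift t s).left = e.hom ≫ Sigma.desc (fun g => graph (ρ := ρ) g) := by
  obtain ⟨e, he⟩ := exists_sigma_iso hc
  refine ⟨e.symm, ?_⟩
  rw [Iso.symm_hom, Iso.eq_inv_comp]
  refine Sigma.hom_ext _ _ fun g => ?_
  rw [Sigma.ι_desc, ← Category.assoc, he, ← Over.comp_left, prod.comp_lift, ht, hs]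
  rfl

omit hc in
theorem graph_snd (g : G) : graph (ρ := ρ) g ≫ (prod.snd : U ⨯ U ⟶ U).left = 𝟙 U.left := by
  rw [graph, lift_left_snd]
  rfl

omit hc in
theorem snd_left_eq : (prod.snd : U ⨯ U ⟶ U).left =
    (Over.prodLeftIsoPullback U U).hom ≫ pullback.snd U.hom U.hom :=
  (Over.prodLeftIsoPullback_hom_snd U U).symm

include hs ht in
/-- The quotient by a free action of a finite group has quasi-compact diagonal. -/
theorem isQuasiSeparatedSp_quot [Finite G] (hfree : IsFreeAct ρ) [QuasiSeparated U.hom] :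
    IsQuasiSeparatedSp (QuotSh.quot Scheme.fppfPrecoverage s t) := by
  have hR := isEtaleEqvRel hc hs ht hfree
  obtain ⟨w, ⟨hcol⟩⟩ := nonempty_isColimit_quot s t
  have := isLocallySurjective_quotπ s t
  have sq := isPullback_of_isEqvRel hR.toIsEqvRel w hcol
  have := hR.etale_right
  obtain ⟨e, he⟩ := exists_decomp hc hs ht
  have : QuasiSeparated (prod.snd : U ⨯ U ⟶ U).left := by rw [snd_left_eq]; infer_instance
  have hq : ∀ g, QuasiCompact (graph (ρ := ρ) g) := fun g => by
    have : QuasiCompact (graph (ρ := ρ) g ≫ (prod.snd : U ⨯ U ⟶ U).left) := by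
      rw [graph_snd]; infer_instance
    exact QuasiCompact.of_comp _ (prod.snd : U ⨯ U ⟶ U).left
  have h : RepWith (MorphismProperty.monomorphisms Scheme.{u} ⊓ @LocallyOfFiniteType ⊓ @QuasiCompact)
      (prod.lift ((yon S).map t) ((yon S).map s)) := by
    rw [← lift_comparison, repWith_respectsIso_right]
    refine (repWith_yon_map_iff _ _).2 ⟨⟨?_, ?_⟩, ?_⟩
    · have : Mono (prod.lift t s) := ⟨fun {W} a b hab => by
        have h₁ := hab =≫ prod.fst
        have h₂ := hab =≫ prod.snd
        simp only [Category.assoc, prod.lift_fst, prod.lift_snd] at h₁ h₂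
        exact hR.injective W a b h₁ h₂⟩
      exact inferInstanceAs (Mono ((Over.forget S).map (prod.lift t s)))
    · have : LocallyOfFiniteType ((prod.lift t s).left ≫ (prod.fst : U ⨯ U ⟶ U).left) := by
        rw [lift_left_fst]; infer_instance
      exact locallyOfFiniteType_of_comp (prod.lift t s).left (prod.fst : U ⨯ U ⟶ U).left
    · rw [he]
      have := quasiCompact_sigmaDesc fun g : G => graph (ρ := ρ) g
      infer_instance
  have : (MorphismProperty.monomorphisms Scheme.{u}).DescendsAlong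
      (@Surjective ⊓ @Flat ⊓ @QuasiCompact : MorphismProperty Scheme.{u}) := by
    rw [← MorphismProperty.diagonal_isomorphisms]; infer_instance
  have : (MorphismProperty.monomorphisms Scheme.{u}).IsStableUnderBaseChange :=
    MorphismProperty.IsStableUnderBaseChange.monomorphisms _
  have := FpqcDesc.descendsAlong_inf (MorphismProperty.monomorphisms Scheme.{u}) @LocallyOfFiniteType
    (@Surjective ⊓ @Flat ⊓ @QuasiCompact : MorphismProperty Scheme.{u})
  have := FpqcDesc.descendsAlong_quasiCompact.{u}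
  have := FpqcDesc.descendsAlong_inf (MorphismProperty.monomorphisms Scheme.{u} ⊓ @LocallyOfFiniteType)
    @QuasiCompact (@Surjective ⊓ @Flat ⊓ @QuasiCompact : MorphismProperty Scheme.{u})
  have := isLocallySurjective_prod_map ((QuotSh.repIsoUliftYoneda Scheme.fppfPrecoverage U).inv ≫
    QuotSh.quotπ Scheme.fppfPrecoverage s t) ((QuotSh.repIsoUliftYoneda Scheme.fppfPrecoverage U).inv ≫
    QuotSh.quotπ Scheme.fppfPrecoverage s t)
  refine repWith_mono (fun _ _ j hj => hj.2) (repWith_of_locSurj_lqf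
    (P := MorphismProperty.monomorphisms Scheme.{u} ⊓ @LocallyOfFiniteType ⊓ @QuasiCompact)
    (fun X Y j hj => ?_) (isPullback_diag sq) h)
  have : Mono j := hj.1.1
  have : LocallyOfFiniteType j := hj.1.2
  exact ⟨.of_injective j.injective, hj.1.2, inferInstance⟩

include hs ht in
/-- The quotient by a free action of a finite group on a separated scheme is separated. -/
theorem isSeparatedSp_quot [Finite G] (hfree : IsFreeAct ρ) [IsSeparated U.hom] :
    IsSeparatedSp (QuotSh.quot Scheme.fppfPrecoverage s t) := by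
  have hR := isEtaleEqvRel hc hs ht hfree
  obtain ⟨w, ⟨hcol⟩⟩ := nonempty_isColimit_quot s t
  have := isLocallySurjective_quotπ s t
  have sq := isPullback_of_isEqvRel hR.toIsEqvRel w hcol
  obtain ⟨e, he⟩ := exists_decomp hc hs ht
  have : IsSeparated (prod.snd : U ⨯ U ⟶ U).left := by rw [snd_left_eq]; infer_instance
  have hq : ∀ g, IsClosedImmersion (graph (ρ := ρ) g) := fun g => by
    have : IsClosedImmersion (graph (ρ := ρ) g ≫ (prod.snd : U ⨯ U ⟶ U).left) := by
      rw [graph_snd]; infer_instance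
    exact IsClosedImmersion.of_comp _ (prod.snd : U ⨯ U ⟶ U).left
  have h : RepWith @IsClosedImmersion (prod.lift ((yon S).map t) ((yon S).map s)) := by
    rw [← lift_comparison, repWith_respectsIso_right]
    refine (repWith_yon_map_iff _ _).2 ((IsClosedImmersion.iff_isFinite_and_mono _).2 ⟨?_, ?_⟩)
    · rw [he]
      have := HTop25.isFinite_sigmaDesc fun g : G => graph (ρ := ρ) g
      infer_instance
    · have : Mono (prod.lift t s) := ⟨fun {W} a b hab => by
        have h₁ := hab =≫ prod.fst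
        have h₂ := hab =≫ prod.snd
        simp only [Category.assoc, prod.lift_fst, prod.lift_snd] at h₁ h₂
        exact hR.injective W a b h₁ h₂⟩
      exact inferInstanceAs (Mono ((Over.forget S).map (prod.lift t s)))
  have := isLocallySurjective_prod_map ((QuotSh.repIsoUliftYoneda Scheme.fppfPrecoverage U).inv ≫
    QuotSh.quotπ Scheme.fppfPrecoverage s t) ((QuotSh.repIsoUliftYoneda Scheme.fppfPrecoverage U).inv ≫
    QuotSh.quotπ Scheme.fppfPrecoverage s t)
  have := FpqcDesc.descendsAlong_isClosedImmersion.{u}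
  exact repWith_of_locSurj_lqf (P := @IsClosedImmersion)
    (fun X Y j (hj : IsClosedImmersion j) => ⟨inferInstance, inferInstance, inferInstance⟩)
    (isPullback_diag sq) h

end Groth.Agent.FreeQuot14
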