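import Groth.Agent.Lib.AlgSpace.FppfLocal
import Groth.Prelude.Def_AlgSpGpd
import Mathlib.CategoryTheory.Monoidal.Cartesian.Grp_

/-!
# Quotients of algebraic spaces by free flat group actions
-/

universe u

set_option backward.isDefEq.respectTransparency.types false

open CategoryTheory CategoryTheory.Limits AlgebraicGeometry MonoidalCategory CartesianMonoidalCategory MonObj

namespace Groth.Agent.AlgSpace

open AlgSp

variable {S : Scheme.{u}} {B : Sp S} {G X : Over B} [GrpObj G] (a : GAction G X)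

/-- The action on points. -/
noncomputable def gSmul {T : Over B} (g : T ⟶ G) (x : T ⟶ X) : T ⟶ X := lift g x ≫ a.act

lemma gSmul_one {T : Over B} (x : T ⟶ X) : gSmul a 1 x = x := by
  have h : lift (1 : T ⟶ G) x = lift (toUnit T) x ≫ (η[G] ▷ X) := by
    ext <;> simp [Hom.one_def]
  rw [gSmul, h, Category.assoc, a.one_act]
  simp

lemma gSmul_mul {T : Over B} (g g' : T ⟶ G) (x : T ⟶ X) :
    gSmul a (g * g') x = gSmul a g (gSmul a g' x) := by
  have h : lift (g * g') x = lift (lift g g') x ≫ (μ[G] ▷ X) := by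
    ext <;> simp [Hom.mul_def]
  rw [gSmul, h, Category.assoc, a.mul_act, ← Category.assoc, ← Category.assoc]
  refine congrArg (· ≫ a.act) ?_
  ext <;> simp [gSmul]

lemma comp_act {T : Over B} (r : T ⟶ G ⊗ X) : r ≫ a.act = gSmul a (r ≫ fst G X) (r ≫ snd G X) := by
  rw [gSmul]; exact congrArg (· ≫ a.act) (by ext <;> simp)

/-- A free action gives an equivalence relation. -/
theorem isEqvRelSp_action (ha : a.IsFree) : IsEqvRelSp (snd G X).left a.act.left := by
  refine ⟨fun T r r' h₁ h₂ => ?_, fun T => ⟨fun x => ?_, fun {x y} h => ?_, fun {x y z} h h' => ?_⟩⟩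
  · have hβ : r' ≫ (G ⊗ X).hom = r ≫ (G ⊗ X).hom := by
      rw [← Over.w (snd G X), ← Category.assoc, ← h₂, Category.assoc]
    let β := r ≫ (G ⊗ X).hom
    let R : Over.mk β ⟶ G ⊗ X := Over.homMk r rfl
    let R' : Over.mk β ⟶ G ⊗ X := Over.homMk r' hβ
    have e₁ : R ≫ a.act = R' ≫ a.act := Over.OverMorphism.ext h₁
    have e₂ : R ≫ snd G X = R' ≫ snd G X := Over.OverMorphism.ext h₂
    rw [comp_act, comp_act, e₂] at e₁
    have e : gSmul a ((R' ≫ fst G X)⁻¹ * (R ≫ fst G X)) (R' ≫ snd G X) = R' ≫ snd G X := by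
      rw [gSmul_mul, e₁, ← gSmul_mul, inv_mul_cancel, gSmul_one]
    have e' := ha β _ _ e
    rw [← Hom.one_def, inv_mul_eq_one] at e'
    exact congrArg CommaMorphism.left (CartesianMonoidalCategory.hom_ext R R' e'.symm e₂)
  · let x' : Over.mk (x ≫ X.hom) ⟶ X := Over.homMk x rfl
    exact ⟨(lift 1 x').left, congrArg CommaMorphism.left (gSmul_one a x'),
      congrArg CommaMorphism.left (lift_snd 1 x')⟩
  · obtain ⟨r, hr₁, hr₂⟩ := h
    let R : Over.mk (r ≫ (G ⊗ X).hom) ⟶ G ⊗ X := Over.homMk r rfl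
    have e : gSmul a (R ≫ fst G X)⁻¹ (R ≫ a.act) = R ≫ snd G X := by
      rw [comp_act, ← gSmul_mul, inv_mul_cancel, gSmul_one]
    exact ⟨(lift (R ≫ fst G X)⁻¹ (R ≫ a.act)).left, (congrArg CommaMorphism.left e).trans hr₂,
      (congrArg CommaMorphism.left (lift_snd (R ≫ fst G X)⁻¹ (R ≫ a.act))).trans hr₁⟩
  · obtain ⟨r, hr₁, hr₂⟩ := h
    obtain ⟨r', hr₁', hr₂'⟩ := h'
    have hβ : r ≫ (G ⊗ X).hom = r' ≫ (G ⊗ X).hom := by
      rw [← Over.w (snd G X), ← Category.assoc, hr₂, ← hr₁', Category.assoc, Over.w a.act, Over.w (snd G X)]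
    let β := r' ≫ (G ⊗ X).hom
    let R : Over.mk β ⟶ G ⊗ X := Over.homMk r hβ
    let R' : Over.mk β ⟶ G ⊗ X := Over.homMk r' rfl
    have e₀ : R' ≫ a.act = R ≫ snd G X := Over.OverMorphism.ext (hr₁'.trans hr₂.symm)
    have e : gSmul a ((R ≫ fst G X) * (R' ≫ fst G X)) (R' ≫ snd G X) = R ≫ a.act := by
      rw [gSmul_mul, ← comp_act, e₀, ← comp_act]
    exact ⟨(lift ((R ≫ fst G X) * (R' ≫ fst G X)) (R' ≫ snd G X)).left,
      (congrArg CommaMorphism.left e).trans hr₁,
      (congrArg CommaMorphism.left (lift_snd _ (R' ≫ snd G X))).trans hr₂'⟩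

/-- The quotient of a free flat action is an algebraic space and a torsor. -/
theorem quot_free_action (hB : IsAlgSpace B) (hG : IsAlgSpace G.left) (hX : IsAlgSpace X.left)
    (ha : a.IsFree) (hfl : LocP @Flat G.hom ∧ LocP @LocallyOfFinitePresentation G.hom) :
    IsAlgSpace a.quot ∧
      (IsSurjectiveMor a.quotπ ∧ LocP @Flat a.quotπ ∧ LocP @LocallyOfFinitePresentation a.quotπ) ∧
      IsIso (pullback.lift a.act.left (snd G X).left
        (quotSp_condition (snd G X).left a.act.left).symm : (G ⊗ X).left ⟶ pullback a.quotπ a.quotπ) := by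
  have sq : IsPullback (fst G X).left (snd G X).left G.hom X.hom := IsPullback.of_hasPullback G.hom X.hom
  have h := isEqvRelSp_action a ha
  have hR : IsAlgSpace (G ⊗ X).left := isAlgSpace_pullback hB hG hX sq
  have h₁ : LocP @Flat (snd G X).left := locP_of_isPullback hG hB hX sq hfl.1
  have h₂ : LocP @LocallyOfFinitePresentation (snd G X).left := locP_of_isPullback hG hB hX sq hfl.2
  have hQ := isAlgSpace_quotSp hR hX h h₁ h₂
  refine ⟨hQ, quotSpπ_cover hR hX h h₁ h₂ hQ, ?_⟩
  rw [show (pullback.lift a.act.left (snd G X).left (quotSp_condition (snd G X).left a.act.left).symm :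
      (G ⊗ X).left ⟶ pullback a.quotπ a.quotπ) = (isPullback_quotSp h).isoPullback.hom from
    pullback.hom_ext (by rw [pullback.lift_fst]; exact (IsPullback.isoPullback_hom_fst _).symm)
      (by rw [pullback.lift_snd]; exact (IsPullback.isoPullback_hom_snd _).symm)]
  infer_instance

end Groth.Agent.AlgSpace
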