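import Groth.Prelude.Def_AlgSpGpd
import Groth.Agent.Lib.AlgSpace.MorDiag
import Mathlib.CategoryTheory.Monoidal.Cartesian.Grp

/-!
# The diagonal of a group sheaf is a base change of its unit
-/

universe u

set_option backward.isDefEq.respectTransparency.types false
set_option linter.unusedVariables false

open CategoryTheory CategoryTheory.Limits AlgebraicGeometry MonoidalCategory MonObj CartesianMonoidalCategory

namespace Groth.Agent.AlgSpace

open AlgSp

variable {S : Scheme.{u}} {B : Sp S} (G : Over B) [GrpObj G]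

/-- The unit is a section. -/
theorem one_left_comp_hom : (η[G]).left ≫ G.hom = 𝟙 B := Over.w η[G]

/-- The diagonal of `G ⟶ B` is a base change of the unit. -/
theorem exists_isPullback_diagonal_one : ∃ ψ : pullback G.hom G.hom ⟶ G.left,
    IsPullback G.hom (pullback.diagonal G.hom) (η[G]).left ψ := by
  let P : Over B := G ⊗ G
  let a : P ⟶ G := fst G G
  let b : P ⟶ G := snd G G
  let ψ' : P ⟶ G := a * b⁻¹
  -- evaluation of `ψ'` on points
  have key : ∀ {Z : Over B} (z : Z ⟶ P), z ≫ ψ' = (z ≫ a) * (z ≫ b)⁻¹ := fun z => by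
    simp only [ψ']
    rw [MonObj.comp_mul, GrpObj.comp_inv]
  let Δ : G ⟶ P := CartesianMonoidalCategory.lift (𝟙 G) (𝟙 G)
  have hΔ : Δ ≫ ψ' = (1 : G ⟶ G) := by rw [key]; simp [Δ, a, b]
  have hΔl : Δ.left = pullback.diagonal G.hom := pullback.hom_ext
    ((congrArg (fun f : G ⟶ G => f.left)
      (CartesianMonoidalCategory.lift_fst (𝟙 G) (𝟙 G))).trans (pullback.diagonal_fst _).symm)
    ((congrArg (fun f : G ⟶ G => f.left)
      (CartesianMonoidalCategory.lift_snd (𝟙 G) (𝟙 G))).trans (pullback.diagonal_snd _).symm)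
  have hone : (1 : G ⟶ G).left = G.hom ≫ (η[G]).left := rfl
  have w : G.hom ≫ (η[G]).left = pullback.diagonal G.hom ≫ ψ'.left := by
    rw [← hone, ← hΔl, ← Over.comp_left, hΔ]
  refine ⟨ψ'.left, ⟨⟨w⟩, ⟨PullbackCone.IsLimit.mk w (fun c => c.snd ≫ pullback.fst _ _) ?_ ?_ ?_⟩⟩⟩
  rotate_left
  · intro c
    let Z : Over B := Over.mk (c.snd ≫ P.hom)
    let z : Z ⟶ P := Over.homMk c.snd rfl
    have hz : (z ≫ ψ').left = c.fst ≫ (η[G]).left := c.condition.symm
    have hx : c.fst = Z.hom := by
      have h := congrArg (· ≫ G.hom) hz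
      simp only [Category.assoc, one_left_comp_hom, Category.comp_id] at h
      rw [← h]
      exact Over.w _
    have h1 : z ≫ ψ' = (1 : Z ⟶ G) := Over.OverMorphism.ext (by rw [hz, hx]; rfl)
    rw [key, mul_inv_eq_one] at h1
    apply pullback.hom_ext
    · rw [Category.assoc, pullback.diagonal_fst]; exact Category.comp_id _
    · rw [Category.assoc, pullback.diagonal_snd]
      exact (Category.comp_id _).trans (congrArg (fun f : Z ⟶ G => f.left) h1)
  · intro c m h₁ h₂
    rw [← h₂, Category.assoc, pullback.diagonal_fst, Category.comp_id]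
  · intro c
    let Z : Over B := Over.mk (c.snd ≫ P.hom)
    let z : Z ⟶ P := Over.homMk c.snd rfl
    have hz : (z ≫ ψ').left = c.fst ≫ (η[G]).left := c.condition.symm
    have h := congrArg (· ≫ G.hom) hz
    simp only [Category.assoc, one_left_comp_hom, Category.comp_id] at h
    rw [← h]
    exact ((Category.assoc _ _ _).trans (congrArg (c.snd ≫ ·) (Over.w a))).trans
      (Over.w (z ≫ ψ')).symm

end Groth.Agent.AlgSpace
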