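import Groth.Agent.Lib.AlgSpace.SchemeQuot
import Groth.Prelude.Def_AlgGrp
import Groth.Prelude.Def_Mor2
import Groth.Prelude.Def_NonAbH2
import Mathlib.CategoryTheory.Monoidal.Cartesian.Grp_
import Mathlib.CategoryTheory.Monoidal.Cartesian.Over

/-!
# Quotients by free actions of finite locally free group schemes
-/

universe u

set_option backward.isDefEq.respectTransparency.types false

open CategoryTheory CategoryTheory.Limits AlgebraicGeometry MonoidalCategory CartesianMonoidalCategory MonObj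

namespace Groth.Agent.AlgSpace

variable {S : Scheme.{u}} {G X : Over S} [GrpObj G] (a : AlgGrp.Action G X)

/-- The action on points with values in a test scheme. -/
noncomputable def ptSmul {T : Over S} (g : T ⟶ G) (x : T ⟶ X) : T ⟶ X := lift g x ≫ a.act

lemma ptSmul_one {T : Over S} (x : T ⟶ X) : ptSmul a 1 x = x := by
  have h : lift (1 : T ⟶ G) x = lift (toUnit T) x ≫ (η[G] ▷ X) := by
    ext <;> simp [Hom.one_def]
  rw [ptSmul, h, Category.assoc, a.one_act]
  simp

lemma ptSmul_mul {T : Over S} (g g' : T ⟶ G) (x : T ⟶ X) :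
    ptSmul a (g * g') x = ptSmul a g (ptSmul a g' x) := by
  have h : lift (g * g') x = lift (lift g g') x ≫ (μ[G] ▷ X) := by
    ext <;> simp [Hom.mul_def]
  rw [ptSmul, h, Category.assoc, a.mul_act, ← Category.assoc, ← Category.assoc]
  refine congrArg (· ≫ a.act) ?_
  ext <;> simp [ptSmul]

lemma comp_ptSmul {T T' : Over S} (f : T' ⟶ T) (g : T ⟶ G) (x : T ⟶ X) :
    f ≫ ptSmul a g x = ptSmul a (f ≫ g) (f ≫ x) := by
  rw [ptSmul, ptSmul, comp_lift_assoc]

/-- The relation of a free action is an equivalence relation. -/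
theorem isEqvRel_action
    (hfree : ∀ (T : Over S) (g : T ⟶ G) (x : T ⟶ X), lift g x ≫ a.act = x → g = toUnit T ≫ η[G]) :
    AlgSp.IsEqvRel (snd G X) a.act := by
  have hact : ∀ {T : Over S} (r : T ⟶ G ⊗ X), r ≫ a.act = ptSmul a (r ≫ fst G X) (r ≫ snd G X) :=
    fun r => by rw [ptSmul]; exact congrArg (· ≫ a.act) (by ext <;> simp)
  refine ⟨fun T r r' h₁ h₂ => ?_, fun T => ⟨fun x => ?_, fun {x y} h => ?_, fun {x y z} h h' => ?_⟩⟩
  · rw [hact, hact, h₂] at h₁
    have e : ptSmul a ((r' ≫ fst G X)⁻¹ * (r ≫ fst G X)) (r' ≫ snd G X) = r' ≫ snd G X := by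
      rw [ptSmul_mul, h₁, ← ptSmul_mul, inv_mul_cancel, ptSmul_one]
    have e' := hfree T _ _ e
    rw [← Hom.one_def, inv_mul_eq_one] at e'
    exact CartesianMonoidalCategory.hom_ext _ _ e'.symm h₂
  · exact ⟨lift 1 x, ptSmul_one a x, lift_snd _ _⟩
  · obtain ⟨r, hr₁, hr₂⟩ := h
    refine ⟨lift (r ≫ fst G X)⁻¹ x, ?_, lift_snd _ _⟩
    change ptSmul a _ x = y
    rw [← hr₁, hact, ← ptSmul_mul, inv_mul_cancel, ptSmul_one, hr₂]
  · obtain ⟨r, hr₁, hr₂⟩ := h
    obtain ⟨r', hr₁', hr₂'⟩ := h'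
    refine ⟨lift ((r ≫ fst G X) * (r' ≫ fst G X)) z, ?_, lift_snd _ _⟩
    change ptSmul a _ _ = _
    rw [ptSmul_mul, ← hr₂', ← hact, hr₁', ← hr₂, ← hact, hr₁]

/-- The quotient of a free action of a finite locally free group scheme is a scheme, under the usual
hypotheses. -/
theorem exists_quotient_of_free_action (hG : Mor2.IsFinLocFree G.hom)
    (hfree : ∀ (T : Over S) (g : T ⟶ G) (x : T ⟶ X), lift g x ≫ a.act = x → g = toUnit T ≫ η[G])
    (h3 : IsAffineHom X.hom ∨ (∃ (R : CommRingCat.{u}) (i : X.left ⟶ Spec R), IsOpenImmersion i) ∨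
      UniversallyInjective G.hom) :
    ∃ (M : Over S) (q : X ⟶ M), QuotSh.IsQuotient Scheme.fppfPrecoverage (snd G X) a.act q ∧
      IsPullback a.act.left (snd G X).left q.left q.left ∧
      NonAbH1.IsLocallyTrivialFor Scheme.fppfPrecoverage (Over.mk q.left) := by
  obtain ⟨hG₁, hG₂, hG₃⟩ := hG
  let s : G ⊗ X ⟶ X := snd G X
  let t : G ⊗ X ⟶ X := a.act
  have sqs : IsPullback (fst G X).left s.left G.hom X.hom := IsPullback.of_hasPullback G.hom X.hom
  have : IsFinite s.left := MorphismProperty.of_isPullback sqs hG₁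
  have : Flat s.left := MorphismProperty.of_isPullback sqs hG₂
  have : LocallyOfFinitePresentation s.left := MorphismProperty.of_isPullback sqs hG₃
  let σ : G ⊗ X ⟶ G ⊗ X := lift (fst G X)⁻¹ a.act
  have hσσ : σ ≫ σ = 𝟙 _ := by
    apply CartesianMonoidalCategory.hom_ext
    · simp only [σ, Category.assoc, lift_fst, Category.id_comp]
      rw [GrpObj.comp_inv, lift_fst, inv_inv]
    · simp only [σ, Category.assoc, lift_snd, Category.id_comp]
      change ptSmul a (fst G X)⁻¹ a.act = _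
      have : a.act = ptSmul a (fst G X) (snd G X) := by rw [ptSmul, lift_fst_snd, Category.id_comp]
      conv_lhs => arg 3; rw [this]
      rw [← ptSmul_mul, inv_mul_cancel, ptSmul_one]
  have : IsIso σ := ⟨σ, hσσ, hσσ⟩
  have : IsIso σ.left := inferInstanceAs (IsIso ((Over.forget S).map σ))
  have : IsFinite t.left := by
    have e : σ.left ≫ s.left = t.left := congrArg CommaMorphism.left (lift_snd _ _ : σ ≫ snd G X = a.act)
    rw [← e]
    exact (MorphismProperty.cancel_left_of_respectsIso @IsFinite _ _).2 ‹IsFinite s.left›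
  have hcl : ∀ u, ∃ W : X.left.Opens, IsAffineOpen W ∧ ∀ r, s.left r = u → t.left r ∈ W := by
    intro u
    rcases h3 with h | ⟨R, i, hi⟩ | h
    · obtain ⟨D, hD, hyD, -⟩ :=
        exists_isAffineOpen_mem_and_subset (X := S) (x := X.hom u) (U := ⊤) trivial
      refine ⟨X.hom ⁻¹ᵁ D, hD.preimage X.hom, fun r hr => ?_⟩
      change X.hom (t.left r) ∈ D
      have e : t.left ≫ X.hom = s.left ≫ X.hom := (Over.w t).trans (Over.w s).symm
      rw [← Scheme.Hom.comp_apply, e, Scheme.Hom.comp_apply, hr]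
      exact hyD
    · obtain ⟨W, hW, hWs⟩ := FinQuot.exists_affine_of_finite i
        ((s.left.finite_preimage_singleton u).image t.left)
      exact ⟨W, hW, fun r hr => hWs ⟨r, hr, rfl⟩⟩
    · obtain ⟨W, hW, huW, -⟩ := exists_isAffineOpen_mem_and_subset (X := X.left) (x := u) (U := ⊤) trivial
      refine ⟨W, hW, fun r hr => ?_⟩
      have : UniversallyInjective s.left := MorphismProperty.of_isPullback sqs h
      obtain ⟨e, he₁, he₂⟩ := (isEqvRel_action a hfree).equivalence X |>.refl (𝟙 X)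
      have hr' : r = e.left u := s.left.injective (by
        rw [hr]
        exact (congrArg (fun φ : X ⟶ X => φ.left u) he₂).symm)
      rw [hr']
      exact (congrArg (fun φ : X ⟶ X => φ.left u) he₁).symm ▸ huW
  obtain ⟨M, m, h₁, h₂, h₃, h₄, sq, hQ⟩ := exists_scheme_quotient (isEqvRel_action a hfree)
    fun Z _ ⟨u, hu⟩ => ⟨u, hu, hcl u⟩
  refine ⟨M, m, hQ, sq, Presieve.singleton m.left, Scheme.Hom.singleton_mem_fppfPrecoverage m.left, ?_⟩
  rintro _ _ ⟨⟩
  exact ⟨𝟙 X.left, Category.id_comp _⟩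

end Groth.Agent.AlgSpace
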