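import Groth.Prelude.Def_AlgSpGpd

/-!
# Calculus in groupoids of sheaves
-/

universe u

set_option linter.unusedVariables false

open CategoryTheory CategoryTheory.Limits AlgebraicGeometry

namespace Groth.Agent.AlgSpace

open AlgSp

variable {S : Scheme.{u}} {B : Sp S} (G : GroupoidSp B)

/-- Composition of arrows on test objects. -/
noncomputable def cmp {T : Sp S} (α β : T ⟶ G.R) (h : α ≫ G.s = β ≫ G.t) : T ⟶ G.R := pullback.lift α β h ≫ G.c

variable {G} {T T' : Sp S}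

lemma cmp_congr {α α' β β' : T ⟶ G.R} (ha : α = α') (hb : β = β') (h : α ≫ G.s = β ≫ G.t) :
    cmp G α β h = cmp G α' β' (ha ▸ hb ▸ h) := by subst ha; subst hb; rfl

lemma cmp_s (α β : T ⟶ G.R) (h : α ≫ G.s = β ≫ G.t) : cmp G α β h ≫ G.s = β ≫ G.s :=
  G.comp_s α β h

lemma cmp_t (α β : T ⟶ G.R) (h : α ≫ G.s = β ≫ G.t) : cmp G α β h ≫ G.t = α ≫ G.t :=
  G.comp_t α β h

lemma cmp_nat (f : T' ⟶ T) (α β : T ⟶ G.R) (h : α ≫ G.s = β ≫ G.t) :
    f ≫ cmp G α β h = cmp G (f ≫ α) (f ≫ β) (by rw [Category.assoc, Category.assoc, h]) := by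
  rw [cmp, cmp, ← Category.assoc]
  congr 1
  apply pullback.hom_ext <;> simp [pullback.lift_fst, pullback.lift_snd]

lemma cmp_assoc (α β γ : T ⟶ G.R) (h₁ : α ≫ G.s = β ≫ G.t) (h₂ : β ≫ G.s = γ ≫ G.t) :
    cmp G (cmp G α β h₁) γ ((cmp_s α β h₁).trans h₂) =
      cmp G α (cmp G β γ h₂) (h₁.trans (cmp_t β γ h₂).symm) :=
  G.assoc α β γ h₁ h₂

lemma cmp_inv_left (α : T ⟶ G.R) :
    cmp G (α ≫ G.i) α (by rw [Category.assoc, G.i_s]) = α ≫ G.s ≫ G.e := G.i_comp α

lemma cmp_inv_right (α : T ⟶ G.R) :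
    cmp G α (α ≫ G.i) (by rw [Category.assoc, G.i_t]) = α ≫ G.t ≫ G.e := G.comp_i α

lemma cmp_id_left {ε α : T ⟶ G.R} (hε : ε = α ≫ G.t ≫ G.e) (h : ε ≫ G.s = α ≫ G.t) :
    cmp G ε α h = α := by subst hε; exact G.e_comp α

lemma cmp_id_right {ε α : T ⟶ G.R} (hε : ε = α ≫ G.s ≫ G.e) (h : α ≫ G.s = ε ≫ G.t) :
    cmp G α ε h = α := by subst hε; exact G.comp_e α

lemma c_eq : G.c = cmp G (pullback.fst G.s G.t) (pullback.snd G.s G.t) pullback.condition := by
  rw [cmp, show pullback.lift (pullback.fst G.s G.t) (pullback.snd G.s G.t) pullback.condition = 𝟙 _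
    from pullback.hom_ext (by simp [pullback.lift_fst]) (by simp [pullback.lift_snd]), Category.id_comp]

/-- Composition and second projection form a cartesian square over the source maps. -/
theorem isPullback_c_snd : IsPullback G.c (pullback.snd G.s G.t) G.s G.s := by
  have w : G.c ≫ G.s = pullback.snd G.s G.t ≫ G.s := by rw [c_eq, cmp_s]
  let c' := pullback.lift G.c (pullback.snd G.s G.t) w
  let q₁ := pullback.fst G.s G.s
  let q₂ := pullback.snd G.s G.s
  have hq : q₁ ≫ G.s = (q₂ ≫ G.i) ≫ G.t := by rw [Category.assoc, G.i_t]; exact pullback.condition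
  let d : pullback G.s G.s ⟶ pullback G.s G.t := pullback.lift (cmp G q₁ (q₂ ≫ G.i) hq) q₂
    (by rw [cmp_s, Category.assoc, G.i_s])
  have : IsIso c' := by
    refine ⟨⟨d, pullback.hom_ext ?_ ?_, pullback.hom_ext ?_ ?_⟩⟩
    · rw [Category.id_comp, Category.assoc]
      simp only [d, pullback.lift_fst]
      rw [cmp_nat]
      have k₁ : c' ≫ q₁ = cmp G (pullback.fst G.s G.t) (pullback.snd G.s G.t) pullback.condition := by
        rw [← c_eq]; exact pullback.lift_fst _ _ _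
      have k₂ : c' ≫ q₂ ≫ G.i = pullback.snd G.s G.t ≫ G.i := pullback.lift_snd_assoc _ _ _ _
      rw [cmp_congr k₁ k₂, cmp_assoc _ _ _ pullback.condition (by rw [Category.assoc, G.i_t])]
      exact cmp_id_right (by rw [cmp_inv_right, pullback.condition_assoc]) _
    · rw [Category.id_comp, Category.assoc]
      simp only [d, pullback.lift_snd]
      exact pullback.lift_snd _ _ _
    · rw [Category.id_comp, Category.assoc, pullback.lift_fst, c_eq, cmp_nat]
      have k₁ : d ≫ pullback.fst G.s G.t = cmp G q₁ (q₂ ≫ G.i) hq := pullback.lift_fst _ _ _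
      have k₂ : d ≫ pullback.snd G.s G.t = q₂ := pullback.lift_snd _ _ _
      rw [cmp_congr k₁ k₂, cmp_assoc _ _ _ hq (by rw [Category.assoc, G.i_s])]
      exact cmp_id_right (by rw [cmp_inv_left, ← Category.assoc, ← pullback.condition, Category.assoc]) _
    · rw [Category.id_comp, Category.assoc, pullback.lift_snd]
      exact pullback.lift_snd _ _ _
  exact IsPullback.of_iso_pullback ⟨w⟩ (asIso c') (pullback.lift_fst _ _ _) (pullback.lift_snd _ _ _)

/-- The shear `(α, β) ↦ (α, i α ∘ β)`. -/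
theorem isIso_shear (φ : pullback G.t G.t ⟶ pullback G.s G.t)
    (h₁ : φ ≫ pullback.fst G.s G.t = pullback.fst G.t G.t)
    (h₂ : φ ≫ pullback.snd G.s G.t = cmp G (pullback.fst G.t G.t ≫ G.i) (pullback.snd G.t G.t)
      ((Category.assoc _ _ _).trans ((congrArg (pullback.fst G.t G.t ≫ ·) G.i_s).trans pullback.condition))) :
    IsIso φ ∧ φ ≫ G.c = pullback.snd G.t G.t := by
  let p₁ := pullback.fst G.t G.t
  let p₂ := pullback.snd G.t G.t
  have hp : (p₁ ≫ G.i) ≫ G.s = p₂ ≫ G.t := by rw [Category.assoc, G.i_s]; exact pullback.condition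
  have key : φ ≫ G.c = p₂ := by
    rw [c_eq, cmp_nat, cmp_congr h₁ h₂, ← cmp_assoc _ _ _ (by rw [Category.assoc, G.i_t]) hp]
    exact cmp_id_left (by rw [cmp_inv_right, pullback.condition_assoc]) _
  refine ⟨?_, key⟩
  let ψ : pullback G.s G.t ⟶ pullback G.t G.t := pullback.lift (pullback.fst G.s G.t) G.c
    (by rw [c_eq, cmp_t])
  refine ⟨ψ, pullback.hom_ext ?_ ?_, pullback.hom_ext ?_ ?_⟩
  · rw [Category.id_comp, Category.assoc, pullback.lift_fst, h₁]
  · rw [Category.id_comp, Category.assoc, pullback.lift_snd, key]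
  · rw [Category.id_comp, Category.assoc, h₁, pullback.lift_fst]
  · rw [Category.id_comp, Category.assoc, h₂, cmp_nat]
    have k₁ : ψ ≫ pullback.fst G.t G.t ≫ G.i = pullback.fst G.s G.t ≫ G.i :=
      pullback.lift_fst_assoc _ _ _ _
    have k₂ : ψ ≫ pullback.snd G.t G.t =
        cmp G (pullback.fst G.s G.t) (pullback.snd G.s G.t) pullback.condition := by
      rw [← c_eq]; exact pullback.lift_snd _ _ _
    rw [cmp_congr k₁ k₂, ← cmp_assoc _ _ _ (by rw [Category.assoc, G.i_s]) pullback.condition]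
    exact cmp_id_left (by rw [cmp_inv_left, pullback.condition_assoc]) _

/-- Translation by a section of the source map whose target is invertible. -/
theorem isIso_translation (a : G.U ⟶ G.R) (ha : a ≫ G.s = 𝟙 G.U) [IsIso (a ≫ G.t)]
    (h : (G.t ≫ a) ≫ G.s = 𝟙 G.R ≫ G.t) :
    IsIso (cmp G (G.t ≫ a) (𝟙 G.R) h) ∧ G.e ≫ cmp G (G.t ≫ a) (𝟙 G.R) h = a := by
  let τ := cmp G (G.t ≫ a) (𝟙 G.R) h
  constructor
  · let x := G.t ≫ inv (a ≫ G.t)
    have hx : ((x ≫ a) ≫ G.i) ≫ G.s = 𝟙 G.R ≫ G.t := by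
      simp only [x, Category.assoc, G.i_s, Category.id_comp, IsIso.inv_hom_id, Category.comp_id]
    have hiso₁ : a ≫ G.t ≫ inv (a ≫ G.t) = 𝟙 _ := by rw [← Category.assoc, IsIso.hom_inv_id]
    have hiso₂ : inv (a ≫ G.t) ≫ a ≫ G.t = 𝟙 _ := IsIso.inv_hom_id _
    let σ := cmp G ((x ≫ a) ≫ G.i) (𝟙 G.R) hx
    have hτt : τ ≫ G.t = G.t ≫ a ≫ G.t := by rw [cmp_t, Category.assoc]
    have hσt : σ ≫ G.t = x := by
      rw [cmp_t, Category.assoc, G.i_t, Category.assoc, ha, Category.comp_id]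
    refine ⟨σ, ?_, ?_⟩
    · change τ ≫ σ = 𝟙 _
      have k₁ : τ ≫ (x ≫ a) ≫ G.i = (G.t ≫ a) ≫ G.i := by
        simp only [x, ← Category.assoc, hτt]
        simp only [Category.assoc, reassoc_of% hiso₁]
      rw [cmp_nat, cmp_congr k₁ (Category.comp_id τ), ← cmp_assoc _ _ _ (by rw [Category.assoc, G.i_s]) h]
      exact cmp_id_left (by
        rw [cmp_inv_left, Category.id_comp, Category.assoc, ← Category.assoc a, ha, Category.id_comp]) _
    · change σ ≫ τ = 𝟙 _
      have k₁ : σ ≫ G.t ≫ a = x ≫ a := by rw [← Category.assoc, hσt]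
      rw [cmp_nat, cmp_congr k₁ (Category.comp_id σ), ← cmp_assoc _ _ _ (by rw [Category.assoc (x ≫ a), G.i_t]) hx]
      exact cmp_id_left (by
        rw [cmp_inv_right]
        simp only [x, Category.assoc, reassoc_of% hiso₂, Category.id_comp]) _
  · have k₁ : G.e ≫ G.t ≫ a = a := by rw [← Category.assoc, G.e_t, Category.id_comp]
    rw [cmp_nat, cmp_congr k₁ (Category.comp_id G.e)]
    exact cmp_id_right (by rw [← Category.assoc, ha, Category.id_comp]) _

end Groth.Agent.AlgSpace
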