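import Groth.Agent.Lib.AlgSpace.GroupoidCalc

/-!
# Fibres of a groupoid over isomorphic objects
-/

universe u

set_option linter.unusedVariables false

open CategoryTheory CategoryTheory.Limits AlgebraicGeometry

namespace Groth.Agent.AlgSpace

open AlgSp

variable {S : Scheme.{u}} {B : Sp S} {G : GroupoidSp B} {T : Sp S}

lemma cmp_assoc_w (r r' : T ⟶ G.R) (h : r ≫ G.t = r' ≫ G.t) :
    (r ≫ G.i) ≫ G.s = r' ≫ G.t := by rw [Category.assoc, G.i_s, h]

/-- The arrow from `s r'` to `s r` when `t r = t r'`. -/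
noncomputable def connect (r r' : T ⟶ G.R) (h : r ≫ G.t = r' ≫ G.t) : T ⟶ G.R :=
  cmp G (r ≫ G.i) r' (cmp_assoc_w r r' h)

lemma connect_s (r r' : T ⟶ G.R) (h : r ≫ G.t = r' ≫ G.t) : connect r r' h ≫ G.s = r' ≫ G.s :=
  cmp_s _ _ _

lemma connect_t (r r' : T ⟶ G.R) (h : r ≫ G.t = r' ≫ G.t) : connect r r' h ≫ G.t = r ≫ G.s := by
  rw [connect, cmp_t, Category.assoc, G.i_t]

lemma connect_comp (r r' : T ⟶ G.R) (h : r ≫ G.t = r' ≫ G.t) :
    cmp G (connect r r' h) (connect r' r h.symm)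
      (by rw [connect_s, connect_t]) = r ≫ G.s ≫ G.e := by
  unfold connect
  rw [cmp_assoc _ _ _ (cmp_assoc_w r r' h)
    (by rw [cmp_t, Category.assoc, G.i_t])]
  rw [cmp_congr (G := G) (rfl : r ≫ G.i = _) (show cmp G r' _ _ = r from ?_), cmp_inv_left]
  rw [← cmp_assoc _ _ _ (by rw [Category.assoc, G.i_t]) (cmp_assoc_w r' r h.symm)]
  exact cmp_id_left (by rw [cmp_inv_right, reassoc_of% h]) _

/-- Right translation by `connect r r'`. -/
noncomputable def fibreMap (r r' : T ⟶ G.R) (h : r ≫ G.t = r' ≫ G.t) :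
    pullback (r ≫ G.s) G.s ⟶ pullback (r' ≫ G.s) G.s :=
  pullback.lift (pullback.fst _ _)
    (cmp G (pullback.snd _ _) (pullback.fst _ _ ≫ connect r r' h)
      (by rw [Category.assoc, connect_t]; exact pullback.condition.symm))
    (by rw [cmp_s, Category.assoc, connect_s])

lemma fibreMap_comp (r r' : T ⟶ G.R) (h : r ≫ G.t = r' ≫ G.t) :
    fibreMap r r' h ≫ fibreMap r' r h.symm = 𝟙 _ := by
  refine pullback.hom_ext (by simp [fibreMap, pullback.lift_fst]) ?_
  simp only [fibreMap, Category.assoc, pullback.lift_snd, Category.id_comp]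
  rw [cmp_nat]
  rw [cmp_congr (pullback.lift_snd _ _ _) (pullback.lift_fst_assoc _ _ _ _),
    cmp_assoc _ _ _ (by rw [Category.assoc, connect_t]; exact pullback.condition.symm)
      (by rw [Category.assoc, Category.assoc, connect_s, connect_t])]
  refine cmp_id_right ?_ _
  rw [← cmp_nat _ _ _ (by rw [connect_s, connect_t]), connect_comp]
  exact pullback.condition_assoc G.e

/-- The two fibres are isomorphic over the base. -/
theorem nonempty_iso_fibres (r r' : T ⟶ G.R) (h : r ≫ G.t = r' ≫ G.t) :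
    Nonempty (Over.mk (pullback.fst (r ≫ G.s) G.s) ≅ Over.mk (pullback.fst (r' ≫ G.s) G.s)) :=
  ⟨Over.isoMk ⟨fibreMap r r' h, fibreMap r' r h.symm, fibreMap_comp r r' h, fibreMap_comp r' r h.symm⟩
    (pullback.lift_fst _ _ _)⟩

end Groth.Agent.AlgSpace
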