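import Groth.Agent.Lib.AlgSpace.LqfScheme
import Groth.Agent.Lib.FpqcDesc.Basic
import Mathlib.AlgebraicGeometry.Morphisms.Finite
import Mathlib.AlgebraicGeometry.Morphisms.UniversallyOpen
import Mathlib.AlgebraicGeometry.PullbackCarrier

/-!
# Finite open pieces of the fibres of a map to a sheaf

For `p : h_U ⟶ F` and `g : h_T ⟶ F`, an open subscheme of `T ×_F U` finite over `T` is recorded by
the set of pairs of maps `T' ⟶ T`, `T' ⟶ U` factoring through it, which makes pieces strictly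
functorial in `T`.
-/

universe u

set_option backward.isDefEq.respectTransparency.types false
set_option linter.unusedVariables false

open CategoryTheory CategoryTheory.Limits AlgebraicGeometry Opposite

namespace Groth.Agent.AlgSpace

open AlgSp

variable {S : Scheme.{u}}

/-- Sets of pairs of maps into `T` and `U` with common source. -/
abbrev Lifts (U T : Over S) : Type (u + 1) := Set (Σ T' : Over S, (T' ⟶ T) × (T' ⟶ U))

variable {F : Sp S} {U : Over S} {p : (yon S).obj U ⟶ F}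

/-- Pullback of a set of lifts. -/
def comapLifts {T T' : Over S} (a : T' ⟶ T) (L : Lifts U T) : Lifts U T' :=
  {x | (⟨x.1, (x.2.1 ≫ a, x.2.2)⟩ : Σ T' : Over S, (T' ⟶ T) × (T' ⟶ U)) ∈ L}

lemma comapLifts_id {T : Over S} (L : Lifts U T) : comapLifts (𝟙 T) L = L := by
  ext ⟨W, b, v⟩
  simp [comapLifts]

lemma comapLifts_comp {T T' T'' : Over S} (a : T' ⟶ T) (b : T'' ⟶ T') (L : Lifts U T) :
    comapLifts (b ≫ a) L = comapLifts b (comapLifts a L) := by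
  ext ⟨W, c, v⟩
  simp [comapLifts, Category.assoc]

/-- The lifts factoring through an open subscheme. -/
def pieceSet {X T : Over S} (u : X ⟶ U) (π : X ⟶ T) (V : X.left.Opens) : Lifts U T :=
  {x | ∃ m : x.1 ⟶ X, m ≫ π = x.2.1 ∧ m ≫ u = x.2.2 ∧ ∀ t, m.left t ∈ V}

/-- The sets of lifts coming from finite open pieces. -/
def IsPiece (p : (yon S).obj U ⟶ F) {T : Over S} (g : (yon S).obj T ⟶ F) (L : Lifts U T) : Prop :=
  ∃ (X : Over S) (u : X ⟶ U) (π : X ⟶ T), IsPullback ((yon S).map u) ((yon S).map π) p g ∧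
    ∃ V : X.left.Opens, IsFinite (V.ι ≫ π.left) ∧ pieceSet u π V = L

/-- Pieces pull back to pieces. -/
lemma pieceSet_comap {X T T' X' : Over S} {u : X ⟶ U} {π : X ⟶ T} {a : T' ⟶ T} {f : X' ⟶ X} {π' : X' ⟶ T'}
    (sq' : IsPullback f π' π a) (V : X.left.Opens) :
    pieceSet (f ≫ u) π' (f.left ⁻¹ᵁ V) = comapLifts a (pieceSet u π V) := by
  ext ⟨W, b, v⟩
  constructor
  · rintro ⟨m, hm₁, hm₂, hm⟩
    refine ⟨m ≫ f, ?_, (Category.assoc _ _ _).trans hm₂, fun t => hm t⟩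
    change (m ≫ f) ≫ π = b ≫ a
    rw [Category.assoc, sq'.w, ← Category.assoc]
    exact congrArg (· ≫ a) hm₁
  · rintro ⟨m, hm₁, hm₂, hm⟩
    refine ⟨sq'.lift m b hm₁, sq'.lift_snd _ _ _, ?_, fun t => ?_⟩
    · rw [sq'.lift_fst_assoc]; exact hm₂
    · have : f.left ((sq'.lift m b hm₁).left t) = m.left t :=
        congrArg (fun φ : W ⟶ X => φ.left t) (sq'.lift_fst _ _ _)
      change f.left ((sq'.lift m b hm₁).left t) ∈ V
      exact this ▸ hm t

section Square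

variable {X T : Over S} {u : X ⟶ U} {π : X ⟶ T} {g : (yon S).obj T ⟶ F}
  (sq : IsPullback ((yon S).map u) ((yon S).map π) p g)
include sq

lemma square_hom_ext {W : Over S} {m m' : W ⟶ X} (h₁ : m ≫ π = m' ≫ π) (h₂ : m ≫ u = m' ≫ u) :
    m = m' :=
  (yon S).map_injective (sq.hom_ext (by rw [← Functor.map_comp, h₂, Functor.map_comp])
    (by rw [← Functor.map_comp, h₁, Functor.map_comp]))

lemma square_lift {W : Over S} (b : W ⟶ T) (v : W ⟶ U)
    (e : (yon S).map v ≫ p = (yon S).map b ≫ g) : ∃ m : W ⟶ X, m ≫ π = b ∧ m ≫ u = v := by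
  obtain ⟨m, hm⟩ := (yon S).map_surjective (sq.lift _ _ e)
  exact ⟨m, (yon S).map_injective (by rw [Functor.map_comp, hm, sq.lift_snd]),
    (yon S).map_injective (by rw [Functor.map_comp, hm, sq.lift_fst])⟩

lemma le_of_pieceSet_subset {V V' : X.left.Opens} (h : pieceSet u π V ⊆ pieceSet u π V') : V ≤ V' := by
  intro x hx
  let W : Over S := Over.mk (V.ι ≫ X.hom)
  let j : W ⟶ X := Over.homMk V.ι rfl
  obtain ⟨m, hm₁, hm₂, hm⟩ : (⟨W, (j ≫ π, j ≫ u)⟩ : Σ T' : Over S, (T' ⟶ T) × (T' ⟶ U)) ∈ pieceSet u π V' :=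
    h ⟨j, rfl, rfl, fun t => t.2⟩
  rw [square_hom_ext sq hm₁ hm₂] at hm
  exact hm (⟨x, hx⟩ : V)

lemma pieceSet_injective {V V' : X.left.Opens} (h : pieceSet u π V = pieceSet u π V') : V = V' :=
  le_antisymm (le_of_pieceSet_subset sq h.le) (le_of_pieceSet_subset sq h.ge)

/-- Membership of a set of lifts of a piece is local on the source. -/
lemma mem_pieceSet_of_local {V : X.left.Opens} {W : Over S} {b : W ⟶ T} {v : W ⟶ U}
    (e : (yon S).map v ≫ p = (yon S).map b ≫ g)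
    (h : ∀ t : ↥W.left, ∃ (W' : Over S) (k : W' ⟶ W), t ∈ Set.range k.left ∧
      (⟨W', (k ≫ b, k ≫ v)⟩ : Σ T' : Over S, (T' ⟶ T) × (T' ⟶ U)) ∈ pieceSet u π V) :
    (⟨W, (b, v)⟩ : Σ T' : Over S, (T' ⟶ T) × (T' ⟶ U)) ∈ pieceSet u π V := by
  obtain ⟨m, hm₁, hm₂⟩ := square_lift sq b v e
  refine ⟨m, hm₁, hm₂, fun t => ?_⟩
  obtain ⟨W', k, ⟨t', rfl⟩, m', hm₁', hm₂', hm'⟩ := h t
  have : m' = k ≫ m := square_hom_ext sq
    (hm₁'.trans (by rw [Category.assoc, hm₁])) (hm₂'.trans (by rw [Category.assoc, hm₂]))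
  exact congrArg (fun f : W' ⟶ X => f.left t') this ▸ hm' t'

lemma isPullback_comap {T' X' : Over S} {a : T' ⟶ T} {f : X' ⟶ X} {π' : X' ⟶ T'}
    (sq' : IsPullback f π' π a) :
    IsPullback ((yon S).map (f ≫ u)) ((yon S).map π') p ((yon S).map a ≫ g) := by
  rw [Functor.map_comp]
  exact (sq'.map (yon S)).paste_horiz sq

end Square

/-- Finiteness of a pulled back open piece. -/
lemma isFinite_preimage {T T' X X' : Over S} {π : X ⟶ T} {a : T' ⟶ T} {f : X' ⟶ X} {π' : X' ⟶ T'}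
    (sq' : IsPullback f π' π a) (V : X.left.Opens) [h : IsFinite (V.ι ≫ π.left)] :
    IsFinite ((f.left ⁻¹ᵁ V).ι ≫ π'.left) :=
  MorphismProperty.of_isPullback
    ((isPullback_morphismRestrict f.left V).paste_vert (sq'.map (Over.forget S))) h

lemma IsPiece.eq {T : Over S} {g : (yon S).obj T ⟶ F} {L : Lifts U T} (h : IsPiece p g L)
    {x : Σ T' : Over S, (T' ⟶ T) × (T' ⟶ U)} (hx : x ∈ L) :
    (yon S).map x.2.2 ≫ p = (yon S).map x.2.1 ≫ g := by
  obtain ⟨X, u, π, sq, V, hV, rfl⟩ := h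
  obtain ⟨m, hm₁, hm₂, -⟩ := hx
  rw [← hm₁, ← hm₂, Functor.map_comp, Functor.map_comp, Category.assoc, Category.assoc, sq.w]

lemma IsPiece.mem_comp {T : Over S} {g : (yon S).obj T ⟶ F} {L : Lifts U T} (h : IsPiece p g L)
    {W W' : Over S} {b : W ⟶ T} {v : W ⟶ U} (k : W' ⟶ W)
    (hx : (⟨W, (b, v)⟩ : Σ T' : Over S, (T' ⟶ T) × (T' ⟶ U)) ∈ L) :
    (⟨W', (k ≫ b, k ≫ v)⟩ : Σ T' : Over S, (T' ⟶ T) × (T' ⟶ U)) ∈ L := by
  obtain ⟨X, u, π, sq, V, hV, rfl⟩ := h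
  obtain ⟨m, hm₁, hm₂, hm⟩ := hx
  exact ⟨k ≫ m, (Category.assoc _ _ _).trans (congrArg (k ≫ ·) hm₁),
    (Category.assoc _ _ _).trans (congrArg (k ≫ ·) hm₂), fun t => hm (k.left t)⟩

lemma IsPiece.mem_of_local {T : Over S} {g : (yon S).obj T ⟶ F} {L : Lifts U T} (h : IsPiece p g L)
    {W : Over S} {b : W ⟶ T} {v : W ⟶ U} (e : (yon S).map v ≫ p = (yon S).map b ≫ g)
    (hl : ∀ t : ↥W.left, ∃ (W' : Over S) (k : W' ⟶ W), t ∈ Set.range k.left ∧
      (⟨W', (k ≫ b, k ≫ v)⟩ : Σ T' : Over S, (T' ⟶ T) × (T' ⟶ U)) ∈ L) :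
    (⟨W, (b, v)⟩ : Σ T' : Over S, (T' ⟶ T) × (T' ⟶ U)) ∈ L := by
  obtain ⟨X, u, π, sq, V, hV, rfl⟩ := h
  exact mem_pieceSet_of_local sq e hl

/-- A piece is given by an open in any chosen fibre product. -/
lemma IsPiece.exists_opens {T X : Over S} {u : X ⟶ U} {π : X ⟶ T} {g : (yon S).obj T ⟶ F}
    {L : Lifts U T} (h : IsPiece p g L) (sq : IsPullback ((yon S).map u) ((yon S).map π) p g) :
    ∃ V : X.left.Opens, IsFinite (V.ι ≫ π.left) ∧ pieceSet u π V = L := by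
  obtain ⟨X₀, u₀, π₀, sq₀, V, hV, rfl⟩ := h
  obtain ⟨m, hm₁, hm₂⟩ := square_lift sq₀ π u sq.w
  obtain ⟨n, hn₁, hn₂⟩ := square_lift sq π₀ u₀ sq₀.w
  have : IsIso m := ⟨n, square_hom_ext sq (by simp [hm₁, hn₁]) (by simp [hm₂, hn₂]),
    square_hom_ext sq₀ (by simp [hm₁, hn₁]) (by simp [hm₂, hn₂])⟩
  have sq' : IsPullback m π π₀ (𝟙 T) := IsPullback.of_horiz_isIso ⟨by rw [hm₁, Category.comp_id]⟩
  refine ⟨m.left ⁻¹ᵁ V, isFinite_preimage sq' V, ?_⟩
  rw [← hm₂, pieceSet_comap sq', comapLifts_id]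

lemma IsPiece.comap {T T' : Over S} {g : (yon S).obj T ⟶ F} {L : Lifts U T} (h : IsPiece p g L)
    (a : T' ⟶ T) : IsPiece p ((yon S).map a ≫ g) (comapLifts a L) := by
  obtain ⟨X, u, π, sq, V, hV, rfl⟩ := h
  have sq' := IsPullback.of_hasPullback π a
  exact ⟨_, _, _, isPullback_comap sq sq', _, isFinite_preimage sq' V, pieceSet_comap sq' V⟩

end Groth.Agent.AlgSpace
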