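import Groth.Agent.Lib.AlgSpace.Pieces
import Groth.Agent.Lib.AlgSpace.PieceLocal
import Groth.Agent.Lib.AlgSpace.LocP
import Groth.Agent.Lib.AlgSpace.Diag
import Groth.Agent.Lib.AlgSpace.OpenFlat

/-!
# The sheaf of finite open pieces is etale over the base sheaf
-/

universe u

set_option backward.isDefEq.respectTransparency.types false
set_option linter.unusedVariables false

open CategoryTheory CategoryTheory.Limits AlgebraicGeometry Opposite

namespace Groth.Agent.AlgSpace

open AlgSp AlgSpDecent

variable {S : Scheme.{u}} {F : Sp S} {U : Over S} {p : (yon S).obj U ⟶ F} (hp : GoodMap p)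
  {T : Over S} (g : (yon S).obj T ⟶ F)

/-- Equalizers into the sheaf of pieces over a test scheme are clopen. -/
theorem exists_isPullback_pieces {A B : Over S}
    (α : (yon S).obj A ⟶ pullback (piecesπ hp) g) (β : (yon S).obj B ⟶ pullback (piecesπ hp) g)
    {a : A ⟶ T} {b : B ⟶ T} (ha : (yon S).map a = α ≫ pullback.snd _ _)
    (hb : (yon S).map b = β ≫ pullback.snd _ _) :
    ∃ (W : Over S) (j : W ⟶ pullback a b), IsOpenImmersion j.left ∧ IsClosedImmersion j.left ∧
      IsPullback ((yon S).map (j ≫ pullback.fst a b)) ((yon S).map (j ≫ pullback.snd a b)) α β := by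
  let c₁ := (yon S).map (pullback.fst a b) ≫ α ≫ pullback.fst (piecesπ hp) g
  let c₂ := (yon S).map (pullback.snd a b) ≫ β ≫ pullback.fst (piecesπ hp) g
  have e : c₁ ≫ piecesπ hp = c₂ ≫ piecesπ hp := by
    simp only [c₁, c₂, Category.assoc, pullback.condition]
    rw [← reassoc_of% ha, ← reassoc_of% hb, ← Functor.map_comp_assoc, ← Functor.map_comp_assoc,
      pullback.condition]
  obtain ⟨O, hOc, hO⟩ := exists_clopen_eq hp (isPiece_pieceOf c₁) (e ▸ isPiece_pieceOf c₂)
  let W : Over S := Over.mk (O.ι ≫ (pullback a b).hom)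
  let j : W ⟶ pullback a b := Over.homMk O.ι rfl
  have hjo : IsOpenImmersion j.left := inferInstanceAs (IsOpenImmersion O.ι)
  have hjc : IsClosedImmersion j.left :=
    IsClosedImmersion.of_isPreimmersion O.ι (by rw [O.range_ι]; exact hOc)
  have hsect : ∀ {V : Over S} (k : V ⟶ pullback a b),
      ((yon S).map k ≫ c₁ = (yon S).map k ≫ c₂ ↔ ∀ v, k.left v ∈ O) := fun k => by
    rw [← hO k, ← pieceOf_comp, ← pieceOf_comp]
    exact ⟨fun h => congrArg pieceOf h, fun h =>
      pieces_hom_ext ((Category.assoc _ _ _).trans ((congrArg (_ ≫ ·) e).trans (Category.assoc _ _ _).symm)) h⟩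
  have w : (yon S).map (j ≫ pullback.fst a b) ≫ α = (yon S).map (j ≫ pullback.snd a b) ≫ β := by
    apply pullback.hom_ext
    · simp only [Functor.map_comp, Category.assoc]
      exact (hsect j).2 fun v => v.2
    · simp only [Category.assoc, ← ha, ← hb, ← Functor.map_comp, pullback.condition]
  let c := pullback.lift _ _ w
  have : Mono j.left := inferInstance
  have hjm : Mono j := (Over.forget S).mono_of_mono_map ‹_›
  have : Mono c := mono_of_yon _ fun V x y h => by
    obtain ⟨x, rfl⟩ := (yon S).map_surjective x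
    obtain ⟨y, rfl⟩ := (yon S).map_surjective y
    have h₁ := h =≫ pullback.fst α β
    have h₂ := h =≫ pullback.snd α β
    simp only [c, Category.assoc, pullback.lift_fst, pullback.lift_snd, ← Functor.map_comp] at h₁ h₂
    exact congrArg _ ((cancel_mono j).1 (pullback.hom_ext
      (by simpa using (yon S).map_injective h₁) (by simpa using (yon S).map_injective h₂)))
  have : IsIso c := isIso_of_mono_of_lifts c fun V q => by
    obtain ⟨x, hx⟩ := (yon S).map_surjective (q ≫ pullback.fst α β)
    obtain ⟨y, hy⟩ := (yon S).map_surjective (q ≫ pullback.snd α β)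
    have hxy : (yon S).map x ≫ α = (yon S).map y ≫ β := by
      rw [hx, hy, Category.assoc, Category.assoc, pullback.condition]
    have hxy' : x ≫ a = y ≫ b := by
      apply (yon S).map_injective
      rw [Functor.map_comp, Functor.map_comp, ha, hb, ← Category.assoc, hxy, Category.assoc]
    let k := pullback.lift x y hxy'
    have hk := (hsect k).1 (by
      simp only [c₁, c₂, ← Category.assoc, ← Functor.map_comp, k, pullback.lift_fst, pullback.lift_snd,
        hxy])
    have hr : Set.range k.left ⊆ Set.range O.ι := by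
      rintro _ ⟨v, rfl⟩; rw [O.range_ι]; exact hk v
    let k' : V ⟶ W := Over.homMk (IsOpenImmersion.lift O.ι k.left hr) (by
      change _ ≫ O.ι ≫ (pullback a b).hom = _
      rw [IsOpenImmersion.lift_fac_assoc, Over.w k])
    have hk' : k' ≫ j = k := Over.OverMorphism.ext (IsOpenImmersion.lift_fac _ _ _)
    refine ⟨(yon S).map k', pullback.hom_ext ?_ ?_⟩
    · simp only [c, Category.assoc, pullback.lift_fst, ← Functor.map_comp]
      rw [← Category.assoc, hk', pullback.lift_fst, hx]
    · simp only [c, Category.assoc, pullback.lift_snd, ← Functor.map_comp]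
      rw [← Category.assoc, hk', pullback.lift_snd, hy]
  exact ⟨W, j, hjo, hjc, IsPullback.of_iso_pullback ⟨w⟩ (asIso c) (pullback.lift_fst _ _ _)
    (pullback.lift_snd _ _ _)⟩

theorem representable_diag_pieces : Representable (Limits.diag (pullback (piecesπ hp) g)) :=
  representable_diag_iff.2 fun A B α β => by
    obtain ⟨a, ha⟩ := (yon S).map_surjective (α ≫ pullback.snd (piecesπ hp) g)
    obtain ⟨b, hb⟩ := (yon S).map_surjective (β ≫ pullback.snd (piecesπ hp) g)
    obtain ⟨W, j, -, -, sq⟩ := exists_isPullback_pieces hp g α β ha hb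
    exact ⟨W, _, _, sq⟩

theorem isSeparatedMor_pieces : IsSeparatedMor (pullback.snd (piecesπ hp) g) := by
  refine repWith_mk fun B ξ => ?_
  let π := pullback.snd (piecesπ hp) g
  obtain ⟨b, hb⟩ := (yon S).map_surjective (ξ ≫ pullback.fst π π ≫ π)
  let c₁ := ξ ≫ pullback.fst π π ≫ pullback.fst (piecesπ hp) g
  let c₂ := ξ ≫ pullback.snd π π ≫ pullback.fst (piecesπ hp) g
  have e : c₁ ≫ piecesπ hp = c₂ ≫ piecesπ hp := by
    simp only [c₁, c₂, Category.assoc, pullback.condition]
    rw [pullback.condition_assoc]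
  obtain ⟨O, hOc, hO⟩ := exists_clopen_eq hp (isPiece_pieceOf c₁) (e ▸ isPiece_pieceOf c₂)
  let W : Over S := Over.mk (O.ι ≫ B.hom)
  let j : W ⟶ B := Over.homMk O.ι rfl
  have hjc : IsClosedImmersion j.left :=
    IsClosedImmersion.of_isPreimmersion O.ι (by rw [O.range_ι]; exact hOc)
  have hsect : ∀ {V : Over S} (k : V ⟶ B),
      ((yon S).map k ≫ ξ ≫ pullback.fst π π = (yon S).map k ≫ ξ ≫ pullback.snd π π ↔
        ∀ v, k.left v ∈ O) := fun k => by
    rw [← hO k, ← pieceOf_comp, ← pieceOf_comp]
    refine ⟨fun h => by simp only [c₁, c₂, ← Category.assoc] at h ⊢; rw [h], fun h => ?_⟩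
    apply pullback.hom_ext
    · simpa [c₁, c₂] using pieces_hom_ext ((Category.assoc _ _ _).trans ((congrArg (_ ≫ ·) e).trans (Category.assoc _ _ _).symm)) h
    · simp only [Category.assoc]
      exact congrArg (_ ≫ ξ ≫ ·) pullback.condition
  have : Mono j.left := inferInstanceAs (Mono O.ι)
  have : Mono j := (Over.forget S).mono_of_mono_map ‹_›
  refine ⟨W, (yon S).map j ≫ ξ ≫ pullback.fst π π, j, isPullback_of_mono_lifts ?_ fun V y x h => ?_, hjc⟩
  · change _ ≫ pullback.diagonal π = (yon S).map j ≫ ξ
    apply pullback.hom_ext <;> simp only [Category.assoc, pullback.diagonal_fst,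
      pullback.diagonal_snd, Category.comp_id]
    exact (hsect j).2 fun v => v.2
  · obtain ⟨k, rfl⟩ := (yon S).map_surjective y
    have hk := (hsect k).1 (by
      have h' : x ≫ pullback.diagonal π = (yon S).map k ≫ ξ := h
      rw [← Category.assoc, ← Category.assoc, ← h']
      simp [π])
    have hr : Set.range k.left ⊆ Set.range O.ι := by
      rintro _ ⟨v, rfl⟩; rw [O.range_ι]; exact hk v
    let k' : V ⟶ W := Over.homMk (IsOpenImmersion.lift O.ι k.left hr) (by
      change _ ≫ O.ι ≫ B.hom = _
      rw [IsOpenImmersion.lift_fac_assoc, Over.w k])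
    refine ⟨(yon S).map k', ?_⟩
    rw [← Functor.map_comp]
    exact congrArg _ (Over.OverMorphism.ext (IsOpenImmersion.lift_fac _ _ _))

theorem isAlgSpace_pieces : IsAlgSpace (pullback (piecesπ hp) g) ∧
    LocP @Etale (pullback.snd (piecesπ hp) g) := by
  obtain ⟨u, hu⟩ := (yon S).map_surjective (hp.sepLqf.1.fst g)
  let X := hp.sepLqf.1.pullback g
  let π : X ⟶ T := hp.sepLqf.1.snd g
  have sq : IsPullback ((yon S).map u) ((yon S).map π) p g := hu ▸ hp.sepLqf.1.isPullback g
  have hπ := hp.sepLqf.2 g _ _ sq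
  have : LocallyQuasiFinite π.left := hπ.1.1
  have : LocallyOfFiniteType π.left := hπ.1.2
  have : IsSeparated π.left := hπ.2
  have loc := PieceLocal.exists_piece_of_points π.left
  choose T₁ e V he hV hpts using loc
  let Ti : List ↥X.left → Over S := fun i => Over.mk (e i ≫ T.hom)
  let ei : ∀ i, Ti i ⟶ T := fun i => Over.homMk (e i) rfl
  let Xi : List ↥X.left → Over S := fun i => Over.mk (pullback.fst π.left (e i) ≫ X.hom)
  let qi : ∀ i, Xi i ⟶ X := fun i => Over.homMk (pullback.fst π.left (e i)) rfl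
  let ri : ∀ i, Xi i ⟶ Ti i := fun i => Over.homMk (pullback.snd π.left (e i)) (by
    change pullback.snd π.left (e i) ≫ e i ≫ T.hom = pullback.fst π.left (e i) ≫ X.hom
    rw [← pullback.condition_assoc, Over.w π])
  have sqi : ∀ i, IsPullback (qi i) (ri i) π (ei i) := fun i =>
    IsPullback.of_map_of_faithful (Over.forget S) (IsPullback.of_hasPullback π.left (e i))
  have hpiece : ∀ i, IsPiece p ((yon S).map (ei i) ≫ g) (pieceSet (qi i ≫ u) (ri i) (V i)) :=
    fun i => ⟨_, _, _, isPullback_comap sq (sqi i), V i, hV i, rfl⟩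
  choose ci hci₁ hci₂ using fun i => exists_map_to_pieces (hp := hp) (hpiece i)
  let li : ∀ i, (yon S).obj (Ti i) ⟶ pullback (piecesπ hp) g := fun i =>
    pullback.lift (ci i) ((yon S).map (ei i)) (hci₁ i)
  -- glue along the disjoint union
  let q : (∐ T₁) ⟶ T.left := Sigma.desc e
  have hq : ∀ i, Sigma.ι T₁ i ≫ q = e i := fun i => Sigma.ι_desc _ _
  let A : Over S := Over.mk (q ≫ T.hom)
  let ι : ∀ i, Ti i ⟶ A := fun i => Over.homMk (Sigma.ι T₁ i) (by
    change Sigma.ι T₁ i ≫ q ≫ T.hom = _
    rw [← Category.assoc, hq]; rfl)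
  have hι : ∀ i, IsOpenImmersion (ι i).left := fun i => inferInstanceAs (IsOpenImmersion (Sigma.ι T₁ i))
  have hcov : ∀ x : ↥A.left, ∃ i y, (ι i).left y = x := fun x => by
    obtain ⟨i, y, hy⟩ := (sigmaOpenCover T₁).exists_eq x
    exact ⟨i, y, hy⟩
  obtain ⟨L, hL, -⟩ := existsUnique_glue ι hι hcov li fun i j W a b h => by
    rcases eq_or_ne i j with rfl | hij
    · have := hι i
      have : Mono (ι i) := (Over.forget S).mono_of_mono_map (inferInstanceAs (Mono (ι i).left))
      rw [(cancel_mono (ι i)).1 h]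
    · have : IsEmpty ↥W.left := ⟨fun w => by
        have h₁ : Sigma.ι T₁ i (a.left w) = Sigma.ι T₁ j (b.left w) :=
          congrArg (fun k : W ⟶ A => k.left w) h
        have hd := disjoint_opensRange_sigmaι T₁ i j hij
        rw [disjoint_iff_inf_le] at hd
        exact hd (show Sigma.ι T₁ i (a.left w) ∈ (Sigma.ι T₁ i).opensRange ⊓
          (Sigma.ι T₁ j).opensRange from ⟨⟨a.left w, rfl⟩, ⟨b.left w, h₁.symm⟩⟩)⟩
      exact hom_ext_of_isEmpty _ _
  let qA : A ⟶ T := Over.homMk q rfl
  have hLq : (yon S).map qA = L ≫ pullback.snd _ _ := hom_ext_glue ι hι hcov fun i => by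
    rw [← Category.assoc, hL, pullback.lift_snd, ← Functor.map_comp]
    exact congrArg _ (Over.OverMorphism.ext (hq i))
  have : ∀ i, Etale (e i) := he
  have hqA : Etale qA.left := IsZariskiLocalAtSource.sigmaDesc (P := @Etale) he
  have hLe : RepWith @Etale L := repWith_mk fun B β => by
    obtain ⟨b, hb⟩ := (yon S).map_surjective (β ≫ pullback.snd (piecesπ hp) g)
    obtain ⟨W, j, hjo, -, sqW⟩ := exists_isPullback_pieces hp g L β hLq hb
    refine ⟨W, _, _, sqW, ?_⟩
    have : Etale (pullback.snd qA b).left :=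
      MorphismProperty.of_isPullback ((IsPullback.of_hasPullback qA b).map (Over.forget S)) hqA
    rw [Over.comp_left]
    infer_instance
  have hLs : Function.Surjective (Points.ofPt L) := by
    intro y
    obtain ⟨T₀, c₀, t₀, rfl⟩ := exists_ofPt_eq y
    let K := AlgebraicClosure (T₀.left.residueField t₀)
    let zK : Spec (.of K) ⟶ T₀.left :=
      Spec.map (CommRingCat.ofHom (algebraMap (T₀.left.residueField t₀) K)) ≫
        T₀.left.fromSpecResidueField t₀
    let K' : Over S := Over.mk (zK ≫ T₀.hom)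
    let k : K' ⟶ T₀ := Over.homMk zK rfl
    let pt : ↥K'.left := IsLocalRing.closedPoint K
    let c := (yon S).map k ≫ c₀
    have hc : Points.ofPt c pt = Points.ofPt c₀ t₀ := by
      rw [ofPt_map_comp]
      exact congrArg _ (Scheme.fromSpecResidueField_apply t₀ _)
    obtain ⟨t, ht⟩ := (yon S).map_surjective (c ≫ pullback.snd (piecesπ hp) g)
    have hcg : (c ≫ pullback.fst (piecesπ hp) g) ≫ piecesπ hp = (yon S).map t ≫ g := by
      rw [Category.assoc, pullback.condition, ← Category.assoc, ht]
    let XK : Over S := Over.mk (pullback.fst π.left t.left ≫ X.hom)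
    let qK : XK ⟶ X := Over.homMk (pullback.fst π.left t.left) rfl
    let rK : XK ⟶ K' := Over.homMk (pullback.snd π.left t.left) (by
      change pullback.snd π.left t.left ≫ K'.hom = pullback.fst π.left t.left ≫ X.hom
      rw [← Over.w t, ← pullback.condition_assoc, Over.w π])
    have sqK : IsPullback qK rK π t :=
      IsPullback.of_map_of_faithful (Over.forget S) (IsPullback.of_hasPullback π.left t.left)
    have hpc := hcg ▸ isPiece_pieceOf (c ≫ pullback.fst (piecesπ hp) g)
    obtain ⟨Vc, hVc, hVcL⟩ := hpc.exists_opens (isPullback_comap sq sqK)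
    let sK : pullback π.left t.left ⟶ Spec (.of K) := pullback.snd π.left t.left
    have : LocallyQuasiFinite sK := inferInstanceAs (LocallyQuasiFinite (pullback.snd π.left t.left))
    have : LocallyOfFiniteType sK := inferInstanceAs (LocallyOfFiniteType (pullback.snd π.left t.left))
    have : IsFinite (Vc.ι ≫ sK) := hVc
    have hfin : Finite ↥(Vc : Scheme.{u}) := by
      have : CompactSpace ↥(Vc : Scheme.{u}) := QuasiCompact.compactSpace_of_compactSpace (Vc.ι ≫ sK)
      have := (Vc.ι ≫ sK).finite_preimage_singleton (IsLocalRing.closedPoint K)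
      refine Set.finite_univ_iff.1 (this.subset fun y _ => ?_)
      exact (Subsingleton.elim _ _ : (_ : PrimeSpectrum K) = _)
    choose w hw₁ hw₂ using fun v : ↥(Vc : Scheme.{u}) =>
      PieceLocal.exists_section_through sK (Vc.ι v)
    obtain ⟨ls, hls⟩ : ∃ ls : List ↥(Vc : Scheme.{u}), ∀ v, v ∈ ls := by
      have := Fintype.ofFinite ↥(Vc : Scheme.{u})
      exact ⟨Finset.univ.toList, fun v => by simp⟩
    let zs := ls.map fun v => w v ≫ pullback.fst π.left t.left
    obtain ⟨l, hl, hlw⟩ := hpts (zs.map fun z => z (IsLocalRing.closedPoint K)) K t.left zs rfl fun z hz => by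
      obtain ⟨v, -, rfl⟩ := List.mem_map.1 hz
      rw [Category.assoc, pullback.condition, reassoc_of% (hw₁ v)]
    let i : List ↥X.left := zs.map fun z => z (IsLocalRing.closedPoint K)
    let l' : K' ⟶ Ti i := Over.homMk l (by
      change l ≫ e i ≫ T.hom = K'.hom
      rw [reassoc_of% hl, Over.w t])
    have hl' : l' ≫ ei i = t := Over.OverMorphism.ext hl
    let m : XK ⟶ Xi i := (sqi i).lift qK (rK ≫ l') (by rw [Category.assoc, hl']; exact sqK.w)
    have sqm : IsPullback m rK (ri i) l' := by
      refine IsPullback.of_right ?_ ((sqi i).lift_snd _ _ _) (sqi i)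
      rw [(sqi i).lift_fst, hl']
      exact sqK
    refine ⟨(ι i).left (l'.left pt), ?_⟩
    rw [← hc, ← ofPt_map_comp, hL, ← ofPt_map_comp]
    refine congrArg (Points.ofPt · pt) ?_
    apply pullback.hom_ext
    · rw [Category.assoc, pullback.lift_fst]
      refine pieces_hom_ext ?_ ?_
      · rw [Category.assoc, hci₁, ← Functor.map_comp_assoc, hl', hcg]
      · have hV' : m.left ⁻¹ᵁ V i = Vc := by
          ext v
          obtain ⟨z, hz₁, hz₂⟩ := PieceLocal.exists_section_through sK v
          have hm₁ : m.left ≫ pullback.fst π.left (e i) = pullback.fst π.left t.left :=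
            congrArg CommaMorphism.left ((sqi i).lift_fst _ _ _)
          have hm₂ : m.left ≫ pullback.snd π.left (e i) = pullback.snd π.left t.left ≫ l :=
            congrArg CommaMorphism.left ((sqi i).lift_snd _ _ _)
          have key := hlw (z ≫ m.left) (by rw [Category.assoc, hm₂, reassoc_of% hz₁])
          rw [Category.assoc, hm₁, Scheme.Hom.comp_apply, hz₂] at key
          refine key.trans ⟨fun h => ?_, fun h => ?_⟩
          · obtain ⟨v', -, hv'⟩ := List.mem_map.1 h
            have : w v' = z := pullback.hom_ext hv' ((hw₁ v').trans hz₁.symm)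
            rw [← hz₂, ← this, hw₂]
            exact v'.2
          · refine List.mem_map.2 ⟨⟨v, h⟩, hls _, congrArg (· ≫ _) ?_⟩
            exact ext_of_apply_closedPoint_eq sK (hw₁ _) hz₁ ((hw₂ _).trans hz₂.symm)
        rw [pieceOf_comp, hci₂, ← hVcL, ← pieceSet_comap sqm, hV', ← Category.assoc m,
          (sqi i).lift_fst]
    · rw [Category.assoc, pullback.lift_snd, ← Functor.map_comp, hl', ht]
  have hLrep : Representable L := hLe.1
  have hs := repWith_surjective_of_ofPt hLrep hLs
  refine ⟨⟨representable_diag_pieces hp g, A, L, hLe, hs⟩,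
    locP_of_one_chart L (𝟙 _) qA hLe hs (repWith_id _ _) (by rw [Category.comp_id]; exact hLq.symm) hqA⟩

/-- The sheaf of pieces is representable, separated and etale over the base sheaf. -/
theorem repWith_piecesπ : RepWith (@Etale ⊓ @IsSeparated) (piecesπ hp) := by
  refine repWith_mk fun T g => ?_
  obtain ⟨hP, het⟩ := isAlgSpace_pieces hp g
  have hsep := isSeparatedMor_pieces hp g
  have hqf : LocP (@LocallyQuasiFinite ⊓ @LocallyOfFiniteType) (pullback.snd (piecesπ hp) g) :=
    locP_mono (fun A B f (hf : Etale f) => ⟨locallyQuasiFinite_of_unramified f, inferInstance⟩) het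
  obtain ⟨G, ⟨i⟩⟩ := exists_iso_yon_of_lqf_separated hP _ hsep hqf
  obtain ⟨h, hh⟩ := (yon S).map_surjective (i.hom ≫ pullback.snd (piecesπ hp) g)
  refine ⟨G, i.hom ≫ pullback.fst _ _, h, ?_, ?_, ?_⟩
  · exact IsPullback.of_iso (IsPullback.of_hasPullback (piecesπ hp) g) i.symm (Iso.refl _) (Iso.refl _)
      (Iso.refl _) (by simp) (by simp [hh]) (by simp) (by simp)
  · exact het i.hom (𝟙 _) h (MorphismProperty.of_isIso (RepWith (S := S) @Etale) i.hom)
      (repWith_id _ _) (by rw [Category.comp_id, hh])
  · refine (isSeparatedMor_yon_map_iff h).1 ?_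
    rw [hh]
    exact repWith_diagonal_comp (repWith_diagonal_of_mono i.hom) hsep

end Groth.Agent.AlgSpace
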