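import Groth.Agent.Lib.AlgSpace.PieceSet

/-!
# The sheaf of finite open pieces
-/

universe u

set_option backward.isDefEq.respectTransparency.types false
set_option linter.unusedVariables false

open CategoryTheory CategoryTheory.Limits AlgebraicGeometry Opposite

namespace Groth.Agent.AlgSpace

open AlgSp

variable {S : Scheme.{u}} {F : Sp S} {U : Over S} {p : (yon S).obj U ⟶ F}

/-- A piece is determined by its restrictions to a jointly surjective family. -/
lemma IsPiece.le_of_cover {T : Over S} {g : (yon S).obj T ⟶ F} {L L' : Lifts U T} (h : IsPiece p g L)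
    (h' : IsPiece p g L') (𝒰 : Scheme.Cover.{u} Scheme.fppfPrecoverage.{u} T.left)
    (hc : ∀ i, comapLifts (overArrow (𝒰.f i)) L ⊆ comapLifts (overArrow (𝒰.f i)) L') : L ⊆ L' := by
  rintro ⟨W, b, v⟩ hx
  refine h'.mem_of_local (h.eq hx) fun t => ?_
  obtain ⟨i, z, hz⟩ := 𝒰.exists_eq (b.left t)
  obtain ⟨q, hq₁, hq₂⟩ := Scheme.Pullback.exists_preimage_pullback (f := b.left) (g := 𝒰.f i) t z hz.symm
  let W' : Over S := Over.mk (pullback.fst b.left (𝒰.f i) ≫ W.hom)
  let k : W' ⟶ W := Over.homMk (pullback.fst b.left (𝒰.f i)) rfl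
  let k' : W' ⟶ Over.mk (𝒰.f i ≫ T.hom) := Over.homMk (pullback.snd b.left (𝒰.f i)) (by
    change pullback.snd b.left (𝒰.f i) ≫ 𝒰.f i ≫ T.hom = pullback.fst b.left (𝒰.f i) ≫ W.hom
    rw [← pullback.condition_assoc, Over.w b])
  have hk : k' ≫ overArrow (𝒰.f i) = k ≫ b := Over.OverMorphism.ext pullback.condition.symm
  refine ⟨W', k, ⟨q, hq₁⟩, ?_⟩
  have h₁ : (⟨W', (k', k ≫ v)⟩ : Σ T' : Over S, (T' ⟶ _) × (T' ⟶ U)) ∈
      comapLifts (overArrow (𝒰.f i)) L := by
    change _ ∈ L
    rw [hk]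
    exact h.mem_comp k hx
  have h₂ := hc i h₁
  change (⟨W', (k' ≫ overArrow (𝒰.f i), k ≫ v)⟩ : Σ T' : Over S, (T' ⟶ T) × (T' ⟶ U)) ∈ L' at h₂
  rwa [hk] at h₂

variable (p) in
/-- The presheaf of maps to `F` with a finite open piece of the base change of `p`. -/
def piecesP : PSp S where
  obj T := {x : ((yon S).obj T.unop ⟶ F) × Lifts U T.unop // IsPiece p x.1 x.2}
  map a := TypeCat.ofHom fun x =>
    ⟨((yon S).map a.unop ≫ x.1.1, comapLifts a.unop x.1.2), x.2.comap a.unop⟩
  map_id T := by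
    ext x
    all_goals simp [comapLifts_id]
  map_comp a b := by
    ext x
    all_goals simp [comapLifts_comp]

theorem isSheaf_piecesP (hp : RepWith sepLqf p) (hfl : RepWith @Flat p)
    (hfp : RepWith @LocallyOfFinitePresentation p) : Presieve.IsSheaf (AlgSp.J S) (piecesP p) := by
  intro T R hR x hx
  obtain ⟨𝒰, h𝒰⟩ := (mem_J_iff _).1 hR
  replace h𝒰 : ∀ i, R (overArrow (𝒰.f i)) := fun i => (overEquiv_arrow _ _).1 (h𝒰 i)
  have hF := (isSheaf_iff_isSheaf_of_type _ _).1 F.property R hR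
  let y : Presieve.FamilyOfElements F.obj R.arrows := fun T' f hf => sect (x f hf).1.1
  have hy : y.Compatible := fun Y₁ Y₂ Z g₁ g₂ f₁ f₂ h₁ h₂ e => by
    change F.obj.map g₁.op (sect _) = F.obj.map g₂.op (sect _)
    rw [GrothendieckTopology.uliftYonedaEquiv_naturality, GrothendieckTopology.uliftYonedaEquiv_naturality]
    exact congrArg sect (congrArg (fun z => z.1.1) (hx g₁ g₂ h₁ h₂ e))
  obtain ⟨g, hg⟩ := (sect (T := T) (F := F)).surjective (hF.amalgamate y hy)
  have hgf : ∀ ⦃T'⦄ (f : T' ⟶ T) (hf : R f), (yon S).map f ≫ g = (x f hf).1.1 := fun T' f hf => by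
    apply sect.injective
    rw [← GrothendieckTopology.uliftYonedaEquiv_naturality]
    exact (congrArg _ hg).trans (hF.valid_glue hy f hf)
  obtain ⟨u, hu⟩ := (yon S).map_surjective (hp.1.fst g)
  let π : hp.1.pullback g ⟶ T := hp.1.snd g
  have sq : IsPullback ((yon S).map u) ((yon S).map π) p g := hu ▸ hp.1.isPullback g
  have : Flat π.left := hfl.2 g _ _ sq
  have : LocallyOfFinitePresentation π.left := hfp.2 g _ _ sq
  let f : ∀ i, pullback π (overArrow (𝒰.f i)) ⟶ hp.1.pullback g := fun i => pullback.fst _ _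
  have sqi : ∀ i, IsPullback (f i) (pullback.snd π (overArrow (𝒰.f i))) π (overArrow (𝒰.f i)) :=
    fun i => IsPullback.of_hasPullback _ _
  have hV : ∀ i, ∃ V : (pullback π (overArrow (𝒰.f i))).left.Opens,
      IsFinite (V.ι ≫ (pullback.snd π (overArrow (𝒰.f i))).left) ∧
        pieceSet (f i ≫ u) (pullback.snd π (overArrow (𝒰.f i))) V = (x _ (h𝒰 i)).1.2 := fun i =>
    (x _ (h𝒰 i)).2.exists_opens ((hgf _ (h𝒰 i)) ▸ isPullback_comap sq (sqi i))
  choose V hVf hVL using hV
  have hfi : ∀ i, IsOpenMap (f i).left := fun i => by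
    have sqL := (sqi i).map (Over.forget S)
    have h𝒰i := Scheme.Cover.map_prop (P := @Flat ⊓ @LocallyOfFinitePresentation) 𝒰 i
    have : Flat (f i).left := MorphismProperty.of_isPullback sqL.flip h𝒰i.1
    have : LocallyOfFinitePresentation (f i).left := MorphismProperty.of_isPullback sqL.flip h𝒰i.2
    exact (f i).left.isOpenMap
  let W : (hp.1.pullback g).left.Opens :=
    ⟨⋃ i, (f i).left '' (V i : Set _), isOpen_iUnion fun i => hfi i _ (V i).2⟩
  have hW : ∀ i, (f i).left ⁻¹ᵁ W = V i := fun i => by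
    refine le_antisymm (fun z hz => ?_) fun z hz => Set.mem_iUnion.2 ⟨i, z, hz, rfl⟩
    obtain ⟨j, w, hw, e⟩ := Set.mem_iUnion.1 (show (f i).left z ∈ ⋃ i, (f i).left '' (V i : Set _) from hz)
    obtain ⟨q, hq₁, hq₂⟩ :=
      Scheme.Pullback.exists_preimage_pullback (f := (f i).left) (g := (f j).left) z w e.symm
    let Q₀ := pullback (f i).left (f j).left
    let O := (pullback.snd (f i).left (f j).left) ⁻¹ᵁ V j
    let Q : Over S := Over.mk (O.ι ≫ pullback.fst (f i).left (f j).left ≫ (pullback π (overArrow (𝒰.f i))).hom)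
    let a : Q ⟶ pullback π (overArrow (𝒰.f i)) :=
      Over.homMk (O.ι ≫ pullback.fst (f i).left (f j).left) (Category.assoc _ _ _)
    let b : Q ⟶ pullback π (overArrow (𝒰.f j)) :=
      Over.homMk (O.ι ≫ pullback.snd (f i).left (f j).left) (by
        change (O.ι ≫ pullback.snd (f i).left (f j).left) ≫ (pullback π (overArrow (𝒰.f j))).hom =
          O.ι ≫ pullback.fst (f i).left (f j).left ≫ (pullback π (overArrow (𝒰.f i))).hom
        rw [Category.assoc, ← Over.w (f i), ← Over.w (f j), pullback.condition_assoc])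
    have hab : a ≫ f i = b ≫ f j := Over.OverMorphism.ext (by
      simp only [Over.comp_left, a, b, Over.homMk_left, Category.assoc, pullback.condition])
    let a' := a ≫ pullback.snd π (overArrow (𝒰.f i))
    let b' := b ≫ pullback.snd π (overArrow (𝒰.f j))
    have he : a' ≫ overArrow (𝒰.f i) = b' ≫ overArrow (𝒰.f j) := by
      simp only [a', b', Category.assoc, ← pullback.condition]
      simpa [f] using hab =≫ π
    have hc := congrArg (fun z => z.1.2) (hx a' b' (h𝒰 i) (h𝒰 j) he)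
    change comapLifts a' _ = comapLifts b' _ at hc
    rw [← hVL, ← hVL] at hc
    have hmem : (⟨Q, (𝟙 Q, b ≫ f j ≫ u)⟩ : Σ T' : Over S, (T' ⟶ Q) × (T' ⟶ U)) ∈
        comapLifts b' (pieceSet (f j ≫ u) (pullback.snd π (overArrow (𝒰.f j))) (V j)) :=
      ⟨b, (Category.id_comp _).symm, rfl, fun t => t.2⟩
    rw [← hc] at hmem
    obtain ⟨m, hm₁, hm₂, hm⟩ := hmem
    have : m = a := square_hom_ext (isPullback_comap sq (sqi i))
      (hm₁.trans (Category.id_comp _)) (hm₂.trans (by rw [← Category.assoc, ← hab, Category.assoc]))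
    have := hm (⟨q, show (pullback.snd (f i).left (f j).left) q ∈ V j from hq₂ ▸ hw⟩ : O)
    rw [‹m = a›] at this
    change (pullback.fst (f i).left (f j).left) (O.ι _) ∈ V i at this
    exact hq₁ ▸ this
  have hfin : IsFinite (W.ι ≫ π.left) := by
    have := FpqcDesc.descendsAlong_isFinite.{u}
    have := isLocalAtTarget_fppf (@IsFinite : MorphismProperty Scheme.{u})
    refine MorphismProperty.IsLocalAtTarget.of_zeroHypercover 𝒰 fun i => ?_
    have sq₁ := (isPullback_morphismRestrict (f i).left W).paste_vert ((sqi i).map (Over.forget S))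
    have sq₂ := IsPullback.of_hasPullback (W.ι ≫ π.left) (𝒰.f i)
    have e := sq₂.isoIsPullback_hom_snd _ _ sq₁
    rw [← e]
    refine (MorphismProperty.cancel_left_of_respectsIso @IsFinite _ _).2 ?_
    change IsFinite (((f i).left ⁻¹ᵁ W).ι ≫ _)
    rw [hW]
    exact hVf i
  have hL : IsPiece p g (pieceSet u π W) := ⟨_, u, π, sq, W, hfin, rfl⟩
  have hLi : ∀ i, comapLifts (overArrow (𝒰.f i)) (pieceSet u π W) = (x _ (h𝒰 i)).1.2 := fun i => by
    rw [← pieceSet_comap (sqi i), hW, hVL]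
  refine ⟨⟨(g, pieceSet u π W), hL⟩, fun T' a ha => ?_, fun z hz => ?_⟩
  · have hL' := hL.comap a
    rw [hgf a ha] at hL'
    refine Subtype.ext (Prod.ext (hgf a ha) ?_)
    change comapLifts a (pieceSet u π W) = (x a ha).1.2
    let 𝒲 : Scheme.Cover.{u} Scheme.fppfPrecoverage.{u} T'.left := Precoverage.ZeroHypercover.pullback₁ a.left 𝒰
    have key : ∀ i, comapLifts (overArrow (𝒲.f i)) (comapLifts a (pieceSet u π W)) =
        comapLifts (overArrow (𝒲.f i)) (x a ha).1.2 := fun i => by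
      let k : Over.mk (𝒲.f i ≫ T'.hom) ⟶ Over.mk (𝒰.f i ≫ T.hom) :=
        Over.homMk (pullback.snd a.left (𝒰.f i)) (by
          change pullback.snd a.left (𝒰.f i) ≫ 𝒰.f i ≫ T.hom = pullback.fst a.left (𝒰.f i) ≫ T'.hom
          rw [← pullback.condition_assoc, Over.w a])
      have hk : overArrow (𝒲.f i) ≫ a = k ≫ overArrow (𝒰.f i) :=
        Over.OverMorphism.ext pullback.condition
      have : comapLifts (overArrow (𝒲.f i)) (x a ha).1.2 = comapLifts k (x _ (h𝒰 i)).1.2 :=
        congrArg (fun z => z.1.2) (hx (overArrow (𝒲.f i)) k ha (h𝒰 i) hk)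
      rw [this, ← comapLifts_comp, hk, comapLifts_comp, hLi]
    exact le_antisymm (hL'.le_of_cover (x a ha).2 𝒲 fun i => (key i).le)
      ((x a ha).2.le_of_cover hL' 𝒲 fun i => (key i).ge)
  · have hz1 : z.1.1 = g := by
      apply sect.injective
      rw [hg]
      refine hF.isSeparatedFor.ext fun T' a ha => ?_
      rw [hF.valid_glue hy a ha, GrothendieckTopology.uliftYonedaEquiv_naturality]
      exact congrArg (fun z => sect z.1.1) (hz a ha)
    refine Subtype.ext (Prod.ext hz1 ?_)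
    have hzp : IsPiece p g z.1.2 := hz1 ▸ z.2
    have key : ∀ i, comapLifts (overArrow (𝒰.f i)) z.1.2 =
        comapLifts (overArrow (𝒰.f i)) (pieceSet u π W) := fun i => by
      rw [hLi]
      exact congrArg (fun z => z.1.2) (hz _ (h𝒰 i))
    exact le_antisymm (hzp.le_of_cover hL 𝒰 fun i => (key i).le)
      (hL.le_of_cover hzp 𝒰 fun i => (key i).ge)

/-- A separated, locally quasi-finite, flat map from a scheme, locally of finite presentation. -/
structure GoodMap (p : (yon S).obj U ⟶ F) : Prop where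
  sepLqf : RepWith sepLqf p
  flat : RepWith @Flat p
  lfp : RepWith @LocallyOfFinitePresentation p

/-- The sheaf of finite open pieces. -/
def pieces (hp : GoodMap p) : Sp S :=
  ⟨piecesP p, (isSheaf_iff_isSheaf_of_type _ _).2 (isSheaf_piecesP hp.sepLqf hp.flat hp.lfp)⟩

/-- The projection of the sheaf of pieces. -/
def piecesπ (hp : GoodMap p) : pieces hp ⟶ F :=
  ObjectProperty.homMk
    { app := fun T => TypeCat.ofHom fun x => sect x.1.1
      naturality := fun T T' a => by
        ext x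
        exact (GrothendieckTopology.uliftYonedaEquiv_naturality _ _ _).symm }

variable {hp : GoodMap p}

/-- The piece classified by a map to the sheaf of pieces. -/
def pieceOf {T : Over S} (c : (yon S).obj T ⟶ pieces hp) : Lifts U T :=
  (sect (T := T) (F := pieces hp) c : {x : ((yon S).obj T ⟶ F) × Lifts U T // IsPiece p x.1 x.2}).1.2

lemma sect_fst {T : Over S} (c : (yon S).obj T ⟶ pieces hp) :
    (sect (T := T) (F := pieces hp) c : {x : ((yon S).obj T ⟶ F) × Lifts U T // IsPiece p x.1 x.2}).1.1 =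
      c ≫ piecesπ hp := by
  apply (sect (T := T) (F := F)).injective
  rw [GrothendieckTopology.uliftYonedaEquiv_comp]
  rfl

lemma isPiece_pieceOf {T : Over S} (c : (yon S).obj T ⟶ pieces hp) :
    IsPiece p (c ≫ piecesπ hp) (pieceOf c) :=
  sect_fst c ▸ Subtype.property (p := fun x : ((yon S).obj T ⟶ F) × Lifts U T => IsPiece p x.1 x.2)
    (sect (T := T) (F := pieces hp) c)

lemma pieceOf_comp {T T' : Over S} (a : T' ⟶ T) (c : (yon S).obj T ⟶ pieces hp) :
    pieceOf ((yon S).map a ≫ c) = comapLifts a (pieceOf c) := by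
  unfold pieceOf
  rw [← GrothendieckTopology.uliftYonedaEquiv_naturality]
  rfl

lemma pieces_hom_ext {T : Over S} {c c' : (yon S).obj T ⟶ pieces hp}
    (h₁ : c ≫ piecesπ hp = c' ≫ piecesπ hp) (h₂ : pieceOf c = pieceOf c') : c = c' := by
  apply (sect (T := T) (F := pieces hp)).injective
  exact Subtype.ext (Prod.ext ((sect_fst c).trans (h₁.trans (sect_fst c').symm)) h₂)

lemma exists_map_to_pieces {T : Over S} {g : (yon S).obj T ⟶ F} {L : Lifts U T} (h : IsPiece p g L) :
    ∃ c : (yon S).obj T ⟶ pieces hp, c ≫ piecesπ hp = g ∧ pieceOf c = L := by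
  refine ⟨(sect (T := T) (F := pieces hp)).symm ⟨(g, L), h⟩, ?_, ?_⟩
  · rw [← sect_fst]
    simp
  · unfold pieceOf
    simp

/-- Two pieces agree exactly over a clopen subscheme. -/
theorem exists_clopen_eq (hp : GoodMap p) {T : Over S} {g : (yon S).obj T ⟶ F} {L L' : Lifts U T}
    (h : IsPiece p g L) (h' : IsPiece p g L') :
    ∃ O : T.left.Opens, IsClosed (O : Set T.left) ∧ ∀ ⦃T' : Over S⦄ (a : T' ⟶ T),
      comapLifts a L = comapLifts a L' ↔ ∀ t, a.left t ∈ O := by
  obtain ⟨u, hu⟩ := (yon S).map_surjective (hp.sepLqf.1.fst g)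
  let π : hp.sepLqf.1.pullback g ⟶ T := hp.sepLqf.1.snd g
  have sq : IsPullback ((yon S).map u) ((yon S).map π) p g := hu ▸ hp.sepLqf.1.isPullback g
  have : Flat π.left := hp.flat.2 g _ _ sq
  have : LocallyOfFinitePresentation π.left := hp.lfp.2 g _ _ sq
  have : IsSeparated π.left := (hp.sepLqf.2 g _ _ sq).2
  obtain ⟨V, hV, rfl⟩ := h.exists_opens sq
  obtain ⟨V', hV', rfl⟩ := h'.exists_opens sq
  have key : ∀ A B : (hp.sepLqf.1.pullback g).left.Opens, IsFinite (A.ι ≫ π.left) →
      IsFinite (B.ι ≫ π.left) → IsClopen (π.left '' ((A : Set _) \ B)) := by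
    intro A B hA hB
    have : UniversallyClosed (B.ι ≫ π.left) := inferInstance
    have := UniversallyClosed.of_comp_of_isSeparated B.ι π.left
    have hBc : IsClosed (B : Set (hp.sepLqf.1.pullback g).left) := by
      rw [← B.range_ι]; exact B.ι.isClosedMap.isClosed_range
    refine ⟨?_, π.left.isOpenMap _ (A.2.sdiff hBc)⟩
    rw [show π.left '' ((A : Set _) \ B) = (A.ι ≫ π.left) '' (A.ι ⁻¹' (B : Set _)ᶜ) by
      ext z
      constructor
      · rintro ⟨x, ⟨hxA, hxB⟩, rfl⟩
        exact ⟨⟨x, hxA⟩, hxB, rfl⟩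
      · rintro ⟨⟨x, hxA⟩, hxB, rfl⟩
        exact ⟨x, ⟨hxA, hxB⟩, rfl⟩]
    exact (A.ι ≫ π.left).isClosedMap _ ((B.2.isClosed_compl).preimage A.ι.continuous)
  have hcl := ((key V V' hV hV').union (key V' V hV' hV)).compl
  refine ⟨⟨_, hcl.2⟩, hcl.1, fun T' a => ?_⟩
  have sqa := IsPullback.of_hasPullback π a
  rw [← pieceSet_comap sqa, ← pieceSet_comap sqa]
  have hsurj : ∀ (x : (hp.sepLqf.1.pullback g).left) (t : T'.left), π.left x = a.left t →
      ∃ z, (pullback.fst π a).left z = x ∧ (pullback.snd π a).left z = t :=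
    fun x t hxt => Scheme.exists_preimage_of_isPullback (sqa.map (Over.forget S)) x t hxt
  constructor
  · intro e t
    have e' := pieceSet_injective (isPullback_comap sq sqa) e
    rintro (⟨x, ⟨hx, hx'⟩, hxt⟩ | ⟨x, ⟨hx, hx'⟩, hxt⟩) <;> obtain ⟨z, hz, -⟩ := hsurj x t hxt
    · exact hx' (hz ▸ (e'.le (show z ∈ (pullback.fst π a).left ⁻¹ᵁ V from (hz ▸ hx :))))
    · exact hx' (hz ▸ (e'.ge (show z ∈ (pullback.fst π a).left ⁻¹ᵁ V' from (hz ▸ hx :))))
  · intro ht
    have hz : ∀ z, π.left ((pullback.fst π a).left z) = a.left ((pullback.snd π a).left z) := fun z =>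
      congrArg (fun φ : pullback π a ⟶ T => φ.left z) pullback.condition
    have : (pullback.fst π a).left ⁻¹ᵁ V = (pullback.fst π a).left ⁻¹ᵁ V' := by
      refine le_antisymm (fun z hzV => ?_) fun z hzV => ?_ <;> by_contra hn
      · exact ht ((pullback.snd π a).left z) (Or.inl ⟨_, ⟨hzV, hn⟩, hz z⟩)
      · exact ht ((pullback.snd π a).left z) (Or.inr ⟨_, ⟨hzV, hn⟩, hz z⟩)
    rw [this]

end Groth.Agent.AlgSpace
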