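import Groth.Agent.Lib.AlgSpDecent.Basic
import Groth.Prelude.Def_AlgSpGpd

/-!
# The relation on points of a pre-equivalence relation
-/

universe u

open CategoryTheory CategoryTheory.Limits AlgebraicGeometry AlgSp

namespace Groth.Agent.AlgSpace

open Groth.Agent.AlgSpDecent

variable {S : Scheme.{u}}

theorem points_rel_equivalence {R U : Sp S} (s t : R ⟶ U) (h : IsPreEqvRelSp s t) :
    _root_.Equivalence (fun x y : Points U =>
      ∃ r : Points R, Points.map t r = x ∧ Points.map s r = y) := by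
  refine ⟨fun x => ?_, fun {x y} hxy => ?_, fun {x y z} hxy hyz => ?_⟩
  · induction x using Points.ind with
    | h p =>
    obtain ⟨r, hr₁, hr₂⟩ := (h p.pt).refl p.toHom
    exact ⟨Points.ofPt r (IsLocalRing.closedPoint p.K),
      by rw [Points.map_ofPt, hr₁]; exact Points.ofPt_toHom p _,
      by rw [Points.map_ofPt, hr₂]; exact Points.ofPt_toHom p _⟩
  · obtain ⟨r, rfl, rfl⟩ := hxy
    induction r using Points.ind with
    | h p =>
    obtain ⟨r, hr₁, hr₂⟩ := (h p.pt).symm (⟨p.toHom, rfl, rfl⟩ :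
      ∃ r : (yon S).obj p.pt ⟶ R, r ≫ t = p.toHom ≫ t ∧ r ≫ s = p.toHom ≫ s)
    rw [← Points.ofPt_toHom p (IsLocalRing.closedPoint p.K)]
    exact ⟨Points.ofPt r (IsLocalRing.closedPoint p.K),
      by rw [Points.map_ofPt, hr₁, ← Points.map_ofPt],
      by rw [Points.map_ofPt, hr₂, ← Points.map_ofPt]⟩
  · obtain ⟨r₁, rfl, hy₁⟩ := hxy
    obtain ⟨r₂, hy₂, rfl⟩ := hyz
    subst hy₁
    induction r₁ using Points.ind with
    | h p =>
    induction r₂ using Points.ind with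
    | h q =>
    rw [Points.map_mk, Points.map_mk] at hy₂
    obtain ⟨Ω, _, w, a, b, hab⟩ := exists_common_of_mk_eq hy₂
    rw [FieldPt.toHom_map, FieldPt.toHom_map] at hab
    change Over.mk w ⟶ q.pt at a
    change Over.mk w ⟶ p.pt at b
    let m₁ : (yon S).obj (Over.mk w) ⟶ R := (yon S).map b ≫ p.toHom
    let m₂ : (yon S).obj (Over.mk w) ⟶ R := (yon S).map a ≫ q.toHom
    have hm : m₂ ≫ t = m₁ ≫ s := (Category.assoc _ _ _).trans (hab.trans (Category.assoc _ _ _).symm)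
    obtain ⟨r, hr₁, hr₂⟩ := (h (Over.mk w)).trans
      (⟨m₁, rfl, rfl⟩ : ∃ r, r ≫ t = m₁ ≫ t ∧ r ≫ s = m₁ ≫ s)
      (⟨m₂, hm, rfl⟩ : ∃ r, r ≫ t = m₁ ≫ s ∧ r ≫ s = m₂ ≫ s)
    refine ⟨Points.ofPt r (IsLocalRing.closedPoint Ω), ?_, ?_⟩
    · rw [Points.map_ofPt, hr₁, ← Points.map_ofPt, ofPt_map_comp]
      exact congrArg (Points.map t) (Points.ofPt_toHom p _)
    · rw [Points.map_ofPt, hr₂, ← Points.map_ofPt, ofPt_map_comp]
      exact congrArg (Points.map s) (Points.ofPt_toHom q _)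

end Groth.Agent.AlgSpace
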