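import Groth.Agent.Lib.AlgSpace.AffineDescent
import Mathlib.AlgebraicGeometry.QuasiAffine
import Mathlib.AlgebraicGeometry.Morphisms.Flat

/-!
# Effective fppf descent for quasi-affine schemes in the category of sheaves

A sheaf over an affine scheme whose base change along a flat surjective map of finite presentation
from an affine scheme is quasi-affine, is itself a quasi-affine scheme.
-/

universe u

set_option backward.isDefEq.respectTransparency.types false
set_option linter.unusedVariables false

open CategoryTheory CategoryTheory.Limits AlgebraicGeometry Opposite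
open scoped TensorProduct

namespace Groth.Agent.AlgSpace

namespace AffineDescent

open AlgSp

variable {S : Scheme.{u}}

instance {B : CommRingCat.{u}} (sZ : Spec B ⟶ S) : IsAffine (Over.mk sZ).left :=
  inferInstanceAs (IsAffine (Spec B))

instance {B : CommRingCat.{u}} (sZ : Spec B ⟶ S) (R : Type u) [CommRing R] [Algebra B R] :
    IsAffine (specOver sZ R).left :=
  inferInstanceAs (IsAffine (Spec (CommRingCat.of R)))

section Glue

/-- A sheaf over `Z` is the descended object once a candidate with an equalizing map is given. -/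
theorem exists_iso_of_descent {Z V W A : Over S} (v : V ⟶ Z) [Flat v.left] [Surjective v.left]
    [LocallyOfFinitePresentation v.left] {F : Sp S} {π : F ⟶ (yon S).obj Z} {p : W ⟶ V}
    {m : (yon S).obj W ⟶ F} (sq : IsPullback m ((yon S).map p) π ((yon S).map v))
    (i : A ⟶ Z) (h : W ⟶ A) (sqh : IsPullback h p i v)
    (hdesc : ∀ {T : Over S} (x y : T ⟶ W),
      (yon S).map x ≫ m = (yon S).map y ≫ m → x ≫ h = y ≫ h) :
    ∃ e : (yon S).obj A ⟶ F, IsIso e ∧ e ≫ π = (yon S).map i := by
  have hepi_m : Epi m := epi_of_isPullback v sq.flip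
  have : IsRegularEpi m := IsRegularEpiCategory.regularEpiOfEpi m
  let st := IsRegularEpi.getStruct m
  obtain ⟨φ, hφ⟩ := st.desc' ((yon S).map h) (hom_ext_yon fun T t => by
    obtain ⟨x, hx⟩ := (yon S).map_surjective (t ≫ st.left)
    obtain ⟨y, hy⟩ := (yon S).map_surjective (t ≫ st.right)
    rw [← Category.assoc, ← Category.assoc, ← hx, ← hy, ← Functor.map_comp, ← Functor.map_comp]
    refine congrArg _ (hdesc x y ?_)
    rw [hx, hy, Category.assoc, Category.assoc, st.w])
  have hφπ : φ ≫ (yon S).map i = π := by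
    rw [← cancel_epi m, reassoc_of% hφ, ← Functor.map_comp, sqh.w, Functor.map_comp, ← sq.w]
  have sqA' := sqh.map (yon S)
  have sqI : IsPullback (𝟙 _) m ((yon S).map h) φ := by
    refine IsPullback.of_right (h₁₂ := (yon S).map p) (h₂₂ := (yon S).map i) ?_
      (by rw [Category.id_comp, hφ]) sqA'.flip
    rw [Category.id_comp, hφπ]
    exact sq.flip
  have : Epi ((yon S).map h) := epi_of_isPullback v sqA'.flip
  have : Epi φ := epi_of_epi_fac hφ
  have : Mono φ := mono_of_yon φ fun T x y exy => by
    obtain ⟨f0, hf0⟩ := (yon S).map_surjective (x ≫ φ)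
    have sqT := (IsPullback.of_hasPullback h f0)
    have sqTV := (sqT.flip.paste_vert sqh).map (yon S)
    have : Epi ((yon S).map (pullback.snd h f0)) := epi_of_isPullback v sqTV.flip
    rw [← cancel_epi ((yon S).map (pullback.snd h f0))]
    have hx := (sqT.map (yon S)).w
    rw [hf0, ← Category.assoc] at hx
    have hy := hx
    rw [Category.assoc, exy, ← Category.assoc] at hy
    rw [← sqI.lift_snd _ _ hx, ← sqI.lift_snd _ _ hy]
    congr 1
    rw [← Category.comp_id (sqI.lift _ _ hx), ← Category.comp_id (sqI.lift _ _ hy),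
      sqI.lift_fst, sqI.lift_fst]
  have : IsIso φ := isIso_of_mono_of_epi φ
  exact ⟨inv φ, inferInstance, by rw [← hφπ, IsIso.inv_hom_id_assoc]⟩

end Glue

section Hull

variable {B : CommRingCat.{u}} (sZ : Spec B ⟶ S) {R : Type u} [CommRing R] [Algebra B R]
  {W : Over S} (j : W ⟶ specOver sZ R) [IsIso j.left.appTop]

include j in
/-- Maps out of the affine hull are determined by their restriction. -/
lemma hull_ext {T : Over S} [IsAffine T.left] {a b : specOver sZ R ⟶ T} (h : j ≫ a = j ≫ b) :
    a = b := by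
  apply Over.OverMorphism.ext
  apply ext_of_isAffine
  rw [← cancel_mono j.left.appTop, ← Scheme.Hom.comp_appTop, ← Scheme.Hom.comp_appTop]
  exact congrArg (fun k => k.left.appTop) h

include j in
/-- Maps to an affine scheme over the base extend to the affine hull. -/
lemma exists_hull_specMap {R' : Type u} [CommRing R'] [Algebra B R'] (k : W ⟶ specOver sZ R')
    (hk : k ≫ toBase sZ R' = j ≫ toBase sZ R) :
    ∃ φ : R' →ₐ[B] R, j ≫ specMap sZ φ = k := by
  let f : CommRingCat.of R' ⟶ CommRingCat.of R :=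
    (Scheme.ΓSpecIso (CommRingCat.of R')).inv ≫ k.left.appTop ≫ inv j.left.appTop ≫
      (Scheme.ΓSpecIso (CommRingCat.of R)).hom
  have hf : j.left ≫ Spec.map f = k.left := by
    have e : (Spec.map f).appTop = (Scheme.ΓSpecIso (CommRingCat.of R')).hom ≫ f ≫
        (Scheme.ΓSpecIso (CommRingCat.of R)).inv := by
      rw [← Scheme.ΓSpecIso_naturality_assoc, Iso.hom_inv_id, Category.comp_id]
    apply ext_of_isAffine
    refine (Scheme.Hom.comp_appTop _ _).trans ?_
    refine (congrArg (· ≫ j.left.appTop) e).trans ?_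
    simp only [f, Category.assoc, Iso.hom_inv_id_assoc]
    exact (congrArg (fun t => k.left.appTop ≫ inv j.left.appTop ≫ t)
      (Iso.hom_inv_id_assoc (Scheme.ΓSpecIso (CommRingCat.of R)) j.left.appTop)).trans (by rw [IsIso.inv_hom_id]; exact Category.comp_id _)
  let kk : specOver sZ R ⟶ specOver sZ R' := Over.homMk (Spec.map f) (by
    have e : Spec.map f ≫ (toBase sZ R').left = (toBase sZ R).left := by
      apply ext_of_isAffine
      refine (cancel_mono j.left.appTop).1 ?_
      refine ((Scheme.Hom.comp_appTop _ _).symm.trans ?_).trans (Scheme.Hom.comp_appTop _ _)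
      refine congrArg (fun q => Scheme.Hom.appTop q) ?_
      exact ((Category.assoc _ _ _).symm.trans (congrArg (· ≫ _) hf)).trans
        (congrArg CommaMorphism.left hk)
    exact (Category.assoc _ _ _).symm.trans (congrArg (· ≫ sZ) e))
  have hjk : j ≫ kk = k := Over.OverMorphism.ext hf
  obtain ⟨φ, hφ⟩ := exists_specMap sZ (g := kk) (hull_ext sZ j (by
    rw [← Category.assoc, hjk, hk]))
  exact ⟨φ, hφ ▸ hjk⟩

variable (C : Type u) [CommRing C] [Algebra B C] [Flat (toBase sZ C).left]

/-- Formation of the affine hull commutes with flat base change. -/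
theorem isIso_hull_baseChange [CompactSpace ↥W.left] [QuasiSeparatedSpace ↥W.left] :
    IsIso (pullback.fst (specMap sZ (Algebra.TensorProduct.includeRight : R →ₐ[B] C ⊗[B] R)) j).left.appTop := by
  have hj : IsIso j.left.appTop := inferInstance
  let incR : specOver sZ (C ⊗[B] R) ⟶ specOver sZ R := specMap sZ Algebra.TensorProduct.includeRight
  let incL : specOver sZ (C ⊗[B] R) ⟶ specOver sZ C := specMap sZ Algebra.TensorProduct.includeLeft
  let j2 := pullback.fst incR j
  let prO := pullback.snd incR j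
  let prC := j2 ≫ incL
  have sq2 : IsPullback prC prO (toBase sZ C) (j ≫ toBase sZ R) :=
    ((IsPullback.of_hasPullback incR j).flip.paste_vert (isPullback_toBase sZ C R).flip).flip
  have H : IsPullback prO.left prC.left (j ≫ toBase sZ R).left (toBase sZ C).left :=
    (sq2.map (Over.forget S)).flip
  have hiso := isIso_pushoutSection_of_isQuasiSeparated_of_flat_right (f := (toBase sZ C).left) H
    (US := ⊤) (UT := ⊤) (UX := ⊤) (UY := ⊤) le_top le_top (inf_top_eq ⊤).symm (isAffineOpen_top (Spec B))
    (isAffineOpen_top (Spec (CommRingCat.of C))) isCompact_univ isQuasiSeparated_univ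
  have hp := (isIso_pushoutSection_iff H _ _ _).1 hiso
  have key : ∀ {X Y : Scheme.{u}} (f : X ⟶ Y) (e : ⊤ ≤ f ⁻¹ᵁ ⊤), f.appLE ⊤ ⊤ e = f.appTop :=
    fun f e => f.appLE_eq_app
  rw [key, key, key, key] at hp
  -- transport along `ΓSpecIso`
  have hp' : IsPushout (CommRingCat.ofHom (algebraMap B R)) (CommRingCat.ofHom (algebraMap B C))
      ((Scheme.ΓSpecIso (CommRingCat.of R)).inv ≫ j.left.appTop ≫ prO.left.appTop)
      ((Scheme.ΓSpecIso (CommRingCat.of C)).inv ≫ prC.left.appTop) := by
    refine hp.of_iso' (Scheme.ΓSpecIso B).symm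
      ((Scheme.ΓSpecIso (CommRingCat.of R)).symm ≪≫ @asIso _ _ _ _ j.left.appTop hj)
      (Scheme.ΓSpecIso (CommRingCat.of C)).symm (Iso.refl _) ?_ ?_ ?_ ?_
    · change (Scheme.ΓSpecIso B).inv ≫ (j ≫ toBase sZ R).left.appTop = _
      rw [Over.comp_left, Scheme.Hom.comp_appTop]
      exact (Category.assoc _ _ _).symm.trans
        ((congrArg (· ≫ j.left.appTop) (Scheme.ΓSpecIso_inv_naturality _).symm).trans
          (Category.assoc _ _ _))
    · change (Scheme.ΓSpecIso B).inv ≫ (toBase sZ C).left.appTop = _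
      exact (Scheme.ΓSpecIso_inv_naturality _).symm
    · change ((Scheme.ΓSpecIso (CommRingCat.of R)).inv ≫ j.left.appTop) ≫ prO.left.appTop = _
      simp
    · change (Scheme.ΓSpecIso (CommRingCat.of C)).inv ≫ prC.left.appTop = _
      simp
  let φ : CommRingCat.of (C ⊗[B] R) ⟶ Γ((Limits.pullback incR j).left, ⊤) :=
    (Scheme.ΓSpecIso (CommRingCat.of (C ⊗[B] R))).inv ≫ j2.left.appTop
  have hT := CommRingCat.isPushout_tensorProduct B C R
  have hφ : φ = (hT.isoIsPushout _ _ hp'.flip).hom := by
    apply hT.hom_ext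
    · rw [IsPushout.inl_isoIsPushout_hom]
      refine ((Category.assoc _ _ _).symm.trans (congrArg (· ≫ j2.left.appTop)
        (Scheme.ΓSpecIso_inv_naturality _))).trans ((Category.assoc _ _ _).trans ?_)
      exact congrArg ((Scheme.ΓSpecIso (CommRingCat.of C)).inv ≫ ·) (Scheme.Hom.comp_appTop _ _).symm
    · rw [IsPushout.inr_isoIsPushout_hom]
      refine ((Category.assoc _ _ _).symm.trans (congrArg (· ≫ j2.left.appTop)
        (Scheme.ΓSpecIso_inv_naturality _))).trans ((Category.assoc _ _ _).trans ?_)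
      refine congrArg ((Scheme.ΓSpecIso (CommRingCat.of R)).inv ≫ ·) ?_
      exact (Scheme.Hom.comp_appTop _ _).symm.trans
        ((congrArg (fun q => q.left.appTop) (pullback.condition (f := incR) (g := j))).trans
          (Scheme.Hom.comp_appTop _ _))
  have : IsIso φ := by rw [hφ]; infer_instance
  exact IsIso.of_isIso_comp_left (Scheme.ΓSpecIso (CommRingCat.of (C ⊗[B] R))).inv j2.left.appTop

end Hull

section Main

theorem exists_qaff_of_spec {B : CommRingCat.{u}} (sZ : Spec B ⟶ S) (C : Type u) [CommRing C]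
    [Algebra B C] [Module.Flat B C] [Flat (toBase sZ C).left] [Surjective (toBase sZ C).left]
    [LocallyOfFinitePresentation (toBase sZ C).left] {F : Sp S}
    (π : F ⟶ (yon S).obj (Over.mk sZ)) {W : Over S} [W.left.IsQuasiAffine]
    (p : W ⟶ specOver sZ C) (m : (yon S).obj W ⟶ F)
    (sq : IsPullback m ((yon S).map p) π ((yon S).map (toBase sZ C))) :
    ∃ (A : Over S) (i : A ⟶ Over.mk sZ) (e : (yon S).obj A ⟶ F) (h : W ⟶ A),
      A.left.IsQuasiAffine ∧ IsIso e ∧ e ≫ π = (yon S).map i ∧
        IsPullback h p i (toBase sZ C) := by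
  let tO : W ⟶ Over.mk sZ := p ≫ toBase sZ C
  letI : Algebra B Γ(W.left, ⊤) := ((Scheme.ΓSpecIso B).inv ≫ tO.left.appTop).hom.toAlgebra
  let O : Type u := Γ(W.left, ⊤)
  have htO : W.left.toSpecΓ ≫ Spec.map (CommRingCat.ofHom (algebraMap B O)) = tO.left := by
    change W.left.toSpecΓ ≫ Spec.map ((Scheme.ΓSpecIso B).inv ≫ tO.left.appTop) = _
    rw [Spec.map_comp, ← Scheme.toSpecΓ_naturality_assoc]
    exact (congrArg (tO.left ≫ ·) (toSpecΓ_SpecMap_ΓSpecIso_inv B)).trans (Category.comp_id _)
  let j : W ⟶ specOver sZ O := Over.homMk W.left.toSpecΓ (by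
    change W.left.toSpecΓ ≫ Spec.map _ ≫ sZ = _
    rw [reassoc_of% htO]
    exact Over.w tO)
  have hjO : j ≫ toBase sZ O = tO := Over.OverMorphism.ext htO
  have : IsIso j.left.appTop := by
    change IsIso W.left.toSpecΓ.appTop
    rw [Scheme.toSpecΓ_appTop]
    infer_instance
  have : IsOpenImmersion j.left := inferInstanceAs (IsOpenImmersion W.left.toSpecΓ)
  let incR : specOver sZ (C ⊗[B] O) ⟶ specOver sZ O := specMap sZ Algebra.TensorProduct.includeRight
  let incL : specOver sZ (C ⊗[B] O) ⟶ specOver sZ C := specMap sZ Algebra.TensorProduct.includeLeft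
  let j2 := pullback.fst incR j
  let prO := pullback.snd incR j
  let prC := j2 ≫ incL
  have : IsIso j2.left.appTop := isIso_hull_baseChange sZ j C
  have sqj2 : IsPullback j2 prO incR j := IsPullback.of_hasPullback incR j
  have sq2 : IsPullback prC prO (toBase sZ C) tO := by
    rw [← hjO]
    exact ((IsPullback.of_hasPullback incR j).flip.paste_vert (isPullback_toBase sZ C O).flip).flip
  have : IsOpenImmersion j2.left :=
    MorphismProperty.of_isPullback (P := @IsOpenImmersion) (sqj2.map (Over.forget S)).flip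
      (inferInstanceAs (IsOpenImmersion j.left))
  have : IsAffineHom prO.left :=
    MorphismProperty.of_isPullback (P := @IsAffineHom) (sqj2.map (Over.forget S))
      (inferInstanceAs (IsAffineHom (Spec.map (CommRingCat.ofHom
        (Algebra.TensorProduct.includeRight : O →ₐ[B] C ⊗[B] O).toRingHom))))
  have : (Limits.pullback incR j).left.IsQuasiAffine := Scheme.IsQuasiAffine.of_isAffineHom prO.left
  -- the action
  have hm : m ≫ π = (yon S).map tO := by rw [sq.w, ← Functor.map_comp]
  let act := sq.lift ((yon S).map prO ≫ m) ((yon S).map prC)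
    (by rw [Category.assoc, hm, ← Functor.map_comp, ← Functor.map_comp, sq2.w])
  obtain ⟨g, hg⟩ := (yon S).map_surjective act
  have hg1 : g ≫ p = prC := (yon S).map_injective (by
    rw [Functor.map_comp, hg]; exact sq.lift_snd _ _ _)
  have hg2 : (yon S).map g ≫ m = (yon S).map prO ≫ m := by rw [hg]; exact sq.lift_fst _ _ _
  have hext : ∀ {T : Over S} (a b : T ⟶ W), (yon S).map a ≫ m = (yon S).map b ≫ m →
      a ≫ p = b ≫ p → a = b := fun a b e e' =>
    (yon S).map_injective (sq.hom_ext e (by rw [← Functor.map_comp, e', Functor.map_comp]))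
  have hgj : (g ≫ j) ≫ toBase sZ O = j2 ≫ toBase sZ (C ⊗[B] O) := by
    rw [Category.assoc, hjO, ← specMap_toBase sZ (Algebra.TensorProduct.includeLeft : C →ₐ[B] C ⊗[B] O)]
    exact (Category.assoc _ _ _).symm.trans
      ((congrArg (· ≫ toBase sZ C) hg1).trans (Category.assoc _ _ _))
  obtain ⟨α, hα⟩ := exists_hull_specMap sZ j2 (g ≫ j) hgj
  obtain ⟨γ, hγ⟩ := exists_hull_specMap sZ j p hjO.symm
  have h1 : α.comp γ = Algebra.TensorProduct.includeLeft := by
    refine specMap_injective sZ (hull_ext sZ j2 ?_)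
    rw [specMap_comp, reassoc_of% hα, hγ, hg1]
  -- the section of `prO`
  let δ := sq2.lift p (𝟙 W) (by rw [Category.id_comp])
  have hδj : δ ≫ j2 = j ≫ specMap sZ (mu γ) := by
    refine (isPullback_toBase sZ C O).hom_ext ?_ ?_
    · rw [Category.assoc, Category.assoc, ← specMap_comp]
      exact (sq2.lift_fst _ _ _).trans (hγ.symm.trans
        (congrArg (fun f => j ≫ specMap sZ f) (AlgHom.ext fun c => by simp [mu])))
    · rw [Category.assoc, Category.assoc, ← specMap_comp]
      change δ ≫ j2 ≫ incR = _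
      rw [sqj2.w, reassoc_of% (sq2.lift_snd p (𝟙 W) (by rw [Category.id_comp]))]
      rw [show (mu γ).comp (Algebra.TensorProduct.includeRight : O →ₐ[B] C ⊗[B] O) = AlgHom.id B O
        from AlgHom.ext fun c => by simp [mu], specMap_id, Category.comp_id]
  have hδg : δ ≫ g = 𝟙 W := by
    refine hext _ _ ?_ (by rw [Category.assoc, hg1, Category.id_comp]; exact sq2.lift_fst _ _ _)
    rw [Functor.map_comp, Category.assoc, hg2, ← Functor.map_comp_assoc]
    exact congrArg (fun t => (yon S).map t ≫ m) (sq2.lift_snd _ _ _)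
  have h2 : (mu γ).comp α = AlgHom.id B O := by
    refine specMap_injective sZ (hull_ext sZ j ?_)
    rw [specMap_comp, specMap_id, Category.comp_id, ← Category.assoc, ← hδj, Category.assoc, hα,
      reassoc_of% hδg]
  -- the cocycle condition
  have h3 : (Algebra.TensorProduct.map (AlgHom.id B C) α).comp α =
      (Algebra.TensorProduct.map (AlgHom.id B C) Algebra.TensorProduct.includeRight).comp α := by
    let incR' : specOver sZ (C ⊗[B] (C ⊗[B] O)) ⟶ specOver sZ (C ⊗[B] O) :=
      specMap sZ Algebra.TensorProduct.includeRight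
    let j3 := pullback.fst incR' j2
    let q3 := pullback.snd incR' j2
    have : IsIso j3.left.appTop := isIso_hull_baseChange sZ j2 C
    have h3w : j3 ≫ incR' = q3 ≫ j2 := pullback.condition
    let a := specMap sZ (Algebra.TensorProduct.map (AlgHom.id B C) α)
    let b := specMap sZ (Algebra.TensorProduct.map (AlgHom.id B C)
      (Algebra.TensorProduct.includeRight : O →ₐ[B] C ⊗[B] O))
    let l : pullback incR' j2 ⟶ specOver sZ C :=
      j3 ≫ specMap sZ Algebra.TensorProduct.includeLeft
    have hl : ∀ k : pullback incR' j2 ⟶ W, k ≫ j ≫ toBase sZ O = j3 ≫ toBase sZ _ →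
        l ≫ toBase sZ C = k ≫ tO := fun k hk => by
      rw [← hjO, hk, Category.assoc, specMap_toBase]
    have hbase : q3 ≫ j2 ≫ toBase sZ (C ⊗[B] O) = j3 ≫ toBase sZ _ := by
      rw [← reassoc_of% h3w, specMap_toBase]
    have ha0 : (q3 ≫ g) ≫ j ≫ toBase sZ O = j3 ≫ toBase sZ _ := by
      rw [← hbase, Category.assoc, ← Category.assoc g j, hgj]
    have hb0 : (q3 ≫ prO) ≫ j ≫ toBase sZ O = j3 ≫ toBase sZ _ := by
      rw [← hbase, Category.assoc]
      refine congrArg (q3 ≫ ·) ?_
      rw [← Category.assoc, ← sqj2.w, Category.assoc, specMap_toBase]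
    let a' := sq2.lift l (q3 ≫ g) (hl _ ha0)
    let b' := sq2.lift l (q3 ≫ prO) (hl _ hb0)
    have haj : a' ≫ j2 = j3 ≫ a := by
      refine (isPullback_toBase sZ C O).hom_ext ?_ ?_
      · rw [Category.assoc, Category.assoc, ← specMap_comp]
        exact (sq2.lift_fst _ _ _).trans
          (congrArg (fun f => j3 ≫ specMap sZ f) (AlgHom.ext fun c => by simp))
      · rw [Category.assoc, Category.assoc, ← specMap_comp]
        change a' ≫ j2 ≫ incR = _
        rw [sqj2.w, reassoc_of% (sq2.lift_snd l (q3 ≫ g) (hl _ ha0)), ← hα,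
          ← reassoc_of% h3w, ← specMap_comp]
        exact congrArg (fun f => j3 ≫ specMap sZ f) (AlgHom.ext fun c => by simp)
    have hbj : b' ≫ j2 = j3 ≫ b := by
      refine (isPullback_toBase sZ C O).hom_ext ?_ ?_
      · rw [Category.assoc, Category.assoc, ← specMap_comp]
        exact (sq2.lift_fst _ _ _).trans
          (congrArg (fun f => j3 ≫ specMap sZ f) (AlgHom.ext fun c => by simp))
      · rw [Category.assoc, Category.assoc, ← specMap_comp]
        change b' ≫ j2 ≫ incR = _
        rw [sqj2.w, reassoc_of% (sq2.lift_snd l (q3 ≫ prO) (hl _ hb0)), ← sqj2.w,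
          ← reassoc_of% h3w, ← specMap_comp]
        exact congrArg (fun f => j3 ≫ specMap sZ f) (AlgHom.ext fun c => by simp)
    have hab : a' ≫ g = b' ≫ g := by
      refine hext _ _ ?_ (by
        rw [Category.assoc, Category.assoc, hg1, sq2.lift_fst, sq2.lift_fst])
      simp only [Functor.map_comp, Category.assoc, hg2]
      rw [← Functor.map_comp_assoc, sq2.lift_snd, ← Functor.map_comp_assoc, sq2.lift_snd,
        Functor.map_comp_assoc, hg2, ← Functor.map_comp_assoc]
    refine specMap_injective sZ (hull_ext sZ j3 ?_)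
    rw [specMap_comp, specMap_comp, ← Category.assoc, ← haj, ← Category.assoc, ← hbj,
      Category.assoc, Category.assoc, hα, reassoc_of% hab]
  -- the descended affine hull
  let Asub := AlgHom.equalizer α (Algebra.TensorProduct.includeRight : O →ₐ[B] C ⊗[B] O)
  let ψ : C ⊗[B] Asub →ₐ[B] O :=
    (mu γ).comp (Algebra.TensorProduct.map (AlgHom.id B C) Asub.val)
  let ψe : C ⊗[B] Asub ≃ₐ[B] O := AlgEquiv.ofBijective ψ (bijective_mu_comp γ α h1 h2 h3)
  let hA : specOver sZ O ⟶ specOver sZ Asub := specMap sZ Asub.val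
  let E : specOver sZ O ≅ specOver sZ (C ⊗[B] Asub) :=
    ⟨specMap sZ ψe.toAlgHom, specMap sZ ψe.symm.toAlgHom,
      by rw [← specMap_comp, ← specMap_id]; exact congrArg _ (AlgHom.ext fun c => by simp),
      by rw [← specMap_comp, ← specMap_id]; exact congrArg _ (AlgHom.ext fun c => by simp)⟩
  have sqA : IsPullback hA (specMap sZ γ) (toBase sZ Asub) (toBase sZ C) := by
    refine IsPullback.of_iso (isPullback_toBase sZ C Asub).flip E.symm (Iso.refl _) (Iso.refl _)
      (Iso.refl _) ?_ ?_ (by simp) (by simp)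
    · rw [Iso.refl_hom, Category.comp_id, Iso.symm_hom, Iso.eq_inv_comp]
      change specMap sZ ψe.toAlgHom ≫ _ = specMap sZ Asub.val
      rw [← specMap_comp]
      exact congrArg _ (AlgHom.ext fun c => by simp [ψe, ψ, mu])
    · rw [Iso.refl_hom, Category.comp_id, Iso.symm_hom, Iso.eq_inv_comp]
      change specMap sZ ψe.toAlgHom ≫ _ = specMap sZ γ
      rw [← specMap_comp]
      exact congrArg _ (AlgHom.ext fun c => by simp [ψe, ψ, mu])
  -- the two projections of the descent datum
  have sqAA : IsPullback (specMap sZ α) incR hA hA := by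
    refine IsPullback.of_right ?_ ?_ sqA.flip
    · rw [specMap_toBase, ← specMap_comp, h1]
      exact isPullback_toBase sZ C O
    · rw [← specMap_comp, ← specMap_comp]
      exact congrArg _ (AlgHom.ext fun a => a.2)
  have sqm : IsPullback ((yon S).map g) ((yon S).map prO) m m := by
    refine IsPullback.of_right ?_ hg2 sq.flip
    rw [hm, ← Functor.map_comp, hg1]
    exact sq2.map (yon S)
  obtain ⟨σ, hσ⟩ := (yon S).map_surjective (sqm.lift ((yon S).map prO) ((yon S).map g) hg2.symm)
  have hσg : σ ≫ g = prO := (yon S).map_injective (by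
    rw [Functor.map_comp, hσ]; exact sqm.lift_fst _ _ _)
  have hσO : σ ≫ prO = g := (yon S).map_injective (by
    rw [Functor.map_comp, hσ]; exact sqm.lift_snd _ _ _)
  have hrange : ∀ x : ↥(specOver sZ O).left,
      (∃ y, hA.left y = hA.left x ∧ y ∈ Set.range j.left) → x ∈ Set.range j.left := by
    rintro x ⟨y, hy, hyj⟩
    obtain ⟨z, hz₁, hz₂⟩ :=
      Scheme.exists_preimage_of_isPullback (sqAA.map (Over.forget S)) x y hy.symm
    obtain ⟨y', hy'⟩ := hyj
    obtain ⟨w, hw, -⟩ := Scheme.exists_preimage_of_isPullback (sqj2.map (Over.forget S)) z y'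
      (hz₂.trans hy'.symm)
    refine ⟨g.left w, ?_⟩
    have e : g.left ≫ j.left = j2.left ≫ (specMap sZ α).left :=
      (congrArg CommaMorphism.left hα).symm
    calc j.left (g.left w) = (specMap sZ α).left (j2.left w) :=
          congrArg (fun f => f w) e
      _ = x := (congrArg _ hw).trans hz₁
  have hAo : IsOpenMap hA.left := by
    have sqf := (sqA.map (Over.forget S)).flip.flip
    have : Flat hA.left := MorphismProperty.of_isPullback (P := @Flat) sqf.flip
      (inferInstanceAs (Flat (toBase sZ C).left))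
    have : LocallyOfFinitePresentation hA.left :=
      MorphismProperty.of_isPullback (P := @LocallyOfFinitePresentation) sqf.flip
      (inferInstanceAs (LocallyOfFinitePresentation (toBase sZ C).left))
    exact hA.left.isOpenMap
  let U : (specOver sZ Asub).left.Opens :=
    ⟨hA.left '' Set.range j.left, hAo _ j.left.isOpenEmbedding.isOpen_range⟩
  let A : Over S := Over.mk (U.ι ≫ (specOver sZ Asub).hom)
  let ι : A ⟶ specOver sZ Asub := Over.homMk U.ι rfl
  have hsub : Set.range (j ≫ hA).left ⊆ Set.range U.ι := by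
    rw [U.range_ι]
    rintro _ ⟨w, rfl⟩
    exact ⟨_, ⟨w, rfl⟩, rfl⟩
  let hU : W ⟶ A := Over.homMk (IsOpenImmersion.lift U.ι (j ≫ hA).left hsub) (by
    change _ ≫ U.ι ≫ (specOver sZ Asub).hom = _
    rw [IsOpenImmersion.lift_fac_assoc]
    exact Over.w (j ≫ hA))
  have hUι : hU ≫ ι = j ≫ hA := Over.OverMorphism.ext (IsOpenImmersion.lift_fac _ _ _)
  have sqU : IsPullback hU j ι hA :=
    IsPullback.of_map_of_faithful (Over.forget S) (IsOpenImmersion.isPullback hU.left j.left U.ι
      hA.left (congrArg CommaMorphism.left hUι).symm (by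
        rw [U.opensRange_ι]
        apply SetLike.coe_injective
        ext x
        refine ⟨?_, fun hx => ⟨x, hx, rfl⟩⟩
        rintro ⟨y, hy, hyx⟩
        exact hrange x ⟨y, hyx, hy⟩))
  have sqh : IsPullback hU p (ι ≫ toBase sZ Asub) (toBase sZ C) := by
    rw [← hγ]
    exact sqU.paste_vert sqA
  obtain ⟨e, he, heπ⟩ := exists_iso_of_descent (toBase sZ C) sq (ι ≫ toBase sZ Asub) hU sqh
    fun {T} x y exy => by
    let z := sq2.lift (y ≫ p) x (by
      refine (yon S).map_injective ?_
      rw [Category.assoc]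
      exact ((Functor.map_comp _ y tO).trans (congrArg ((yon S).map y ≫ ·) hm.symm)).trans
        ((Category.assoc _ _ _).symm.trans ((congrArg (· ≫ π) exy.symm).trans ((Category.assoc _ _ _).trans
          ((congrArg ((yon S).map x ≫ ·) hm).trans (Functor.map_comp _ x tO).symm)))))
    have hz : z ≫ g = y := by
      refine hext _ _ ?_ (by rw [Category.assoc, hg1]; exact sq2.lift_fst _ _ _)
      rw [Functor.map_comp, Category.assoc, hg2, ← Functor.map_comp_assoc]
      exact (congrArg (fun t => (yon S).map t ≫ m) (sq2.lift_snd _ _ _)).trans exy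
    have hzO : z ≫ prO = x := sq2.lift_snd _ _ _
    have : Mono ι := (Over.forget S).mono_of_mono_map (inferInstanceAs (Mono U.ι))
    rw [← cancel_mono ι, Category.assoc, Category.assoc, hUι, ← hz, ← hzO, Category.assoc,
      Category.assoc]
    refine congrArg (z ≫ ·) ?_
    rw [← Category.assoc g, ← hα, Category.assoc, sqAA.w, ← Category.assoc, ← Category.assoc]
    exact congrArg (· ≫ hA) sqj2.w.symm
  refine ⟨A, ι ≫ toBase sZ Asub, e, hU, ?_, he, heπ, sqh⟩
  have hsurj : Surjective hU.left :=
    MorphismProperty.of_isPullback (P := @Surjective) (sqh.map (Over.forget S)).flip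
      (inferInstanceAs (Surjective (toBase sZ C).left))
  have : CompactSpace ↥A.left := hU.left.surjective.compactSpace hU.left.continuous
  have : IsAffine (specOver sZ Asub).left := inferInstanceAs (IsAffine (Spec _))
  exact Scheme.IsQuasiAffine.of_isImmersion (Y := (specOver sZ Asub).left) U.ι

end Main

end AffineDescent


open AlgSp AffineDescent in
/-- A sheaf which becomes a quasi-affine scheme over a flat surjective finitely presented cover of
an affine test scheme is a quasi-affine scheme over it. -/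
theorem exists_quasiAffine_of_cover {S : Scheme.{u}} {F G : Sp S} (f : F ⟶ G) {Z V W : Over S}
    (g : (yon S).obj Z ⟶ G) (v : V ⟶ Z) [IsAffine Z.left] [IsAffine V.left]
    [W.left.IsQuasiAffine]
    [Flat v.left] [Surjective v.left] [LocallyOfFinitePresentation v.left] (p : W ⟶ V)
    (m : (yon S).obj W ⟶ F) (sq : IsPullback m ((yon S).map p) f ((yon S).map v ≫ g)) :
    ∃ (A : Over S) (i : A ⟶ Z) (fst : (yon S).obj A ⟶ F) (h : W ⟶ A),
      A.left.IsQuasiAffine ∧ IsPullback fst ((yon S).map i) f g ∧ IsPullback h p i v := by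
  have sqP := IsPullback.of_hasPullback f g
  let m' : (yon S).obj W ⟶ pullback f g := sqP.lift m ((yon S).map p ≫ (yon S).map v)
    (by rw [Category.assoc]; exact sq.w)
  have sq' : IsPullback m' ((yon S).map p) (pullback.snd f g) ((yon S).map v) :=
    IsPullback.of_right (by rw [sqP.lift_fst]; exact sq) (sqP.lift_snd _ _ _) sqP
  let B := Γ(Z.left, ⊤)
  let sZ : Spec B ⟶ S := Z.left.isoSpec.inv ≫ Z.hom
  letI algC : Algebra B Γ(V.left, ⊤) := v.left.appTop.hom.toAlgebra
  let eZ : Z ≅ Over.mk sZ := Over.isoMk Z.left.isoSpec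
    (by simp [sZ])
  have hV : V.left.isoSpec.hom ≫ Spec.map v.left.appTop = v.left ≫ Z.left.isoSpec.hom :=
    Scheme.isoSpec_hom_naturality _
  let eV : V ≅ specOver sZ Γ(V.left, ⊤) := Over.isoMk V.left.isoSpec (by
    change V.left.isoSpec.hom ≫ Spec.map v.left.appTop ≫ Z.left.isoSpec.inv ≫ Z.hom = V.hom
    rw [reassoc_of% hV, Iso.hom_inv_id_assoc, Over.w v])
  have hv : eV.hom ≫ toBase sZ Γ(V.left, ⊤) = v ≫ eZ.hom := Over.OverMorphism.ext hV
  have hflat : Module.Flat B Γ(V.left, ⊤) :=
    (HasRingHomProperty.iff_of_isAffine (P := @Flat) (f := v.left)).1 ‹_›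
  have e := arrowIsoSpecΓOfIsAffine v.left
  have : Flat (toBase sZ Γ(V.left, ⊤)).left :=
    (MorphismProperty.arrow_mk_iso_iff @Flat e).1 ‹_›
  have : Surjective (toBase sZ Γ(V.left, ⊤)).left :=
    (MorphismProperty.arrow_mk_iso_iff @Surjective e).1 ‹_›
  have : LocallyOfFinitePresentation (toBase sZ Γ(V.left, ⊤)).left :=
    (MorphismProperty.arrow_mk_iso_iff @LocallyOfFinitePresentation e).1 ‹_›
  have sq'' : IsPullback m' ((yon S).map (p ≫ eV.hom))
      (pullback.snd f g ≫ (yon S).map eZ.hom) ((yon S).map (toBase sZ Γ(V.left, ⊤))) := by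
    refine IsPullback.of_iso sq' (Iso.refl _) (Iso.refl _) ((yon S).mapIso eV)
      ((yon S).mapIso eZ) ?_ ?_ ?_ ?_
    · simp
    · simp only [Iso.refl_hom, Category.id_comp, Functor.mapIso_hom, Functor.map_comp]
    · simp
    · simp only [Functor.mapIso_hom, ← Functor.map_comp, hv]
  obtain ⟨A, i, φ, h, hA, hφ, hi, sqh⟩ := exists_qaff_of_spec sZ Γ(V.left, ⊤) _ (p ≫ eV.hom) _ sq''
  refine ⟨A, i ≫ eZ.inv, φ ≫ pullback.fst f g, h, hA, ?_, ?_⟩
  · have hi' : φ ≫ pullback.snd f g = (yon S).map (i ≫ eZ.inv) := by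
      rw [Functor.map_comp, ← hi, Category.assoc, Category.assoc, ← Functor.map_comp,
        Iso.hom_inv_id]
      erw [(yon S).map_id]
      rw [Category.comp_id]
    exact IsPullback.of_iso sqP (asIso φ).symm (Iso.refl _) (Iso.refl _) (Iso.refl _) (by simp)
      (by simp [← hi']) (by simp) (by simp)
  · exact IsPullback.of_iso sqh (Iso.refl W) (Iso.refl A) eV.symm eZ.symm
      (by simp) (by simp) (by simp)
      (by rw [Iso.symm_hom, Iso.symm_hom, Iso.eq_inv_comp, ← Category.assoc, hv, Category.assoc,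
        Iso.hom_inv_id, Category.comp_id])

end Groth.Agent.AlgSpace
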