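import Groth.Agent.Lib.AlgSpace.Bootstrap
import Groth.Agent.Lib.AlgSpDescent.SchemeSource
import Groth.Agent.Lib.Slice.Global

/-!
# Slicing a flat cover of a sheaf

A flat, locally finitely presented cover of a sheaf by a scheme can be replaced by one which is in
addition separated and locally quasi-finite.
-/

universe u

set_option backward.isDefEq.respectTransparency.types false
set_option linter.unusedVariables false

open CategoryTheory CategoryTheory.Limits AlgebraicGeometry Opposite

namespace Groth.Agent.AlgSpace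

open AlgSp

variable {S : Scheme.{u}}

/-- An equivalence relation over a base is one of schemes. -/
theorem schEqv_of_isEqvRel {R U : Over S} {s t : R ⟶ U} (h : IsEqvRel s t) :
    FinQuot.SchEqv s.left t.left := by
  refine ⟨fun {T} a b e₁ e₂ => ?_, ?_, ?_, fun {T} a b e => ?_⟩
  · have hb : b ≫ R.hom = a ≫ R.hom := by
      rw [← Over.w s, ← Category.assoc, ← e₁, Category.assoc]
    exact congrArg CommaMorphism.left (h.injective (Over.mk (a ≫ R.hom)) (Over.homMk a rfl)
      (Over.homMk b hb) (Over.OverMorphism.ext e₂) (Over.OverMorphism.ext e₁))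
  · obtain ⟨r, hr₁, hr₂⟩ := (h.equivalence U).refl (𝟙 U)
    exact ⟨r.left, congrArg CommaMorphism.left hr₂, congrArg CommaMorphism.left hr₁⟩
  · obtain ⟨r, hr₁, hr₂⟩ := (h.equivalence R).symm (x := t) (y := s) ⟨𝟙 R, Category.id_comp _, Category.id_comp _⟩
    exact ⟨r.left, congrArg CommaMorphism.left hr₂, congrArg CommaMorphism.left hr₁⟩
  · have hb : b ≫ R.hom = a ≫ R.hom := by
      rw [← Over.w s, ← Category.assoc, ← e, Category.assoc, Over.w t, Over.w s]
    let T' : Over S := Over.mk (a ≫ R.hom)
    let a' : T' ⟶ R := Over.homMk a rfl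
    let b' : T' ⟶ R := Over.homMk b hb
    obtain ⟨r, hr₁, hr₂⟩ := (h.equivalence T').trans (x := b' ≫ t) (y := a' ≫ t) (z := a' ≫ s)
      ⟨b', rfl, (Over.OverMorphism.ext e).symm⟩ ⟨a', rfl, rfl⟩
    exact ⟨r.left, congrArg CommaMorphism.left hr₂, congrArg CommaMorphism.left hr₁⟩

/-- Flatness descends along flat surjective quasi-compact base changes. -/
theorem descendsAlong_flat :
    MorphismProperty.DescendsAlong (@Flat : MorphismProperty Scheme.{u}) (@Surjective ⊓ @Flat ⊓ @QuasiCompact) := by
  refine MorphismProperty.DescendsAlong.mk' fun {X Y Z} f g _ ⟨⟨h₁, h₂⟩, h₃⟩ hf => ?_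
  have : Flat (pullback.fst f g) := hf
  have : Flat (pullback.snd f g ≫ g) := pullback.condition (f := f) (g := g) ▸ inferInstance
  exact AlgSpDescent.flat_of_comp_flat_surjective (pullback.snd f g) g

variable {F : Sp S} {U : Over S}

/-- A flat cover of a sheaf with representable diagonal can be sliced to a separated, locally
quasi-finite one. -/
theorem exists_sepLqf_cover (hd : Representable (Limits.diag F)) (p : (yon S).obj U ⟶ F)
    (hfl : RepWith @Flat p) (hfp : RepWith @LocallyOfFinitePresentation p)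
    (hs : RepWith @Surjective p) :
    ∃ (Y : Over S) (g : Y ⟶ U), RepWith sepLqf ((yon S).map g ≫ p) ∧
      RepWith @Flat ((yon S).map g ≫ p) ∧ RepWith @LocallyOfFinitePresentation ((yon S).map g ≫ p) ∧
      RepWith @Surjective ((yon S).map g ≫ p) := by
  have hls : Sheaf.IsLocallySurjective p := isLocallySurjective_of_repWith p hfl hfp hs
  obtain ⟨t, ht⟩ := (yon S).map_surjective (hfl.1.fst p)
  let R := hfl.1.pullback p
  let s : R ⟶ U := hfl.1.snd p
  have sq : IsPullback ((yon S).map t) ((yon S).map s) p p := by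
    rw [ht]; exact hfl.1.isPullback p
  have : Flat s.left := hfl.2 p _ _ sq
  have : LocallyOfFinitePresentation s.left := hfp.2 p _ _ sq
  have : Flat t.left := hfl.2 p _ _ sq.flip
  have : LocallyOfFinitePresentation t.left := hfp.2 p _ _ sq.flip
  have he := schEqv_of_isEqvRel (isEqvRel_of_isPullback sq)
  obtain ⟨Y₀, g₀, hg₀, hsep, h₁, h₂, h₃, h₄⟩ := Slice.exists_slicing he
  let Y : Over S := Over.mk (g₀ ≫ U.hom)
  let g : Y ⟶ U := Over.homMk g₀ rfl
  let P : Over S := Over.mk (pullback.fst g₀ s.left ≫ Y.hom)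
  let fst : P ⟶ Y := Over.homMk (pullback.fst g₀ s.left) rfl
  let snd : P ⟶ R := Over.homMk (pullback.snd g₀ s.left) (by
    change pullback.snd g₀ s.left ≫ R.hom = pullback.fst g₀ s.left ≫ g₀ ≫ U.hom
    rw [pullback.condition_assoc, Over.w s])
  have sqP : IsPullback fst snd g s :=
    IsPullback.of_map_of_faithful (Over.forget S) (IsPullback.of_hasPullback g₀ s.left)
  have sq' : IsPullback ((yon S).map fst) ((yon S).map (snd ≫ t)) ((yon S).map g ≫ p) p := by
    rw [Functor.map_comp]
    exact ((sqP.map (yon S)).flip.paste_horiz sq).flip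
  have hrep : Representable ((yon S).map g ≫ p) := Functor.relativelyRepresentable.of_diag hd _
  have := descendsAlong_flat.{u}
  have := isLocalAtTarget_fppf (@Flat : MorphismProperty Scheme.{u})
  have := isLocalAtTarget_fppf (@LocallyOfFinitePresentation : MorphismProperty Scheme.{u})
  have := isLocalAtTarget_fppf (@Surjective : MorphismProperty Scheme.{u})
  refine ⟨Y, g, ?_, repWith_of_locallySurjective hrep sq' _ ((repWith_yon_map_iff _ _).2 h₁),
    repWith_of_locallySurjective hrep sq' _ ((repWith_yon_map_iff _ _).2 h₂),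
    repWith_of_locallySurjective hrep sq' _ ((repWith_yon_map_iff _ _).2 h₄)⟩
  have := descendsAlong_sepLqf.{u}
  refine repWith_of_locSurj_lqf (P := sepLqf) (fun _ _ j hj => ⟨hj.1.1, hj.1.2, hj.2⟩) sq'
    ((repWith_yon_map_iff _ _).2 ?_)
  have hY : IsSeparated Y.hom := hsep U.hom
  let k : P.left ⟶ pullback Y.hom U.hom :=
    pullback.lift fst.left (snd ≫ t).left ((Over.w fst).trans (Over.w (snd ≫ t)).symm)
  have : Mono k := by
    refine ⟨fun x y e => (sqP.map (Over.forget S)).hom_ext ?_ ?_⟩
    · simpa [k, pullback.lift_fst] using e =≫ pullback.fst _ _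
    · refine he.ext _ _ ?_ ?_
      · have e' : x ≫ fst.left = y ≫ fst.left := by simpa [k, pullback.lift_fst] using e =≫ pullback.fst _ _
        change (x ≫ pullback.snd g₀ s.left) ≫ s.left = (y ≫ pullback.snd g₀ s.left) ≫ s.left
        rw [Category.assoc, Category.assoc, ← pullback.condition]
        simpa [fst] using e' =≫ g₀
      · simpa [k, snd, pullback.lift_snd] using e =≫ pullback.snd _ _
  refine ⟨⟨h₃, inferInstanceAs (LocallyOfFiniteType (pullback.snd g₀ s.left ≫ t.left))⟩, ?_⟩
  have hk : (snd ≫ t).left = k ≫ pullback.snd Y.hom U.hom := (pullback.lift_snd _ _ _).symm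
  rw [hk]
  infer_instance

end Groth.Agent.AlgSpace
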