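import Groth.Agent.Lib.AlgSpace.PieceSpace
import Groth.Agent.Lib.AlgSpace.Atlas
import Groth.Agent.Lib.AlgSpace.SliceCover
import Groth.Agent.Lib.FinQuot.Invariant
import Mathlib.AlgebraicGeometry.Sites.Fpqc

/-!
# Etale charts of a sheaf with a separated quasi-finite flat cover
-/

universe u

set_option backward.isDefEq.respectTransparency.types false
set_option linter.unusedVariables false

open CategoryTheory CategoryTheory.Limits AlgebraicGeometry Opposite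

namespace Groth.Agent.AlgSpace

open AlgSp AlgSpDecent

variable {S : Scheme.{u}} {F : Sp S} {U : Over S} {p : (yon S).obj U ⟶ F} {hp : GoodMap p}

variable (hp) in
/-- A universal pointed piece. -/
structure UnivPiece where
  Z : Over S
  u : Z ⟶ U
  q : (yon S).obj Z ⟶ pieces hp
  sep : IsSeparated u.left
  et : Etale u.left
  w : q ≫ piecesπ hp = (yon S).map u ≫ p
  ext : ∀ ⦃W : Over S⦄ (n n' : W ⟶ Z), n ≫ u = n' ≫ u →
    (yon S).map n ≫ q = (yon S).map n' ≫ q → n = n'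
  mem : ∀ ⦃W : Over S⦄ (n : W ⟶ Z),
    (⟨W, (𝟙 W, n ≫ u)⟩ : Σ T' : Over S, (T' ⟶ W) × (T' ⟶ U)) ∈ pieceOf ((yon S).map n ≫ q)
  lift : ∀ ⦃W : Over S⦄ (c : (yon S).obj W ⟶ pieces hp) (k : W ⟶ U),
    (⟨W, (𝟙 W, k)⟩ : Σ T' : Over S, (T' ⟶ W) × (T' ⟶ U)) ∈ pieceOf c →
      ∃ n : W ⟶ Z, n ≫ u = k ∧ (yon S).map n ≫ q = c

variable (hp) in
theorem exists_univPiece : Nonempty (UnivPiece hp) := by
  have hπ := repWith_piecesπ hp
  let H := hπ.1.pullback p
  let hu : H ⟶ U := hπ.1.snd p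
  let w := hπ.1.fst p
  have sqH : IsPullback w ((yon S).map hu) (piecesπ hp) p := hπ.1.isPullback p
  obtain ⟨hue, hus⟩ : Etale hu.left ∧ IsSeparated hu.left := hπ.2 p _ _ sqH
  let g := (yon S).map hu ≫ p
  obtain ⟨u, hu'⟩ := (yon S).map_surjective (hp.sepLqf.1.fst g)
  let π : hp.sepLqf.1.pullback g ⟶ H := hp.sepLqf.1.snd g
  have sq : IsPullback ((yon S).map u) ((yon S).map π) p g := hu' ▸ hp.sepLqf.1.isPullback g
  obtain ⟨V, hV, hVL⟩ := (show IsPiece p g (pieceOf w) by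
    have h := isPiece_pieceOf w; rwa [sqH.w] at h).exists_opens sq
  obtain ⟨σ, hσ₁, hσ₂⟩ := square_lift sq (𝟙 H) hu (by
    rw [(yon S).map_id, Category.id_comp])
  let Zo : H.left.Opens := σ.left ⁻¹ᵁ V
  let Z : Over S := Over.mk (Zo.ι ≫ H.hom)
  let j : Z ⟶ H := Over.homMk Zo.ι rfl
  have : Mono j.left := inferInstanceAs (Mono Zo.ι)
  have hj : Mono j := (Over.forget S).mono_of_mono_map ‹_›
  have key : ∀ ⦃W : Over S⦄ (k : W ⟶ H), (∀ t, k.left t ∈ Zo) ↔
      (⟨W, (𝟙 W, k ≫ hu)⟩ : Σ T' : Over S, (T' ⟶ W) × (T' ⟶ U)) ∈ pieceOf ((yon S).map k ≫ w) := by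
    intro W k
    rw [pieceOf_comp, ← hVL]
    refine ⟨fun h => ⟨k ≫ σ, ?_, ?_, h⟩, ?_⟩
    · rw [Category.assoc, hσ₁, Category.comp_id]
      exact (Category.id_comp k).symm
    · rw [Category.assoc, hσ₂]
    · rintro ⟨m, hm₁, hm₂, hm⟩ t
      have : m = k ≫ σ := square_hom_ext sq
        (hm₁.trans ((Category.id_comp k).trans (by rw [Category.assoc, hσ₁, Category.comp_id])))
        (hm₂.trans (by rw [Category.assoc, hσ₂]))
      subst this
      exact hm t
  refine ⟨⟨Z, j ≫ hu, (yon S).map j ≫ w, ?_, ?_, ?_, fun W n n' h₁ h₂ => ?_, fun W n => ?_, fun W c k h => ?_⟩⟩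
  · change IsSeparated (Zo.ι ≫ hu.left); infer_instance
  · change Etale (Zo.ι ≫ hu.left); infer_instance
  · rw [Category.assoc, sqH.w, Functor.map_comp_assoc]
  · refine (cancel_mono j).1 ((yon S).map_injective (sqH.hom_ext ?_ ?_))
    · simpa only [Functor.map_comp, Category.assoc] using h₂
    · rw [← Functor.map_comp, ← Functor.map_comp, Category.assoc, Category.assoc, h₁]
  · rw [← Functor.map_comp_assoc, ← Category.assoc]
    exact (key (n ≫ j)).1 fun t => (n.left t).2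
  · obtain ⟨k', hk'⟩ := (yon S).map_surjective (sqH.lift c ((yon S).map k) (by
      have := (isPiece_pieceOf c).eq h
      rw [(yon S).map_id, Category.id_comp] at this
      exact this.symm))
    have hk'u : k' ≫ hu = k := (yon S).map_injective (by rw [Functor.map_comp, hk', sqH.lift_snd])
    have hk'w : (yon S).map k' ≫ w = c := by rw [hk', sqH.lift_fst]
    have hr : Set.range k'.left ⊆ Set.range Zo.ι := by
      rintro _ ⟨t, rfl⟩
      rw [Zo.range_ι]
      exact (key k').2 (by rw [hk'u, hk'w]; exact h) t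
    let n : W ⟶ Z := Over.homMk (IsOpenImmersion.lift Zo.ι k'.left hr) (by
      change _ ≫ Zo.ι ≫ H.hom = _
      rw [IsOpenImmersion.lift_fac_assoc, Over.w k'])
    have hn : n ≫ j = k' := Over.OverMorphism.ext (IsOpenImmersion.lift_fac _ _ _)
    exact ⟨n, by rw [← Category.assoc, hn, hk'u], by rw [← Functor.map_comp_assoc, hn, hk'w]⟩

/-- The tautological map from the universal pointed piece is finite flat of finite presentation. -/
theorem UnivPiece.repWith_q (P : UnivPiece hp) :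
    RepWith ((@IsFinite : MorphismProperty Scheme.{u}) ⊓ @Flat ⊓ @LocallyOfFinitePresentation) P.q := by
  refine repWith_mk fun T c => ?_
  obtain ⟨X, u, π, sq, V, hV, hVL⟩ := isPiece_pieceOf c
  let T' : Over S := Over.mk (V.ι ≫ X.hom)
  let j : T' ⟶ X := Over.homMk V.ι rfl
  have : Mono j.left := inferInstanceAs (Mono V.ι)
  have hj : Mono j := (Over.forget S).mono_of_mono_map ‹_›
  have hmem : (⟨T', (𝟙 T', j ≫ u)⟩ : Σ W : Over S, (W ⟶ T') × (W ⟶ U)) ∈
      pieceOf ((yon S).map (j ≫ π) ≫ c) := by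
    rw [pieceOf_comp, ← hVL]
    exact ⟨j, (Category.id_comp _).symm, rfl, fun t => t.2⟩
  obtain ⟨m, hm₁, hm₂⟩ := P.lift _ _ hmem
  have sqc : IsPullback ((yon S).map m) ((yon S).map (j ≫ π)) P.q c := by
    let f := pullback.lift ((yon S).map m) ((yon S).map (j ≫ π)) hm₂
    have hf : ∀ {W : Over S} (n : W ⟶ T'), (yon S).map n ≫ f ≫ pullback.fst P.q c = (yon S).map (n ≫ m) ∧
        (yon S).map n ≫ f ≫ pullback.snd P.q c = (yon S).map (n ≫ j ≫ π) := fun n => by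
      constructor <;> simp [f, pullback.lift_fst, pullback.lift_snd]
    have : Mono f := mono_of_yon _ fun W x y h => by
      obtain ⟨x, rfl⟩ := (yon S).map_surjective x
      obtain ⟨y, rfl⟩ := (yon S).map_surjective y
      have h₁ := h =≫ pullback.fst P.q c
      have h₂ := h =≫ pullback.snd P.q c
      rw [Category.assoc, Category.assoc, (hf x).1, (hf y).1] at h₁
      rw [Category.assoc, Category.assoc, (hf x).2, (hf y).2] at h₂
      have e₁ := congrArg (· ≫ P.u) ((yon S).map_injective h₁)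
      simp only [Category.assoc, hm₁] at e₁
      refine congrArg _ ((cancel_mono j).1 (square_hom_ext sq ?_ ?_))
      · simpa only [Category.assoc] using (yon S).map_injective h₂
      · simpa only [Category.assoc] using e₁
    have : IsIso f := isIso_of_mono_of_lifts f fun W z => by
      obtain ⟨n, hn⟩ := (yon S).map_surjective (z ≫ pullback.fst P.q c)
      obtain ⟨a, ha⟩ := (yon S).map_surjective (z ≫ pullback.snd P.q c)
      have e : (yon S).map n ≫ P.q = (yon S).map a ≫ c := by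
        rw [hn, ha, Category.assoc, Category.assoc, pullback.condition]
      have hn' := P.mem n
      rw [e, pieceOf_comp, ← hVL] at hn'
      obtain ⟨h, hh₁, hh₂, hh⟩ := hn'
      have hr : Set.range h.left ⊆ Set.range V.ι := by
        rintro _ ⟨t, rfl⟩; rw [V.range_ι]; exact hh t
      let h' : W ⟶ T' := Over.homMk (IsOpenImmersion.lift V.ι h.left hr) (by
        change _ ≫ V.ι ≫ X.hom = _
        rw [IsOpenImmersion.lift_fac_assoc, Over.w h])
      have hh' : h' ≫ j = h := Over.OverMorphism.ext (IsOpenImmersion.lift_fac _ _ _)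
      have ha' : h' ≫ j ≫ π = a := by rw [← Category.assoc, hh']; exact hh₁.trans (Category.id_comp a)
      have hm' : h' ≫ m = n := P.ext _ _
        (by rw [Category.assoc, hm₁, ← Category.assoc, hh']; exact hh₂)
        (by rw [Functor.map_comp_assoc, hm₂, ← Functor.map_comp_assoc, ha', e])
      refine ⟨(yon S).map h', pullback.hom_ext ?_ ?_⟩
      · rw [Category.assoc, (hf h').1, hm', hn]
      · rw [Category.assoc, (hf h').2, ha', ha]
    exact IsPullback.of_iso_pullback ⟨hm₂⟩ (asIso f) (pullback.lift_fst _ _ _) (pullback.lift_snd _ _ _)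
  refine ⟨T', _, _, sqc, ?_⟩
  have hπ₁ : Flat π.left := hp.flat.2 _ _ _ sq
  have hπ₂ : LocallyOfFinitePresentation π.left := hp.lfp.2 _ _ _ sq
  exact ⟨⟨hV, inferInstanceAs (Flat (V.ι ≫ π.left))⟩,
    inferInstanceAs (LocallyOfFinitePresentation (V.ι ≫ π.left))⟩

/-- Restriction of an equivalence relation to a saturated open. -/
theorem schEqv_restrict {U R : Scheme.{u}} {s t : R ⟶ U} (he : FinQuot.SchEqv s t) (V : U.Opens)
    (hV : s ⁻¹ᵁ V ≤ t ⁻¹ᵁ V) : FinQuot.SchEqv (s ∣_ V) (t.resLE V (s ⁻¹ᵁ V) hV) := by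
  obtain ⟨e, he₁, he₂⟩ := he.refl
  obtain ⟨i, hi₁, hi₂⟩ := he.symm
  have hr : Set.range (V.ι ≫ e) ⊆ Set.range (s ⁻¹ᵁ V).ι := by
    rintro _ ⟨y, rfl⟩
    rw [Scheme.Opens.range_ι]
    change s (e (V.ι y)) ∈ V
    rw [← Scheme.Hom.comp_apply, he₁]
    exact y.2
  have hri : Set.range ((s ⁻¹ᵁ V).ι ≫ i) ⊆ Set.range (s ⁻¹ᵁ V).ι := by
    rintro _ ⟨y, rfl⟩
    rw [Scheme.Opens.range_ι]
    change s (i ((s ⁻¹ᵁ V).ι y)) ∈ V
    rw [← Scheme.Hom.comp_apply, hi₁]
    exact hV y.2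
  have hs : ∀ {T : Scheme.{u}} (a : T ⟶ (s ⁻¹ᵁ V).toScheme),
      (a ≫ s ∣_ V) ≫ V.ι = (a ≫ (s ⁻¹ᵁ V).ι) ≫ s := fun a => by simp
  have ht : ∀ {T : Scheme.{u}} (a : T ⟶ (s ⁻¹ᵁ V).toScheme),
      (a ≫ t.resLE V (s ⁻¹ᵁ V) hV) ≫ V.ι = (a ≫ (s ⁻¹ᵁ V).ι) ≫ t := fun a => by simp
  refine ⟨fun a b e₁ e₂ => ?_, ⟨IsOpenImmersion.lift _ _ hr, ?_, ?_⟩,
    ⟨IsOpenImmersion.lift _ _ hri, ?_, ?_⟩, fun {T} a b h => ?_⟩
  · exact (cancel_mono (s ⁻¹ᵁ V).ι).1 (he.ext _ _ (by rw [← hs, ← hs, e₁]) (by rw [← ht, ← ht, e₂]))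
  · rw [← cancel_mono V.ι, hs, IsOpenImmersion.lift_fac, Category.assoc, he₁, Category.id_comp,
      Category.comp_id]
  · rw [← cancel_mono V.ι, ht, IsOpenImmersion.lift_fac, Category.assoc, he₂, Category.id_comp,
      Category.comp_id]
  · rw [← cancel_mono V.ι, hs, IsOpenImmersion.lift_fac, Category.assoc, hi₁]
    simp
  · rw [← cancel_mono V.ι, ht, IsOpenImmersion.lift_fac, Category.assoc, hi₂]
    simp
  · obtain ⟨c, hc₁, hc₂⟩ := he.trans (a ≫ (s ⁻¹ᵁ V).ι) (b ≫ (s ⁻¹ᵁ V).ι) (by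
      rw [← ht, ← hs, h])
    have hrc : Set.range c ⊆ Set.range (s ⁻¹ᵁ V).ι := by
      rintro _ ⟨y, rfl⟩
      rw [Scheme.Opens.range_ι]
      change s (c y) ∈ V
      rw [← Scheme.Hom.comp_apply, hc₁]
      exact (a y).2
    refine ⟨IsOpenImmersion.lift _ _ hrc, ?_, ?_⟩
    · rw [← cancel_mono V.ι, hs, hs, IsOpenImmersion.lift_fac, hc₁]
    · rw [← cancel_mono V.ι, ht, ht, IsOpenImmersion.lift_fac, hc₂]

/-- The quotient of an invariant affine open by a finite locally free equivalence relation. -/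
theorem exists_invariant_quotient {Z R : Over S} {s t : R ⟶ Z} (he : FinQuot.SchEqv s.left t.left)
    [IsFinite s.left] [Flat s.left] [LocallyOfFinitePresentation s.left] (V : Z.left.Opens)
    (hV : IsAffineOpen V) (hinv : s.left ⁻¹ᵁ V = t.left ⁻¹ᵁ V) :
    ∃ (Q Z₁ R₁ : Over S) (ι : Z₁ ⟶ Z) (ιR : R₁ ⟶ R) (s' t' : R₁ ⟶ Z₁) (π₁ : Z₁ ⟶ Q),
      IsOpenImmersion ι.left ∧ Set.range ι.left = V ∧ IsPullback s' t' π₁ π₁ ∧
      s' ≫ ι = ιR ≫ s ∧ t' ≫ ι = ιR ≫ t ∧
      Flat π₁.left ∧ LocallyOfFinitePresentation π₁.left ∧ Surjective π₁.left ∧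
      ∀ ⦃W : Over S⦄ (r : W ⟶ R) (n n' : W ⟶ Z₁), r ≫ t = n ≫ ι → r ≫ s = n' ≫ ι →
        n ≫ π₁ = n' ≫ π₁ := by
  have : IsAffine V.toScheme := hV
  have heV := schEqv_restrict he V hinv.le
  have : IsFinite (s.left ∣_ V) :=
    MorphismProperty.of_isPullback (isPullback_morphismRestrict s.left V).flip ‹IsFinite s.left›
  have : Flat (s.left ∣_ V) :=
    MorphismProperty.of_isPullback (isPullback_morphismRestrict s.left V).flip ‹Flat s.left›
  have : LocallyOfFinitePresentation (s.left ∣_ V) :=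
    MorphismProperty.of_isPullback (isPullback_morphismRestrict s.left V).flip
      ‹LocallyOfFinitePresentation s.left›
  have key : ∀ (s₁ t₁ : (s.left ⁻¹ᵁ V).toScheme ⟶ V.toScheme),
      s₁ ≫ V.ι = (s.left ⁻¹ᵁ V).ι ≫ s.left → t₁ ≫ V.ι = (s.left ⁻¹ᵁ V).ι ≫ t.left →
      ∀ {Q₀ : Scheme.{u}} (π : V.toScheme ⟶ Q₀), Flat π → LocallyOfFinitePresentation π → Surjective π →
        IsPullback s₁ t₁ π π → ∃ (Q Z₁ R₁ : Over S) (ι : Z₁ ⟶ Z) (ιR : R₁ ⟶ R) (s' t' : R₁ ⟶ Z₁) (π₁ : Z₁ ⟶ Q),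
      IsOpenImmersion ι.left ∧ Set.range ι.left = V ∧ IsPullback s' t' π₁ π₁ ∧
      s' ≫ ι = ιR ≫ s ∧ t' ≫ ι = ιR ≫ t ∧
      Flat π₁.left ∧ LocallyOfFinitePresentation π₁.left ∧ Surjective π₁.left ∧
      ∀ ⦃W : Over S⦄ (r : W ⟶ R) (n n' : W ⟶ Z₁), r ≫ t = n ≫ ι → r ≫ s = n' ≫ ι →
        n ≫ π₁ = n' ≫ π₁ := by
    intro s₁ t₁ hsι htι Q₀ π _ _ _ sqQ
    have hc : ∀ {X : Scheme.{u}} (g₁ g₂ : X ⟶ V.toScheme), g₁ ≫ π = g₂ ≫ π →
        g₁ ≫ V.ι ≫ Z.hom = g₂ ≫ V.ι ≫ Z.hom := fun g₁ g₂ h => by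
      obtain ⟨l, hl₁, hl₂⟩ : ∃ l, l ≫ s₁ = g₁ ∧ l ≫ t₁ = g₂ :=
        ⟨sqQ.lift g₁ g₂ h, sqQ.lift_fst _ _ _, sqQ.lift_snd _ _ _⟩
      rw [← hl₁, ← hl₂]
      simp only [Category.assoc]
      rw [reassoc_of% hsι, reassoc_of% htι, Over.w s, Over.w t]
    let hQ : Q₀ ⟶ S := EffectiveEpi.desc π (V.ι ≫ Z.hom) @hc
    let Q : Over S := Over.mk hQ
    let Z₁ : Over S := Over.mk (V.ι ≫ Z.hom)
    let ι : Z₁ ⟶ Z := Over.homMk V.ι rfl
    let π₁ : Z₁ ⟶ Q := Over.homMk π (EffectiveEpi.fac π (V.ι ≫ Z.hom) @hc)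
    let R₁ : Over S := Over.mk ((s.left ⁻¹ᵁ V).ι ≫ R.hom)
    let ιR : R₁ ⟶ R := Over.homMk (s.left ⁻¹ᵁ V).ι rfl
    let s' : R₁ ⟶ Z₁ := Over.homMk s₁ (by
      change s₁ ≫ V.ι ≫ Z.hom = (s.left ⁻¹ᵁ V).ι ≫ R.hom
      rw [reassoc_of% hsι, Over.w s])
    let t' : R₁ ⟶ Z₁ := Over.homMk t₁ (by
      change t₁ ≫ V.ι ≫ Z.hom = (s.left ⁻¹ᵁ V).ι ≫ R.hom
      rw [reassoc_of% htι, Over.w t])
    have hs' : s' ≫ ι = ιR ≫ s := Over.OverMorphism.ext hsι
    have ht' : t' ≫ ι = ιR ≫ t := Over.OverMorphism.ext htι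
    have sqQ' : IsPullback s' t' π₁ π₁ := IsPullback.of_map_of_faithful (Over.forget S) sqQ
    refine ⟨Q, Z₁, R₁, ι, ιR, s', t', π₁, inferInstanceAs (IsOpenImmersion V.ι), V.range_ι, sqQ',
      hs', ht', ‹_›, ‹_›, ‹_›, fun W r n n' hr₁ hr₂ => ?_⟩
    have hrr : Set.range r.left ⊆ Set.range (s.left ⁻¹ᵁ V).ι := by
      rintro _ ⟨y, rfl⟩
      rw [Scheme.Opens.range_ι]
      change s.left (r.left y) ∈ V
      have : s.left (r.left y) = V.ι (n'.left y) := congrArg (fun φ : W ⟶ Z => φ.left y) hr₂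
      rw [this]
      exact (n'.left y).2
    let r₁ : W ⟶ R₁ := Over.homMk (IsOpenImmersion.lift _ _ hrr) (by
      change _ ≫ (s.left ⁻¹ᵁ V).ι ≫ R.hom = _
      rw [IsOpenImmersion.lift_fac_assoc, Over.w r])
    have hr₁R : r₁ ≫ ιR = r := Over.OverMorphism.ext (IsOpenImmersion.lift_fac _ _ _)
    have : Mono ι.left := inferInstanceAs (Mono V.ι)
    have : Mono ι := (Over.forget S).mono_of_mono_map ‹_›
    rw [show n = r₁ ≫ t' by rw [← cancel_mono ι, Category.assoc, ht', ← Category.assoc, hr₁R, hr₁],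
      show n' = r₁ ≫ s' by rw [← cancel_mono ι, Category.assoc, hs', ← Category.assoc, hr₁R, hr₂],
      Category.assoc, Category.assoc, sqQ'.w]
  obtain ⟨-, h₁, h₂, h₃, h₄⟩ := heV.quotient
  exact key _ _ (morphismRestrict_ι _ _) (Scheme.Hom.resLE_comp_ι _ _) _ h₁ h₂ h₃ h₄

/-- The quotient of an invariant affine open is an open subsheaf. -/
theorem exists_open_quotient {G : Sp S} {Z R : Over S} {q : (yon S).obj Z ⟶ G}
    (hq : RepWith ((@IsFinite : MorphismProperty Scheme.{u}) ⊓ @Flat ⊓ @LocallyOfFinitePresentation) q)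
    {t s : R ⟶ Z} (sq : IsPullback ((yon S).map t) ((yon S).map s) q q) (V : Z.left.Opens)
    (hV : IsAffineOpen V) (hinv : s.left ⁻¹ᵁ V = t.left ⁻¹ᵁ V) :
    ∃ (Q Z₁ : Over S) (ι : Z₁ ⟶ Z) (π₁ : Z₁ ⟶ Q) (b₀ : (yon S).obj Q ⟶ G),
      IsOpenImmersion ι.left ∧ Set.range ι.left = V ∧ Flat π₁.left ∧
      LocallyOfFinitePresentation π₁.left ∧ Surjective π₁.left ∧ RepWith @IsOpenImmersion b₀ ∧
      (yon S).map π₁ ≫ b₀ = (yon S).map ι ≫ q := by
  obtain ⟨⟨hsf, hsfl⟩, hsfp⟩ : (IsFinite s.left ∧ Flat s.left) ∧ LocallyOfFinitePresentation s.left :=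
    hq.2 _ _ _ sq
  obtain ⟨⟨htf, -⟩, -⟩ : (IsFinite t.left ∧ Flat t.left) ∧ LocallyOfFinitePresentation t.left :=
    hq.2 _ _ _ sq.flip
  have he := schEqv_of_isEqvRel (isEqvRel_of_isPullback sq)
  obtain ⟨Q, Z₁, R₁, ι, ιR, s', t', π₁, hι, hιV, sqQ', hs', ht', hπfl, hπfp, hπs, hco⟩ :=
    exists_invariant_quotient he V hV hinv
  let qV := (yon S).map ι ≫ q
  -- pairs with the same image in the pieces have the same image in the quotient
  have coeq : ∀ ⦃W : Over S⦄ (n n' : W ⟶ Z₁), (yon S).map n ≫ qV = (yon S).map n' ≫ qV →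
      n ≫ π₁ = n' ≫ π₁ := by
    intro W n n' h
    obtain ⟨r, hr⟩ := (yon S).map_surjective (sq.lift ((yon S).map (n ≫ ι)) ((yon S).map (n' ≫ ι))
      (by simpa only [qV, ← Category.assoc, ← Functor.map_comp] using h))
    exact hco r n n' ((yon S).map_injective (by rw [Functor.map_comp, hr, sq.lift_fst]))
      ((yon S).map_injective (by rw [Functor.map_comp, hr, sq.lift_snd]))
  have hπ₁ : Sheaf.IsLocallySurjective ((yon S).map π₁) :=
    isLocallySurjective_of_repWith _ ((repWith_yon_map_iff _ _).2 hπfl)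
      ((repWith_yon_map_iff _ _).2 hπfp) ((repWith_yon_map_iff _ _).2 hπs)
  have : Epi ((yon S).map π₁) := (CategoryTheory.Sheaf.isLocallySurjective_iff_epi _).1 hπ₁
  obtain ⟨hc⟩ := nonempty_isColimit_cofork ((yon S).map π₁) (sqQ'.map (yon S))
  obtain ⟨b₀, hb₀'⟩ := Cofork.IsColimit.desc' hc qV (by
    simp only [qV, ← Category.assoc, ← Functor.map_comp, hs', ht']
    rw [Functor.map_comp, Functor.map_comp, Category.assoc, Category.assoc, sq.w])
  have hb₀ : (yon S).map π₁ ≫ b₀ = qV := hb₀'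
  have : Mono b₀ := mono_of_yon _ fun W x y h => by
    obtain ⟨x, rfl⟩ := (yon S).map_surjective x
    obtain ⟨y, rfl⟩ := (yon S).map_surjective y
    obtain ⟨W₁, v₁, l₁, hl₁a, hl₁b, hl₁c, hl₁⟩ := exists_single_cover_lift ((yon S).map π₁) ((yon S).map x)
    obtain ⟨W₂, v₂, l₂, hl₂a, hl₂b, hl₂c, hl₂⟩ :=
      exists_single_cover_lift ((yon S).map π₁) ((yon S).map v₁ ≫ (yon S).map y)
    obtain ⟨n₁, rfl⟩ := (yon S).map_surjective l₁
    obtain ⟨n₂, rfl⟩ := (yon S).map_surjective l₂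
    have e := coeq (v₂ ≫ n₁) n₂ (by
      rw [← hb₀, Functor.map_comp, Category.assoc, reassoc_of% hl₁, reassoc_of% hl₂, h])
    replace e := congrArg (yon S).map e
    rw [Functor.map_comp, Functor.map_comp, Functor.map_comp, Category.assoc, hl₁, hl₂] at e
    have he₁ : Epi ((yon S).map v₁) := (CategoryTheory.Sheaf.isLocallySurjective_iff_epi _).1
      (isLocallySurjective_of_repWith _ ((repWith_yon_map_iff _ _).2 hl₁a)
        ((repWith_yon_map_iff _ _).2 hl₁c) ((repWith_yon_map_iff _ _).2 hl₁b))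
    have he₂ : Epi ((yon S).map v₂) := (CategoryTheory.Sheaf.isLocallySurjective_iff_epi _).1
      (isLocallySurjective_of_repWith _ ((repWith_yon_map_iff _ _).2 hl₂a)
        ((repWith_yon_map_iff _ _).2 hl₂c) ((repWith_yon_map_iff _ _).2 hl₂b))
    exact (cancel_epi _).1 ((cancel_epi _).1 e)
  have hb₀o : RepWith @IsOpenImmersion b₀ := by
    refine repWith_mk fun T c => ?_
    obtain ⟨m, hm⟩ := (yon S).map_surjective (hq.1.fst c)
    let v : hq.1.pullback c ⟶ T := hq.1.snd c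
    have sqc : IsPullback ((yon S).map m) ((yon S).map v) q c := hm ▸ hq.1.isPullback c
    obtain ⟨⟨hvf, hvfl⟩, hvfp⟩ : (IsFinite v.left ∧ Flat v.left) ∧ LocallyOfFinitePresentation v.left :=
      hq.2 _ _ _ sqc
    let V₁ := m.left ⁻¹ᵁ V
    have hιr : ∀ {X : Scheme.{u}} (f : X ⟶ Z.left), (∀ x, f x ∈ V) → Set.range f ⊆ Set.range ι.left :=
      fun f hf => by rw [hιV]; rintro _ ⟨x, rfl⟩; exact hf x
    let Vs : Over S := Over.mk (V₁.ι ≫ (hq.1.pullback c).hom)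
    let ιV : Vs ⟶ hq.1.pullback c := Over.homMk V₁.ι rfl
    let O : T.left.Opens := ⟨v.left '' (V₁ : Set _), v.left.isOpenMap _ V₁.2⟩
    let TO : Over S := Over.mk (O.ι ≫ T.hom)
    let ιO : TO ⟶ T := Over.homMk O.ι rfl
    have hrv : Set.range (V₁.ι ≫ v.left) ⊆ Set.range O.ι := by
      rintro _ ⟨y, rfl⟩
      rw [Scheme.Opens.range_ι]
      exact ⟨V₁.ι y, y.2, rfl⟩
    let v₁ : Vs ⟶ TO := Over.homMk (IsOpenImmersion.lift O.ι _ hrv) (by
      change _ ≫ O.ι ≫ T.hom = V₁.ι ≫ _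
      rw [IsOpenImmersion.lift_fac_assoc, Category.assoc, Over.w v])
    have hv₁ : v₁ ≫ ιO = ιV ≫ v := Over.OverMorphism.ext (IsOpenImmersion.lift_fac _ _ _)
    let m₁ : Vs ⟶ Z₁ := Over.homMk (IsOpenImmersion.lift ι.left (V₁.ι ≫ m.left)
        (hιr _ fun x => x.2)) (by
      change _ ≫ Z₁.hom = V₁.ι ≫ _
      rw [← Over.w ι, IsOpenImmersion.lift_fac_assoc, Category.assoc, Over.w m])
    have hm₁ : m₁ ≫ ι = ιV ≫ m := Over.OverMorphism.ext (IsOpenImmersion.lift_fac _ _ _)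
    have hv₁' : v₁.left ≫ O.ι = V₁.ι ≫ v.left := IsOpenImmersion.lift_fac _ _ _
    have hv₁fl : Flat v₁.left := by
      have : Flat (v₁.left ≫ O.ι) := by rw [hv₁']; infer_instance
      exact MorphismProperty.of_postcomp (W := @Flat) (W' := @IsOpenImmersion) v₁.left O.ι
        inferInstance this
    have hv₁fp : LocallyOfFinitePresentation v₁.left := by
      have : LocallyOfFinitePresentation (v₁.left ≫ O.ι) := by rw [hv₁']; infer_instance
      exact MorphismProperty.of_postcomp (W := @LocallyOfFinitePresentation) (W' := @IsOpenImmersion)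
        v₁.left O.ι inferInstance this
    have hv₁s : Surjective v₁.left := ⟨fun ⟨y, hy⟩ => by
      obtain ⟨a, ha, rfl⟩ := hy
      refine ⟨⟨a, ha⟩, O.ι.isOpenEmbedding.injective ?_⟩
      exact congrArg (fun φ : V₁.toScheme ⟶ T.left => φ ⟨a, ha⟩) hv₁'⟩
    have hqm : (yon S).map m₁ ≫ qV = (yon S).map v₁ ≫ (yon S).map ιO ≫ c := by
      simp only [qV, ← Category.assoc, ← Functor.map_comp, hm₁, hv₁]
      simp only [Functor.map_comp, Category.assoc, sqc.w]
    have hls : Sheaf.IsLocallySurjective ((yon S).map v₁) :=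
      isLocallySurjective_of_repWith _ ((repWith_yon_map_iff _ _).2 hv₁fl)
        ((repWith_yon_map_iff _ _).2 hv₁fp) ((repWith_yon_map_iff _ _).2 hv₁s)
    have : Epi ((yon S).map v₁) := (CategoryTheory.Sheaf.isLocallySurjective_iff_epi _).1 hls
    let sqv := IsPullback.of_hasPullback ((yon S).map v₁) ((yon S).map v₁)
    obtain ⟨hcv⟩ := nonempty_isColimit_cofork ((yon S).map v₁) sqv
    obtain ⟨d, hd'⟩ := Cofork.IsColimit.desc' hcv ((yon S).map (m₁ ≫ π₁)) (by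
      refine hom_ext_yon fun W k => ?_
      obtain ⟨n, hn⟩ := (yon S).map_surjective (k ≫ pullback.fst ((yon S).map v₁) ((yon S).map v₁))
      obtain ⟨n', hn'⟩ := (yon S).map_surjective (k ≫ pullback.snd ((yon S).map v₁) ((yon S).map v₁))
      rw [← Category.assoc, ← Category.assoc, ← hn, ← hn', ← Functor.map_comp, ← Functor.map_comp]
      refine congrArg _ ?_
      rw [← Category.assoc, ← Category.assoc]
      refine coeq _ _ ?_
      rw [Functor.map_comp, Functor.map_comp, Category.assoc, Category.assoc, hqm, hn, hn',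
        Category.assoc, Category.assoc, pullback.condition_assoc])
    have hd : (yon S).map v₁ ≫ d = (yon S).map (m₁ ≫ π₁) := hd'
    have hw : d ≫ b₀ = (yon S).map ιO ≫ c := by
      rw [← cancel_epi ((yon S).map v₁), ← Category.assoc, hd, Functor.map_comp, Category.assoc, hb₀, hqm]
    have : Mono ιO.left := inferInstanceAs (Mono O.ι)
    have : Mono ιO := (Over.forget S).mono_of_mono_map ‹_›
    refine ⟨TO, d, ιO, isPullback_of_mono_lifts hw fun W y x h => ?_,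
      inferInstanceAs (IsOpenImmersion O.ι)⟩
    obtain ⟨a, rfl⟩ := (yon S).map_surjective y
    have hr : Set.range a.left ⊆ Set.range O.ι := by
      rintro _ ⟨w, rfl⟩
      rw [Scheme.Opens.range_ι]
      obtain ⟨W₁, v₂, l, hla, hlb, hlc, hl⟩ := exists_single_cover_lift ((yon S).map π₁) x
      obtain ⟨n, rfl⟩ := (yon S).map_surjective l
      obtain ⟨w₁, hw₁⟩ := v₂.left.surjective w
      have e : (yon S).map (n ≫ ι) ≫ q = (yon S).map (v₂ ≫ a) ≫ c := by
        rw [Functor.map_comp, Category.assoc, show (yon S).map ι ≫ q = qV from rfl, ← hb₀,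
          reassoc_of% hl, h, Functor.map_comp, Category.assoc]
      obtain ⟨k, hk⟩ := (yon S).map_surjective (sqc.lift _ _ e)
      have hk₁ : k ≫ m = n ≫ ι := (yon S).map_injective (by rw [Functor.map_comp, hk, sqc.lift_fst])
      have hk₂ : k ≫ v = v₂ ≫ a := (yon S).map_injective (by rw [Functor.map_comp, hk, sqc.lift_snd])
      refine ⟨k.left w₁, ?_, ?_⟩
      · change m.left (k.left w₁) ∈ V
        rw [show m.left (k.left w₁) = ι.left (n.left w₁) from
          congrArg (fun φ : W₁ ⟶ Z => φ.left w₁) hk₁, ← SetLike.mem_coe, ← hιV]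
        exact ⟨_, rfl⟩
      · rw [← hw₁]
        exact congrArg (fun φ : W₁ ⟶ T => φ.left w₁) hk₂
    let a' : W ⟶ TO := Over.homMk (IsOpenImmersion.lift O.ι a.left hr) (by
      change _ ≫ O.ι ≫ T.hom = _
      rw [IsOpenImmersion.lift_fac_assoc, Over.w a])
    exact ⟨(yon S).map a', by
      rw [← Functor.map_comp]; exact congrArg _ (Over.OverMorphism.ext (IsOpenImmersion.lift_fac _ _ _))⟩
  exact ⟨Q, Z₁, ι, π₁, b₀, hι, hιV, hπfl, hπfp, hπs, hb₀o, hb₀⟩

/-- An etale chart through the image of a point of the universal pointed piece. -/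
theorem UnivPiece.exists_chart (P : UnivPiece hp) [IsAffine U.left] (z : ↥P.Z.left) :
    ∃ (Q : Over S) (b : (yon S).obj Q ⟶ F), RepWith @Etale b ∧
      ∃ x, Points.ofPt b x = Points.ofPt p (P.u.left z) := by
  have hq := P.repWith_q
  let R := hq.1.pullback P.q
  obtain ⟨t, ht⟩ := (yon S).map_surjective (hq.1.fst P.q)
  let s : R ⟶ P.Z := hq.1.snd P.q
  have sq : IsPullback ((yon S).map t) ((yon S).map s) P.q P.q := ht ▸ hq.1.isPullback P.q
  obtain ⟨⟨hsf, hsfl⟩, hsfp⟩ : (IsFinite s.left ∧ Flat s.left) ∧ LocallyOfFinitePresentation s.left :=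
    hq.2 _ _ _ sq
  obtain ⟨⟨htf, -⟩, -⟩ : (IsFinite t.left ∧ Flat t.left) ∧ LocallyOfFinitePresentation t.left :=
    hq.2 _ _ _ sq.flip
  have := P.sep
  have := P.et
  have : LocallyQuasiFinite P.u.left := locallyQuasiFinite_of_unramified _
  have he := schEqv_of_isEqvRel (isEqvRel_of_isPullback sq)
  obtain ⟨W, hW, hzW⟩ := FinQuot.exists_affine_of_finite P.u.left
    ((s.left.finite_preimage_singleton z).image t.left)
  obtain ⟨V, hV, hzV, hinv⟩ := he.exists_invariant_affine z hW hzW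
  obtain ⟨Q, Z₁, ι, π₁, b₀, hι, hιV, hπfl, hπfp, hπs, hb₀o, hb₀⟩ := exists_open_quotient hq sq V hV hinv
  obtain ⟨z₁, hz₁⟩ : z ∈ Set.range ι.left := hιV ▸ hzV
  refine ⟨Q, b₀ ≫ piecesπ hp, repWith_comp (repWith_mono (fun X Y f (hf : IsOpenImmersion f) =>
      (inferInstance : Etale f)) hb₀o) (repWith_mono (fun _ _ _ hf => hf.1) (repWith_piecesπ hp)),
    π₁.left z₁, ?_⟩
  rw [← hz₁, ← ofPt_map_comp, ← Category.assoc, hb₀, Category.assoc, P.w, ← Category.assoc,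
    ← Functor.map_comp, ofPt_map_comp]
  rfl

end Groth.Agent.AlgSpace
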