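import Groth.Agent.Lib.AlgSpace.FlatQuot

/-!
# Slicing flat equivalence relations
-/

universe u

set_option backward.isDefEq.respectTransparency.types false
set_option linter.unusedVariables false

open CategoryTheory CategoryTheory.Limits AlgebraicGeometry Opposite

namespace Groth.Agent.AlgSpace

open AlgSp

variable {S : Scheme.{u}}

/-- Naturality of the comparison between the two Yoneda embeddings. -/
lemma repIso_naturality {R U : Over S} (g : R ⟶ U) :
    (yon S).map g ≫ (QuotSh.repIsoUliftYoneda Scheme.fppfPrecoverage U).inv =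
      (QuotSh.repIsoUliftYoneda Scheme.fppfPrecoverage R).inv ≫ QuotSh.repMap Scheme.fppfPrecoverage g := by
  let eR := QuotSh.repIsoUliftYoneda Scheme.fppfPrecoverage R
  let eU := QuotSh.repIsoUliftYoneda Scheme.fppfPrecoverage U
  change (yon S).map g ≫ eU.inv = eR.inv ≫ QuotSh.repMap Scheme.fppfPrecoverage g
  rw [Iso.eq_inv_comp, ← Category.assoc, Iso.comp_inv_eq]
  apply ObjectProperty.hom_ext
  apply sheafify_hom_ext _ _ _ ((yon S).obj U).property
  simp only [eR, eU, QuotSh.repIsoUliftYoneda, QuotSh.repMap]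
  simp [sheafificationIso]
  have k₁ := toSheafify_sheafifyLift (QuotSh.J Scheme.fppfPrecoverage S)
    (𝟙 ((yon S).obj R).obj) ((yon S).obj R).property
  have k₂ := toSheafify_naturality (QuotSh.J Scheme.fppfPrecoverage S)
    (Functor.whiskerRight (yoneda.map g) uliftFunctor.{u + 1, u})
  refine ((Category.assoc _ _ _).symm.trans ((congrArg (· ≫ ((yon S).map g).hom) k₁).trans
    (Category.id_comp _))).trans ?_
  refine Eq.trans ?_ ((Category.assoc _ _ _).trans rfl)
  refine Eq.trans ?_ (congrArg (· ≫ _) k₂)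
  refine Eq.trans ?_ (Category.assoc _ _ _).symm
  refine Eq.trans ?_ (congrArg (_ ≫ ·) (toSheafify_sheafifyLift _ _ ((yon S).obj U).property).symm)
  exact (Category.comp_id _).symm

/-- A kernel pair of a locally surjective map from a scheme presents the target as a quotient. -/
theorem exists_quot_iso {R U : Over S} {s t : R ⟶ U} {F : Sp S} (q : (yon S).obj U ⟶ F)
    [Sheaf.IsLocallySurjective q] (sq : IsPullback ((yon S).map t) ((yon S).map s) q q) :
    ∃ e : QuotSh.quot Scheme.fppfPrecoverage s t ⟶ F, IsIso e ∧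
      QuotSh.quotπ Scheme.fppfPrecoverage s t ≫ e =
        (QuotSh.repIsoUliftYoneda Scheme.fppfPrecoverage U).hom ≫ q := by
  obtain ⟨w, ⟨hc⟩⟩ := nonempty_isColimit_quot s t
  have : Epi q := (CategoryTheory.Sheaf.isLocallySurjective_iff_epi _).1 ‹_›
  obtain ⟨hq⟩ := nonempty_isColimit_cofork q sq
  obtain ⟨e, he⟩ := Cofork.IsColimit.desc' hc q sq.w.symm
  obtain ⟨d, hd⟩ := Cofork.IsColimit.desc' hq _ w.symm
  rw [Cofork.π_ofπ] at he hd
  refine ⟨e, ⟨d, Cofork.IsColimit.hom_ext hc ?_, Cofork.IsColimit.hom_ext hq ?_⟩, ?_⟩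
  · rw [Cofork.π_ofπ, ← Category.assoc, he, hd]; exact (Category.comp_id _).symm
  · rw [Cofork.π_ofπ, ← Category.assoc, hd, he]; exact (Category.comp_id _).symm
  · rw [← cancel_epi (QuotSh.repIsoUliftYoneda Scheme.fppfPrecoverage U).inv, Iso.inv_hom_id_assoc,
      ← Category.assoc]
    exact he

/-- A flat, locally finitely presented equivalence relation is equivalent to a quasi-finite one. -/
theorem exists_slice_quot {R U : Over S} {s t : R ⟶ U} (h : IsEqvRel s t) [Flat s.left]
    [LocallyOfFinitePresentation s.left] [Flat t.left] [LocallyOfFinitePresentation t.left] :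
    ∃ (R' U' : Over S) (s' t' : R' ⟶ U') (g : U' ⟶ U) (r : R' ⟶ R)
      (ψ : QuotSh.quot Scheme.fppfPrecoverage s' t' ⟶ QuotSh.quot Scheme.fppfPrecoverage s t),
      IsEqvRel s' t' ∧ r ≫ s = s' ≫ g ∧ r ≫ t = t' ≫ g ∧
      Flat s'.left ∧ LocallyOfFinitePresentation s'.left ∧ LocallyQuasiFinite s'.left ∧
      Flat t'.left ∧ LocallyOfFinitePresentation t'.left ∧ LocallyQuasiFinite t'.left ∧
      QuotSh.quotπ Scheme.fppfPrecoverage s' t' ≫ ψ =
        QuotSh.repMap Scheme.fppfPrecoverage g ≫ QuotSh.quotπ Scheme.fppfPrecoverage s t ∧ IsIso ψ := by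
  obtain ⟨w, ⟨hc⟩⟩ := nonempty_isColimit_quot s t
  let p := (QuotSh.repIsoUliftYoneda Scheme.fppfPrecoverage U).inv ≫
    QuotSh.quotπ Scheme.fppfPrecoverage s t
  have : Sheaf.IsLocallySurjective p := isLocallySurjective_quotπ s t
  have sq : IsPullback ((yon S).map t) ((yon S).map s) p p := isPullback_of_isEqvRel h w hc
  obtain ⟨hF, hfl, hfp, hs⟩ := isAlgSpace_of_flat_kernelPair sq
  obtain ⟨Y, g, h₁, h₂, h₃, h₄⟩ := exists_sepLqf_cover hF.diag p hfl hfp hs
  let q := (yon S).map g ≫ p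
  let R' := h₁.1.pullback q
  obtain ⟨t', ht'⟩ := (yon S).map_surjective (h₁.1.fst q)
  let s' : R' ⟶ Y := h₁.1.snd q
  have sq' : IsPullback ((yon S).map t') ((yon S).map s') q q := ht' ▸ h₁.1.isPullback q
  obtain ⟨r, hr⟩ := (yon S).map_surjective (sq.lift ((yon S).map (t' ≫ g)) ((yon S).map (s' ≫ g)) (by
    simpa only [Functor.map_comp, Category.assoc] using sq'.w))
  have : Sheaf.IsLocallySurjective q := isLocallySurjective_of_repWith q h₂ h₃ h₄
  obtain ⟨e, hei, he⟩ := exists_quot_iso q sq'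
  refine ⟨R', Y, s', t', g, r, e, isEqvRel_of_isPullback sq', ?_, ?_, ?_⟩
  · exact (yon S).map_injective (by rw [Functor.map_comp, hr, sq.lift_snd])
  · exact (yon S).map_injective (by rw [Functor.map_comp, hr, sq.lift_fst])
  refine ⟨h₂.2 q _ _ sq', h₃.2 q _ _ sq', (h₁.2 q _ _ sq').1.1, h₂.2 q _ _ sq'.flip, h₃.2 q _ _ sq'.flip,
    (h₁.2 q _ _ sq'.flip).1.1, ?_, hei⟩
  rw [he, ← cancel_epi (QuotSh.repIsoUliftYoneda Scheme.fppfPrecoverage Y).inv, Iso.inv_hom_id_assoc,
    ← Category.assoc, ← repIso_naturality, Category.assoc]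

end Groth.Agent.AlgSpace
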