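import Groth.Agent.Lib.AlgSpace.Quot
import Groth.Agent.Lib.AlgSpace.Sub
import Groth.Agent.Lib.AlgSpace.Points
import Groth.Agent.Lib.AlgSpace.SliceQuot
import Groth.Agent.Lib.AlgSpDescent.LocSurj

/-!
# Restricting a quotient sheaf along a map to the base: open immersion criterion
-/

universe u

set_option backward.isDefEq.respectTransparency.types false
set_option linter.unusedVariables false

open CategoryTheory CategoryTheory.Limits AlgebraicGeometry Opposite

namespace Groth.Agent.AlgSpace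

open AlgSp Groth.Agent.AlgSpDecent Groth.Agent.AlgSpDescent

variable {S : Scheme.{u}}

attribute [local simp] prod.lift_fst prod.lift_snd prod.map_fst prod.map_snd limit.lift_π

section Orbit

variable {R U : Over S} {s t : R ⟶ U}
  (heq : ∀ T : Over S, Equivalence fun a b : T ⟶ U => ∃ r : T ⟶ R, r ≫ t = a ∧ r ≫ s = b)

/-- The setoid of points related by an arrow. -/
def orbitSetoid (T : Over S) : Setoid (T ⟶ U) := ⟨_, heq T⟩

/-- The presheaf of orbits. -/
def orbitPresheaf : (Over S)ᵒᵖ ⥤ Type (u + 1) where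
  obj T := ULift.{u + 1} (Quotient (orbitSetoid heq T.unop))
  map {T T'} f := TypeCat.ofHom fun x => ⟨Quotient.map (sa := orbitSetoid heq T.unop)
    (sb := orbitSetoid heq T'.unop) (fun a => f.unop ≫ a) (by
      rintro a b ⟨r, rfl, rfl⟩
      exact ⟨f.unop ≫ r, Category.assoc _ _ _, Category.assoc _ _ _⟩) x.down⟩
  map_id T := by
    ext ⟨x⟩
    induction x using Quotient.ind with
    | _ a => simp
  map_comp f g := by
    ext ⟨x⟩
    induction x using Quotient.ind with
    | _ a => simp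

/-- The map to the presheaf of orbits. -/
def orbitPresheafπ : ((yon S).obj U).obj ⟶ orbitPresheaf heq where
  app T := TypeCat.ofHom fun x => ⟨Quotient.mk (orbitSetoid heq T.unop) x.down⟩
  naturality _ _ _ := rfl

include heq in
/-- Two points identified in the quotient sheaf are related fppf locally. -/
theorem exists_cover_orbit {F : Sp S} {p : (yon S).obj U ⟶ F}
    (w : (yon S).map s ≫ p = (yon S).map t ≫ p) (hc : IsColimit (Cofork.ofπ p w))
    {T : Over S} (a b : T ⟶ U) (e : (yon S).map a ≫ p = (yon S).map b ≫ p) :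
    ∃ 𝒰 : Scheme.Cover.{u} Scheme.fppfPrecoverage.{u} T.left, ∀ i,
      ∃ r, r ≫ t = overArrow (𝒰.f i) ≫ a ∧ r ≫ s = overArrow (𝒰.f i) ≫ b := by
  let Q := orbitPresheaf heq
  let Q' : Sp S := (presheafToSheaf (AlgSp.J S) (Type (u + 1))).obj Q
  let q : (yon S).obj U ⟶ Q' :=
    ObjectProperty.homMk (orbitPresheafπ heq ≫ toSheafify (AlgSp.J S) Q)
  have hq : (yon S).map s ≫ q = (yon S).map t ≫ q := by
    apply ObjectProperty.hom_ext
    change ((yon S).map s).hom ≫ orbitPresheafπ heq ≫ toSheafify (AlgSp.J S) Q =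
      ((yon S).map t).hom ≫ orbitPresheafπ heq ≫ toSheafify (AlgSp.J S) Q
    rw [← Category.assoc, ← Category.assoc]
    congr 1
    ext T ⟨r⟩
    exact congrArg ULift.up (Quotient.sound ((heq _).symm ⟨r, rfl, rfl⟩))
  obtain ⟨φ, hφ⟩ := Cofork.IsColimit.desc' hc q hq
  replace e : (yon S).map a ≫ q = (yon S).map b ≫ q := by
    rw [← hφ]
    exact ((Category.assoc _ _ _).symm.trans (congrArg (· ≫ φ) e)).trans (Category.assoc _ _ _)
  have e' : (toSheafify (AlgSp.J S) Q).app (op T) ⟨Quotient.mk (orbitSetoid heq T) a⟩ =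
      (toSheafify (AlgSp.J S) Q).app (op T) ⟨Quotient.mk (orbitSetoid heq T) b⟩ := by
    have := congrArg (fun g : (yon S).obj T ⟶ Q' => g.hom.app (op T) ⟨𝟙 T⟩) e
    simpa [q, orbitPresheafπ] using! this
  obtain ⟨𝒰, h𝒰⟩ := (mem_J_iff _).1
    (Presheaf.equalizerSieve_mem (AlgSp.J S) (toSheafify (AlgSp.J S) Q) _ _ e')
  exact ⟨𝒰, fun i => Quotient.exact (congrArg ULift.down ((overEquiv_arrow _ _).1 (h𝒰 i)))⟩

include heq in
/-- Two points of a scheme with the same image in the quotient are related by an arrow. -/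
theorem exists_arrow_of_ofPt_eq {F : Sp S} {p : (yon S).obj U ⟶ F}
    (w : (yon S).map s ≫ p = (yon S).map t ≫ p) (hc : IsColimit (Cofork.ofπ p w))
    {x y : ↥U.left} (e : Points.ofPt p x = Points.ofPt p y) :
    ∃ z : ↥R.left, t.left z = x ∧ s.left z = y := by
  obtain ⟨v, hv₁, hv₂⟩ := exists_point_lift (IsPullback.of_hasPullback p p) (Points.ofScheme U x)
    (Points.ofScheme U y) (by rw [Points.map_ofPt, Points.map_ofPt, Category.id_comp]; exact e)
  obtain ⟨T, g, τ, rfl⟩ := exists_ofPt_eq v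
  obtain ⟨a, ha⟩ := (yon S).map_surjective (g ≫ pullback.fst p p)
  obtain ⟨b, hb⟩ := (yon S).map_surjective (g ≫ pullback.snd p p)
  rw [Points.map_ofPt, ← ha, ofPt_map_eq] at hv₁
  rw [Points.map_ofPt, ← hb, ofPt_map_eq] at hv₂
  have hx : a.left τ = x := (Points.schemeEquiv U).injective hv₁
  have hy : b.left τ = y := (Points.schemeEquiv U).injective hv₂
  obtain ⟨𝒰, h𝒰⟩ := exists_cover_orbit heq w hc a b
    (by rw [ha, hb, Category.assoc, Category.assoc, pullback.condition])
  obtain ⟨i, v, hv⟩ := 𝒰.exists_eq τ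
  obtain ⟨r, hr₁, hr₂⟩ := h𝒰 i
  refine ⟨r.left v, ?_, ?_⟩
  · rw [← hx, ← hv]
    exact congrArg (fun f : Over.mk (𝒰.f i ≫ T.hom) ⟶ U => f.left v) hr₁
  · rw [← hy, ← hv]
    exact congrArg (fun f : Over.mk (𝒰.f i ≫ T.hom) ⟶ U => f.left v) hr₂

include heq in
/-- The image in the quotient of an invariant open set is open, with the expected preimage. -/
theorem isOpen_image_invariant {F : Sp S} {p : (yon S).obj U ⟶ F}
    (w : (yon S).map s ≫ p = (yon S).map t ≫ p) (hc : IsColimit (Cofork.ofπ p w))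
    {W : Set ↥U.left} (hW : IsOpen W) (hinv : ∀ z, t.left z ∈ W ↔ s.left z ∈ W) :
    IsOpen (Points.ofPt p '' W) ∧ ∀ x, Points.ofPt p x ∈ Points.ofPt p '' W ↔ x ∈ W := by
  have hmem : ∀ x, Points.ofPt p x ∈ Points.ofPt p '' W ↔ x ∈ W := fun x =>
    ⟨fun ⟨y, hy, e⟩ => by
      obtain ⟨z, hz₁, hz₂⟩ := exists_arrow_of_ofPt_eq heq w hc e
      rw [← hz₂]
      exact (hinv z).1 (hz₁ ▸ hy), fun h => ⟨x, h, rfl⟩⟩
  refine ⟨Points.isOpen_iff.2 fun T g => ?_, hmem⟩
  have : Sheaf.IsLocallySurjective p :=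
    (CategoryTheory.Sheaf.isLocallySurjective_iff_epi _).2 (Cofork.IsColimit.epi hc)
  obtain ⟨𝒰, h𝒰⟩ := exists_cover_lift p g
  rw [isOpen_iff_forall_mem_open]
  intro τ hτ
  obtain ⟨i, v, rfl⟩ := 𝒰.exists_eq τ
  obtain ⟨l, hl⟩ := h𝒰 i
  obtain ⟨a, rfl⟩ := (yon S).map_surjective l
  have key : ∀ v', Points.ofPt g (𝒰.f i v') ∈ Points.ofPt p '' W ↔ a.left v' ∈ W := fun v' => by
    rw [← hmem, ← ofPt_map_comp a p, hl, ofPt_map_comp]
    rfl
  have hcov : Flat (𝒰.f i) ∧ LocallyOfFinitePresentation (𝒰.f i) := 𝒰.map_prop i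
  have := hcov.1
  have := hcov.2
  refine ⟨𝒰.f i '' (a.left ⁻¹' W), ?_, (𝒰.f i).isOpenMap _ (hW.preimage a.left.continuous),
    v, (key v).1 hτ, rfl⟩
  rintro _ ⟨v', hv', rfl⟩
  exact (key v').2 hv'

end Orbit

/-- A base change of a locally surjective map of sheaves is locally surjective. -/
lemma isLocallySurjective_of_isPullback' {A B C D : Sp S} {a : A ⟶ B} {b : A ⟶ C} {c : B ⟶ D}
    {d : C ⟶ D} (sq : IsPullback a b c d) [Sheaf.IsLocallySurjective c] :
    Sheaf.IsLocallySurjective b := by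
  refine ⟨fun {T} x => ?_⟩
  obtain ⟨g, rfl⟩ := (sect (T := T) (F := C)).surjective x
  refine GrothendieckTopology.superset_covering _ ?_
    (Presheaf.imageSieve_mem (AlgSp.J S) c.hom (U := op T) (sect (g ≫ d)))
  intro T' f hf
  obtain ⟨y, hy⟩ := hf
  have hl : (sect (T := T') (F := B)).symm y ≫ c = ((yon S).map f ≫ g) ≫ d := sect.injective (by
    rw [Category.assoc, GrothendieckTopology.uliftYonedaEquiv_comp, Equiv.apply_symm_apply,
      ← GrothendieckTopology.uliftYonedaEquiv_naturality]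
    exact hy)
  exact imageSieve_of_fac b g f (sq.lift _ _ hl) (sq.lift_snd _ _ _)

section Restrict

variable {R U R' U' : Over S} {s t : R ⟶ U} {g : U' ⟶ U} {s' t' : R' ⟶ U'} {r : R' ⟶ R}

/-- **Restriction of a quotient**: if the `R`-saturation of the image of `g : U' ⟶ U` is an open
`W`, covered fppf locally by arrows starting in `U'`, then `U'/R' ⟶ U/R` is an open immersion. -/
theorem repWith_isOpenImmersion_restrict
    (heq : ∀ T : Over S, Equivalence fun a b : T ⟶ U => ∃ r : T ⟶ R, r ≫ t = a ∧ r ≫ s = b)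
    (hsq : IsPullback (prod.lift t' s') r (prod.map g g) (prod.lift t s))
    {W V : Over S} (ι : W ⟶ U) [IsOpenImmersion ι.left] (hg : Set.range g.left ⊆ Set.range ι.left)
    (hinv : ∀ z, t.left z ∈ Set.range ι.left ↔ s.left z ∈ Set.range ι.left)
    (hV : V ⟶ W) (u : V ⟶ U') (arr : V ⟶ R) (harr₁ : arr ≫ t = u ≫ g) (harr₂ : arr ≫ s = hV ≫ ι)
    (hloc : Sheaf.IsLocallySurjective ((yon S).map hV))
    (φ : QuotSh.quot Scheme.fppfPrecoverage s' t' ⟶ QuotSh.quot Scheme.fppfPrecoverage s t)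
    (hφ : QuotSh.quotπ Scheme.fppfPrecoverage s' t' ≫ φ =
      QuotSh.repMap Scheme.fppfPrecoverage g ≫ QuotSh.quotπ Scheme.fppfPrecoverage s t) :
    RepWith @IsOpenImmersion φ := by
  obtain ⟨w, ⟨hc⟩⟩ := nonempty_isColimit_quot s t
  obtain ⟨w', ⟨hc'⟩⟩ := nonempty_isColimit_quot s' t'
  let F : Sp S := QuotSh.quot Scheme.fppfPrecoverage s t
  let F' : Sp S := QuotSh.quot Scheme.fppfPrecoverage s' t'
  let φ₀ : F' ⟶ F := φ
  let p : (yon S).obj U ⟶ F := (QuotSh.repIsoUliftYoneda Scheme.fppfPrecoverage U).inv ≫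
    QuotSh.quotπ Scheme.fppfPrecoverage s t
  let p' : (yon S).obj U' ⟶ F' := (QuotSh.repIsoUliftYoneda Scheme.fppfPrecoverage U').inv ≫
    QuotSh.quotπ Scheme.fppfPrecoverage s' t'
  have hp : Sheaf.IsLocallySurjective p := isLocallySurjective_quotπ s t
  have hp' : Sheaf.IsLocallySurjective p' := isLocallySurjective_quotπ s' t'
  have hpφ : p' ≫ φ₀ = (yon S).map g ≫ p := by
    simp only [p, p', φ₀]
    rw [← Category.assoc, repIso_naturality, Category.assoc, Category.assoc]
    exact congrArg _ hφ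
  have hsq₁ : t' ≫ g = r ≫ t := by simpa using hsq.w =≫ prod.fst
  have hsq₂ : s' ≫ g = r ≫ s := by simpa using hsq.w =≫ prod.snd
  have hrange : IsOpen (Set.range ι.left) := ι.left.isOpenEmbedding.isOpen_range
  obtain ⟨hWo, hWmem⟩ : IsOpen (Points.ofPt p '' Set.range ι.left) ∧
      ∀ x, Points.ofPt p x ∈ Points.ofPt p '' Set.range ι.left ↔ x ∈ Set.range ι.left :=
    isOpen_image_invariant heq w hc hrange hinv
  have wp : (yon S).map s ≫ p = (yon S).map t ≫ p := w
  let Q := openSub (X := F) (Points.ofPt p '' Set.range ι.left)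
  let j : Q ⟶ F := openSubι _
  obtain ⟨q, hq⟩ := exists_lift_openSub (W := Points.ofPt p '' Set.range ι.left)
    ((yon S).map g ≫ p) fun v => by
    rw [ofPt_map_comp]
    exact (hWmem _).2 (hg ⟨v, rfl⟩)
  obtain ⟨pW, hpW⟩ := exists_lift_openSub (W := Points.ofPt p '' Set.range ι.left)
    ((yon S).map ι ≫ p) fun v => by
    rw [ofPt_map_comp]
    exact (hWmem _).2 ⟨v, rfl⟩
  obtain ⟨e, he⟩ := Cofork.IsColimit.desc' hc' q (by
    rw [← cancel_mono (openSubι _), Category.assoc, Category.assoc, hq]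
    have k₁ : (yon S).map s' ≫ (yon S).map g = (yon S).map r ≫ (yon S).map s := by
      rw [← Functor.map_comp, ← Functor.map_comp, hsq₂]
    have k₂ : (yon S).map t' ≫ (yon S).map g = (yon S).map r ≫ (yon S).map t := by
      rw [← Functor.map_comp, ← Functor.map_comp, hsq₁]
    rw [reassoc_of% k₁, reassoc_of% k₂, wp])
  have he' : p' ≫ e = q := he
  have hej : e ≫ j = φ₀ := by
    refine Cofork.IsColimit.hom_ext hc' ?_
    change p' ≫ e ≫ j = p' ≫ φ₀
    rw [← Category.assoc, he', hpφ]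
    exact hq
  have sqW : IsPullback ((yon S).map ι) pW p j := by
    have : Mono ι.left := inferInstance
    have : Mono ι := (Over.forget S).mono_of_mono_map ‹_›
    refine (isPullback_of_mono_lifts hpW fun T y x hxy => ?_).flip
    obtain ⟨a, rfl⟩ := (yon S).map_surjective y
    have hr : Set.range a.left ⊆ Set.range ι.left := by
      rintro _ ⟨v, rfl⟩
      rw [← hWmem, ← ofPt_map_comp, ← hxy]
      exact ofPt_openSubι_mem x v
    let b : T ⟶ W := Over.homMk (IsOpenImmersion.lift ι.left a.left hr) (by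
      change IsOpenImmersion.lift ι.left a.left hr ≫ W.hom = T.hom
      rw [← Over.w a, ← Over.w ι, ← Category.assoc, IsOpenImmersion.lift_fac])
    exact ⟨(yon S).map b, by
      rw [← Functor.map_comp]
      exact congrArg _ (Over.OverMorphism.ext (IsOpenImmersion.lift_fac _ _ _))⟩
  have : Epi e := by
    have : Sheaf.IsLocallySurjective pW := isLocallySurjective_of_isPullback' sqW
    have h₁ : Epi ((yon S).map hV) := (CategoryTheory.Sheaf.isLocallySurjective_iff_epi _).1 hloc
    have h₂ : Epi pW := (CategoryTheory.Sheaf.isLocallySurjective_iff_epi _).1 ‹_›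
    have h₃ : ((yon S).map u ≫ p') ≫ e = (yon S).map hV ≫ pW := by
      have k₁ : (yon S).map u ≫ (yon S).map g = (yon S).map arr ≫ (yon S).map t := by
        rw [← Functor.map_comp, ← Functor.map_comp, harr₁]
      have k₂ : (yon S).map hV ≫ (yon S).map ι = (yon S).map arr ≫ (yon S).map s := by
        rw [← Functor.map_comp, ← Functor.map_comp, harr₂]
      have l₁ : (((yon S).map u ≫ p') ≫ e) ≫ j = (yon S).map u ≫ (yon S).map g ≫ p :=
        (Category.assoc _ _ _).trans ((Category.assoc _ _ _).trans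
          (congrArg ((yon S).map u ≫ ·) ((congrArg (p' ≫ ·) hej).trans hpφ)))
      rw [← cancel_mono j, l₁, Category.assoc, hpW, reassoc_of% k₁, reassoc_of% k₂, wp]
    exact epi_of_epi_fac h₃
  have : Mono φ₀ := mono_of_yon φ₀ fun T x y hxy => by
    apply (sect (T := T) (F := F')).injective
    refine (((isSheaf_iff_isSheaf_of_type _ _).1 F'.property) _ ((AlgSp.J S).intersection_covering
      (Presheaf.imageSieve_mem (AlgSp.J S) p'.hom (U := op T) (sect x))
      (Presheaf.imageSieve_mem (AlgSp.J S) p'.hom (U := op T) (sect y)))).isSeparatedFor.ext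
        fun T' f hf => ?_
    rw [GrothendieckTopology.uliftYonedaEquiv_naturality,
      GrothendieckTopology.uliftYonedaEquiv_naturality]
    refine congrArg _ ?_
    obtain ⟨⟨a', ha'⟩, ⟨b', hb'⟩⟩ := hf
    obtain ⟨a, ha⟩ := (yon S).map_surjective ((sect (T := T') (F := (yon S).obj U')).symm a')
    obtain ⟨b, hb⟩ := (yon S).map_surjective ((sect (T := T') (F := (yon S).obj U')).symm b')
    have ea : (yon S).map a ≫ p' = (yon S).map f ≫ x := sect.injective (by
      rw [ha, GrothendieckTopology.uliftYonedaEquiv_comp, Equiv.apply_symm_apply,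
        ← GrothendieckTopology.uliftYonedaEquiv_naturality]
      exact ha')
    have eb : (yon S).map b ≫ p' = (yon S).map f ≫ y := sect.injective (by
      rw [hb, GrothendieckTopology.uliftYonedaEquiv_comp, Equiv.apply_symm_apply,
        ← GrothendieckTopology.uliftYonedaEquiv_naturality]
      exact hb')
    rw [← ea, ← eb]
    obtain ⟨𝒰, h𝒰⟩ := exists_cover_orbit heq w hc (a ≫ g) (b ≫ g) (by
      change (yon S).map (a ≫ g) ≫ p = (yon S).map (b ≫ g) ≫ p
      rw [Functor.map_comp, Functor.map_comp, Category.assoc, Category.assoc, ← hpφ,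
        reassoc_of% ea, reassoc_of% eb, hxy])
    refine hom_ext_fppf 𝒰 fun i => ?_
    obtain ⟨ρ, hρ₁, hρ₂⟩ := h𝒰 i
    let ρ' := hsq.lift (prod.lift (overArrow (𝒰.f i) ≫ a) (overArrow (𝒰.f i) ≫ b)) ρ (by
      apply prod.hom_ext <;> simp [hρ₁, hρ₂])
    have e₁ : ρ' ≫ t' = overArrow (𝒰.f i) ≫ a := by
      simpa [ρ'] using hsq.lift_fst (prod.lift (overArrow (𝒰.f i) ≫ a) (overArrow (𝒰.f i) ≫ b)) ρ
        (by apply prod.hom_ext <;> simp [hρ₁, hρ₂]) =≫ prod.fst
    have e₂ : ρ' ≫ s' = overArrow (𝒰.f i) ≫ b := by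
      simpa [ρ'] using hsq.lift_fst (prod.lift (overArrow (𝒰.f i) ≫ a) (overArrow (𝒰.f i) ≫ b)) ρ
        (by apply prod.hom_ext <;> simp [hρ₁, hρ₂]) =≫ prod.snd
    have w'' : (yon S).map s' ≫ p' = (yon S).map t' ≫ p' := w'
    have k₁ : (yon S).map (overArrow (𝒰.f i)) ≫ (yon S).map a =
        (yon S).map ρ' ≫ (yon S).map t' := by rw [← Functor.map_comp, ← Functor.map_comp, e₁]
    have k₂ : (yon S).map (overArrow (𝒰.f i)) ≫ (yon S).map b =
        (yon S).map ρ' ≫ (yon S).map s' := by rw [← Functor.map_comp, ← Functor.map_comp, e₂]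
    rw [reassoc_of% k₁, reassoc_of% k₂, w'']
  have : Mono (e ≫ j) := hej.symm ▸ ‹Mono φ₀›
  have : Mono e := mono_of_mono e j
  have : IsIso e := isIso_of_mono_of_epi e
  change RepWith @IsOpenImmersion φ₀
  rw [← hej]
  exact (repWith_respectsIso_left e).2 (repWith_openSubι hWo)

end Restrict

end Groth.Agent.AlgSpace
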