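import Groth.Agent.Lib.AlgSpace.QuotRestrict
import Groth.Prelude.Def_Grpd

/-!
# Flat equivalence relations and groupoid schemes: the saturation of an open map
-/

universe u

set_option backward.isDefEq.respectTransparency.types false
set_option linter.unusedVariables false

open CategoryTheory CategoryTheory.Limits AlgebraicGeometry Opposite

namespace Groth.Agent.AlgSpace

open AlgSp

variable {S : Scheme.{u}}

/-- Invariance of the saturation of the image of `g` under a relation which is an equivalence on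
test points. -/
theorem saturation_invariant {R U U' : Over S} {s t : R ⟶ U}
    (heq : ∀ T : Over S, Equivalence fun a b : T ⟶ U => ∃ r : T ⟶ R, r ≫ t = a ∧ r ≫ s = b)
    (g : U' ⟶ U) (z : ↥R.left) :
    (∃ y : ↥R.left, t.left y ∈ Set.range g.left ∧ s.left y = t.left z) ↔
      ∃ y : ↥R.left, t.left y ∈ Set.range g.left ∧ s.left y = s.left z := by
  constructor
  · rintro ⟨y, hy, e⟩
    obtain ⟨v, hv₁, hv₂⟩ := Scheme.Pullback.exists_preimage_pullback y z e
    let T : Over S := Over.mk (pullback.fst s.left t.left ≫ R.hom)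
    let a : T ⟶ R := Over.homMk (pullback.fst s.left t.left) rfl
    let b : T ⟶ R := Over.homMk (pullback.snd s.left t.left) (by
      change pullback.snd s.left t.left ≫ R.hom = pullback.fst s.left t.left ≫ R.hom
      exact (congrArg (pullback.snd s.left t.left ≫ ·) (Over.w t).symm).trans
        (((Category.assoc _ _ _).symm.trans ((congrArg (· ≫ U.hom) pullback.condition.symm).trans
          (Category.assoc _ _ _))).trans (congrArg (pullback.fst s.left t.left ≫ ·) (Over.w s))))
    have hab : a ≫ s = b ≫ t := Over.OverMorphism.ext pullback.condition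
    obtain ⟨r, hr₁, hr₂⟩ := (heq T).trans (⟨a, rfl, rfl⟩ : ∃ r, r ≫ t = a ≫ t ∧ r ≫ s = a ≫ s)
      (⟨b, hab.symm, rfl⟩ : ∃ r, r ≫ t = a ≫ s ∧ r ≫ s = b ≫ s)
    refine ⟨r.left v, ?_, ?_⟩
    · rw [show t.left (r.left v) = t.left (a.left v) from congrArg (fun f : T ⟶ U => f.left v) hr₁]
      change t.left (pullback.fst s.left t.left v) ∈ _
      rw [hv₁]
      exact hy
    · rw [show s.left (r.left v) = s.left (b.left v) from congrArg (fun f : T ⟶ U => f.left v) hr₂]
      change s.left (pullback.snd s.left t.left v) = _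
      rw [hv₂]
  · rintro ⟨y, hy, e⟩
    obtain ⟨v, hv₁, hv₂⟩ := Scheme.Pullback.exists_preimage_pullback y z e
    let T : Over S := Over.mk (pullback.fst s.left s.left ≫ R.hom)
    let a : T ⟶ R := Over.homMk (pullback.fst s.left s.left) rfl
    let b : T ⟶ R := Over.homMk (pullback.snd s.left s.left) (by
      change pullback.snd s.left s.left ≫ R.hom = pullback.fst s.left s.left ≫ R.hom
      rw [← Over.w s, pullback.condition_assoc])
    have hab : a ≫ s = b ≫ s := Over.OverMorphism.ext pullback.condition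
    obtain ⟨r, hr₁, hr₂⟩ := (heq T).trans (⟨a, rfl, rfl⟩ : ∃ r, r ≫ t = a ≫ t ∧ r ≫ s = a ≫ s)
      ((heq T).symm (⟨b, rfl, hab.symm⟩ : ∃ r, r ≫ t = b ≫ t ∧ r ≫ s = a ≫ s))
    refine ⟨r.left v, ?_, ?_⟩
    · rw [show t.left (r.left v) = t.left (a.left v) from congrArg (fun f : T ⟶ U => f.left v) hr₁]
      change t.left (pullback.fst s.left s.left v) ∈ _
      rw [hv₁]
      exact hy
    · rw [show s.left (r.left v) = t.left (b.left v) from congrArg (fun f : T ⟶ U => f.left v) hr₂]
      change t.left (pullback.snd s.left s.left v) = _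
      rw [hv₂]

/-- The range of `pr₂ ≫ s` on `U' ×_{g,U,t} R`. -/
theorem mem_range_saturation {R U U' : Over S} (s t : R ⟶ U) (g : U' ⟶ U) (x : ↥U.left) :
    x ∈ Set.range (pullback.snd g.left t.left ≫ s.left) ↔
      ∃ y : ↥R.left, t.left y ∈ Set.range g.left ∧ s.left y = x := by
  constructor
  · rintro ⟨v, rfl⟩
    refine ⟨pullback.snd g.left t.left v, ⟨pullback.fst g.left t.left v, ?_⟩, rfl⟩
    change (pullback.fst g.left t.left ≫ g.left) v = (pullback.snd g.left t.left ≫ t.left) v
    rw [pullback.condition]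
  · rintro ⟨y, ⟨a, ha⟩, rfl⟩
    obtain ⟨v, -, hv⟩ := Scheme.Pullback.exists_preimage_pullback a y ha
    exact ⟨v, congrArg s.left hv⟩

/-- **Restriction to an open saturation**. -/
theorem repWith_isOpenImmersion_of_saturation {R U R' U' : Over S} {s t : R ⟶ U} {g : U' ⟶ U}
    {s' t' : R' ⟶ U'} {r : R' ⟶ R}
    (heq : ∀ T : Over S, Equivalence fun a b : T ⟶ U => ∃ r : T ⟶ R, r ≫ t = a ∧ r ≫ s = b)
    (hsq : IsPullback (prod.lift t' s') r (prod.map g g) (prod.lift t s))
    (O : U.left.Opens) (hO : (O : Set ↥U.left) = Set.range (pullback.snd g.left t.left ≫ s.left))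
    (hlift : pullback g.left t.left ⟶ ↑O)
    (hh : hlift ≫ O.ι = pullback.snd g.left t.left ≫ s.left)
    (hloc : ∀ (w : hlift ≫ O.ι ≫ U.hom = pullback.snd g.left t.left ≫ R.hom),
      Sheaf.IsLocallySurjective ((yon S).map (Over.homMk hlift w :
        Over.mk (pullback.snd g.left t.left ≫ R.hom) ⟶ Over.mk (O.ι ≫ U.hom))))
    (φ : QuotSh.quot Scheme.fppfPrecoverage s' t' ⟶ QuotSh.quot Scheme.fppfPrecoverage s t)
    (hφ : QuotSh.quotπ Scheme.fppfPrecoverage s' t' ≫ φ =
      QuotSh.repMap Scheme.fppfPrecoverage g ≫ QuotSh.quotπ Scheme.fppfPrecoverage s t) :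
    RepWith @IsOpenImmersion φ := by
  have hw : hlift ≫ O.ι ≫ U.hom = pullback.snd g.left t.left ≫ R.hom := by
    rw [reassoc_of% hh, Over.w s]
  let V : Over S := Over.mk (pullback.snd g.left t.left ≫ R.hom)
  let W : Over S := Over.mk (O.ι ≫ U.hom)
  let ι : W ⟶ U := Over.homMk O.ι rfl
  have hmem : ∀ x, x ∈ Set.range ι.left ↔
      ∃ y : ↥R.left, t.left y ∈ Set.range g.left ∧ s.left y = x := fun x => by
    change x ∈ Set.range O.ι ↔ _
    rw [O.range_ι, hO]
    exact mem_range_saturation s t g x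
  have : IsOpenImmersion ι.left := inferInstanceAs (IsOpenImmersion O.ι)
  refine repWith_isOpenImmersion_restrict heq hsq (W := W) (V := V) ι ?_
    (fun z => by rw [hmem, hmem]; exact saturation_invariant heq g z) (Over.homMk hlift hw)
    (Over.homMk (pullback.fst g.left t.left) (by
      change pullback.fst g.left t.left ≫ U'.hom = pullback.snd g.left t.left ≫ R.hom
      rw [← Over.w g, ← Over.w t, pullback.condition_assoc]))
    (Over.homMk (pullback.snd g.left t.left) rfl) (Over.OverMorphism.ext pullback.condition.symm)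
    (Over.OverMorphism.ext hh.symm) (hloc hw) φ hφ
  rintro _ ⟨x, rfl⟩
  obtain ⟨ρ, hρ₁, hρ₂⟩ := (heq U').refl g
  exact (hmem _).2 ⟨ρ.left x, ⟨x, (congrArg (fun f : U' ⟶ U => f.left x) hρ₁).symm⟩,
    congrArg (fun f : U' ⟶ U => f.left x) hρ₂⟩

/-- A flat, locally finitely presented map onto an open subscheme is locally surjective. -/
theorem isLocallySurjective_lift_of_flat {V W : Over S} {U : Scheme.{u}} (j : W.left ⟶ U) [Mono j]
    (h : V ⟶ W) [Flat (h.left ≫ j)] [LocallyOfFinitePresentation (h.left ≫ j)] [Surjective h.left] :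
    Sheaf.IsLocallySurjective ((yon S).map h) := by
  have sq : IsPullback h.left (𝟙 V.left) j (h.left ≫ j) :=
    IsPullback.of_vert_isIso_mono ⟨(Category.id_comp _).symm⟩
  have : Flat h.left := MorphismProperty.of_isPullback sq.flip (‹_› : Flat (h.left ≫ j))
  have : LocallyOfFinitePresentation h.left :=
    MorphismProperty.of_isPullback sq.flip (‹_› : LocallyOfFinitePresentation (h.left ≫ j))
  exact isLocallySurjective_of_repWith _ ((repWith_yon_map_iff _ _).2 ‹_›)
    ((repWith_yon_map_iff _ _).2 ‹_›) ((repWith_yon_map_iff _ _).2 ‹_›)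

/-- The arrows of a groupoid scheme define an equivalence relation on test points. -/
theorem groupoid_orbit_equivalence (G : Grpd.GroupoidScheme S) (T : Over S) :
    Equivalence fun a b : T ⟶ Over.mk G.pU => ∃ r : T ⟶ Over.mk G.pR,
      r ≫ (Over.homMk G.t G.t_over : Over.mk G.pR ⟶ Over.mk G.pU) = a ∧
      r ≫ (Over.homMk G.s G.s_over : Over.mk G.pR ⟶ Over.mk G.pU) = b := by
  have hi : G.i ≫ G.pR = G.pR :=
    (congrArg (G.i ≫ ·) G.s_over.symm).trans
      ((Category.assoc _ _ _).symm.trans ((congrArg (· ≫ G.pU) G.i_s).trans G.t_over))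
  have he : G.e ≫ G.pR = G.pU :=
    (congrArg (G.e ≫ ·) G.s_over.symm).trans
      ((Category.assoc _ _ _).symm.trans ((congrArg (· ≫ G.pU) G.e_s).trans (Category.id_comp _)))
  refine ⟨fun a => ⟨Over.homMk (a.left ≫ G.e) ?_, ?_, ?_⟩, fun {a b} h => ?_,
    fun {a b c} h₁ h₂ => ?_⟩
  · exact (Category.assoc _ _ _).trans ((congrArg (a.left ≫ ·) he).trans (Over.w a))
  · exact Over.OverMorphism.ext
      ((Category.assoc _ _ _).trans ((congrArg (a.left ≫ ·) G.e_t).trans (Category.comp_id _)))
  · exact Over.OverMorphism.ext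
      ((Category.assoc _ _ _).trans ((congrArg (a.left ≫ ·) G.e_s).trans (Category.comp_id _)))
  · obtain ⟨r, rfl, rfl⟩ := h
    refine ⟨Over.homMk (r.left ≫ G.i) ?_, Over.OverMorphism.ext ?_, Over.OverMorphism.ext ?_⟩
    · exact (Category.assoc _ _ _).trans ((congrArg (r.left ≫ ·) hi).trans (Over.w r))
    · exact (Category.assoc _ _ _).trans (congrArg (r.left ≫ ·) G.i_t)
    · exact (Category.assoc _ _ _).trans (congrArg (r.left ≫ ·) G.i_s)
  · obtain ⟨r, rfl, hr⟩ := h₁
    obtain ⟨r', hr', rfl⟩ := h₂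
    have e : r.left ≫ G.s = r'.left ≫ G.t :=
      congrArg (fun f : T ⟶ Over.mk G.pU => f.left) (hr.trans hr'.symm)
    refine ⟨Over.homMk (pullback.lift r.left r'.left e ≫ G.c) ?_, Over.OverMorphism.ext ?_,
      Over.OverMorphism.ext ?_⟩
    · exact (congrArg (_ ≫ ·) G.s_over.symm).trans ((Category.assoc _ _ _).symm.trans
        ((congrArg (· ≫ G.pU) (G.comp_s r.left r'.left e)).trans ((Category.assoc _ _ _).trans
          ((congrArg (r'.left ≫ ·) G.s_over).trans (Over.w r')))))
    · exact G.comp_t _ _ e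
    · exact G.comp_s _ _ e

end Groth.Agent.AlgSpace
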