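import Groth.Agent.Lib.AlgSpace.Diag
import Mathlib.AlgebraicGeometry.Morphisms.ClosedImmersion
import Mathlib.AlgebraicGeometry.Morphisms.Affine

/-!
# Fibre products of affines over a separated space
-/

universe u

set_option backward.isDefEq.respectTransparency.types false
set_option linter.unusedVariables false

open CategoryTheory CategoryTheory.Limits AlgebraicGeometry Opposite

namespace Groth.Agent.AlgSpace

open AlgSp

/-- A pushout of rings is generated by the images of the two factors. -/
theorem exists_mem_closure_of_isPushout {R A B C : CommRingCat.{u}} {f : R ⟶ A} {g : R ⟶ B}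
    {a : A ⟶ C} {b : B ⟶ C} (sq : IsPushout f g a b) (c : C) :
    c ∈ Subring.closure (Set.range a ∪ Set.range b) := by
  let K := Subring.closure (Set.range a ∪ Set.range b)
  let a' : A ⟶ CommRingCat.of K :=
    CommRingCat.ofHom (a.hom.codRestrict K fun x => Subring.subset_closure (.inl ⟨x, rfl⟩))
  let b' : B ⟶ CommRingCat.of K :=
    CommRingCat.ofHom (b.hom.codRestrict K fun x => Subring.subset_closure (.inr ⟨x, rfl⟩))
  have w : f ≫ a' = g ≫ b' := by
    ext x; exact congrArg (fun φ : R ⟶ C => φ x) sq.w
  let i : CommRingCat.of K ⟶ C := CommRingCat.ofHom K.subtype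
  have h : sq.desc a' b' w ≫ i = 𝟙 C :=
    sq.hom_ext (by rw [sq.inl_desc_assoc, Category.comp_id]; rfl)
      (by rw [sq.inr_desc_assoc, Category.comp_id]; rfl)
  have := (sq.desc a' b' w c).2
  rwa [show ((sq.desc a' b' w c : CommRingCat.of K) : K).1 = c from
    congrArg (fun φ : C ⟶ C => φ c) h] at this

variable {S : Scheme.{u}}

/-- In a separated space over a separated base, fibre products of affine schemes are affine with
generated ring of functions. -/
theorem isAffine_surjective_of_separated [S.IsSeparated] {F : Sp S} (hX : IsSeparatedSp F)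
    {U V P : Over S} [IsAffine U.left] [IsAffine V.left] {a : (yon S).obj U ⟶ F}
    {b : (yon S).obj V ⟶ F} {fst : P ⟶ U} {snd : P ⟶ V}
    (h : IsPullback ((yon S).map fst) ((yon S).map snd) a b) :
    IsAffine P.left ∧ ∀ x, x ∈ Subring.closure
      (Set.range fst.left.appTop ∪ Set.range snd.left.appTop) := by
  have hcl : IsClosedImmersion (prod.lift fst snd).left := prop_lift_of_repWith_diag hX h
  let e := (isPullback_fst_left U V).isoPullback
  let m := pullback.mapDesc U.hom V.hom (terminal.from S)
  let j := (prod.lift fst snd).left ≫ e.hom ≫ m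
  have : IsClosedImmersion j := inferInstanceAs (IsClosedImmersion (_ ≫ _ ≫ _))
  let p₁ := pullback.fst (U.hom ≫ terminal.from S) (V.hom ≫ terminal.from S)
  let p₂ := pullback.snd (U.hom ≫ terminal.from S) (V.hom ≫ terminal.from S)
  have : IsAffine (⊤_ Scheme.{u}) := inferInstance
  have : IsAffine (pullback (U.hom ≫ terminal.from S) (V.hom ≫ terminal.from S)) := inferInstance
  have hj₁ : j ≫ p₁ = fst.left := by
    simp only [j, p₁, m, e, Category.assoc, pullback.mapDesc, pullback.lift_fst, Category.comp_id,
      IsPullback.isoPullback_hom_fst]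
    exact lift_left_fst fst snd
  have hj₂ : j ≫ p₂ = snd.left := by
    simp only [j, p₂, m, e, Category.assoc, pullback.mapDesc, pullback.lift_snd, Category.comp_id,
      IsPullback.isoPullback_hom_snd]
    exact lift_left_snd fst snd
  obtain ⟨hP, hsurj⟩ := IsClosedImmersion.isAffine_surjective_of_isAffine j
  refine ⟨hP, fun x => ?_⟩
  obtain ⟨z, rfl⟩ := hsurj x
  have hz := exists_mem_closure_of_isPushout (isPushout_appTop_of_isPullback
    (IsPullback.of_hasPullback (U.hom ≫ terminal.from S) (V.hom ≫ terminal.from S))) z
  have hsub : Subring.closure (Set.range p₁.appTop ∪ Set.range p₂.appTop) ≤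
      (Subring.closure (Set.range fst.left.appTop ∪ Set.range snd.left.appTop)).comap j.appTop.hom :=
    Subring.closure_le.2 (by
      rintro _ (⟨y, rfl⟩ | ⟨y, rfl⟩)
      · exact Subring.subset_closure (.inl ⟨y, by rw [← hj₁, Scheme.Hom.comp_appTop]; rfl⟩)
      · exact Subring.subset_closure (.inr ⟨y, by rw [← hj₂, Scheme.Hom.comp_appTop]; rfl⟩))
  exact hsub hz

end Groth.Agent.AlgSpace
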