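import Groth.Agent.Lib.AlgSpace.Proper
import Groth.Agent.Lib.AlgSpace.UnivClosedQC
import Mathlib.AlgebraicGeometry.ZariskisMainTheorem

/-!
# Separatedness descends along surjective universally closed morphisms
-/

universe u

set_option backward.isDefEq.respectTransparency.types false
set_option linter.unusedVariables false

open CategoryTheory CategoryTheory.Limits AlgebraicGeometry Opposite

namespace Groth.Agent.AlgSpace

open AlgSp Groth.Agent.AlgSpDecent

attribute [local simp] pullback.lift_fst pullback.lift_snd pullback.condition pullback.lift_fst_assoc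
  pullback.lift_snd_assoc

variable {S : Scheme.{u}}

/-- A surjection onto the source transports quasi-compactness. -/
theorem isQuasiCompactMor_of_surjective_source {W X Y : Sp S} (hW : IsAlgSpace W) (hX : IsAlgSpace X)
    (hY : IsAlgSpace Y) {a : W ⟶ X} {f : X ⟶ Y} (ha : Function.Surjective (Points.map a))
    (h : IsQuasiCompactMor (a ≫ f)) : IsQuasiCompactMor f := by
  refine isQuasiCompactMor_of_affine hX hY fun Z hZ g P fst snd sq => ?_
  have sq' := IsPullback.of_hasPullback a fst
  have := compactSpace_yon_of_affine Z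
  have : CompactSpace (Points (pullback a fst)) :=
    compactSpace_of_isQuasiCompactMor hW hY h (IsAlgSpace.yon_obj Z) (sq'.paste_vert sq)
  exact compactSpace_of_surjective (pullback.snd a fst) (surjective_of_isPullback sq' ha)

section Square

variable {X Y B : Sp S} (f : X ⟶ Y) (q : Y ⟶ B)

/-- The first half of the square of a morphism. -/
noncomputable def sqHalf : pullback (f ≫ q) (f ≫ q) ⟶ pullback q (f ≫ q) :=
  pullback.map (f ≫ q) (f ≫ q) q (f ≫ q) f (𝟙 X) (𝟙 B) (by simp) (by simp)

/-- The second half of the square of a morphism. -/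
noncomputable def sqHalf' : pullback q (f ≫ q) ⟶ pullback q q :=
  pullback.map q (f ≫ q) q q (𝟙 Y) f (𝟙 B) (by simp) (by simp)

lemma isPullback_sqHalf :
    IsPullback (pullback.fst (f ≫ q) (f ≫ q)) (sqHalf f q) f (pullback.fst q (f ≫ q)) := by
  refine IsPullback.of_bot ?_ (by simp [sqHalf]) (IsPullback.of_hasPullback q (f ≫ q))
  have : sqHalf f q ≫ pullback.snd q (f ≫ q) = pullback.snd (f ≫ q) (f ≫ q) := by simp [sqHalf]
  rw [this]
  exact IsPullback.of_hasPullback _ _

lemma isPullback_sqHalf' :
    IsPullback (pullback.snd q (f ≫ q)) (sqHalf' f q) f (pullback.snd q q) := by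
  refine IsPullback.of_bot ?_ (by simp [sqHalf']) (IsPullback.of_hasPullback q q).flip
  have : sqHalf' f q ≫ pullback.fst q q = pullback.fst q (f ≫ q) := by simp [sqHalf']
  rw [this]
  exact (IsPullback.of_hasPullback _ _).flip

lemma diagonal_sqHalf :
    pullback.diagonal (f ≫ q) ≫ sqHalf f q ≫ sqHalf' f q = f ≫ pullback.diagonal q := by
  apply pullback.hom_ext <;> simp [sqHalf, sqHalf']

end Square

theorem separation_descends {X Y B : Sp S} (hX : IsAlgSpace X) (hY : IsAlgSpace Y) (hB : IsAlgSpace B)
    {f : X ⟶ Y} (q : Y ⟶ B) (hs : Function.Surjective (Points.map f)) (hc : IsUnivClosedMor f) :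
    (IsQuasiSeparatedMor (f ≫ q) → IsQuasiSeparatedMor q) ∧
    (IsSeparatedMor (f ≫ q) → IsSeparatedMor q) := by
  have hXX : IsAlgSpace (pullback (f ≫ q) (f ≫ q)) :=
    isAlgSpace_baseChange hX hB hX (IsPullback.of_hasPullback _ _)
  have hYX : IsAlgSpace (pullback q (f ≫ q)) :=
    isAlgSpace_baseChange hY hB hX (IsPullback.of_hasPullback _ _)
  have hYY : IsAlgSpace (pullback q q) := isAlgSpace_baseChange hY hB hY (IsPullback.of_hasPullback _ _)
  have hrep := representable_diagonal hY q
  have hfq := isQuasiCompactMor_of_isUnivClosedMor hX hY hc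
  have qs : IsQuasiSeparatedMor (f ≫ q) → IsQuasiSeparatedMor q := fun h => by
    refine (repWith_quasiCompact_iff hY hYY hrep).2 (isQuasiCompactMor_of_surjective_source hX hY hYY hs ?_)
    rw [← diagonal_sqHalf f q]
    exact isQuasiCompactMor_comp hXX hYY ((repWith_quasiCompact_iff hX hXX h.1).1 h)
      (isQuasiCompactMor_comp hYX hYY (isQuasiCompactMor_of_isPullback (isPullback_sqHalf f q) hfq)
        (isQuasiCompactMor_of_isPullback (isPullback_sqHalf' f q) hfq))
  refine ⟨qs, fun h => ?_⟩
  have hqs : IsQuasiSeparatedMor q := qs (repWith_mono (fun _ _ g (hg : IsClosedImmersion g) => (inferInstance : QuasiCompact g)) h)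
  have huc : IsUnivClosedMor (pullback.diagonal q) := by
    refine isUnivClosedMor_of_surjective_source hs ?_
    rw [← diagonal_sqHalf f q]
    exact isUnivClosedMor_comp hXX hYY (isUnivClosedMor_of_repWith_closedImmersion h)
      (isUnivClosedMor_comp hYX hYY (univSp_of_isPullback (isPullback_sqHalf f q) hc)
        (univSp_of_isPullback (isPullback_sqHalf' f q) hc))
  refine repWith_mono (P := @UniversallyClosed ⊓ (@LocallyOfFiniteType ⊓
    (@QuasiCompact ⊓ MorphismProperty.monomorphisms Scheme.{u}))) (fun A C n hn => ?_)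
    (repWith_inf ((repWith_universallyClosed_iff hrep).2 huc)
      (repWith_inf (repWith_diagonal_lft hY q) (repWith_inf hqs (repWith_diagonal_mono hY q))))
  have := hn.1
  have := hn.2.1
  have := hn.2.2.1
  have : Mono n := hn.2.2.2
  have : IsProper n := {}
  exact (IsClosedImmersion.iff_isProper_and_mono n).2 ⟨inferInstance, inferInstance⟩

end Groth.Agent.AlgSpace
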