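import Groth.Agent.Lib.AlgSpace.Presheaf
import Groth.Agent.Lib.AlgSpace.Base
import Groth.Prelude.Def_QuotSh

/-!
# Zariski sheaves covered by fppf subsheaves
-/

universe u v

set_option backward.isDefEq.respectTransparency.types false
set_option linter.unusedVariables false

open CategoryTheory CategoryTheory.Limits AlgebraicGeometry Opposite

namespace Groth.Agent.AlgSpace

open AlgSp

variable {S : Scheme.{u}}

/-- A sieve containing a jointly surjective family of open immersions is a Zariski covering. -/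
lemma mem_zariski_J {T : Over S} (R : Sieve T)
    (h : ∀ t : ↥T.left, ∃ (Z : Over S) (f : Z ⟶ T), IsOpenImmersion f.left ∧ R f ∧
      t ∈ Set.range f.left) :
    R ∈ QuotSh.J Scheme.zariskiPrecoverage S T := by
  choose Z f he hR ht using h
  let E : PreZeroHypercover.{u} T.left := ⟨↥T.left, fun t => (Z t).left, fun t => (f t).left⟩
  have hE : E.presieve₀ ∈ Scheme.zariskiPrecoverage T.left := by
    change E.presieve₀ ∈ Scheme.precoverage @IsOpenImmersion T.left
    rw [Scheme.presieve₀_mem_precoverage_iff]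
    exact ⟨fun t => ⟨t, ht t⟩, he⟩
  rw [GrothendieckTopology.mem_over_iff]
  refine GrothendieckTopology.superset_covering _ ?_ (Precoverage.generate_mem_toGrothendieck hE)
  rw [Sieve.generate_le_iff]
  rintro _ _ ⟨t⟩
  rw [overEquiv_arrow]
  have : overArrow (U := T) (f t).left =
      (Over.homMk (𝟙 (Z t).left) (by simp) : Over.mk ((f t).left ≫ T.hom) ⟶ Z t) ≫ f t := by
    ext; simp
  exact this ▸ R.downward_closed (hR t) _

/-- The arrows of a covering sieve factor through open subsets, by fppf covers of these. -/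
lemma exists_open_factor {T : Over S} {R : Sieve T} (hR : R ∈ AlgSp.J S T) (t : ↥T.left) :
    ∃ (O : T.left.Opens) (V : Over S) (c : V ⟶ Over.mk (O.ι ≫ T.hom)), t ∈ O ∧ Flat c.left ∧
      Surjective c.left ∧ LocallyOfFinitePresentation c.left ∧ R (c ≫ overArrow O.ι) := by
  obtain ⟨𝒰, h𝒰⟩ := (mem_J_iff _).1 hR
  obtain ⟨k, v, rfl⟩ := 𝒰.exists_eq t
  obtain ⟨hfl, hfp⟩ : Flat (𝒰.f k) ∧ LocallyOfFinitePresentation (𝒰.f k) := 𝒰.map_prop k
  let O : T.left.Opens := ⟨Set.range (𝒰.f k), (𝒰.f k).isOpenMap.isOpen_range⟩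
  have hr : Set.range (𝒰.f k) ⊆ Set.range O.ι := by rw [O.range_ι]; exact le_rfl
  let c : 𝒰.X k ⟶ ↑O := IsOpenImmersion.lift O.ι (𝒰.f k) hr
  have hc : c ≫ O.ι = 𝒰.f k := IsOpenImmersion.lift_fac _ _ _
  have sq : IsPullback c (𝟙 (𝒰.X k)) O.ι (𝒰.f k) :=
    IsPullback.of_vert_isIso_mono ⟨by rw [hc, Category.id_comp]⟩
  let cc : Over.mk (𝒰.f k ≫ T.hom) ⟶ Over.mk (O.ι ≫ T.hom) :=
    Over.homMk c (by change c ≫ O.ι ≫ T.hom = _; rw [← Category.assoc, hc]; rfl)
  refine ⟨O, _, cc, ⟨v, rfl⟩, MorphismProperty.of_isPullback sq.flip hfl, ⟨fun x => ?_⟩,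
    MorphismProperty.of_isPullback sq.flip hfp, ?_⟩
  · obtain ⟨w, hw⟩ : O.ι x ∈ Set.range (𝒰.f k) := by
      have : O.ι x ∈ Set.range O.ι := ⟨x, rfl⟩
      rwa [O.range_ι] at this
    refine ⟨w, O.ι.isOpenEmbedding.injective ?_⟩
    change (c ≫ O.ι) w = _
    rw [hc, hw]
  · have : cc ≫ overArrow O.ι = overArrow (𝒰.f k) := Over.OverMorphism.ext hc
    rw [this]
    exact (overEquiv_arrow _ _).1 (h𝒰 k)

variable {F : PSp S} {ι : Type v} {Fi : ι → PSp S} {m : ∀ i, Fi i ⟶ F} [∀ i, Mono (m i)]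

lemma injective_app (i : ι) (T : Over S) : Function.Injective ((m i).app (op T)) :=
  (mono_iff_injective _).1 inferInstance

/-- A section lying in a subsheaf after an fppf cover lies in it. -/
lemma mem_range_of_cover (i : ι) (hb : RepBySp (m i)) {T : Over S} (a : F.obj (op T)) {L : Sieve T}
    (hL : L ∈ AlgSp.J S T)
    (h : ∀ ⦃T' : Over S⦄ (g : T' ⟶ T), L g → F.map g.op a ∈ Set.range ((m i).app (op T'))) :
    a ∈ Set.range ((m i).app (op T)) := by
  let ξ : (pyon S).obj T ⟶ F := CategoryTheory.uliftYonedaEquiv.{u + 1}.symm a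
  have sq := IsPullback.of_hasPullback (m i) ξ
  have hP : Presheaf.IsSheaf (AlgSp.J S) (pullback (m i) ξ) := (hb ξ _ _ sq).1
  have ex : ∀ ⦃T' : Over S⦄ (g : T' ⟶ T) (hg : L g), ∃ w : (pullback (m i) ξ).obj (op T'),
      (pullback.snd (m i) ξ).app _ w = ⟨g⟩ := fun T' g hg => by
    obtain ⟨y, hy⟩ := h g hg
    obtain ⟨w, -, hw⟩ := Types.exists_of_isPullback (sq.map ((evaluation _ _).obj (op T'))) y ⟨g⟩
      (by change (m i).app _ y = F.map g.op a; exact hy)
    exact ⟨w, hw⟩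
  choose w hw using ex
  let x : Presieve.FamilyOfElements (pullback (m i) ξ) L.arrows := fun T' g hg => w g hg
  have hx : x.Compatible := fun Y₁ Y₂ Z g₁ g₂ f₁ f₂ h₁ h₂ ee => by
    have hsnd : (pullback.snd (m i) ξ).app _ ((pullback (m i) ξ).map g₁.op (w f₁ h₁)) =
        (pullback.snd (m i) ξ).app _ ((pullback (m i) ξ).map g₂.op (w f₂ h₂)) := by
      rw [NatTrans.naturality_apply, NatTrans.naturality_apply, hw, hw]
      simp [ee]
    exact (mono_iff_injective _).1 (inferInstance : Mono ((pullback.snd (m i) ξ).app (op Z))) hsnd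
  have hW := (isSheaf_iff_isSheaf_of_type _ _).1 hP L hL
  have hTs := ((isSheaf_iff_isSheaf_of_type _ _).1 (isSheaf_pyon T) L hL).isSeparatedFor
  have e₂ : (pullback.snd (m i) ξ).app _ (hW.amalgamate x hx) = ⟨𝟙 T⟩ := hTs.ext fun T' g hg => by
    rw [← NatTrans.naturality_apply, hW.valid_glue hx g hg, hw]
    exact congrArg ULift.up (Category.comp_id g).symm
  have key := congrArg (fun γ : pullback (m i) ξ ⟶ F => γ.app (op T) (hW.amalgamate x hx))
    (pullback.condition (f := m i) (g := ξ))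
  change (m i).app _ _ = ξ.app _ ((pullback.snd (m i) ξ).app _ _) at key
  rw [e₂] at key
  exact ⟨_, key.trans ((CategoryTheory.uliftYonedaEquiv.{u + 1}).apply_symm_apply a)⟩

variable (h1 : Presheaf.IsSheaf (QuotSh.J Scheme.zariskiPrecoverage S) F)
  (ha : ∀ i, Presheaf.IsSheaf (AlgSp.J S) (Fi i)) (hb : ∀ i, RepBySp (m i))
  (hc : ∀ (T : Over S) (x : F.obj (op T)), ∃ R ∈ (AlgSp.J S) T,
    ∀ ⦃T' : Over S⦄ (f : T' ⟶ T), R.arrows f → ∃ i, F.map f.op x ∈ Set.range ((m i).app (op T')))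

include h1 ha hb hc in
/-- Sections are determined fppf locally. -/
lemma eq_of_cover {T : Over S} {a b : F.obj (op T)} {K : Sieve T} (hK : K ∈ AlgSp.J S T)
    (h : ∀ ⦃T' : Over S⦄ (f : T' ⟶ T), K f → F.map f.op a = F.map f.op b) : a = b := by
  obtain ⟨R, hR, hR'⟩ := hc T a
  let Z : Sieve T :=
    { arrows := fun U j => F.map j.op a = F.map j.op b
      downward_closed := fun {U V} j hj g => by
        rw [op_comp, Functor.map_comp_apply, Functor.map_comp_apply, hj] }
  refine ((isSheaf_iff_isSheaf_of_type _ _).1 h1 Z (mem_zariski_J Z fun t => ?_)).isSeparatedFor.ext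
    fun U j hj => hj
  obtain ⟨O, V, c, htO, _, _, _, hVK, hVR⟩ :=
    exists_open_factor ((AlgSp.J S).intersection_covering hK hR) t
  let j : Over.mk (O.ι ≫ T.hom) ⟶ T := overArrow O.ι
  refine ⟨_, j, inferInstanceAs (IsOpenImmersion O.ι), ?_, ⟨⟨t, htO⟩, rfl⟩⟩
  obtain ⟨i, y, hy⟩ := hR' _ hVR
  have hab := h _ hVK
  have hcov := mem_J_of_singleton c (Sieve.generate (Presieve.singleton c))
    ⟨_, 𝟙 _, c, ⟨⟩, Category.id_comp _⟩
  have hmem : ∀ z : F.obj (op T), F.map (c ≫ j).op z = (m i).app _ y →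
      F.map j.op z ∈ Set.range ((m i).app _) := fun z hz => by
    refine mem_range_of_cover i (hb i) _ hcov fun T' g hg => ?_
    obtain ⟨_, k, _, ⟨⟩, rfl⟩ := hg
    refine ⟨(Fi i).map k.op y, ?_⟩
    rw [NatTrans.naturality_apply, ← hz, ← Functor.map_comp_apply, ← Functor.map_comp_apply]
    simp [j]
  obtain ⟨ya, hya⟩ := hmem a hy.symm
  obtain ⟨yb, hyb⟩ := hmem b (hab.symm.trans hy.symm)
  change F.map j.op a = F.map j.op b
  rw [← hya, ← hyb]
  refine congrArg _ (((isSheaf_iff_isSheaf_of_type _ _).1 (ha i) _ hcov).isSeparatedFor.ext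
    fun T' g hg => injective_app (m := m) i T' ?_)
  obtain ⟨_, k, _, ⟨⟩, rfl⟩ := hg
  rw [NatTrans.naturality_apply, NatTrans.naturality_apply, hya, hyb]
  simpa [Functor.map_comp_apply] using congrArg (F.map k.op) hab

include h1 ha hb hc in
/-- **A Zariski sheaf covered by fppf subsheaves is an fppf sheaf.** -/
theorem isSheaf_of_subsheaves : Presheaf.IsSheaf (AlgSp.J S) F := by
  rw [isSheaf_iff_isSheaf_of_type]
  intro T R hR
  refine (Presieve.isSeparatedFor_and_exists_isAmalgamation_iff_isSheafFor).1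
    ⟨fun x t₁ t₂ h₁ h₂ => eq_of_cover h1 ha hb hc hR fun T' f hf => (h₁ f hf).trans (h₂ f hf).symm,
      fun x hx => ?_⟩
  let R' : Sieve T :=
    { arrows := fun U f => ∃ (hf : R f) (i : ι), x f hf ∈ Set.range ((m i).app (op U))
      downward_closed := fun {U V} f hf g => by
        obtain ⟨hf, i, y, hy⟩ := hf
        refine ⟨R.downward_closed hf g, i, (Fi i).map g.op y, ?_⟩
        rw [NatTrans.naturality_apply, hy]
        simpa using hx g (𝟙 _) hf (R.downward_closed hf g) (Category.id_comp _).symm }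
  have hR'J : R' ∈ AlgSp.J S T := by
    refine (AlgSp.J S).transitive hR R' fun U f hf => ?_
    obtain ⟨L, hL, hL'⟩ := hc U (x f hf)
    refine (AlgSp.J S).superset_covering (fun V g hg => ?_) hL
    obtain ⟨i, y, hy⟩ := hL' g hg
    refine ⟨R.downward_closed hf g, i, y, hy.trans ?_⟩
    simpa using hx g (𝟙 _) hf (R.downward_closed hf g) (Category.id_comp _).symm
  let Z : Sieve T :=
    { arrows := fun U j => ∃ u : F.obj (op U), ∀ ⦃T' : Over S⦄ (g : T' ⟶ U) (hg : R (g ≫ j)),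
        F.map g.op u = x (g ≫ j) hg
      downward_closed := fun {U V} j hj h => by
        obtain ⟨u, hu⟩ := hj
        refine ⟨F.map h.op u, fun T' g hg => ?_⟩
        rw [← Functor.map_comp_apply, ← op_comp, hu (g ≫ h) (by rwa [Category.assoc])]
        congr 1 <;> simp }
  have hZ : Z ∈ QuotSh.J Scheme.zariskiPrecoverage S T := mem_zariski_J Z fun t => by
    obtain ⟨O, V, c, htO, _, _, _, hfR, i, y, hy⟩ := exists_open_factor hR'J t
    let j : Over.mk (O.ι ≫ T.hom) ⟶ T := overArrow O.ι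
    refine ⟨_, j, inferInstanceAs (IsOpenImmersion O.ι), ?_, ⟨⟨t, htO⟩, rfl⟩⟩
    let K := Sieve.generate (Presieve.singleton c)
    have hcov : K ∈ AlgSp.J S _ := mem_J_of_singleton c K ⟨_, 𝟙 _, c, ⟨⟩, Category.id_comp _⟩
    have hKR : ∀ ⦃T' : Over S⦄ (g : T' ⟶ Over.mk (O.ι ≫ T.hom)), K g → R (g ≫ j) := fun T' g hg => by
      obtain ⟨_, k, _, ⟨⟩, rfl⟩ := hg
      rw [Category.assoc]
      exact R.downward_closed hfR k
    have ex : ∀ ⦃T' : Over S⦄ (g : T' ⟶ Over.mk (O.ι ≫ T.hom)) (hg : K g),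
        ∃ w, (m i).app (op T') w = x (g ≫ j) (hKR g hg) := fun T' g hg => by
      obtain ⟨_, k, _, ⟨⟩, rfl⟩ := hg
      refine ⟨(Fi i).map k.op y, ?_⟩
      rw [NatTrans.naturality_apply, hy]
      have := hx k (𝟙 _) hfR (hKR (k ≫ c) ⟨_, k, c, ⟨⟩, rfl⟩) (by rw [Category.id_comp, Category.assoc])
      simpa using this
    choose w hw using ex
    let wf : Presieve.FamilyOfElements (Fi i) K.arrows := fun T' g hg => w g hg
    have hwf : wf.Compatible := fun Y₁ Y₂ W g₁ g₂ f₁ f₂ h₁ h₂ ee => injective_app i W (by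
      rw [NatTrans.naturality_apply, NatTrans.naturality_apply, hw, hw]
      exact hx g₁ g₂ (hKR f₁ h₁) (hKR f₂ h₂) (by rw [reassoc_of% ee]))
    have hs := (isSheaf_iff_isSheaf_of_type _ _).1 (ha i) K hcov
    refine ⟨(m i).app _ (hs.amalgamate wf hwf), fun T' g hg => ?_⟩
    refine eq_of_cover h1 ha hb hc ((AlgSp.J S).pullback_stable g hcov) fun T'' k hk => ?_
    rw [← Functor.map_comp_apply, ← op_comp, ← NatTrans.naturality_apply, hs.valid_glue hwf _ hk, hw]
    have := hx (𝟙 _) k (hKR (k ≫ g) hk) hg (by rw [Category.id_comp, Category.assoc])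
    simpa using this
  choose u hu using fun U (j : U ⟶ T) (hj : Z j) => hj
  let uf : Presieve.FamilyOfElements F Z.arrows := fun U j hj => u U j hj
  have huf : uf.Compatible := fun Y₁ Y₂ W g₁ g₂ f₁ f₂ h₁ h₂ ee => by
    refine eq_of_cover h1 ha hb hc ((AlgSp.J S).pullback_stable (g₁ ≫ f₁) hR) fun T' g hg => ?_
    have hg₁ : R ((g ≫ g₁) ≫ f₁) := by rw [Category.assoc]; exact hg
    have hg₂ : R ((g ≫ g₂) ≫ f₂) := by rw [Category.assoc, ← ee]; exact hg
    rw [← Functor.map_comp_apply, ← Functor.map_comp_apply, ← op_comp, ← op_comp, hu _ _ h₁ _ hg₁,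
      hu _ _ h₂ _ hg₂]
    congr 1
    rw [Category.assoc, Category.assoc, ee]
  have hF := (isSheaf_iff_isSheaf_of_type _ _).1 h1 Z hZ
  refine ⟨hF.amalgamate uf huf, fun U f hf => ?_⟩
  refine ((isSheaf_iff_isSheaf_of_type _ _).1 h1 (Z.pullback f)
    ((QuotSh.J Scheme.zariskiPrecoverage S).pullback_stable f hZ)).isSeparatedFor.ext fun W g hg => ?_
  rw [← Functor.map_comp_apply, ← op_comp, hF.valid_glue huf _ hg]
  have hg' : R (𝟙 W ≫ g ≫ f) := by rw [Category.id_comp]; exact R.downward_closed hf g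
  have h₁ := hu _ _ hg _ hg'
  rw [op_id, Functor.map_id_apply] at h₁
  refine h₁.trans ?_
  have := hx (𝟙 _) g hg' hf (by simp)
  simpa using this

end Groth.Agent.AlgSpace
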