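import Mathlib.RingTheory.TensorProduct.Maps
import Mathlib.RingTheory.Ideal.Maps
import Mathlib.RingTheory.Spectrum.Prime.Topology
import Mathlib.Algebra.MvPolynomial.Eval

/-!
# An empty fibre of a closed subset is detected by finitely many parameters
-/

universe u

namespace Groth.Agent.AlgSpace.TensorFibre

open scoped TensorProduct

variable {R C A : Type u} [CommRing R] [CommRing C] [CommRing A] [Algebra R C] [Algebra R A]

open Algebra.TensorProduct in
lemma exists_finset_lift (c : C ⊗[R] A) :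
    ∃ F : Finset A, ∀ (B : Type u) [CommRing B] [Algebra R B] (ψ : B →ₐ[R] A),
      (F : Set A) ⊆ Set.range ψ → c ∈ Set.range (map (AlgHom.id R C) ψ) := by
  classical
  induction c using TensorProduct.induction_on with
  | zero => exact ⟨∅, fun B _ _ ψ _ => ⟨0, map_zero _⟩⟩
  | tmul x a =>
    refine ⟨{a}, fun B _ _ ψ h => ?_⟩
    obtain ⟨b, rfl⟩ := h (Finset.mem_coe.2 (Finset.mem_singleton_self a))
    exact ⟨x ⊗ₜ b, by simp⟩
  | add x y hx hy =>
    obtain ⟨F, hF⟩ := hx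
    obtain ⟨G, hG⟩ := hy
    refine ⟨F ∪ G, fun B _ _ ψ h => ?_⟩
    rw [Finset.coe_union, Set.union_subset_iff] at h
    obtain ⟨x', rfl⟩ := hF B ψ h.1
    obtain ⟨y', rfl⟩ := hG B ψ h.2
    exact ⟨x' + y', map_add _ _ _⟩

open Algebra.TensorProduct in
lemma exists_finset_lift_mem_map (p : Ideal A) {e : C ⊗[R] A}
    (he : e ∈ p.map (includeRight : A →ₐ[R] C ⊗[R] A)) :
    ∃ F : Finset A, ∀ (B : Type u) [CommRing B] [Algebra R B] (ψ : B →ₐ[R] A),
      (F : Set A) ⊆ Set.range ψ →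
        ∃ e₀ ∈ (p.comap ψ).map (includeRight : B →ₐ[R] C ⊗[R] B),
          map (AlgHom.id R C) ψ e₀ = e := by
  classical
  induction he using Submodule.span_induction with
  | mem x hx =>
    obtain ⟨a, ha, rfl⟩ := hx
    refine ⟨{a}, fun B _ _ ψ h => ?_⟩
    obtain ⟨b, rfl⟩ := h (Finset.mem_coe.2 (Finset.mem_singleton_self a))
    exact ⟨_, Ideal.mem_map_of_mem _ ha, by simp⟩
  | zero => exact ⟨∅, fun B _ _ ψ _ => ⟨0, Submodule.zero_mem _, map_zero _⟩⟩
  | add x y _ _ hx hy =>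
    obtain ⟨F, hF⟩ := hx
    obtain ⟨G, hG⟩ := hy
    refine ⟨F ∪ G, fun B _ _ ψ h => ?_⟩
    rw [Finset.coe_union, Set.union_subset_iff] at h
    obtain ⟨x', hx', rfl⟩ := hF B ψ h.1
    obtain ⟨y', hy', rfl⟩ := hG B ψ h.2
    exact ⟨x' + y', Ideal.add_mem _ hx' hy', map_add _ _ _⟩
  | smul c x _ hx =>
    obtain ⟨F, hF⟩ := hx
    obtain ⟨G, hG⟩ := exists_finset_lift c
    refine ⟨F ∪ G, fun B _ _ ψ h => ?_⟩
    rw [Finset.coe_union, Set.union_subset_iff] at h
    obtain ⟨x', hx', rfl⟩ := hF B ψ h.1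
    obtain ⟨c', rfl⟩ := hG B ψ h.2
    exact ⟨c' * x', Ideal.mul_mem_left _ _ hx', by rw [map_mul, smul_eq_mul]⟩

open Algebra.TensorProduct in
/-- If a closed subset has no point over `p`, this is seen with finitely many parameters. -/
theorem exists_mvPolynomial_fibre_empty (I : Ideal (C ⊗[R] A)) (p : Ideal A) [p.IsPrime]
    (h : ∀ q : Ideal (C ⊗[R] A), q.IsPrime → I ≤ q →
      q.comap (includeRight : A →ₐ[R] C ⊗[R] A) ≠ p) :
    ∃ (n : ℕ) (ψ : MvPolynomial (ULift.{u} (Fin n)) R →ₐ[R] A),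
      ∀ q : Ideal (C ⊗[R] MvPolynomial (ULift.{u} (Fin n)) R), q.IsPrime →
        I.comap (map (AlgHom.id R C) ψ) ≤ q →
          q.comap (includeRight : MvPolynomial (ULift.{u} (Fin n)) R →ₐ[R] _) ≠ p.comap ψ := by
  classical
  let ι := (includeRight : A →ₐ[R] C ⊗[R] A)
  have hnot : ¬ (I ⊔ p.map ι).comap ι ≤ p := by
    intro hle
    obtain ⟨q, hq, hqp, hq'⟩ := Ideal.exists_ideal_comap_le_prime p _ hle
    exact h q hqp (le_sup_left.trans hq)
      (le_antisymm hq' (Ideal.le_comap_of_map_le (le_sup_right.trans hq)))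
  obtain ⟨g, hg, hgp⟩ := Set.not_subset.1 hnot
  obtain ⟨i, hi, e, he, hie⟩ := Submodule.mem_sup.1 hg
  obtain ⟨F, hF⟩ := exists_finset_lift_mem_map p he
  let G := insert g F
  let v : ULift.{u} (Fin (Fintype.card G)) → A := fun k => ((Fintype.equivFin G).symm k.down : A)
  refine ⟨Fintype.card G, MvPolynomial.aeval v, fun q hq hIq hqp => ?_⟩
  have hcov : ∀ a ∈ G, a ∈ Set.range (MvPolynomial.aeval (R := R) v) := fun a ha =>
    ⟨MvPolynomial.X ⟨Fintype.equivFin G ⟨a, ha⟩⟩, by simp [v]⟩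
  obtain ⟨g₀, hg₀⟩ := hcov g (Finset.mem_insert_self g F)
  obtain ⟨e₀, he₀, hee⟩ := hF _ (MvPolynomial.aeval v) fun a ha =>
    hcov a (Finset.mem_insert_of_mem ha)
  have heq : e₀ ∈ q := by
    refine Ideal.map_le_iff_le_comap.2 ?_ he₀
    rw [hqp]
  have hdiff : (1 : C) ⊗ₜ[R] g₀ - e₀ ∈ q := by
    apply hIq
    rw [Ideal.mem_comap, map_sub, hee, map_tmul, map_one, hg₀]
    change ι g - e ∈ I
    rw [← hie]; simpa using hi
  have : g₀ ∈ p.comap (MvPolynomial.aeval v) := by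
    rw [← hqp]
    change (1 : C) ⊗ₜ[R] g₀ ∈ q
    simpa using Ideal.add_mem _ hdiff heq
  exact hgp (by simpa [hg₀] using this)

end Groth.Agent.AlgSpace.TensorFibre
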