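import Groth.Agent.Lib.AlgSpace.QC
import Groth.Agent.Lib.AlgSpace.Proper
import Groth.Agent.Lib.AlgSpace.TensorFibre
import Mathlib.AlgebraicGeometry.AffineSpace
import Mathlib.AlgebraicGeometry.Pullbacks

/-!
# Universal closedness is tested on affine spaces
-/

universe u

set_option backward.isDefEq.respectTransparency.types false
set_option linter.unusedVariables false

open CategoryTheory CategoryTheory.Limits AlgebraicGeometry Opposite TensorProduct

namespace Groth.Agent.AlgSpace

open AlgSp Groth.Agent.AlgSpDecent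

variable {S : Scheme.{u}} {R : CommRingCat.{u}} (str : Spec R ⟶ S)

/-- An affine scheme over an affine base over `S`. -/
noncomputable abbrev affOver {A : Type u} [CommRing A] (φ : R →+* A) : Over S :=
  Over.mk (Spec.map (CommRingCat.ofHom φ) ≫ str)

/-- Its structure map. -/
noncomputable abbrev affTo {A : Type u} [CommRing A] (φ : R →+* A) : affOver str φ ⟶ Over.mk str :=
  Over.homMk (Spec.map (CommRingCat.ofHom φ)) rfl

/-- A map of affine schemes over an affine base. -/
noncomputable abbrev affMap {A B : Type u} [CommRing A] [CommRing B] {φ : R →+* A} {φ' : R →+* B}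
    (ψ : A →+* B) (h : ψ.comp φ = φ') : affOver str φ' ⟶ affOver str φ :=
  Over.homMk (Spec.map (CommRingCat.ofHom ψ)) (by
    change Spec.map _ ≫ Spec.map _ ≫ str = Spec.map _ ≫ str
    rw [← Spec.map_comp_assoc, ← CommRingCat.ofHom_comp, h])

lemma affMap_affTo {A B : Type u} [CommRing A] [CommRing B] {φ : R →+* A} {φ' : R →+* B}
    (ψ : A →+* B) (h : ψ.comp φ = φ') : affMap str ψ h ≫ affTo str φ = affTo str φ' := by
  ext1
  change Spec.map _ ≫ Spec.map _ = Spec.map _
  rw [← Spec.map_comp, ← CommRingCat.ofHom_comp, h]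

lemma isPullback_affOver_tensor (C A : Type u) [CommRing C] [CommRing A] [Algebra R C] [Algebra R A] :
    IsPullback
      (affMap str (φ := algebraMap R C) (φ' := algebraMap R (C ⊗[R] A))
        (Algebra.TensorProduct.includeLeftRingHom)
        (by ext r; simp [Algebra.TensorProduct.algebraMap_apply]))
      (affMap str (φ := algebraMap R A) (φ' := algebraMap R (C ⊗[R] A))
        (Algebra.TensorProduct.includeRight : A →ₐ[R] C ⊗[R] A).toRingHom
        (Algebra.TensorProduct.includeRight : A →ₐ[R] C ⊗[R] A).comp_algebraMap)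
      (affTo str (algebraMap R C)) (affTo str (algebraMap R A)) :=
  IsPullback.of_map (Over.forget S) (by rw [affMap_affTo, affMap_affTo])
    ((isPullback_SpecMap_of_isPushout _ _ _ _ (CommRingCat.isPushout_tensorProduct R C A)))

set_option maxHeartbeats 1000000 in
/-- Closedness over an affine scheme follows from closedness over all affine spaces. -/
theorem isClosedMap_of_mvPolynomial {P : Sp S} (hP : IsAlgSpace P) [CompactSpace (Points P)]
    (π : P ⟶ (yon S).obj (Over.mk str))
    (H : ∀ n : ℕ, IsClosedMap (Points.map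
      (pullback.snd π ((yon S).map (affTo str (MvPolynomial.C :
        R →+* MvPolynomial (ULift.{u} (Fin n)) R))))))
    (A : Type u) [CommRing A] [Algebra R A] :
    IsClosedMap (Points.map (pullback.snd π ((yon S).map (affTo str (algebraMap R A))))) := by
  obtain ⟨U, u, hU, hue, hus⟩ := exists_affine_chart ((isQuasiCompactSp_iff hP).2 inferInstance)
  obtain ⟨φ, hφ⟩ := (yon S).map_surjective (u ≫ π)
  let C := Γ(U.left, ⊤)
  let θ : R ⟶ C := Spec.preimage (U.left.isoSpec.inv ≫ φ.left)
  letI : Algebra R C := θ.hom.toAlgebra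
  let e : affOver str (algebraMap R C) ≅ U := Over.isoMk U.left.isoSpec.symm (by
    change U.left.isoSpec.inv ≫ U.hom = Spec.map θ ≫ str
    rw [Spec.map_preimage, Category.assoc, ← Over.w φ]; rfl)
  let u' := (yon S).map e.hom ≫ u
  have hu'π : u' ≫ π = (yon S).map (affTo str (algebraMap R C)) := by
    rw [Category.assoc, ← hφ, ← Functor.map_comp]
    congr 1
    ext1
    exact (Spec.map_preimage (U.left.isoSpec.inv ≫ φ.left)).symm
  have hu'e : RepWith @Etale u' :=
    repWith_comp ((repWith_yon_map_iff @Etale _).2 (by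
      have : IsIso e.hom.left := (Over.forget S).map_isIso e.hom
      infer_instance)) hue
  have hu's : RepWith @Surjective u' :=
    repWith_comp ((repWith_yon_map_iff @Surjective _).2 (by
      have : IsIso e.hom.left := (Over.forget S).map_isIso e.hom
      infer_instance)) hus
  have mk : ∀ (B : Type u) [CommRing B] [Algebra R B],
      ∃ a : (yon S).obj (affOver str (algebraMap R (C ⊗[R] B))) ⟶
          pullback π ((yon S).map (affTo str (algebraMap R B))),
        IsPullback ((yon S).map (affMap str (φ := algebraMap R C)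
            (φ' := algebraMap R (C ⊗[R] B)) Algebra.TensorProduct.includeLeftRingHom
            (by ext r; simp [Algebra.TensorProduct.algebraMap_apply]))) a u'
          (pullback.fst π ((yon S).map (affTo str (algebraMap R B)))) ∧
        a ≫ pullback.snd π ((yon S).map (affTo str (algebraMap R B))) =
          (yon S).map (affMap str (φ := algebraMap R B) (φ' := algebraMap R (C ⊗[R] B))
            (Algebra.TensorProduct.includeRight : B →ₐ[R] C ⊗[R] B).toRingHom
            (Algebra.TensorProduct.includeRight : B →ₐ[R] C ⊗[R] B).comp_algebraMap) := by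
    intro B _ _
    have sqT := (isPullback_affOver_tensor str C B).map (yon S)
    rw [← hu'π] at sqT
    let a := (IsPullback.of_hasPullback π ((yon S).map (affTo str (algebraMap R B)))).lift
      ((yon S).map _ ≫ u') _ ((Category.assoc _ _ _).trans sqT.w)
    have h₁ : a ≫ pullback.fst π ((yon S).map (affTo str (algebraMap R B))) = _ :=
      IsPullback.lift_fst _ _ _ _
    have h₂ : a ≫ pullback.snd π ((yon S).map (affTo str (algebraMap R B))) = _ :=
      IsPullback.lift_snd _ _ _ _
    refine ⟨a, IsPullback.of_bot ?_ h₁.symm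
      (IsPullback.of_hasPullback π ((yon S).map (affTo str (algebraMap R B)))), h₂⟩
    rw [h₂]; exact sqT
  obtain ⟨a, sqa, ha⟩ := mk A
  intro Z hZ
  let T := affOver str (algebraMap R A)
  let hT := Points.schemeHomeo T
  rw [← isOpen_compl_iff]
  suffices H' : IsOpen (hT ⁻¹' (Points.map (pullback.snd π ((yon S).map (affTo str (algebraMap R A)))) '' Z)ᶜ) by
    exact hT.isOpen_preimage.1 H'
  refine isOpen_iff_forall_mem_open.2 fun y hy => ?_
  obtain ⟨I, hI⟩ := (PrimeSpectrum.isClosed_iff_zeroLocus_ideal _).1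
    (hZ.preimage (Points.continuous_ofPt a))
  obtain ⟨n, ψ, hψ⟩ := TensorFibre.exists_mvPolynomial_fibre_empty I y.asIdeal (fun q hq hIq hqy => by
    let q' : PrimeSpectrum (C ⊗[R] A) := ⟨q, hq⟩
    have hmem : Points.ofPt a q' ∈ Z := hI.symm.subset (show q' ∈ PrimeSpectrum.zeroLocus _ from hIq)
    refine hy ⟨_, hmem, ?_⟩
    rw [Points.map_ofPt, ha, ofPt_map_eq]
    exact congrArg hT (PrimeSpectrum.ext hqy))
  let A₀ := MvPolynomial (ULift.{u} (Fin n)) R
  obtain ⟨a₀, sqa₀, ha₀⟩ := mk A₀
  let T₀ := affOver str (algebraMap R A₀)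
  let hT₀ := Points.schemeHomeo T₀
  let mT : T ⟶ T₀ := affMap str ψ.toRingHom ψ.comp_algebraMap
  let mU : affOver str (algebraMap R (C ⊗[R] A)) ⟶ affOver str (algebraMap R (C ⊗[R] A₀)) :=
    affMap str (Algebra.TensorProduct.map (AlgHom.id R C) ψ).toRingHom
      (Algebra.TensorProduct.map (AlgHom.id R C) ψ).comp_algebraMap
  let mP := (IsPullback.of_hasPullback π ((yon S).map (affTo str (algebraMap R A₀)))).lift
    (pullback.fst π ((yon S).map (affTo str (algebraMap R A))))
    (pullback.snd π ((yon S).map (affTo str (algebraMap R A))) ≫ (yon S).map mT)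
    (by rw [pullback.condition, Category.assoc, ← Functor.map_comp, affMap_affTo])
  have sqm : IsPullback ((yon S).map mU) a a₀ mP := by
    refine IsPullback.of_right ?_ ?_ sqa₀
    · convert sqa using 1
      · rw [← Functor.map_comp]
        congr 1
        ext1
        change Spec.map _ ≫ Spec.map _ = Spec.map _
        rw [← Spec.map_comp]
        congr 1
        ext c
        simp
      · exact IsPullback.lift_fst _ _ _ _
    · apply pullback.hom_ext
      · rw [Category.assoc, Category.assoc, IsPullback.lift_fst, ← sqa₀.w, ← sqa.w,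
          ← Functor.map_comp_assoc]
        congr 2
        ext1
        change Spec.map _ ≫ Spec.map _ = Spec.map _
        rw [← Spec.map_comp]
        congr 1
        ext c
        simp
      · rw [Category.assoc, Category.assoc, IsPullback.lift_snd, ha₀, reassoc_of% ha,
          ← Functor.map_comp, ← Functor.map_comp]
        congr 1
        ext1
        change Spec.map _ ≫ Spec.map _ = Spec.map _ ≫ Spec.map _
        rw [← Spec.map_comp, ← Spec.map_comp]
        congr 1
  let Z₀ := closure (Points.map mP '' Z)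
  let y₀ : PrimeSpectrum A₀ := PrimeSpectrum.comap ψ.toRingHom y
  have hy₀ : hT₀ y₀ ∉ Points.map (pullback.snd π ((yon S).map (affTo str (algebraMap R A₀)))) '' Z₀ := by
    rintro ⟨x, hx, hxy⟩
    have ha₀s : RepWith @Surjective a₀ := repWith_of_isPullback sqa₀ hu's
    obtain ⟨q, rfl⟩ := surjective_ofPt ha₀s x
    have hq : q ∈ closure (Points.ofPt a₀ ⁻¹' (Points.map mP '' Z)) :=
      (isOpenMap_ofPt a₀ (repWith_of_isPullback sqa₀ hu'e)).preimage_closure_subset_closure_preimage hx
    have hsub : Points.ofPt a₀ ⁻¹' (Points.map mP '' Z) ⊆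
        mU.left '' (Points.ofPt a ⁻¹' Z) := by
      rintro s ⟨z, hz, hzs⟩
      obtain ⟨w, hw₁, hw₂⟩ := exists_point_lift sqm (Points.ofScheme _ s) z
        (by rw [← Points.ofPt_eq_map_ofScheme, hzs])
      obtain ⟨s', rfl⟩ := (Points.schemeEquiv _).surjective w
      replace hw₁ := (Points.map_yon_map_apply mU s').symm.trans hw₁
      refine ⟨s', ?_, (Points.schemeEquiv _).injective hw₁⟩
      rw [Set.mem_preimage, Points.ofPt_eq_map_ofScheme]
      exact hw₂ ▸ hz
    have hq' : I.comap (Algebra.TensorProduct.map (AlgHom.id R C) ψ) ≤ q.asIdeal := by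
      have : q ∈ PrimeSpectrum.zeroLocus
          (I.comap (Algebra.TensorProduct.map (AlgHom.id R C) ψ) : Set (C ⊗[R] A₀)) := by
        refine closure_minimal ?_ (PrimeSpectrum.isClosed_zeroLocus _) hq
        refine hsub.trans ?_
        rintro _ ⟨s, hs, rfl⟩
        rw [hI] at hs
        exact fun c hc => hs hc
      exact this
    refine hψ q.asIdeal q.2 hq' ?_
    rw [Points.map_ofPt, ha₀, ofPt_map_eq] at hxy
    exact congrArg PrimeSpectrum.asIdeal ((Points.schemeEquiv T₀).injective hxy)
  have hO : IsOpen (hT₀ ⁻¹' (Points.map (pullback.snd π ((yon S).map (affTo str (algebraMap R A₀)))) '' Z₀)ᶜ) :=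
    (H n _ isClosed_closure).isOpen_compl.preimage hT₀.continuous
  refine ⟨mT.left ⁻¹' _, fun t ht => ?_, hO.preimage mT.left.continuous, hy₀⟩
  rintro ⟨z, hz, hzt⟩
  refine ht ⟨Points.map mP z, subset_closure ⟨z, hz, rfl⟩, ?_⟩
  have := congrArg (Points.map ((yon S).map mT)) hzt
  rw [← Points.map_comp] at this ⊢
  rw [IsPullback.lift_snd]
  exact this.trans (Points.map_yon_map_apply mT t)

end Groth.Agent.AlgSpace

namespace Groth.Agent.AlgSpace

open AlgSp Groth.Agent.AlgSpDecent

variable {S : Scheme.{u}}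

/-- Closedness restricts along etale monomorphisms of the target. -/
theorem isClosedMap_of_isPullback_mono {P Q : Sp S} {T T' : Over S} (hP : IsAlgSpace P)
    {a : P ⟶ Q} {b : P ⟶ (yon S).obj T'} {f : Q ⟶ (yon S).obj T} {j : T' ⟶ T} [IsOpenImmersion j.left]
    (sq : IsPullback a b f ((yon S).map j)) (hf : IsClosedMap (Points.map f)) :
    IsClosedMap (Points.map b) := by
  have : Mono j := (Over.forget S).mono_of_mono_map (inferInstanceAs (Mono j.left))
  have : Mono a := sq.mono_fst_of_mono
  have hinj : Function.Injective (Points.map a) := by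
    intro x x' hxx'
    obtain ⟨w, h₁, h₂⟩ := exists_point_lift
      (IsKernelPair.id_of_mono a : IsPullback (𝟙 P) (𝟙 P) a a) x x' hxx'
    rw [← h₁, ← h₂]
  have hae : RepWith @Etale a :=
    repWith_of_isPullback sq.flip ((repWith_yon_map_iff @Etale _).2 inferInstance)
  have hopen : IsOpenMap (Points.map a) := by
    intro O hO
    obtain ⟨U, r, hre, hrs⟩ := hP.atlas
    have : Points.map a '' O = Points.ofPt (r ≫ a) '' (Points.ofPt r ⁻¹' O) := by
      ext z
      constructor
      · rintro ⟨x, hx, rfl⟩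
        obtain ⟨s, rfl⟩ := surjective_ofPt hrs x
        exact ⟨s, hx, by rw [Points.map_ofPt]⟩
      · rintro ⟨s, hs, rfl⟩
        exact ⟨_, hs, by rw [Points.map_ofPt]⟩
    rw [this]
    exact isOpenMap_ofPt _ (repWith_comp hre hae) _ (hO.preimage (Points.continuous_ofPt r))
  intro C hC
  let D := (Points.map a '' Cᶜ)ᶜ
  have hD : IsClosed D := (hopen _ hC.isOpen_compl).isClosed_compl
  have hpre : Points.map a ⁻¹' D = C := by
    rw [Set.preimage_compl, hinj.preimage_image, compl_compl]
  have : Points.map b '' C = Points.map ((yon S).map j) ⁻¹' (Points.map f '' D) := by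
    ext w
    constructor
    · rintro ⟨c, hc, rfl⟩
      refine ⟨Points.map a c, hpre.ge hc, ?_⟩
      rw [← Points.map_comp, ← Points.map_comp, sq.w]
    · rintro ⟨d, hd, hdw⟩
      obtain ⟨z, hz₁, hz₂⟩ := exists_point_lift sq d w hdw
      exact ⟨z, hpre.le (show Points.map a z ∈ D by rw [hz₁]; exact hd), hz₂⟩
  rw [this]
  exact (hf _ hD).preimage (Points.continuous_map _)

set_option maxHeartbeats 1000000 in
/-- **Universal closedness is tested on affine spaces over a chart.** -/
theorem isUnivClosedMor_of_affineSpace {X Y : Sp S} (hX : IsAlgSpace X) (hY : IsAlgSpace Y)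
    {f : X ⟶ Y} (hqc : IsQuasiCompactMor f) {V : Over S} {p : (yon S).obj V ⟶ Y}
    (hpe : RepWith @Etale p) (hps : RepWith @Surjective p)
    (H : ∀ (n : ℕ) (P : Sp S) (fst : P ⟶ X)
      (snd : P ⟶ (yon S).obj (Over.mk ((𝔸(ULift.{u} (Fin n); V.left) ↘ V.left) ≫ V.hom))),
      IsPullback fst snd f
        ((yon S).map (Over.homMk (𝔸(ULift.{u} (Fin n); V.left) ↘ V.left)) ≫ p) →
      IsClosedMap (Points.map snd)) :
    IsUnivClosedMor f := by
  refine univSp_of_etale_cover ptsLocal_isClosedMor hY hpe hps (IsPullback.of_hasPullback f p) ?_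
  refine univSp_of_affine ptsLocal_isClosedMor fun Z hZ g Q fst snd sqQ => ?_
  have sqZ := sqQ.paste_horiz (IsPullback.of_hasPullback f p)
  obtain ⟨g, rfl⟩ := (yon S).map_surjective g
  let κ := {W : Z.left.affineOpens // ∃ V' : V.left.affineOpens, W.1 ≤ g.left ⁻¹ᵁ V'.1}
  let T : κ → Over S := fun k => Over.mk (k.1.1.ι ≫ Z.hom)
  let i : ∀ k : κ, T k ⟶ Z := fun k => Over.homMk k.1.1.ι rfl
  refine ptsLocal_isClosedMor (T := T) (fun k => (yon S).map (i k)) snd
    (fun k => pullback snd ((yon S).map (i k))) (fun k => pullback.fst _ _) (fun k => pullback.snd _ _)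
    (fun z => ?_) (fun k => isOpenMap_map_of_etale ((repWith_yon_map_iff @Etale _).2
      (inferInstanceAs (Etale k.1.1.ι))))
    (fun k => IsPullback.of_hasPullback _ _) fun k => ?_
  · obtain ⟨z, rfl⟩ := (Points.schemeHomeo Z).surjective z
    obtain ⟨_, ⟨(V' : V.left.Opens), hV', rfl⟩, hgz, -⟩ :=
      V.left.isBasis_affineOpens.exists_subset_of_mem_open (Set.mem_univ (g.left z)) isOpen_univ
    obtain ⟨_, ⟨(W : Z.left.Opens), hW, rfl⟩, hzW, hWV⟩ :=
      Z.left.isBasis_affineOpens.exists_subset_of_mem_open (show z ∈ g.left ⁻¹ᵁ V' from hgz)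
        (g.left ⁻¹ᵁ V').isOpen
    exact ⟨⟨⟨W, hW⟩, ⟨V', hV'⟩, hWV⟩, Points.schemeHomeo _ ⟨z, hzW⟩, Points.map_yon_map_apply _ _⟩
  obtain ⟨⟨W, hW⟩, ⟨V', hV'⟩, hWV⟩ := k
  let R : CommRingCat.{u} := Γ(V.left, V')
  let str : Spec R ⟶ S := hV'.fromSpec ≫ V.hom
  let c : Over.mk str ⟶ V := Over.homMk hV'.fromSpec rfl
  let φ : R ⟶ Γ(Z.left, W) := g.left.appLE V' W hWV
  letI : Algebra R Γ(Z.left, W) := φ.hom.toAlgebra
  have hg : Spec.map φ ≫ hV'.fromSpec = hW.fromSpec ≫ g.left :=
    IsAffineOpen.SpecMap_appLE_fromSpec _ hV' hW hWV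
  let π := pullback.snd f ((yon S).map c ≫ p)
  have sqπ : IsPullback (pullback.fst f ((yon S).map c ≫ p)) π f ((yon S).map c ≫ p) :=
    IsPullback.of_hasPullback _ _
  have hπA : IsAlgSpace (pullback f ((yon S).map c ≫ p)) :=
    isAlgSpace_baseChange hX hY (IsAlgSpace.yon_obj _) sqπ
  have : IsAffine (Over.mk str).left := inferInstanceAs (IsAffine (Spec R))
  have := compactSpace_yon_of_affine (Over.mk str)
  have : CompactSpace (Points (pullback f ((yon S).map c ≫ p))) :=
    compactSpace_of_isQuasiCompactMor hX hY hqc (IsAlgSpace.yon_obj _) sqπ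
  have key : ∀ n : ℕ, IsClosedMap (Points.map
      (pullback.snd π ((yon S).map (affTo str (MvPolynomial.C :
        R →+* MvPolynomial (ULift.{u} (Fin n)) R))))) := by
    intro n
    let q : Over.mk ((𝔸(ULift.{u} (Fin n); V.left) ↘ V.left) ≫ V.hom) ⟶ V :=
      Over.homMk (𝔸(ULift.{u} (Fin n); V.left) ↘ V.left)
    let j : affOver str (MvPolynomial.C : R →+* MvPolynomial (ULift.{u} (Fin n)) R) ⟶
        Over.mk ((𝔸(ULift.{u} (Fin n); V.left) ↘ V.left) ≫ V.hom) :=
      Over.homMk ((AffineSpace.SpecIso _ R).inv ≫ AffineSpace.map _ hV'.fromSpec) (by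
        change (_ ≫ _) ≫ _ ≫ V.hom = Spec.map _ ≫ hV'.fromSpec ≫ V.hom
        rw [Category.assoc, AffineSpace.map_over_assoc, ← Category.assoc (AffineSpace.SpecIso _ R).inv,
          AffineSpace.SpecIso_inv_over])
    have : IsOpenImmersion j.left :=
      have : IsOpenImmersion (AffineSpace.map (ULift.{u} (Fin n)) hV'.fromSpec) :=
        MorphismProperty.of_isPullback (AffineSpace.isPullback_map hV'.fromSpec).flip inferInstance
      inferInstanceAs (IsOpenImmersion (_ ≫ _))
    have hj : j ≫ q = affTo str MvPolynomial.C ≫ c := by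
      ext1
      change (_ ≫ _) ≫ (𝔸(ULift.{u} (Fin n); V.left) ↘ V.left) = Spec.map _ ≫ hV'.fromSpec
      rw [Category.assoc, AffineSpace.map_over, ← Category.assoc,
        AffineSpace.SpecIso_inv_over]
    have sq₀ := IsPullback.of_hasPullback f ((yon S).map q ≫ p)
    have sq₁ := (IsPullback.of_hasPullback π ((yon S).map (affTo str (MvPolynomial.C :
      R →+* MvPolynomial (ULift.{u} (Fin n)) R)))).paste_horiz sqπ
    rw [← Category.assoc, ← Functor.map_comp, ← hj, Functor.map_comp, Category.assoc] at sq₁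
    exact isClosedMap_of_isPullback_mono
      (isAlgSpace_baseChange hπA (IsAlgSpace.yon_obj _) (IsAlgSpace.yon_obj _)
        (IsPullback.of_hasPullback _ _))
      (IsPullback.of_right' sq₁ sq₀) (H n _ _ _ sq₀)
  have hcl := isClosedMap_of_mvPolynomial str hπA π key Γ(Z.left, W)
  let e : affOver str (algebraMap R Γ(Z.left, W)) ≅ Over.mk (W.ι ≫ Z.hom) :=
    Over.isoMk hW.isoSpec.symm (by
      change hW.isoSpec.inv ≫ W.ι ≫ Z.hom = Spec.map φ ≫ hV'.fromSpec ≫ V.hom
      rw [reassoc_of% hg, Over.w g, ← Category.assoc, IsAffineOpen.isoSpec_inv_ι])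
  let i₀ : Over.mk (W.ι ≫ Z.hom) ⟶ Z := Over.homMk W.ι rfl
  have hbase : (yon S).map e.hom ≫ (yon S).map i₀ ≫ (yon S).map g ≫ p =
      (yon S).map (affTo str (algebraMap R Γ(Z.left, W))) ≫ (yon S).map c ≫ p := by
    simp only [← Functor.map_comp_assoc]
    congr 2
    ext1
    change hW.isoSpec.inv ≫ W.ι ≫ g.left = Spec.map φ ≫ hV'.fromSpec
    rw [← Category.assoc, IsAffineOpen.isoSpec_inv_ι, hg]
  have sqL := (IsPullback.of_hasPullback snd ((yon S).map i₀)).paste_horiz sqZ
  have sqR := (IsPullback.of_hasPullback π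
    ((yon S).map (affTo str (algebraMap R Γ(Z.left, W))))).paste_horiz sqπ
  have sqR' : IsPullback
      (pullback.fst π ((yon S).map (affTo str (algebraMap R Γ(Z.left, W)))) ≫
        pullback.fst f ((yon S).map c ≫ p))
      (pullback.snd π ((yon S).map (affTo str (algebraMap R Γ(Z.left, W)))) ≫ (yon S).map e.hom)
      f ((yon S).map i₀ ≫ (yon S).map g ≫ p) :=
    sqR.of_iso (Iso.refl _) (Iso.refl _) ((yon S).mapIso e) (Iso.refl _) (by simp) (by simp)
      (by simp) (by simp [hbase])
  have hiso : Points.map (pullback.snd snd ((yon S).map i₀)) =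
      Points.map ((yon S).map e.hom) ∘
        Points.map (pullback.snd π ((yon S).map (affTo str (algebraMap R Γ(Z.left, W))))) ∘
        Points.map (sqL.isoIsPullback X ((yon S).obj _) sqR').hom := by
    funext w
    simp only [Function.comp_apply, ← Points.map_comp]
    rw [Category.assoc, IsPullback.isoIsPullback_hom_snd]
  change IsClosedMap (Points.map (pullback.snd snd ((yon S).map i₀)))
  rw [hiso]
  exact ((isHomeomorph_map_iso ((yon S).mapIso e).hom).isClosedMap).comp
    (hcl.comp (isHomeomorph_map_iso (sqL.isoIsPullback X ((yon S).obj _) sqR').hom).isClosedMap)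

end Groth.Agent.AlgSpace
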