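import Groth.Prelude.Def_AlgSpMor5
import Groth.Agent.Lib.AlgSpace.MorDiag
import Mathlib.AlgebraicGeometry.Morphisms.ClosedImmersion

/-!
# Valuative squares of algebraic spaces: formal properties
-/

universe u

set_option backward.isDefEq.respectTransparency.types false
set_option linter.unusedVariables false

open CategoryTheory CategoryTheory.Limits AlgebraicGeometry Opposite

namespace Groth.Agent.AlgSpace

open AlgSp

attribute [local simp] pullback.lift_fst pullback.lift_snd limit.lift_π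

variable {S : Scheme.{u}}

/-- Identification of two objects over `S` with the same underlying scheme. -/
noncomputable def castOver {X : Scheme.{u}} {a b : X ⟶ S} (h : a = b) : Over.mk a ⟶ Over.mk b :=
  Over.homMk (𝟙 X) (by simp [h])

@[simp] lemma castOver_left {X : Scheme.{u}} {a b : X ⟶ S} (h : a = b) :
    (castOver h).left = 𝟙 X := rfl

/-- **Two maps into a separated space agreeing on a schematically dense part agree.** -/
theorem eq_of_schDominant {X Y : Sp S} {f : X ⟶ Y} (hf : IsSeparatedMor f) {T' T : Over S}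
    [IsAffine T.left] (q : T' ⟶ T) (hq : Function.Injective q.left.appTop)
    (a b : (yon S).obj T ⟶ X) (h : a ≫ f = b ≫ f)
    (hq' : (yon S).map q ≫ a = (yon S).map q ≫ b) : a = b := by
  let ξ : (yon S).obj T ⟶ pullback f f := pullback.lift a b h
  have sq := hf.1.isPullback ξ
  have : IsClosedImmersion (hf.1.snd ξ).left := hf.2 ξ _ _ sq
  obtain ⟨w, hw⟩ := (yon S).map_surjective
    (sq.lift ((yon S).map q ≫ a) ((yon S).map q) (by
      apply pullback.hom_ext
      · simp [ξ]
      · simp [ξ, hq']))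
  have hwq : w ≫ hf.1.snd ξ = q := (yon S).map_injective (by
    rw [Functor.map_comp, hw, IsPullback.lift_snd])
  have hinj : Function.Injective (hf.1.snd ξ).left.appTop := by
    have h3 : q.left.appTop = (hf.1.snd ξ).left.appTop ≫ w.left.appTop := by
      rw [← hwq]
      exact Scheme.Hom.comp_appTop _ _
    rw [h3] at hq
    exact Function.Injective.of_comp (f := w.left.appTop) hq
  have : IsIso (hf.1.snd ξ).left := IsClosedImmersion.isIso_of_injective_of_isAffine hinj
  have : IsIso ((Over.forget S).map (hf.1.snd ξ)) := ‹_›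
  have : IsIso (hf.1.snd ξ) := isIso_of_reflects_iso _ (Over.forget S)
  have h1 := sq.w =≫ pullback.fst f f
  have h2 := sq.w =≫ pullback.snd f f
  simp [ξ] at h1 h2
  rw [← cancel_epi ((yon S).map (hf.1.snd ξ)), ← h1, ← h2]

lemma injective_appTop_SpecMap {R R' : CommRingCat.{u}} (φ : R ⟶ R')
    (h : Function.Injective φ) : Function.Injective (Spec.map φ).appTop := by
  intro a b hab
  refine (ConcreteCategory.bijective_of_isIso (Scheme.ΓSpecIso R).hom).1 (h ?_)
  have := Scheme.ΓSpecIso_naturality φ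
  have e := fun x => congr_arg (fun ψ : Γ(Spec R, ⊤) ⟶ R' => ψ x) this
  simp only [CommRingCat.comp_apply] at e
  rw [← e a, ← e b, hab]

/-- A separated morphism satisfies the uniqueness part of the valuative criterion. -/
theorem uniqVC_of_isSeparatedMor {X Y : Sp S} {f : X ⟶ Y} (hf : IsSeparatedMor f) : UniqVC f := by
  intro sq l l' h₁ h₂ h₁' h₂'
  have : IsAffine sq.ptA.left := inferInstanceAs (IsAffine (Spec _))
  exact eq_of_schDominant hf sq.j
    (injective_appTop_SpecMap _ (IsFractionRing.injective sq.A sq.K))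
    l l' (h₂.trans h₂'.symm) (h₁.trans h₁'.symm)

/-- Base change. -/
theorem existVC_of_isPullback {X Y X' Y' : Sp S} {fst : X' ⟶ X} {f' : X' ⟶ Y'} {f : X ⟶ Y}
    {g : Y' ⟶ Y} (sq : IsPullback fst f' f g) (h : ExistVC f) : ExistVC f' := by
  intro s
  let s₀ : ValSq f :=
    { A := s.A, K := s.K, str := s.str, top := s.top ≫ fst, bot := s.bot ≫ g
      comm := by rw [Category.assoc, sq.w, reassoc_of% s.comm] }
  obtain ⟨e, l, hl₁, hl₂⟩ := h s₀
  refine ⟨{ A' := e.A', K' := e.K', φ := e.φ, ψ := e.ψ, comm := e.comm, isLocalHom := e.isLocalHom },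
    sq.lift l ((yon S).map (Over.homMk (Spec.map (CommRingCat.ofHom e.φ)) rfl : e.ptA' ⟶ s.ptA) ≫
      s.bot) ?_, ?_, ?_⟩
  · rw [hl₂]; exact (Category.assoc _ _ _).symm
  · apply sq.hom_ext
    · simp only [Category.assoc, IsPullback.lift_fst]
      exact hl₁
    · simp only [Category.assoc, IsPullback.lift_snd]
      rw [s.comm, ← Functor.map_comp_assoc, ← Functor.map_comp_assoc]
      congr 2
      ext1
      change Spec.map _ ≫ Spec.map _ = Spec.map _ ≫ Spec.map _
      rw [← Spec.map_comp, ← Spec.map_comp, ← CommRingCat.ofHom_comp, ← CommRingCat.ofHom_comp,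
        e.comm]
  · exact sq.lift_snd _ _ _

theorem uniqVC_of_isPullback {X Y X' Y' : Sp S} {fst : X' ⟶ X} {f' : X' ⟶ Y'} {f : X ⟶ Y}
    {g : Y' ⟶ Y} (sq : IsPullback fst f' f g) (h : UniqVC f) : UniqVC f' := by
  intro s l l' h₁ h₂ h₁' h₂'
  let s₀ : ValSq f :=
    { A := s.A, K := s.K, str := s.str, top := s.top ≫ fst, bot := s.bot ≫ g
      comm := by rw [Category.assoc, sq.w, reassoc_of% s.comm] }
  refine sq.hom_ext (h s₀ (l ≫ fst) (l' ≫ fst) ?_ ?_ ?_ ?_) (h₂.trans h₂'.symm)
  · exact (Category.assoc _ _ _).symm.trans (congrArg (· ≫ fst) h₁)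
  · change (l ≫ fst) ≫ f = s.bot ≫ g
    rw [Category.assoc, sq.w, reassoc_of% h₂]
  · exact (Category.assoc _ _ _).symm.trans (congrArg (· ≫ fst) h₁')
  · change (l' ≫ fst) ≫ f = s.bot ≫ g
    rw [Category.assoc, sq.w, reassoc_of% h₂']

theorem uniqVC_comp {X Y Z : Sp S} {f : X ⟶ Y} {g : Y ⟶ Z} (hf : UniqVC f) (hg : UniqVC g) :
    UniqVC (f ≫ g) := by
  intro s l l' h₁ h₂ h₁' h₂'
  let sg : ValSq g :=
    { A := s.A, K := s.K, str := s.str, top := s.top ≫ f, bot := s.bot
      comm := by rw [Category.assoc]; exact s.comm }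
  have hlf : l ≫ f = l' ≫ f := hg sg (l ≫ f) (l' ≫ f)
    ((Category.assoc _ _ _).symm.trans (congrArg (· ≫ f) h₁)) ((Category.assoc _ _ _).trans h₂)
    ((Category.assoc _ _ _).symm.trans (congrArg (· ≫ f) h₁')) ((Category.assoc _ _ _).trans h₂')
  let sf : ValSq f :=
    { A := s.A, K := s.K, str := s.str, top := s.top, bot := l ≫ f
      comm := ((Category.assoc _ _ _).symm.trans (congrArg (· ≫ f) h₁)).symm }
  exact hf sf l l' h₁ rfl h₁' hlf.symm

theorem existVC_comp {X Y Z : Sp S} {f : X ⟶ Y} {g : Y ⟶ Z} (hf : ExistVC f) (hg : ExistVC g) :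
    ExistVC (f ≫ g) := by
  intro s
  let s₁ : ValSq g :=
    { A := s.A, K := s.K, str := s.str, top := s.top ≫ f, bot := s.bot
      comm := (Category.assoc _ _ _).trans s.comm }
  obtain ⟨e₁, l₁, h₁, h₁'⟩ := hg s₁
  have w₁ : Spec.map (CommRingCat.ofHom e₁.ψ) ≫
      Spec.map (CommRingCat.ofHom (algebraMap s.A s.K)) ≫ s.str =
      Spec.map (CommRingCat.ofHom (algebraMap e₁.A' e₁.K')) ≫
        Spec.map (CommRingCat.ofHom e₁.φ) ≫ s.str := by
    rw [← Spec.map_comp_assoc, ← Spec.map_comp_assoc, ← CommRingCat.ofHom_comp,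
      ← CommRingCat.ofHom_comp]
    exact congrArg (fun t => Spec.map (CommRingCat.ofHom t) ≫ s.str) e₁.comm.symm
  let a₁ : e₁.ptK' ⟶ s.ptK := Over.homMk (Spec.map (CommRingCat.ofHom e₁.ψ)) w₁
  let s₂ : ValSq f :=
    { A := e₁.A', K := e₁.K', str := Spec.map (CommRingCat.ofHom e₁.φ) ≫ s.str
      top := (yon S).map a₁ ≫ s.top
      bot := l₁
      comm := (Category.assoc _ _ _).trans h₁.symm }
  obtain ⟨e₂, l₂, h₂, h₂'⟩ := hf s₂
  have := e₁.isLocalHom
  have := e₂.isLocalHom
  have hc : (algebraMap e₂.A' e₂.K').comp (e₂.φ.comp e₁.φ) =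
      (e₂.ψ.comp e₁.ψ).comp (algebraMap s.A s.K) := by
    rw [← RingHom.comp_assoc, e₂.comm]
    exact (RingHom.comp_assoc _ _ _).trans ((congrArg e₂.ψ.comp e₁.comm).trans
      (RingHom.comp_assoc _ _ _).symm)
  let e : s.DomExt :=
    { A' := e₂.A', K' := e₂.K', φ := e₂.φ.comp e₁.φ, ψ := e₂.ψ.comp e₁.ψ
      comm := hc
      isLocalHom := RingHom.isLocalHom_comp _ _ }
  have w₂ : Spec.map (CommRingCat.ofHom (e₂.φ.comp e₁.φ)) ≫ s.str =
      Spec.map (CommRingCat.ofHom e₂.φ) ≫ Spec.map (CommRingCat.ofHom e₁.φ) ≫ s.str := by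
    rw [CommRingCat.ofHom_comp, Spec.map_comp, Category.assoc]
  let c : e.ptA' ⟶ e₂.ptA' := castOver w₂
  let cK : e.ptK' ⟶ e₂.ptK' :=
    castOver (congrArg (Spec.map (CommRingCat.ofHom (algebraMap e₂.A' e₂.K')) ≫ ·) w₂)
  refine ⟨e, (yon S).map c ≫ l₂, ?_, ?_⟩
  · rw [← Functor.map_comp_assoc]
    refine Eq.trans ?_ (congrArg ((yon S).map cK ≫ ·) h₂ |>.trans ?_)
    · rw [← Functor.map_comp_assoc]
      congr 2
    · simp only [s₂, ← Functor.map_comp_assoc]
      congr 2
      ext1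
      change (𝟙 _ ≫ Spec.map _) ≫ Spec.map _ = Spec.map _
      rw [Category.id_comp, ← Spec.map_comp]
      rfl
  · rw [Category.assoc, reassoc_of% h₂']
    simp only [s₂]
    rw [h₁']
    simp only [← Functor.map_comp_assoc, s₁]
    congr 2
    ext1
    change (𝟙 _ ≫ Spec.map _) ≫ Spec.map _ = Spec.map _
    rw [Category.id_comp, ← Spec.map_comp]
    rfl

end Groth.Agent.AlgSpace
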