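import Groth.Agent.Lib.AlgSpace.ValBasic
import Groth.Agent.Lib.AlgSpace.QC
import Groth.Agent.Lib.AlgSpace.Proper
import Groth.Agent.Lib.AlgSpDecent.Basic2
import Groth.Agent.Lib.GrpdB.Topology
import Groth.Agent.Lib.ValSq12.Basic
import Mathlib.AlgebraicGeometry.ValuativeCriterion
import Mathlib.AlgebraicGeometry.ZariskisMainTheorem

/-!
# The valuative criterion of universal closedness and separatedness for algebraic spaces
-/

universe u

set_option backward.isDefEq.respectTransparency.types false
set_option linter.unusedVariables false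

open CategoryTheory CategoryTheory.Limits AlgebraicGeometry Opposite IsLocalRing

namespace Groth.Agent.AlgSpace

open AlgSp Groth.Agent.AlgSpDecent

attribute [local simp] pullback.lift_fst pullback.lift_snd limit.lift_π

/-- The fibre product over the source sits over the diagonal. -/
lemma isPullback_diagonal_pair {C : Type*} [Category C] [HasPullbacks C] {A B X Y W Q : C}
    {a : A ⟶ X} {b : B ⟶ X} (f : X ⟶ Y) {w₁ : W ⟶ A} {w₂ : W ⟶ B} (sqW : IsPullback w₁ w₂ a b)
    {q₁ : Q ⟶ A} {q₂ : Q ⟶ B} (sqQ : IsPullback q₁ q₂ (a ≫ f) (b ≫ f)) {L : W ⟶ Q}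
    (hL₁ : L ≫ q₁ = w₁) (hL₂ : L ≫ q₂ = w₂) :
    IsPullback (w₁ ≫ a) L (pullback.diagonal f)
      (pullback.lift (q₁ ≫ a) (q₂ ≫ b) (by simp only [Category.assoc, sqQ.w])) := by
  have key : ∀ c : PullbackCone (pullback.diagonal f)
      (pullback.lift (q₁ ≫ a) (q₂ ≫ b) (by simp only [Category.assoc, sqQ.w])),
      c.fst = c.snd ≫ q₁ ≫ a ∧ c.fst = c.snd ≫ q₂ ≫ b := fun c =>
    ⟨by simpa using c.condition =≫ pullback.fst f f, by simpa using c.condition =≫ pullback.snd f f⟩
  refine IsPullback.of_isLimit (PullbackCone.IsLimit.mk ?_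
    (fun c => sqW.lift (c.snd ≫ q₁) (c.snd ≫ q₂)
      (by simp only [Category.assoc]; exact (key c).1.symm.trans (key c).2))
    (fun c => ?_) (fun c => ?_) fun c m hm₁ hm₂ => ?_)
  · apply pullback.hom_ext
    · simp [reassoc_of% hL₁]
    · simp [reassoc_of% hL₂, sqW.w]
  · simp [(key c).1]
  · apply sqQ.hom_ext <;> simp [hL₁, hL₂]
  · apply sqW.hom_ext <;> simp [← hm₂, hL₁, hL₂]

variable {S : Scheme.{u}}

/-- Existence of lifts gives closedness over an affine target. -/
theorem isClosedMap_of_existVC {P : Sp S} {T : Over S} [IsAffine T.left] (hP : IsAlgSpace P)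
    [CompactSpace (Points P)] {f : P ⟶ (yon S).obj T} (he : ExistVC f) :
    IsClosedMap (Points.map f) := by
  obtain ⟨U, p, hU, hpe, hps⟩ := exists_affine_chart ((isQuasiCompactSp_iff hP).2 inferInstance)
  obtain ⟨φ, hφ⟩ := (yon S).map_surjective (p ≫ f)
  intro C hC
  let hT := Points.schemeHomeo T
  let D : Set U.left := Points.ofPt p ⁻¹' C
  have hpt : ∀ a, Points.map f (Points.ofPt p a) = hT (φ.left a) := fun a => by
    rw [Points.map_ofPt, ← hφ, ofPt_map_eq]
    rfl
  have himg : Points.map f '' C = hT '' (φ.left '' D) := by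
    ext z
    constructor
    · rintro ⟨x, hx, rfl⟩
      obtain ⟨a, rfl⟩ := surjective_ofPt hps x
      exact ⟨φ.left a, ⟨a, hx, rfl⟩, (hpt a).symm⟩
    · rintro ⟨_, ⟨a, ha, rfl⟩, rfl⟩
      exact ⟨_, ha, hpt a⟩
  rw [himg]
  refine hT.isClosedMap _ (isClosed_of_closure_subset fun y hy => ?_)
  have : QuasiCompact φ.left := inferInstance
  obtain ⟨a, ha, hay⟩ := GrpdB.exists_specializes_of_mem_closure_image φ.left
    (hC.preimage (Points.continuous_ofPt p)) hy
  obtain ⟨A, i₂, hi, hic⟩ := ValSq12.exists_square φ.left hay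
  let r : Over.mk (Spec.map (CommRingCat.ofHom (algebraMap A (U.left.residueField a))) ≫
      i₂ ≫ T.hom) ⟶ U := Over.homMk (U.left.fromSpecResidueField a) (by
        change _ ≫ U.hom = Spec.map _ ≫ i₂ ≫ T.hom
        rw [← Over.w φ, reassoc_of% hi])
  let b : Over.mk (i₂ ≫ T.hom) ⟶ T := Over.homMk i₂ rfl
  let s : ValSq f :=
    { A := A, K := U.left.residueField a, str := i₂ ≫ T.hom, top := (yon S).map r ≫ p
      bot := (yon S).map b
      comm := by
        rw [Category.assoc, ← hφ, ← Functor.map_comp, ← Functor.map_comp]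
        congr 1
        ext1
        exact hi }
  obtain ⟨e, l, hl₁, hl₂⟩ := he s
  let c' : e.ptA'.left := closedPoint e.A'
  have hloc := e.isLocalHom
  have hx : Points.ofPt p a ⤳ Points.ofPt l c' := by
    let g : e.ptK' ⟶ e.ptA' :=
      Over.homMk (Spec.map (CommRingCat.ofHom (algebraMap e.A' e.K'))) rfl
    have h1 : Points.ofPt p a = Points.ofPt l (g.left (closedPoint e.K')) := by
      rw [← ofPt_map_comp g l, hl₁, ofPt_map_comp]
      simp only [s]
      rw [ofPt_map_comp]
      exact congrArg (Points.ofPt p) (Scheme.fromSpecResidueField_apply a _).symm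
    rw [h1]
    exact (specializes_closedPoint _).map (Points.continuous_ofPt l)
  have hfy : Points.map f (Points.ofPt l c') = hT y := by
    rw [Points.map_ofPt, hl₂, ofPt_map_comp]
    simp only [s]
    rw [ofPt_map_eq]
    change hT (i₂ (Spec.map (CommRingCat.ofHom e.φ) (closedPoint e.A'))) = hT y
    rw [← hic]
    exact congrArg (fun z => hT (i₂ z)) (IsLocalRing.comap_closedPoint e.φ)
  obtain ⟨a', ha'⟩ := surjective_ofPt hps (Points.ofPt l c')
  refine ⟨a', ?_, hT.injective ((hpt a').symm.trans (by rw [ha']; exact hfy))⟩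
  change Points.ofPt p a' ∈ C
  rw [ha']
  exact hx.mem_closed hC ha

/-- **A quasi-compact morphism with the existence part of the valuative criterion is universally
closed.** -/
theorem isUnivClosedMor_of_existVC {X Y : Sp S} (hX : IsAlgSpace X) (hY : IsAlgSpace Y) {f : X ⟶ Y}
    (hq : IsQuasiCompactMor f) (he : ExistVC f) : IsUnivClosedMor f := by
  refine univSp_of_affine ptsLocal_isClosedMor fun Z hZ g P fst snd sq => ?_
  have := compactSpace_yon_of_affine Z
  have : CompactSpace (Points P) :=
    compactSpace_of_isQuasiCompactMor hX hY hq (IsAlgSpace.yon_obj Z) sq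
  exact isClosedMap_of_existVC (isAlgSpace_baseChange hX hY (IsAlgSpace.yon_obj Z) sq)
    (existVC_of_isPullback sq he)

/-- **A quasi-separated universally closed morphism satisfies the existence part of the valuative
criterion.** -/
theorem existVC_of_isUnivClosedMor {X Y : Sp S} (hX : IsAlgSpace X) (hY : IsAlgSpace Y) {f : X ⟶ Y}
    (hqs : IsQuasiSeparatedMor f) (hc : IsUnivClosedMor f) : ExistVC f := by
  intro s
  have sqP := IsPullback.of_hasPullback f s.bot
  set g := pullback.snd f s.bot with hg_def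
  have hP : IsAlgSpace (pullback f s.bot) :=
    isAlgSpace_baseChange hX hY (IsAlgSpace.yon_obj _) sqP
  have hcl : IsClosedMap (Points.map g) :=
    isClosedMap_of_isUnivClosedMor (IsAlgSpace.yon_obj _) (univSp_of_isPullback sqP hc)
  have hqsg : IsQuasiSeparatedMor g := isQuasiSeparatedMor_of_isPullback sqP hqs
  let xK : (yon S).obj s.ptK ⟶ pullback f s.bot :=
    pullback.lift s.top ((yon S).map s.j) s.comm
  have hxg : xK ≫ g = (yon S).map s.j := by simp [xK, g]
  let η : s.ptK.left := closedPoint s.K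
  let c : s.ptA.left := closedPoint s.A
  let hT := Points.schemeHomeo s.ptA
  obtain ⟨x', hx', hx'c⟩ : hT c ∈ Points.map g '' closure {Points.ofPt xK η} := by
    have h1 : Points.map g (Points.ofPt xK η) = hT (s.j.left η) := by
      rw [Points.map_ofPt, hxg, ofPt_map_eq]
      rfl
    exact ((specializes_closedPoint (R := s.A) (s.j.left η)).map hT.continuous).mem_closed
      (hcl _ isClosed_closure) ⟨_, subset_closure rfl, h1⟩
  obtain ⟨U, p, hU, hpe, u, hu⟩ := exists_affine_chart_at hP x'
  obtain ⟨W, cW, fstW, sqW'⟩ := (Functor.relativelyRepresentable.of_diag hP.diag p) xK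
  obtain ⟨aW, rfl⟩ := (yon S).map_surjective fstW
  have sqW := sqW'
  obtain ⟨φU, hφU⟩ := (yon S).map_surjective (p ≫ g)
  have sqQ' := (IsPullback.of_hasPullback φU s.j).map (yon S)
  have sqQ : IsPullback ((yon S).map (pullback.fst φU s.j)) ((yon S).map (pullback.snd φU s.j))
      (p ≫ g) (xK ≫ g) := by rw [← hφU, hxg]; exact sqQ'
  obtain ⟨m, hm⟩ := (yon S).map_surjective
    (sqQ.lift ((yon S).map aW) ((yon S).map cW) (by rw [reassoc_of% sqW.w]))
  have : QuasiCompact m.left := hqsg.2 _ _ _ (isPullback_diagonal_pair g sqW sqQ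
    (L := (yon S).map m) (by rw [hm, IsPullback.lift_fst]) (by rw [hm, IsPullback.lift_snd]))
  have : IsAffine (pullback φU s.j).left := by
    have := IsAffine.of_isIso (((IsPullback.of_hasPullback φU s.j).map (Over.forget S)).isoPullback).hom
      (h := ?_)
    · exact this
    · have : IsAffine ((Over.forget S).obj U) := hU
      have : IsAffine ((Over.forget S).obj s.ptA) := inferInstanceAs (IsAffine (Spec _))
      have : IsAffine ((Over.forget S).obj s.ptK) := inferInstanceAs (IsAffine (Spec _))
      infer_instance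
  have : CompactSpace W.left := QuasiCompact.compactSpace_of_compactSpace m.left
  have : QuasiCompact aW.left := inferInstance
  have hu' : u ∈ closure (Set.range aW.left) := by
    refine closure_mono (fun v hv => ?_)
      ((isOpenMap_ofPt p hpe).preimage_closure_subset_closure_preimage
        (show u ∈ Points.ofPt p ⁻¹' closure {Points.ofPt xK η} by
          rw [Set.mem_preimage, hu]; exact hx'))
    obtain ⟨w, hw₁, -⟩ := exists_pt_of_isPullback sqW (x := Points.ofScheme U v) (t := η)
      (by rw [← Points.ofPt_eq_map_ofScheme]; exact hv)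
    rw [ofPt_map_eq] at hw₁
    exact ⟨w, (Points.schemeEquiv U).injective hw₁⟩
  rw [← Set.image_univ] at hu'
  obtain ⟨w, -, hw⟩ := GrpdB.exists_specializes_of_mem_closure_image aW.left isClosed_univ hu'
  obtain ⟨A', i₂, hi, hic⟩ := ValSq12.exists_square aW.left hw
  let φ : CommRingCat.of s.A ⟶ CommRingCat.of A' := Spec.preimage (i₂ ≫ φU.left)
  let ψ : CommRingCat.of s.K ⟶ CommRingCat.of (W.left.residueField w) :=
    Spec.preimage (W.left.fromSpecResidueField w ≫ cW.left)
  have hφ : Spec.map φ = i₂ ≫ φU.left := Spec.map_preimage _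
  have hψ : Spec.map ψ = W.left.fromSpecResidueField w ≫ cW.left := Spec.map_preimage _
  have hWj : aW ≫ φU = cW ≫ s.j := (yon S).map_injective (by
    rw [Functor.map_comp, Functor.map_comp, hφU, ← hxg, reassoc_of% sqW.w])
  have hcomm : φ ≫ CommRingCat.ofHom (algebraMap A' (W.left.residueField w)) =
      CommRingCat.ofHom (algebraMap s.A s.K) ≫ ψ := Spec.map_injective (by
    rw [Spec.map_comp, Spec.map_comp, hφ, hψ, ← reassoc_of% hi, Category.assoc]
    exact congrArg (fun k => W.left.fromSpecResidueField w ≫ k) (congrArg CommaMorphism.left hWj))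
  have hclosed : Spec.map φ (closedPoint A') = c := by
    rw [hφ, Scheme.Hom.comp_apply, hic]
    refine hT.injective ?_
    rw [← hx'c, ← hu, Points.map_ofPt, ← hφU, ofPt_map_eq]
    rfl
  have hloc : IsLocalHom φ.hom := (IsLocalRing.isLocalHom_iff_comap_closedPoint φ.hom).2 hclosed
  let e : s.DomExt :=
    { A' := A', K' := W.left.residueField w, φ := φ.hom, ψ := ψ.hom
      comm := congrArg CommRingCat.Hom.hom hcomm
      isLocalHom := hloc }
  have hstr : i₂ ≫ U.hom = Spec.map φ ≫ s.str := by
    rw [hφ, Category.assoc]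
    exact congrArg (i₂ ≫ ·) (Over.w φU).symm
  let i' : e.ptA' ⟶ U := Over.homMk i₂ hstr
  refine ⟨e, (yon S).map i' ≫ p ≫ pullback.fst f s.bot, ?_, ?_⟩
  · let r : e.ptK' ⟶ W := Over.homMk (W.left.fromSpecResidueField w) (by
      rw [← Over.w aW, ← Category.assoc, hi, Category.assoc]
      exact congrArg (Spec.map _ ≫ ·) hstr)
    have h1 : (Over.homMk (Spec.map (CommRingCat.ofHom (algebraMap e.A' e.K'))) rfl :
        e.ptK' ⟶ e.ptA') ≫ i' = r ≫ aW := by
      ext1; exact hi.symm
    rw [← Functor.map_comp_assoc, h1, Functor.map_comp_assoc, reassoc_of% sqW.w]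
    simp only [xK, pullback.lift_fst]
    rw [← Functor.map_comp_assoc]
    congr 2
    ext1
    exact hψ.symm
  · rw [Category.assoc, Category.assoc, sqP.w, ← reassoc_of% hφU, ← Functor.map_comp_assoc]
    congr 2
    ext1
    exact hφ.symm

/-- **Uniqueness of lifts and quasi-separatedness give separatedness.** -/
theorem isSeparatedMor_of_uniqVC {X Y : Sp S} (hX : IsAlgSpace X) {f : X ⟶ Y}
    (hqs : IsQuasiSeparatedMor f) (hu : UniqVC f) : IsSeparatedMor f := by
  refine repWith_of_affine hqs.1 fun T hT ξ => ⟨_, _, _, hqs.1.isPullback ξ, ?_⟩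
  have sq := hqs.1.isPullback ξ
  set n := hqs.1.snd ξ
  have : QuasiCompact n.left := hqs.2 ξ _ _ sq
  have : Mono n.left := (repWith_diagonal_mono hX f).2 ξ _ _ sq
  have : LocallyOfFiniteType n.left := (repWith_diagonal_lft hX f).2 ξ _ _ sq
  have hex : ValuativeCriterion.Existence n.left := by
    intro q
    have : CommSq q.i₁ (Spec.map (CommRingCat.ofHom (algebraMap q.R q.K))) n.left q.i₂ := q.commSq
    let k : Over.mk (Spec.map (CommRingCat.ofHom (algebraMap q.R q.K)) ≫ q.i₂ ≫ T.hom) ⟶ _ :=
      Over.homMk (V := hqs.1.pullback ξ) q.i₁ (by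
        change q.i₁ ≫ _ = _
        rw [← Over.w n, q.commSq.w_assoc]
        rfl)
    let b : Over.mk (q.i₂ ≫ T.hom) ⟶ T := Over.homMk q.i₂ rfl
    let j : Over.mk (Spec.map (CommRingCat.ofHom (algebraMap q.R q.K)) ≫ q.i₂ ≫ T.hom) ⟶
      Over.mk (q.i₂ ≫ T.hom) := Over.homMk (Spec.map (CommRingCat.ofHom (algebraMap q.R q.K))) rfl
    have hk : k ≫ n = j ≫ b := by ext1; exact q.commSq.w
    let top := (yon S).map k ≫ hqs.1.fst ξ
    have h1 : top = (yon S).map j ≫ (yon S).map b ≫ ξ ≫ pullback.fst f f := by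
      have h0 : hqs.1.fst ξ = (yon S).map n ≫ ξ ≫ pullback.fst f f := by
        rw [← reassoc_of% sq.w]; simp
      simp only [top]
      rw [h0, ← Functor.map_comp_assoc, hk, Functor.map_comp_assoc]
    have h2 : top = (yon S).map j ≫ (yon S).map b ≫ ξ ≫ pullback.snd f f := by
      have h0 : hqs.1.fst ξ = (yon S).map n ≫ ξ ≫ pullback.snd f f := by
        rw [← reassoc_of% sq.w]; simp
      simp only [top]
      rw [h0, ← Functor.map_comp_assoc, hk, Functor.map_comp_assoc]
    let s : ValSq f :=
      { A := q.R, K := q.K, str := q.i₂ ≫ T.hom, top := top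
        bot := (yon S).map b ≫ ξ ≫ pullback.fst f f ≫ f
        comm := by
          change top ≫ f = (yon S).map j ≫ _
          rw [h1]; simp }
    have heq : (yon S).map b ≫ ξ ≫ pullback.fst f f = (yon S).map b ≫ ξ ≫ pullback.snd f f :=
      hu s _ _ h1.symm (by simp [s]) h2.symm (by simp [s, pullback.condition])
    obtain ⟨l, hl⟩ := (yon S).map_surjective
      (sq.lift ((yon S).map b ≫ ξ ≫ pullback.fst f f) ((yon S).map b) (by
        apply pullback.hom_ext
        · simp
        · simpa using heq))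
    have hln : l ≫ n = b := (yon S).map_injective (by
      rw [Functor.map_comp, hl, IsPullback.lift_snd])
    have hln' : l.left ≫ n.left = q.i₂ := congrArg CommaMorphism.left hln
    exact ⟨⟨⟨l.left, by rw [← cancel_mono n.left, Category.assoc, hln', q.commSq.w], hln'⟩⟩⟩
  have := UniversallyClosed.of_valuativeCriterion n.left hex
  have : IsProper n.left := {}
  exact (IsClosedImmersion.iff_isProper_and_mono n.left).2 ⟨inferInstance, inferInstance⟩

end Groth.Agent.AlgSpace
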