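import Groth.Agent.Lib.AlgSpace.ValClosed
import Groth.Agent.Lib.AlgSpace.UnivClosedAffineSpace
import Groth.Agent.Lib.AlgSpace.LocP
import Groth.Agent.Lib.AlgSpDecent.LocNoeth
import Groth.Agent.Lib.DVRVal.Basic
import Groth.Agent.S10283

/-!
# Valuative criteria for decent morphisms of algebraic spaces, with discrete valuation rings
-/

universe u

set_option backward.isDefEq.respectTransparency.types false
set_option linter.unusedVariables false

open CategoryTheory CategoryTheory.Limits AlgebraicGeometry Opposite IsLocalRing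

namespace Groth.Agent.AlgSpace

open AlgSp Groth.Agent.AlgSpDecent

attribute [local simp] pullback.lift_fst pullback.lift_snd limit.lift_π

variable {S : Scheme.{u}}

/-- A specialisation to the closed fibre in an etale chart of the base change of a square. -/
theorem exists_chart_specializes {X Y : Sp S} (hX : IsAlgSpace X) (hY : IsAlgSpace Y) {f : X ⟶ Y}
    (hc : IsUnivClosedMor f) (s : ValSq f) (hd : IsDecent (pullback f s.bot)) :
    ∃ (U : Over S) (p : (yon S).obj U ⟶ pullback f s.bot) (φU : U ⟶ s.ptA)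
      (W : Over S) (aW : W ⟶ U) (cW : W ⟶ s.ptK) (w : W.left) (u : U.left),
      IsAffine U.left ∧ RepWith @Etale p ∧ (yon S).map φU = p ≫ pullback.snd f s.bot ∧
      (yon S).map aW ≫ p =
        (yon S).map cW ≫ pullback.lift s.top ((yon S).map s.j) s.comm ∧
      Etale cW.left ∧ aW.left w ⤳ u ∧ φU.left u = closedPoint s.A := by
  have sqP := IsPullback.of_hasPullback f s.bot
  set g := pullback.snd f s.bot with hg_def
  have hP : IsAlgSpace (pullback f s.bot) :=
    isAlgSpace_baseChange hX hY (IsAlgSpace.yon_obj _) sqP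
  have hcl : IsClosedMap (Points.map g) :=
    isClosedMap_of_isUnivClosedMor (IsAlgSpace.yon_obj _) (univSp_of_isPullback sqP hc)
  let xK : (yon S).obj s.ptK ⟶ pullback f s.bot :=
    pullback.lift s.top ((yon S).map s.j) s.comm
  have hxg : xK ≫ g = (yon S).map s.j := by simp [xK, g]
  let η : s.ptK.left := closedPoint s.K
  let c : s.ptA.left := closedPoint s.A
  let hT := Points.schemeHomeo s.ptA
  obtain ⟨x', hx', hx'c⟩ : hT c ∈ Points.map g '' closure {Points.ofPt xK η} := by
    have h1 : Points.map g (Points.ofPt xK η) = hT (s.j.left η) := by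
      rw [Points.map_ofPt, hxg, ofPt_map_eq]
      rfl
    exact ((specializes_closedPoint (R := s.A) (s.j.left η)).map hT.continuous).mem_closed
      (hcl _ isClosed_closure) ⟨_, subset_closure rfl, h1⟩
  obtain ⟨U, p, hU, hpe, u, hu⟩ := exists_affine_chart_at hP x'
  obtain ⟨u', hu'u, hu'⟩ := exists_specializes_lift hpe (specializes_iff_mem_closure.2 hx')
    (finFibres_of_isDecent hP.diag hd _) hu
  obtain ⟨W, cW, fstW, sqW'⟩ := (Functor.relativelyRepresentable.of_diag hP.diag p) xK
  obtain ⟨aW, rfl⟩ := (yon S).map_surjective fstW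
  obtain ⟨φU, hφU⟩ := (yon S).map_surjective (p ≫ g)
  obtain ⟨w, hw₁, -⟩ := exists_pt_of_isPullback sqW' (x := Points.ofScheme U u') (t := η)
    (by rw [← Points.ofPt_eq_map_ofScheme]; exact hu')
  rw [ofPt_map_eq] at hw₁
  refine ⟨U, p, φU, W, aW, cW, w, u, hU, hpe, hφU, sqW'.w, hpe.2 _ _ _ sqW', ?_, ?_⟩
  · rw [(Points.schemeEquiv U).injective hw₁]
    exact hu'u
  · refine hT.injective ?_
    rw [← hx'c, ← hu, Points.map_ofPt, ← hφU, ofPt_map_eq]
    rfl

/-- The extension of a square defined by a valuation ring centred in a chart. -/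
theorem exists_domExt_of_chart {X Y : Sp S} {f : X ⟶ Y} (s : ValSq f) {U W : Over S}
    {p : (yon S).obj U ⟶ pullback f s.bot} {φU : U ⟶ s.ptA}
    (hφU : (yon S).map φU = p ≫ pullback.snd f s.bot) {aW : W ⟶ U} {cW : W ⟶ s.ptK}
    (hsq : (yon S).map aW ≫ p = (yon S).map cW ≫ pullback.lift s.top ((yon S).map s.j) s.comm)
    (w : W.left) (A' : ValuationSubring (W.left.residueField w))
    (i₂ : Spec (CommRingCat.of A') ⟶ U.left)
    (hi : W.left.fromSpecResidueField w ≫ aW.left =
      Spec.map (CommRingCat.ofHom (algebraMap A' (W.left.residueField w))) ≫ i₂)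
    (hclosed : φU.left (i₂ (closedPoint A')) = closedPoint s.A)
    (ψ : s.K →+* W.left.residueField w)
    (hψ : Spec.map (CommRingCat.ofHom ψ) = W.left.fromSpecResidueField w ≫ cW.left) :
    ∃ (φ : s.A →+* A') (hcomm : (algebraMap A' (W.left.residueField w)).comp φ =
        ψ.comp (algebraMap s.A s.K)) (hloc : IsLocalHom φ),
      ({ A' := A', K' := W.left.residueField w, φ := φ, ψ := ψ, comm := hcomm,
         isLocalHom := hloc } : s.DomExt).HasLift := by
  have sqP := IsPullback.of_hasPullback f s.bot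
  have hxg : pullback.lift s.top ((yon S).map s.j) s.comm ≫ pullback.snd f s.bot =
      (yon S).map s.j := by simp
  let φ : CommRingCat.of s.A ⟶ CommRingCat.of A' := Spec.preimage (i₂ ≫ φU.left)
  have hφ : Spec.map φ = i₂ ≫ φU.left := Spec.map_preimage _
  have hWj : aW ≫ φU = cW ≫ s.j := (yon S).map_injective (by
    rw [Functor.map_comp, Functor.map_comp, hφU, ← hxg, reassoc_of% hsq])
  have hcomm : φ ≫ CommRingCat.ofHom (algebraMap A' (W.left.residueField w)) =
      CommRingCat.ofHom (algebraMap s.A s.K) ≫ CommRingCat.ofHom ψ := Spec.map_injective (by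
    rw [Spec.map_comp, Spec.map_comp, hφ, hψ, ← reassoc_of% hi, Category.assoc]
    exact congrArg (fun k => W.left.fromSpecResidueField w ≫ k) (congrArg CommaMorphism.left hWj))
  have hcl : Spec.map φ (closedPoint A') = closedPoint s.A := by
    rw [hφ, Scheme.Hom.comp_apply, hclosed]
  refine ⟨φ.hom, congrArg CommRingCat.Hom.hom hcomm,
    (IsLocalRing.isLocalHom_iff_comap_closedPoint φ.hom).2 hcl, ?_⟩
  set e : s.DomExt :=
    { A' := A', K' := W.left.residueField w, φ := φ.hom, ψ := ψ
      comm := congrArg CommRingCat.Hom.hom hcomm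
      isLocalHom := (IsLocalRing.isLocalHom_iff_comap_closedPoint φ.hom).2 hcl } with he
  have hstr : i₂ ≫ U.hom = Spec.map φ ≫ s.str := by
    rw [hφ, Category.assoc]
    exact congrArg (i₂ ≫ ·) (Over.w φU).symm
  let i' : e.ptA' ⟶ U := Over.homMk i₂ hstr
  refine ⟨(yon S).map i' ≫ p ≫ pullback.fst f s.bot, ?_, ?_⟩
  · let r : e.ptK' ⟶ W := Over.homMk (W.left.fromSpecResidueField w) (by
      rw [← Over.w aW, ← Category.assoc, hi, Category.assoc]
      exact congrArg (Spec.map _ ≫ ·) hstr)
    have h1 : (Over.homMk (Spec.map (CommRingCat.ofHom (algebraMap e.A' e.K'))) rfl :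
        e.ptK' ⟶ e.ptA') ≫ i' = r ≫ aW := by
      ext1; exact hi.symm
    rw [← Functor.map_comp_assoc, h1, Functor.map_comp_assoc, reassoc_of% hsq, pullback.lift_fst,
      ← Functor.map_comp_assoc]
    congr 2
    ext1
    exact hψ.symm
  · rw [Category.assoc, Category.assoc, sqP.w, ← reassoc_of% hφU, ← Functor.map_comp_assoc]
    congr 2
    ext1
    exact hφ.symm

/-- **A universally closed morphism with decent base changes to valuation rings satisfies the
existence part of the valuative criterion.** -/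
theorem existVC_of_isUnivClosedMor_of_decent {X Y : Sp S} (hX : IsAlgSpace X) (hY : IsAlgSpace Y)
    {f : X ⟶ Y} (hd : ∀ s : ValSq f, IsDecent (pullback f s.bot)) (hc : IsUnivClosedMor f) :
    ExistVC f := by
  intro s
  obtain ⟨U, p, φU, W, aW, cW, w, u, -, -, hφU, hsq, -, hwu, huc⟩ :=
    exists_chart_specializes hX hY hc s (hd s)
  obtain ⟨A', i₂, hi, hic⟩ := ValSq12.exists_square aW.left hwu
  obtain ⟨φ, hcomm, hloc, hl⟩ := exists_domExt_of_chart s hφU hsq w A' i₂ hi (by rw [hic, huc])
    (Spec.preimage (W.left.fromSpecResidueField w ≫ cW.left)).hom (Spec.map_preimage _)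
  exact ⟨_, hl⟩

/-- The fraction field of a discrete valuation ring is of finite type. -/
theorem finiteType_fractionField (A K : Type u) [CommRing A] [IsDomain A] [IsDiscreteValuationRing A]
    [Field K] [Algebra A K] [IsFractionRing A K] : Algebra.FiniteType A K := by
  obtain ⟨ϖ, hϖ⟩ := IsDiscreteValuationRing.exists_irreducible A
  refine ⟨⟨{(algebraMap A K ϖ)⁻¹}, ?_⟩⟩
  rw [Finset.coe_singleton, eq_top_iff]
  intro x _
  by_cases hx : x = 0
  · rw [hx]; exact zero_mem _
  obtain ⟨n, v, rfl⟩ := IsDiscreteValuationRing.exists_units_eq_smul_zpow_of_irreducible hϖ hx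
  rw [Units.smul_def]
  refine Subalgebra.smul_mem _ ?_ _
  obtain ⟨m, rfl | rfl⟩ := n.eq_nat_or_neg
  · rw [zpow_natCast]
    exact pow_mem (Subalgebra.algebraMap_mem _ _) _
  · rw [zpow_neg, zpow_natCast, ← inv_pow]
    have h : (algebraMap A K ϖ)⁻¹ ∈ Algebra.adjoin A ({(algebraMap A K ϖ)⁻¹} : Set K) :=
      Algebra.subset_adjoin (Set.mem_singleton _)
    exact pow_mem h _

set_option maxHeartbeats 1000000 in
/-- **Universal closedness gives lifts of discrete valuation rings to finite separable extensions.** -/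
theorem exists_dvr_domExt_of_decent {X Y : Sp S} (hX : IsAlgSpace X) (hY : IsAlgSpace Y)
    {f : X ⟶ Y} (hlft : LocP @LocallyOfFiniteType f) (hc : IsUnivClosedMor f) (s : ValSq f)
    [IsDiscreteValuationRing s.A] (hd : IsDecent (pullback f s.bot)) :
    ∃ e : s.DomExt, IsDiscreteValuationRing e.A' ∧
      (letI := e.ψ.toAlgebra; Module.Finite s.K e.K' ∧ Algebra.IsSeparable s.K e.K') ∧ e.HasLift := by
  obtain ⟨U, p, φU, W, aW, cW, w, u, hU, hpe, hφU, hsq, hcW, hwu, huc⟩ :=
    exists_chart_specializes hX hY hc s hd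
  have sqP := IsPullback.of_hasPullback f s.bot
  have hP : IsAlgSpace (pullback f s.bot) :=
    isAlgSpace_baseChange hX hY (IsAlgSpace.yon_obj _) sqP
  have hφlft : LocallyOfFiniteType φU.left :=
    locP_of_isPullback hX hY (IsAlgSpace.yon_obj _) sqP hlft p (𝟙 _) φU hpe (repWith_id _ s.ptA)
      (by rw [Category.comp_id, hφU])
  have : IsLocallyNoetherian s.ptA.left :=
    inferInstanceAs (IsLocallyNoetherian (Spec (CommRingCat.of s.A)))
  have : IsLocallyNoetherian U.left := LocallyOfFiniteType.isLocallyNoetherian φU.left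
  have hj : LocallyOfFiniteType s.j.left := by
    change LocallyOfFiniteType (Spec.map (CommRingCat.ofHom (algebraMap s.A s.K)))
    rw [HasRingHomProperty.Spec_iff (P := @LocallyOfFiniteType), CommRingCat.hom_ofHom,
      RingHom.finiteType_algebraMap]
    exact finiteType_fractionField s.A s.K
  have hWj : aW ≫ φU = cW ≫ s.j := (yon S).map_injective (by
    rw [Functor.map_comp, Functor.map_comp, hφU, reassoc_of% hsq, pullback.lift_snd])
  have hWj' : aW.left ≫ φU.left = cW.left ≫ s.j.left := congrArg CommaMorphism.left hWj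
  have : LocallyOfFiniteType (aW.left ≫ φU.left) := by rw [hWj']; infer_instance
  have : LocallyOfFiniteType aW.left := locallyOfFiniteType_of_comp aW.left φU.left
  have hne : u ≠ aW.left w := by
    intro e
    have h1 : φU.left (aW.left w) = s.j.left (cW.left w) :=
      congrArg (fun m : _ ⟶ s.ptA.left => m w) hWj'
    rw [← e, huc] at h1
    have h2 := congrArg PrimeSpectrum.asIdeal h1
    obtain ⟨ϖ, hϖ⟩ := IsDiscreteValuationRing.exists_irreducible s.A
    have h3 : ϖ ∈ maximalIdeal s.A := hϖ.not_isUnit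
    have h2' : maximalIdeal s.A = (cW.left w).asIdeal.comap (algebraMap s.A s.K) := h2
    have h4 : ϖ ∈ (cW.left w).asIdeal.comap (algebraMap s.A s.K) := h2' ▸ h3
    refine hϖ.ne_zero (IsFractionRing.injective s.A s.K ?_)
    rw [map_zero]
    by_contra hne'
    exact (cW.left w).isPrime.ne_top (Ideal.eq_top_of_isUnit_mem _ h4 (Ne.isUnit hne'))
  obtain ⟨A', i₂, hA', hic, hi⟩ := DVRVal.exists_dvr_specializes aW.left w u hwu hne
  obtain ⟨ψ, hψ, hsep⟩ := S10283.exists_separable cW.left w
  obtain ⟨φ, hcomm, hloc, hl⟩ := exists_domExt_of_chart s hφU hsq w A' i₂ hi.symm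
    (by rw [← huc, ← hic]) ψ hψ
  exact ⟨_, hA', hsep, hl⟩

/-- Squares with discrete valuation rings lift. -/
def DVRExistVC {X Y : Sp S} (f : X ⟶ Y) : Prop :=
  ∀ s : ValSq f, IsDiscreteValuationRing s.A → s.HasLiftExt

theorem dvrExistVC_of_isPullback {X Y X' Y' : Sp S} {fst : X' ⟶ X} {f' : X' ⟶ Y'} {f : X ⟶ Y}
    {g : Y' ⟶ Y} (sq : IsPullback fst f' f g) (h : DVRExistVC f) : DVRExistVC f' := by
  intro s hs
  let s₀ : ValSq f :=
    { A := s.A, K := s.K, str := s.str, top := s.top ≫ fst, bot := s.bot ≫ g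
      comm := by rw [Category.assoc, sq.w, reassoc_of% s.comm] }
  obtain ⟨e, l, hl₁, hl₂⟩ := h s₀ hs
  refine ⟨{ A' := e.A', K' := e.K', φ := e.φ, ψ := e.ψ, comm := e.comm, isLocalHom := e.isLocalHom },
    sq.lift l ((yon S).map (Over.homMk (Spec.map (CommRingCat.ofHom e.φ)) rfl : e.ptA' ⟶ s.ptA) ≫
      s.bot) ?_, ?_, ?_⟩
  · rw [hl₂]; exact (Category.assoc _ _ _).symm
  · apply sq.hom_ext
    · simp only [Category.assoc, IsPullback.lift_fst]
      exact hl₁
    · simp only [Category.assoc, IsPullback.lift_snd]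
      rw [s.comm, ← Functor.map_comp_assoc, ← Functor.map_comp_assoc]
      congr 2
      ext1
      change Spec.map _ ≫ Spec.map _ = Spec.map _ ≫ Spec.map _
      rw [← Spec.map_comp, ← Spec.map_comp, ← CommRingCat.ofHom_comp, ← CommRingCat.ofHom_comp,
        e.comm]
  · exact sq.lift_snd _ _ _

/-- Lifts of discrete valuation rings give closedness over a noetherian affine target. -/
theorem isClosedMap_of_dvrExistVC {P : Sp S} {T : Over S} [IsAffine T.left]
    [IsLocallyNoetherian T.left] (hP : IsAlgSpace P)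
    [CompactSpace (Points P)] {f : P ⟶ (yon S).obj T} (hf : LocP @LocallyOfFiniteType f)
    (he : DVRExistVC f) : IsClosedMap (Points.map f) := by
  obtain ⟨U, p, hU, hpe, hps⟩ := exists_affine_chart ((isQuasiCompactSp_iff hP).2 inferInstance)
  obtain ⟨φ, hφ⟩ := (yon S).map_surjective (p ≫ f)
  have : LocallyOfFiniteType φ.left :=
    hf p (𝟙 _) φ hpe (repWith_id _ T) (by rw [Category.comp_id, hφ])
  intro C hC
  let hT := Points.schemeHomeo T
  let D : Set U.left := Points.ofPt p ⁻¹' C
  have hpt : ∀ a, Points.map f (Points.ofPt p a) = hT (φ.left a) := fun a => by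
    rw [Points.map_ofPt, ← hφ, ofPt_map_eq]
    rfl
  have himg : Points.map f '' C = hT '' (φ.left '' D) := by
    ext z
    constructor
    · rintro ⟨x, hx, rfl⟩
      obtain ⟨a, rfl⟩ := surjective_ofPt hps x
      exact ⟨φ.left a, ⟨a, hx, rfl⟩, (hpt a).symm⟩
    · rintro ⟨_, ⟨a, ha, rfl⟩, rfl⟩
      exact ⟨_, ha, hpt a⟩
  rw [himg]
  refine hT.isClosedMap _ (isClosed_of_closure_subset fun y hy => ?_)
  have : QuasiCompact φ.left := inferInstance
  obtain ⟨a, ha, hay⟩ := GrpdB.exists_specializes_of_mem_closure_image φ.left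
    (hC.preimage (Points.continuous_ofPt p)) hy
  by_cases hne : y = φ.left a
  · exact ⟨a, ha, hne.symm⟩
  obtain ⟨A, i₂, hA, hic, hi'⟩ := DVRVal.exists_dvr_specializes φ.left a y hay hne
  have hi : U.left.fromSpecResidueField a ≫ φ.left =
      Spec.map (CommRingCat.ofHom (algebraMap A (U.left.residueField a))) ≫ i₂ := hi'.symm
  let r : Over.mk (Spec.map (CommRingCat.ofHom (algebraMap A (U.left.residueField a))) ≫
      i₂ ≫ T.hom) ⟶ U := Over.homMk (U.left.fromSpecResidueField a) (by
        change _ ≫ U.hom = Spec.map _ ≫ i₂ ≫ T.hom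
        rw [← Over.w φ, reassoc_of% hi])
  let b : Over.mk (i₂ ≫ T.hom) ⟶ T := Over.homMk i₂ rfl
  let s : ValSq f :=
    { A := A, K := U.left.residueField a, str := i₂ ≫ T.hom, top := (yon S).map r ≫ p
      bot := (yon S).map b
      comm := by
        rw [Category.assoc, ← hφ, ← Functor.map_comp, ← Functor.map_comp]
        congr 1
        ext1
        exact hi }
  obtain ⟨e, l, hl₁, hl₂⟩ := he s hA
  let c' : e.ptA'.left := closedPoint e.A'
  have hloc := e.isLocalHom
  have hx : Points.ofPt p a ⤳ Points.ofPt l c' := by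
    let g : e.ptK' ⟶ e.ptA' :=
      Over.homMk (Spec.map (CommRingCat.ofHom (algebraMap e.A' e.K'))) rfl
    have h1 : Points.ofPt p a = Points.ofPt l (g.left (closedPoint e.K')) := by
      rw [← ofPt_map_comp g l, hl₁, ofPt_map_comp]
      simp only [s]
      rw [ofPt_map_comp]
      exact congrArg (Points.ofPt p) (Scheme.fromSpecResidueField_apply a _).symm
    rw [h1]
    exact (specializes_closedPoint _).map (Points.continuous_ofPt l)
  have hfy : Points.map f (Points.ofPt l c') = hT y := by
    rw [Points.map_ofPt, hl₂, ofPt_map_comp]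
    simp only [s]
    rw [ofPt_map_eq]
    change hT (i₂ (Spec.map (CommRingCat.ofHom e.φ) (closedPoint e.A'))) = hT y
    rw [← hic]
    exact congrArg (fun z => hT (i₂ z)) (IsLocalRing.comap_closedPoint e.φ)
  obtain ⟨a', ha'⟩ := surjective_ofPt hps (Points.ofPt l c')
  refine ⟨a', ?_, hT.injective ((hpt a').symm.trans (by rw [ha']; exact hfy))⟩
  change Points.ofPt p a' ∈ C
  rw [ha']
  exact hx.mem_closed hC ha

/-- **For a finite type morphism to a locally noetherian space, lifts of discrete valuation rings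
give universal closedness.** -/
theorem isUnivClosedMor_of_dvrExistVC {X Y : Sp S} (hX : IsAlgSpace X) (hY : IsAlgSpace Y)
    {f : X ⟶ Y} (hf : IsFiniteTypeMor f) (hYN : IsLocNoethSp Y) (he : DVRExistVC f) :
    IsUnivClosedMor f := by
  obtain ⟨V, pV, hpe, hps⟩ := hY.atlas
  have : IsLocallyNoetherian V.left := isLocallyNoetherian_of_etale_chart hYN hpe
  refine isUnivClosedMor_of_affineSpace hX hY hf.2 hpe hps fun n P fst snd sq => ?_
  have : IsLocallyNoetherian 𝔸(ULift.{u} (Fin n); V.left) :=
    LocallyOfFiniteType.isLocallyNoetherian (𝔸(ULift.{u} (Fin n); V.left) ↘ V.left)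
  let T : Over S := Over.mk ((𝔸(ULift.{u} (Fin n); V.left) ↘ V.left) ≫ V.hom)
  have hP : IsAlgSpace P := isAlgSpace_baseChange hX hY (IsAlgSpace.yon_obj T) sq
  obtain ⟨κ, Tk, q, haff, hqe, hj⟩ := exists_affine_cover (IsAlgSpace.yon_obj T)
  have sq' := fun k => IsPullback.of_hasPullback snd (q k)
  refine ptsLocal_isClosedMor q snd _ _ _ hj (fun k => isOpenMap_map_of_etale (hqe k)) sq'
    fun k => ?_
  have := haff k
  obtain ⟨t, ht⟩ := (yon S).map_surjective (q k)
  have : Etale t.left := (repWith_yon_map_iff _ t).1 (ht ▸ hqe k)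
  have : IsLocallyNoetherian T.left :=
    inferInstanceAs (IsLocallyNoetherian 𝔸(ULift.{u} (Fin n); V.left))
  have : IsLocallyNoetherian (Tk k).left := LocallyOfFiniteType.isLocallyNoetherian t.left
  have sqk := (sq' k).paste_horiz sq
  have := compactSpace_yon_of_affine (Tk k)
  have : CompactSpace (Points (pullback snd (q k))) :=
    compactSpace_of_isQuasiCompactMor hX hY hf.2 (IsAlgSpace.yon_obj _) sqk
  exact isClosedMap_of_dvrExistVC (isAlgSpace_baseChange hX hY (IsAlgSpace.yon_obj _) sqk)
    (isFiniteTypeMor_of_isPullback hX hY (IsAlgSpace.yon_obj _) sqk hf).1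
    (dvrExistVC_of_isPullback sqk he)

end Groth.Agent.AlgSpace
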