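import Groth.Agent.Lib.ValSq12.Chain
import Mathlib.RingTheory.MvPolynomial.Basic
import Mathlib.RingTheory.Localization.FractionRing
import Mathlib.RingTheory.Localization.AtPrime.Basic
import Mathlib.RingTheory.Valuation.LocalSubring
import Mathlib.RingTheory.LocalRing.ResidueField.Basic

/-!
# Extending valuation rings
-/

universe u

set_option linter.unusedVariables false

open IsLocalRing

namespace Groth.Agent.AlgSpace

/-- A local ring is dominated by a valuation ring with prescribed residue field extension. -/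
theorem exists_valuationRing_residue {A : Type u} [CommRing A] [IsDomain A] [IsLocalRing A]
    {Ω : Type u} [Field Ω] (θ : A →+* Ω) [IsLocalHom θ] :
    ∃ (K₃ : Type u) (_ : Field K₃) (A₃ : ValuationSubring K₃) (φ : A →+* A₃)
      (ω : Ω →+* ResidueField A₃),
      IsLocalHom φ ∧ Function.Injective φ ∧ ω.comp θ = (residue A₃).comp φ := by
  classical
  let R := MvPolynomial Ω A
  let χ : R →+* Ω := MvPolynomial.eval₂Hom θ id
  have hχ : Function.Surjective χ := fun x => ⟨MvPolynomial.X x, MvPolynomial.eval₂Hom_X' θ id x⟩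
  let P : Ideal R := RingHom.ker χ
  have hP : P.IsPrime := RingHom.ker_isPrime χ
  let F := FractionRing R
  have hu : ∀ y : P.primeCompl, IsUnit (algebraMap R F y) := fun y =>
    isUnit_iff_ne_zero.2 fun h => y.2 (by
      have h0 : (y : R) = 0 := IsFractionRing.injective R F (by rw [h, map_zero])
      rw [h0]; exact P.zero_mem)
  let j : Localization.AtPrime P →+* F := IsLocalization.lift hu
  obtain ⟨A₃, hA₃, hl⟩ := exists_factor_valuationRing j
  let j₃ := j.codRestrict A₃.toSubring hA₃
  let μ : R →+* A₃ := j₃.comp (algebraMap R (Localization.AtPrime P))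
  have hμ : ∀ r, IsUnit (μ r) ↔ r ∉ P := by
    intro r
    rw [show μ r = j₃ (algebraMap R (Localization.AtPrime P) r) from rfl]
    refine ⟨fun h => ?_, fun h => (IsLocalization.AtPrime.isUnit_to_map_iff _ P r |>.2 h).map j₃⟩
    exact (IsLocalization.AtPrime.isUnit_to_map_iff _ P r).1 (hl.map_nonunit _ h)
  have hker : RingHom.ker χ ≤ RingHom.ker ((residue A₃).comp μ) := fun r hr => by
    rw [RingHom.mem_ker, RingHom.comp_apply, residue_eq_zero_iff, IsLocalRing.mem_maximalIdeal,
      mem_nonunits_iff, hμ]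
    exact fun h => h hr
  refine ⟨F, inferInstance, A₃, μ.comp MvPolynomial.C,
    RingHom.liftOfSurjective χ hχ ⟨(residue A₃).comp μ, hker⟩, ⟨fun a ha => ?_⟩, ?_, ?_⟩
  · have h1 := (hμ _).1 ha
    refine IsUnit.of_map θ a (isUnit_iff_ne_zero.2 fun h0 => h1 ?_)
    show χ (MvPolynomial.C a) = 0
    exact (MvPolynomial.eval₂Hom_C θ id a).trans h0
  · intro a b h
    refine MvPolynomial.C_injective Ω A (IsFractionRing.injective R F ?_)
    have h' : ∀ r, ((μ r : A₃) : F) = algebraMap R F r := fun r => IsLocalization.lift_eq hu r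
    rw [← h', ← h']
    exact congrArg Subtype.val h
  · ext a
    have h1 := RingHom.liftOfRightInverse_comp_apply χ (Function.surjInv hχ)
      (Function.rightInverse_surjInv hχ) ⟨(residue A₃).comp μ, hker⟩ (MvPolynomial.C a)
    have h2 : χ (MvPolynomial.C a) = θ a := MvPolynomial.eval₂Hom_C θ id a
    rw [h2] at h1
    exact h1

/-- The composite of a valuation ring with a valuation ring of its residue field. -/
theorem exists_composite_ring {K : Type u} [Field K] (A : ValuationSubring K)
    (R1 : ValuationSubring (ResidueField A)) :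
    ∃ B : ValuationSubring K, ∀ z, z ∈ B ↔ ∃ hz : z ∈ A, residue A ⟨z, hz⟩ ∈ R1 := by
  let Bset : Subring K := ((R1.toSubring.comap (residue A)).map A.subtype)
  have hBmem : ∀ z, z ∈ Bset ↔ ∃ hz : z ∈ A, residue A ⟨z, hz⟩ ∈ R1 := by
    intro z
    constructor
    · rintro ⟨⟨z, hz⟩, hz', rfl⟩
      exact ⟨hz, hz'⟩
    · rintro ⟨hz, hz'⟩
      exact ⟨⟨z, hz⟩, hz', rfl⟩
  refine ⟨{ Bset with
      mem_or_inv_mem' := fun z => ?_ }, hBmem⟩
  show z ∈ Bset ∨ z⁻¹ ∈ Bset
  rw [hBmem, hBmem]
  by_cases hz0 : z = 0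
  · subst hz0
    exact Or.inl ⟨A.zero_mem, by
      rw [show (⟨0, A.zero_mem⟩ : A) = 0 from rfl, map_zero]; exact R1.zero_mem⟩
  by_cases hzA : z ∈ A
  · by_cases hr : residue A ⟨z, hzA⟩ ∈ R1
    · exact Or.inl ⟨hzA, hr⟩
    · have hne : residue A ⟨z, hzA⟩ ≠ 0 := fun h0 => hr (h0 ▸ R1.zero_mem)
      obtain ⟨⟨w, hw⟩, hw'⟩ := ((residue_ne_zero_iff_isUnit _).1 hne).exists_right_inv
      have hwz : w = z⁻¹ := eq_inv_of_mul_eq_one_right (congrArg Subtype.val hw')
      subst hwz
      refine Or.inr ⟨hw, ?_⟩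
      have h1 : residue A ⟨z, hzA⟩ * residue A ⟨z⁻¹, hw⟩ = 1 := by
        rw [← map_mul, hw', map_one]
      rw [eq_inv_of_mul_eq_one_right h1]
      exact (R1.mem_or_inv_mem _).resolve_left hr
  · have hzi : z⁻¹ ∈ A := (A.mem_or_inv_mem z).resolve_left hzA
    refine Or.inr ⟨hzi, ?_⟩
    have : residue A ⟨z⁻¹, hzi⟩ = 0 := by
      rw [residue_eq_zero_iff, IsLocalRing.mem_maximalIdeal, mem_nonunits_iff]
      intro hu'
      obtain ⟨⟨w, hw⟩, hw'⟩ := hu'.exists_right_inv
      have : w = z :=
        (eq_inv_of_mul_eq_one_right (congrArg Subtype.val hw')).trans (inv_inv z)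
      exact hzA (this ▸ hw)
    rw [this]
    exact R1.zero_mem

/-- An extension of a composite valuation ring localises to an extension of the outer one. -/
theorem exists_ext_localization {K K' : Type u} [Field K] [Field K'] {A B : ValuationSubring K}
    (hBA : B ≤ A) (hmax : ∀ z : A, z ∈ maximalIdeal A → (z : K) ∈ B) {B' : Type u} [CommRing B']
    [IsDomain B'] [ValuationRing B'] [Algebra B' K'] [IsFractionRing B' K'] (φ : B →+* B')
    [IsLocalHom φ] (ψ : K →+* K')
    (comm : (algebraMap B' K').comp φ = ψ.comp B.subtype) :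
    ∃ (A' : ValuationSubring K') (φ' : A →+* A') (ι : B' →+* A'),
      IsLocalHom φ' ∧ A'.subtype.comp φ' = ψ.comp A.subtype ∧ A'.subtype.comp ι = algebraMap B' K' ∧
      ι.comp φ = φ'.comp (ValuationSubring.inclusion B A hBA) := by
  have hinj : Function.Injective φ := fun x y hxy => by
    have h := congrArg (fun t : B →+* K' => (t x, t y)) comm
    simp only [RingHom.comp_apply, Prod.mk.injEq] at h
    exact Subtype.ext (ψ.injective (by rw [← B.subtype_apply, ← B.subtype_apply, ← h.1, ← h.2, hxy]))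
  let m : Ideal B := (maximalIdeal A).comap (ValuationSubring.inclusion B A hBA)
  have hm : m.IsPrime := Ideal.IsPrime.comap _
  obtain ⟨p, hp⟩ : ∃ p : PrimeSpectrum B', PrimeSpectrum.comap φ p = ⟨m, hm⟩ := by
    algebraize [φ]
    have : Module.Flat B B' := ValSq12.flat_of_injective hinj
    have : Module.FaithfullyFlat B B' := Module.FaithfullyFlat.of_flat_of_isLocalHom
    exact PrimeSpectrum.comap_surjective_of_faithfullyFlat ⟨m, hm⟩
  have hu : ∀ y : p.asIdeal.primeCompl, IsUnit (algebraMap B' K' y) := fun y =>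
    isUnit_iff_ne_zero.2 fun h => y.2 (by
      have h0 : (y : B') = 0 := IsFractionRing.injective B' K' (by rw [h, map_zero])
      rw [h0]; exact p.asIdeal.zero_mem)
  let j : Localization.AtPrime p.asIdeal →+* K' := IsLocalization.lift hu
  obtain ⟨A', hA', hl⟩ := exists_factor_valuationRing j
  let ι : B' →+* A' :=
    (j.codRestrict A'.toSubring hA').comp (algebraMap B' (Localization.AtPrime p.asIdeal))
  have hι : ∀ b, ((ι b : A') : K') = algebraMap B' K' b := fun b => IsLocalization.lift_eq hu b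
  have hιu : ∀ b : B', IsUnit (ι b) ↔ b ∉ p.asIdeal := by
    intro b
    refine ⟨fun h => (IsLocalization.AtPrime.isUnit_to_map_iff _ p.asIdeal b).1 (hl.map_nonunit _ h),
      fun h => (IsLocalization.AtPrime.isUnit_to_map_iff (Localization.AtPrime p.asIdeal) p.asIdeal b
        |>.2 h).map (j.codRestrict A'.toSubring hA')⟩
  have hφp : ∀ b : B, φ b ∈ p.asIdeal ↔ ValuationSubring.inclusion B A hBA b ∈ maximalIdeal A :=
    fun b => iff_of_eq (congrArg (fun q : PrimeSpectrum B => b ∈ q.asIdeal) hp)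
  have hιφ : ∀ b : B, ((ι (φ b) : A') : K') = ψ b := fun b => by
    rw [hι]; exact congrArg (fun t : B →+* K' => t b) comm
  have hmem : ∀ z : A, ψ z ∈ A' := by
    intro z
    rcases B.mem_or_inv_mem (z : K) with hz | hz
    · rw [← hιφ ⟨z, hz⟩]; exact (ι _).2
    · by_cases h0 : (z : K) = 0
      · rw [h0, map_zero]; exact A'.zero_mem
      have hnp : φ ⟨(z : K)⁻¹, hz⟩ ∉ p.asIdeal := by
        rw [hφp, IsLocalRing.mem_maximalIdeal, mem_nonunits_iff, not_not]
        exact IsUnit.of_mul_eq_one _ (show _ * z = 1 from Subtype.ext (inv_mul_cancel₀ h0))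
      obtain ⟨⟨w, hw⟩, hw'⟩ := ((hιu _).2 hnp).exists_right_inv
      have h1 := congrArg (fun t : A' => (t : K')) hw'
      simp only [MulMemClass.coe_mul, hιφ, OneMemClass.coe_one, map_inv₀] at h1
      have : ψ z = w := by
        have hne : ψ z ≠ 0 := (map_ne_zero ψ).2 h0
        field_simp at h1
        exact h1.symm
      rw [this]; exact hw
  let φ' : A →+* A' := (ψ.comp A.subtype).codRestrict A'.toSubring hmem
  have hι' : ι.comp φ = φ'.comp (ValuationSubring.inclusion B A hBA) :=
    RingHom.ext fun b => Subtype.ext (hιφ b)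
  refine ⟨A', φ', ι, ⟨fun z hz => ?_⟩, RingHom.ext fun _ => rfl, RingHom.ext hι, hι'⟩
  by_contra hnu
  have hzm : z ∈ maximalIdeal A := hnu
  have h2 : φ' z = ι (φ ⟨z, hmax z hzm⟩) := Subtype.ext (hιφ ⟨z, hmax z hzm⟩).symm
  rw [h2, hιu] at hz
  exact hz ((hφp _).2 hzm)

end Groth.Agent.AlgSpace
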