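import Groth.Agent.Lib.AlgSpace.ValClosed
import Groth.Agent.Lib.ValSq12.Chain
import Mathlib.AlgebraicGeometry.Morphisms.SchemeTheoreticallyDominant
import Mathlib.AlgebraicGeometry.Morphisms.LocalFlatDescent
import Mathlib.CategoryTheory.Sites.RegularEpi

/-!
# Lifts after an extension descend for separated morphisms
-/

universe u

set_option backward.isDefEq.respectTransparency.types false
set_option linter.unusedVariables false

open CategoryTheory CategoryTheory.Limits AlgebraicGeometry Opposite IsLocalRing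

namespace Groth.Agent.AlgSpace

open AlgSp Groth.Agent.AlgSpDecent

attribute [local simp] pullback.lift_fst pullback.lift_snd limit.lift_π

variable {S : Scheme.{u}}

lemma schDom_SpecMap {A B : CommRingCat.{u}} (φ : A ⟶ B) (h : Function.Injective φ) :
    IsSchemeTheoreticallyDominant (Spec.map φ) := by
  refine ⟨Scheme.IdealSheafData.ext_of_isAffine ?_⟩
  rw [Scheme.Hom.ker_apply]
  simp only [Scheme.IdealSheafData.ideal_bot, Pi.bot_apply]
  exact (RingHom.injective_iff_ker_eq_bot _).1 (injective_appTop_SpecMap φ h)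

lemma schDom_of_comp {X Y Z : Scheme.{u}} (a : X ⟶ Y) (b : Y ⟶ Z)
    [IsSchemeTheoreticallyDominant (a ≫ b)] : IsSchemeTheoreticallyDominant b :=
  ⟨le_bot_iff.1 ((Scheme.Hom.le_ker_comp a b).trans (a ≫ b).ker_eq_bot.le)⟩

lemma ker_comp_of_schDom {X Y Z : Scheme.{u}} (a : X ⟶ Y) (b : Y ⟶ Z)
    [IsSchemeTheoreticallyDominant a] : (a ≫ b).ker = b.ker := by
  rw [Scheme.Hom.ker_comp, a.ker_eq_bot, Scheme.IdealSheafData.map_bot]

/-- Two maps into a separated space agreeing on a schematically dense part agree. -/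
theorem eq_of_schDom {X Y : Sp S} {f : X ⟶ Y} (hf : IsSeparatedMor f) {T' T : Over S}
    (q : T' ⟶ T) [IsSchemeTheoreticallyDominant q.left]
    (a b : (yon S).obj T ⟶ X) (h : a ≫ f = b ≫ f)
    (hq' : (yon S).map q ≫ a = (yon S).map q ≫ b) : a = b := by
  let ξ : (yon S).obj T ⟶ pullback f f := pullback.lift a b h
  have sq := hf.1.isPullback ξ
  have : IsClosedImmersion (hf.1.snd ξ).left := hf.2 ξ _ _ sq
  obtain ⟨w, hw⟩ := (yon S).map_surjective
    (sq.lift ((yon S).map q ≫ a) ((yon S).map q) (by
      apply pullback.hom_ext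
      · simp [ξ]
      · simp [ξ, hq']))
  have hwq : w ≫ hf.1.snd ξ = q := (yon S).map_injective (by
    rw [Functor.map_comp, hw, IsPullback.lift_snd])
  have hwl : w.left ≫ (hf.1.snd ξ).left = q.left := congrArg CommaMorphism.left hwq
  have : IsSchemeTheoreticallyDominant (w.left ≫ (hf.1.snd ξ).left) := hwl ▸ ‹_›
  have : IsSchemeTheoreticallyDominant (hf.1.snd ξ).left := schDom_of_comp w.left _
  have h' : IsIso (hf.1.snd ξ).left :=
    IsClosedImmersion.isIso_iff_ker_eq_bot.2 (Scheme.Hom.ker_eq_bot (hf.1.snd ξ).left)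
  have : IsIso ((Over.forget S).map (hf.1.snd ξ)) := h'
  have : IsIso (hf.1.snd ξ) := isIso_of_reflects_iso _ (Over.forget S)
  have h1 := sq.w =≫ pullback.fst f f
  have h2 := sq.w =≫ pullback.snd f f
  simp [ξ] at h1 h2
  rw [← cancel_epi ((yon S).map (hf.1.snd ξ)), ← h1, ← h2]

/-- The map to the schematic image of an affine scheme is schematically dominant. -/
lemma schDom_toImage {X Y : Scheme.{u}} [IsAffine Y] (f : X ⟶ Y) [QuasiCompact f] :
    IsSchemeTheoreticallyDominant f.toImage := by
  have : IsAffine f.image := isAffine_of_isAffineHom f.imageι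
  refine ⟨Scheme.IdealSheafData.ext_of_isAffine ?_⟩
  rw [Scheme.Hom.ker_apply]
  simp only [Scheme.IdealSheafData.ideal_bot, Pi.bot_apply]
  rw [eq_bot_iff]
  intro x hx
  obtain ⟨c, rfl⟩ := (IsClosedImmersion.isAffine_surjective_of_isAffine f.imageι).2 x
  have h1 : c ∈ f.ker.ideal ⟨⊤, isAffineOpen_top Y⟩ := by
    rw [Scheme.Hom.ker_apply, RingHom.mem_ker]
    have h2 := congr_arg (fun t : Γ(Y, ⊤) ⟶ Γ(X, ⊤) => t c)
      ((Scheme.Hom.comp_appTop f.toImage f.imageι).symm.trans
        (congrArg Scheme.Hom.appTop f.toImage_imageι))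
    exact h2.symm.trans hx
  rw [← f.ker.ker_subschemeι, Scheme.Hom.ker_apply, RingHom.mem_ker] at h1
  exact h1

section Cat

variable {C : Type*} [Category C] [HasPullbacks C]

lemma isPullback_map_fst {L D Z A : C} {δ : D ⟶ Z} {q : L ⟶ D} {k : L ⟶ Z} (hk : q ≫ δ = k)
    {a : A ⟶ Z} {r : pullback k a ⟶ pullback δ a}
    (h₁ : r ≫ pullback.fst δ a = pullback.fst k a ≫ q)
    (h₂ : r ≫ pullback.snd δ a = pullback.snd k a) :
    IsPullback r (pullback.fst k a) (pullback.fst δ a) q := by
  subst hk
  exact (IsPullback.of_bot (by rw [h₂]; exact IsPullback.of_hasPullback (q ≫ δ) a) h₁.symm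
    (IsPullback.of_hasPullback δ a)).flip

lemma isPullback_map_snd {L D Z A : C} {δ : D ⟶ Z} {q : L ⟶ D} {k : L ⟶ Z} (hk : q ≫ δ = k)
    {a : A ⟶ Z} {r : pullback a k ⟶ pullback a δ}
    (h₁ : r ≫ pullback.snd a δ = pullback.snd a k ≫ q)
    (h₂ : r ≫ pullback.fst a δ = pullback.fst a k) :
    IsPullback r (pullback.snd a k) (pullback.snd a δ) q := by
  subst hk
  exact (IsPullback.of_bot (by rw [h₂]; exact (IsPullback.of_hasPullback a (q ≫ δ)).flip) h₁.symm
    (IsPullback.of_hasPullback a δ).flip).flip

end Cat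

/-- Maps into a sheaf descend along surjective etale maps. -/
theorem exists_desc_of_etale {D T : Over S} (δ : D ⟶ T) [Etale δ.left] [Surjective δ.left]
    {P : Sp S} (d : (yon S).obj D ⟶ P)
    (h : (yon S).map (pullback.fst δ δ) ≫ d = (yon S).map (pullback.snd δ δ) ≫ d) :
    ∃ d₀, (yon S).map δ ≫ d₀ = d := by
  have := isLocallySurjective_of_etale (a := (yon S).map δ)
    ((repWith_yon_map_iff @Etale δ).2 inferInstance) ((repWith_yon_map_iff @Surjective δ).2 inferInstance)
  have : Epi ((yon S).map δ) := Sheaf.epi_of_isLocallySurjective' _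
  have : IsRegularEpi ((yon S).map δ) := IsRegularEpiCategory.regularEpiOfEpi _
  obtain ⟨φ, hφ⟩ := (IsRegularEpi.getStruct ((yon S).map δ)).desc' d (hom_ext_yon fun V t => by
    obtain ⟨x, hx⟩ := (yon S).map_surjective (t ≫ (IsRegularEpi.getStruct ((yon S).map δ)).left)
    obtain ⟨y, hy⟩ := (yon S).map_surjective (t ≫ (IsRegularEpi.getStruct ((yon S).map δ)).right)
    have hxy : x ≫ δ = y ≫ δ := (yon S).map_injective (by
      rw [Functor.map_comp, Functor.map_comp, hx, hy, Category.assoc, Category.assoc,
        (IsRegularEpi.getStruct ((yon S).map δ)).w])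
    rw [← Category.assoc, ← Category.assoc, ← hx, ← hy, ← pullback.lift_fst x y hxy,
      Functor.map_comp_assoc, h, ← Functor.map_comp_assoc, pullback.lift_snd])
  exact ⟨φ, hφ⟩

set_option maxHeartbeats 1000000 in
/-- A separated space over a valuation ring with a generic point and, after an extension, a
section extending it has such a section. -/
theorem exists_section_of_ext {X Y : Sp S} {f : X ⟶ Y} (sq : ValSq f) (e : sq.DomExt) {P : Sp S}
    {g : P ⟶ (yon S).obj sq.ptA} (hP : IsAlgSpace P) (hsep : IsSeparatedMor g)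
    (ψK : e.ptK' ⟶ sq.ptK) (hψ : ψK.left = Spec.map (CommRingCat.ofHom e.ψ))
    (xK : (yon S).obj sq.ptK ⟶ P) (hxK : xK ≫ g = (yon S).map sq.j)
    (b : (yon S).obj e.ptA' ⟶ P)
    (hb : b ≫ g = (yon S).map (Over.homMk (Spec.map (CommRingCat.ofHom e.φ)) rfl : e.ptA' ⟶ sq.ptA))
    (hbK : (yon S).map (Over.homMk (Spec.map (CommRingCat.ofHom (algebraMap e.A' e.K'))) rfl :
      e.ptK' ⟶ e.ptA') ≫ b = (yon S).map ψK ≫ xK) :
    ∃ l : (yon S).obj sq.ptA ⟶ P, (yon S).map sq.j ≫ l = xK ∧ l ≫ g = 𝟙 _ := by
  set j : sq.ptK ⟶ sq.ptA := sq.j with hj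
  let a : e.ptA' ⟶ sq.ptA := Over.homMk (Spec.map (CommRingCat.ofHom e.φ)) rfl
  let j' : e.ptK' ⟶ e.ptA' :=
    Over.homMk (Spec.map (CommRingCat.ofHom (algebraMap e.A' e.K'))) rfl
  have := e.isLocalHom
  have hφinj : Function.Injective e.φ := fun x y hxy => by
    refine IsFractionRing.injective sq.A sq.K (e.ψ.injective ?_)
    have := congrArg (fun t : sq.A →+* e.K' => (t x, t y)) e.comm
    simp only [RingHom.comp_apply, Prod.mk.injEq] at this
    rw [← this.1, ← this.2, hxy]
  have hff : Flat a.left ∧ Surjective a.left := by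
    algebraize [e.φ]
    have : Module.Flat sq.A e.A' := ValSq12.flat_of_injective hφinj
    have : Module.FaithfullyFlat sq.A e.A' := Module.FaithfullyFlat.of_flat_of_isLocalHom
    exact ⟨(HasRingHomProperty.Spec_iff (P := @Flat)).2 ‹Module.Flat sq.A e.A'›,
      ⟨PrimeSpectrum.comap_surjective_of_faithfullyFlat⟩⟩
  have := hff.1
  have := hff.2
  have : IsAffine sq.ptA.left := inferInstanceAs (IsAffine (Spec _))
  have : IsAffine sq.ptK.left := inferInstanceAs (IsAffine (Spec _))
  have : IsAffine e.ptA'.left := inferInstanceAs (IsAffine (Spec _))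
  have hjd : IsSchemeTheoreticallyDominant j.left :=
    schDom_SpecMap _ (IsFractionRing.injective sq.A sq.K)
  have : IsSchemeTheoreticallyDominant j'.left :=
    schDom_SpecMap _ (IsFractionRing.injective e.A' e.K')
  have : QuasiCompact j'.left := inferInstanceAs (QuasiCompact (Spec.map _))
  have : QuasiCompact j.left := inferInstanceAs (QuasiCompact (Spec.map _))
  have : IsPreimmersion j.left :=
    IsPreimmersion.of_isLocalization (S := sq.K) (nonZeroDivisors sq.A)
  have hjmono : Mono ((Over.forget S).map j) := inferInstanceAs (Mono j.left)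
  have : Mono j := (Over.forget S).mono_of_mono_map hjmono
  have : Flat j.left := by
    have : Module.Flat sq.A sq.K := IsLocalization.flat sq.K (nonZeroDivisors sq.A)
    exact (HasRingHomProperty.Spec_iff (P := @Flat)).2 (RingHom.flat_algebraMap_iff.2 this)
  have hM : (yon S).map (pullback.fst j a) ≫ xK = (yon S).map (pullback.snd j a) ≫ b := by
    have sqN := IsPullback.of_hasPullback (pullback.snd j a) j'
    have hψj : ψK ≫ j = j' ≫ a := by
      ext1
      change ψK.left ≫ Spec.map _ = Spec.map _ ≫ Spec.map _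
      rw [hψ, ← Spec.map_comp, ← Spec.map_comp, ← CommRingCat.ofHom_comp,
        ← CommRingCat.ofHom_comp]
      exact congrArg (fun t => Spec.map (CommRingCat.ofHom t)) e.comm.symm
    let q : e.ptK' ⟶ pullback j a := pullback.lift ψK j' hψj
    have hfac : pullback.fst (pullback.snd j a) j' =
        pullback.snd (pullback.snd j a) j' ≫ q := by
      apply pullback.hom_ext
      · rw [← cancel_mono j]
        simp only [Category.assoc, q, pullback.lift_fst, pullback.condition]
        rw [hψj, ← pullback.condition_assoc]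
      · simp only [Category.assoc, q, pullback.lift_snd]
        exact pullback.condition
    have : Flat (pullback.snd j a).left := MorphismProperty.of_isPullback
      ((IsPullback.of_hasPullback j a).map (Over.forget S)) (inferInstanceAs (Flat j.left))
    have h1 : IsSchemeTheoreticallyDominant (pullback.fst (pullback.snd j a) j').left :=
      IsSchemeTheoreticallyDominant.of_isPullback
        (f := j'.left) (g := (pullback.snd j a).left) (sqN.map (Over.forget S)).flip
    rw [hfac, Over.comp_left] at h1
    have : IsSchemeTheoreticallyDominant q.left :=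
      schDom_of_comp (pullback.snd (pullback.snd j a) j').left _
    refine eq_of_schDom hsep q _ _ ?_ ?_
    · rw [Category.assoc, Category.assoc, hxK, hb, ← Functor.map_comp, ← Functor.map_comp,
        pullback.condition]
    · rw [← Functor.map_comp_assoc, ← Functor.map_comp_assoc, pullback.lift_fst, pullback.lift_snd]
      exact hbK.symm
  obtain ⟨U, p, hU, hpe, u, hu⟩ :=
    exists_affine_chart_at hP (Points.ofPt b (closedPoint e.A'))
  obtain ⟨φU, hφU⟩ := (yon S).map_surjective (p ≫ g)
  -- the fibre over the extended valuation ring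
  obtain ⟨T, cT, fT, sqT⟩ := (Functor.relativelyRepresentable.of_diag hP.diag p) b
  obtain ⟨aT, rfl⟩ := (yon S).map_surjective fT
  have : Etale cT.left := hpe.2 _ _ _ sqT
  have hcTs : Surjective cT.left := ⟨fun t => by
    obtain ⟨v, -, hv⟩ := exists_pt_of_isPullback sqT (x := Points.ofScheme U u)
      (t := closedPoint e.A') (by rw [← Points.ofPt_eq_map_ofScheme]; exact hu)
    exact (specializes_closedPoint (R := e.A') t).mem_open cT.left.isOpenMap.isOpen_range ⟨v, hv⟩⟩
  have hTQ : aT ≫ φU = cT ≫ a := (yon S).map_injective (by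
    rw [Functor.map_comp, Functor.map_comp, hφU, reassoc_of% sqT.w, hb])
  -- the fibre over the generic point
  obtain ⟨L, cL, fL, sqL⟩ := (Functor.relativelyRepresentable.of_diag hP.diag p) xK
  obtain ⟨aL, rfl⟩ := (yon S).map_surjective fL
  have : Etale cL.left := hpe.2 _ _ _ sqL
  have hLQ : aL ≫ φU = cL ≫ j := (yon S).map_injective (by
    rw [Functor.map_comp, Functor.map_comp, hφU, reassoc_of% sqL.w, hxK])
  -- closed immersions into the chart
  have hclT : IsClosedImmersion (pullback.lift aT cT hTQ).left := by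
    have sqQ : IsPullback ((yon S).map (pullback.fst φU a)) ((yon S).map (pullback.snd φU a))
        (p ≫ g) (b ≫ g) := by rw [← hφU, hb]; exact (IsPullback.of_hasPullback φU a).map (yon S)
    exact hsep.2 _ _ _ (isPullback_diagonal_pair g sqT sqQ
      (L := (yon S).map (pullback.lift aT cT hTQ))
      (by rw [← Functor.map_comp, pullback.lift_fst]) (by rw [← Functor.map_comp, pullback.lift_snd]))
  have hclL : IsClosedImmersion (pullback.lift aL cL hLQ).left := by
    have sqQ : IsPullback ((yon S).map (pullback.fst φU j)) ((yon S).map (pullback.snd φU j))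
        (p ≫ g) (xK ≫ g) := by rw [← hφU, hxK]; exact (IsPullback.of_hasPullback φU j).map (yon S)
    exact hsep.2 _ _ _ (isPullback_diagonal_pair g sqL sqQ
      (L := (yon S).map (pullback.lift aL cL hLQ))
      (by rw [← Functor.map_comp, pullback.lift_fst]) (by rw [← Functor.map_comp, pullback.lift_snd]))
  have : IsAffine L.left := by
    have e0 := ((IsPullback.of_hasPullback φU j).map (Over.forget S)).isoPullback
    have : IsAffine ((Over.forget S).obj U) := hU
    have : IsAffine ((Over.forget S).obj sq.ptA) := inferInstanceAs (IsAffine (Spec _))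
    have : IsAffine ((Over.forget S).obj sq.ptK) := inferInstanceAs (IsAffine (Spec _))
    have : IsAffine (pullback φU j).left := IsAffine.of_isIso e0.hom
    exact isAffine_of_isAffineHom (pullback.lift aL cL hLQ).left
  -- the schematic closure of the generic fibre
  have : QuasiCompact aL.left := inferInstance
  let D : Over S := Over.mk (aL.left.imageι ≫ U.hom)
  let ι : D ⟶ U := Over.homMk aL.left.imageι rfl
  let q : L ⟶ D := Over.homMk aL.left.toImage (by
    change aL.left.toImage ≫ aL.left.imageι ≫ U.hom = _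
    rw [Scheme.Hom.toImage_imageι_assoc, Over.w])
  let δ : D ⟶ sq.ptA := ι ≫ φU
  have hqι : q ≫ ι = aL := Over.OverMorphism.ext aL.left.toImage_imageι
  have hqδ : q ≫ δ = cL ≫ j := by rw [← Category.assoc, hqι, hLQ]
  have : IsSchemeTheoreticallyDominant q.left := schDom_toImage aL.left
  have : QuasiCompact q.left := inferInstanceAs (QuasiCompact aL.left.toImage)
  -- compare with the fibre over the extension
  let W : Over S := pullback (cL ≫ j) a
  have hWM : (yon S).map (pullback.fst (cL ≫ j) a ≫ aL) ≫ p =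
      (yon S).map (pullback.snd (cL ≫ j) a) ≫ b := by
    let m : W ⟶ pullback j a := pullback.lift (pullback.fst (cL ≫ j) a ≫ cL)
      (pullback.snd (cL ≫ j) a) (by rw [Category.assoc]; exact pullback.condition)
    have := congrArg ((yon S).map m ≫ ·) hM
    simp only [← Functor.map_comp_assoc, m, pullback.lift_fst, pullback.lift_snd] at this
    rw [← this, Functor.map_comp_assoc, sqL.w, Functor.map_comp_assoc]
  obtain ⟨ρ, hρ⟩ := (yon S).map_surjective (sqT.lift _ _ hWM)
  have hρ₁ : ρ ≫ aT = pullback.fst (cL ≫ j) a ≫ aL := (yon S).map_injective (by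
    rw [Functor.map_comp, hρ, IsPullback.lift_fst])
  have hρ₂ : ρ ≫ cT = pullback.snd (cL ≫ j) a := (yon S).map_injective (by
    rw [Functor.map_comp, hρ, IsPullback.lift_snd])
  have : IsSchemeTheoreticallyDominant ρ.left := by
    let TK := pullback (cT ≫ a) j
    have hT' : (yon S).map (pullback.fst (cT ≫ a) j ≫ aT) ≫ p =
        (yon S).map (pullback.snd (cT ≫ a) j) ≫ xK := by
      let m : TK ⟶ pullback j a := pullback.lift (pullback.snd (cT ≫ a) j)
        (pullback.fst (cT ≫ a) j ≫ cT) (by rw [Category.assoc]; exact pullback.condition.symm)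
      have := congrArg ((yon S).map m ≫ ·) hM
      simp only [← Functor.map_comp_assoc, m, pullback.lift_fst, pullback.lift_snd] at this
      rw [this, Functor.map_comp_assoc, sqT.w, Functor.map_comp_assoc]
    obtain ⟨l, hl⟩ := (yon S).map_surjective (sqL.lift _ _ hT')
    have hl₁ : l ≫ aL = pullback.fst (cT ≫ a) j ≫ aT := (yon S).map_injective (by
      rw [Functor.map_comp, hl, IsPullback.lift_fst])
    have hl₂ : l ≫ cL = pullback.snd (cT ≫ a) j := (yon S).map_injective (by
      rw [Functor.map_comp, hl, IsPullback.lift_snd])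
    let w : TK ⟶ W := pullback.lift l (pullback.fst (cT ≫ a) j ≫ cT)
      (by rw [reassoc_of% hl₂, Category.assoc]; exact pullback.condition.symm)
    have hwρ : w ≫ ρ = pullback.fst (cT ≫ a) j := (yon S).map_injective (by
      apply sqT.hom_ext
      · rw [← Functor.map_comp, ← Functor.map_comp, Category.assoc, hρ₁]
        simp only [w, pullback.lift_fst_assoc, hl₁]
      · rw [← Functor.map_comp, ← Functor.map_comp, Category.assoc, hρ₂]
        simp [w])
    have : Flat (cT ≫ a).left := inferInstanceAs (Flat (cT.left ≫ a.left))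
    have h1 : IsSchemeTheoreticallyDominant (pullback.fst (cT ≫ a) j).left :=
      IsSchemeTheoreticallyDominant.of_isPullback
        (f := j.left) (g := (cT ≫ a).left)
        ((IsPullback.of_hasPullback (cT ≫ a) j).map (Over.forget S)).flip
    rw [← hwρ, Over.comp_left] at h1
    exact schDom_of_comp w.left _
  let qB : W ⟶ pullback δ a := pullback.map (cL ≫ j) a δ a q (𝟙 _) (𝟙 _) (by simp [hqδ]) (by simp)
  have : IsSchemeTheoreticallyDominant qB.left := by
    have sqb : IsPullback qB (pullback.fst (cL ≫ j) a) (pullback.fst δ a) q :=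
      isPullback_map_fst hqδ (by simp [qB]) (by simp [qB])
    have : Flat (pullback.fst δ a).left := MorphismProperty.of_isPullback
      ((IsPullback.of_hasPullback δ a).map (Over.forget S)).flip (inferInstanceAs (Flat a.left))
    exact IsSchemeTheoreticallyDominant.of_isPullback (f := q.left)
      (g := (pullback.fst δ a).left) (sqb.map (Over.forget S)).flip
  let iD : pullback δ a ⟶ pullback φU a :=
    pullback.map δ a φU a ι (𝟙 _) (𝟙 _) (by simp [δ]) (by simp)
  let iT : T ⟶ pullback φU a := pullback.lift aT cT hTQ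
  have : IsClosedImmersion iD.left := by
    have sqi : IsPullback iD (pullback.fst δ a) (pullback.fst φU a) ι :=
      isPullback_map_fst (k := δ) rfl (by simp [iD]) (by simp [iD])
    exact MorphismProperty.of_isPullback (P := @IsClosedImmersion)
      (sqi.map (Over.forget S)).flip (inferInstanceAs (IsClosedImmersion aL.left.imageι))
  have hcomm : qB ≫ iD = ρ ≫ iT := by
    apply pullback.hom_ext
    · simp [qB, iD, iT, hρ₁, hqι, pullback.lift_fst_assoc]
    · simp [qB, iD, iT, hρ₂]
  have hker : iD.left.ker = iT.left.ker := by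
    rw [← ker_comp_of_schDom qB.left iD.left, ← ker_comp_of_schDom ρ.left iT.left,
      ← Over.comp_left, ← Over.comp_left, hcomm]
  have : IsIso (IsClosedImmersion.lift iD.left iT.left hker.le) := IsClosedImmersion.isIso_lift _ _ hker
  let e₀ := IsClosedImmersion.lift iD.left iT.left hker.le
  have he₀ : e₀ ≫ (pullback.snd δ a).left = cT.left := by
    have h1 : (pullback.snd δ a).left = iD.left ≫ (pullback.snd φU a).left := by
      rw [← Over.comp_left]; simp [iD]
    rw [h1, IsClosedImmersion.lift_fac_assoc, ← Over.comp_left]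
    simp [iT]
  have hDe : Etale (pullback.snd δ a).left :=
    (MorphismProperty.cancel_left_of_respectsIso @Etale e₀ _).1 (he₀ ▸ ‹Etale cT.left›)
  have hDs : Surjective (pullback.snd δ a).left :=
    (MorphismProperty.cancel_left_of_respectsIso @Surjective e₀ _).1 (he₀ ▸ hcTs)
  have sqD := (IsPullback.of_hasPullback δ a).map (Over.forget S)
  have : Etale δ.left := MorphismProperty.of_isPullback_of_descendsAlong
    (Q := @Surjective ⊓ @Flat ⊓ @QuasiCompact) sqD.flip
    ⟨⟨inferInstanceAs (Surjective a.left), inferInstanceAs (Flat a.left)⟩,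
      inferInstanceAs (QuasiCompact a.left)⟩ hDe
  have : Surjective δ.left := by
    have h : Surjective ((pullback.fst δ a).left ≫ δ.left) := by
      rw [← Over.comp_left, pullback.condition, Over.comp_left]
      infer_instance
    exact Surjective.of_comp (pullback.fst δ a).left δ.left
  -- descend
  let d : (yon S).obj D ⟶ P := (yon S).map ι ≫ p
  have hqd : (yon S).map q ≫ d = (yon S).map cL ≫ xK := by
    rw [← Functor.map_comp_assoc, hqι, sqL.w]
  obtain ⟨d₀, hd₀⟩ := exists_desc_of_etale δ d (by
    have hcLd : ∀ {Z : Over S} (x y : Z ⟶ L), x ≫ cL ≫ j = y ≫ cL ≫ j →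
        (yon S).map x ≫ (yon S).map q ≫ d = (yon S).map y ≫ (yon S).map q ≫ d := fun x y h => by
      have hxy : x ≫ cL = y ≫ cL := (cancel_mono j).1 (by simpa using h)
      rw [hqd, ← Functor.map_comp_assoc, ← Functor.map_comp_assoc, hxy]
    -- a schematically dominant map from `L ×_A L`
    let r₁ : pullback (cL ≫ j) δ ⟶ pullback δ δ :=
      pullback.map _ _ _ _ q (𝟙 _) (𝟙 _) (by simp [hqδ]) (by simp)
    let r₂ : pullback (cL ≫ j) (cL ≫ j) ⟶ pullback (cL ≫ j) δ :=
      pullback.map _ _ _ _ (𝟙 _) q (𝟙 _) (by simp) (by simp [hqδ])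
    have : Flat (cL ≫ j).left := inferInstanceAs (Flat (cL.left ≫ j.left))
    have : IsSchemeTheoreticallyDominant r₁.left := by
      have s1 : IsPullback r₁ (pullback.fst (cL ≫ j) δ) (pullback.fst δ δ) q :=
        isPullback_map_fst hqδ (by simp [r₁]) (by simp [r₁])
      have : Flat (pullback.fst δ δ).left := MorphismProperty.of_isPullback
        ((IsPullback.of_hasPullback δ δ).map (Over.forget S)).flip (inferInstanceAs (Flat δ.left))
      exact IsSchemeTheoreticallyDominant.of_isPullback (f := q.left)
        (g := (pullback.fst δ δ).left) (s1.map (Over.forget S)).flip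
    have : IsSchemeTheoreticallyDominant r₂.left := by
      have s1 : IsPullback r₂ (pullback.snd (cL ≫ j) (cL ≫ j)) (pullback.snd (cL ≫ j) δ) q :=
        isPullback_map_snd hqδ (by simp [r₂]) (by simp [r₂])
      have : Flat (pullback.snd (cL ≫ j) δ).left := MorphismProperty.of_isPullback
        ((IsPullback.of_hasPullback (cL ≫ j) δ).map (Over.forget S))
        (inferInstanceAs (Flat (cL ≫ j).left))
      exact IsSchemeTheoreticallyDominant.of_isPullback (f := q.left)
        (g := (pullback.snd (cL ≫ j) δ).left) (s1.map (Over.forget S)).flip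
    have : IsSchemeTheoreticallyDominant (r₂ ≫ r₁).left :=
      inferInstanceAs (IsSchemeTheoreticallyDominant (r₂.left ≫ r₁.left))
    refine eq_of_schDom hsep (r₂ ≫ r₁) _ _ ?_ ?_
    · simp only [d, Category.assoc, ← hφU, ← Functor.map_comp]
      exact congrArg (yon S).map (pullback.condition (f := δ) (g := δ))
    · have e1 : (r₂ ≫ r₁) ≫ pullback.fst δ δ = pullback.fst (cL ≫ j) (cL ≫ j) ≫ q := by
        simp [r₁, r₂, pullback.lift_fst_assoc]
      have e2 : (r₂ ≫ r₁) ≫ pullback.snd δ δ = pullback.snd (cL ≫ j) (cL ≫ j) ≫ q := by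
        simp [r₁, r₂, pullback.lift_snd_assoc]
      calc (yon S).map (r₂ ≫ r₁) ≫ (yon S).map (pullback.fst δ δ) ≫ d
          = (yon S).map ((r₂ ≫ r₁) ≫ pullback.fst δ δ) ≫ d :=
            ((yon S).map_comp_assoc _ _ _).symm
        _ = (yon S).map (pullback.fst (cL ≫ j) (cL ≫ j)) ≫ (yon S).map q ≫ d := by
            rw [e1, Functor.map_comp_assoc]
        _ = (yon S).map (pullback.snd (cL ≫ j) (cL ≫ j)) ≫ (yon S).map q ≫ d :=
            hcLd _ _ pullback.condition
        _ = (yon S).map ((r₂ ≫ r₁) ≫ pullback.snd δ δ) ≫ d := by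
            rw [e2, Functor.map_comp_assoc]
        _ = (yon S).map (r₂ ≫ r₁) ≫ (yon S).map (pullback.snd δ δ) ≫ d :=
            (yon S).map_comp_assoc _ _ _)
  have hd₀g : d₀ ≫ g = 𝟙 _ := by
    have : Epi ((yon S).map δ) := by
      have := isLocallySurjective_of_etale (a := (yon S).map δ)
        ((repWith_yon_map_iff @Etale δ).2 inferInstance)
        ((repWith_yon_map_iff @Surjective δ).2 inferInstance)
      exact Sheaf.epi_of_isLocallySurjective' _
    rw [← cancel_epi ((yon S).map δ), reassoc_of% hd₀, Category.assoc, ← hφU, ← Functor.map_comp,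
      Category.comp_id]
  have : Nonempty L.left := by
    obtain ⟨z, -⟩ := (inferInstance : Surjective δ.left).surj (closedPoint sq.A)
    have : IsDominant q.left := inferInstance
    exact ((Dense.nonempty_iff q.left.denseRange).2 ⟨z⟩).elim fun _ h => ⟨h.choose⟩
  have : Surjective cL.left := by
    refine ⟨fun z => ?_⟩
    obtain ⟨t⟩ := ‹Nonempty L.left›
    exact ⟨t, @Subsingleton.elim _ (inferInstanceAs (Subsingleton (PrimeSpectrum sq.K))) _ _⟩
  have : IsSchemeTheoreticallyDominant cL.left := by
    have : IsReduced sq.ptK.left := inferInstanceAs (IsReduced (Spec _))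
    exact IsSchemeTheoreticallyDominant.of_isDominant _
  refine ⟨d₀, eq_of_schDom hsep cL _ _ ?_ ?_, hd₀g⟩
  · rw [hxK, Category.assoc, hd₀g, Category.comp_id]
  · rw [← hqd, ← Functor.map_comp_assoc, ← hqδ, Functor.map_comp_assoc, hd₀]

/-- **For a separated morphism a lift after an extension gives a lift.** -/
theorem hasLift_of_domExt {X Y : Sp S} (hX : IsAlgSpace X) (hY : IsAlgSpace Y) {f : X ⟶ Y}
    (hf : IsSeparatedMor f) (sq : ValSq f) (e : sq.DomExt) (he : e.HasLift) : sq.HasLift := by
  obtain ⟨l', h₁, h₂⟩ := he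
  have sqP := IsPullback.of_hasPullback f sq.bot
  let a : e.ptA' ⟶ sq.ptA := Over.homMk (Spec.map (CommRingCat.ofHom e.φ)) rfl
  let ψK : e.ptK' ⟶ sq.ptK := Over.homMk (Spec.map (CommRingCat.ofHom e.ψ)) (by
    change Spec.map _ ≫ Spec.map _ ≫ _ = Spec.map _ ≫ Spec.map _ ≫ _
    rw [← Spec.map_comp_assoc, ← Spec.map_comp_assoc, ← CommRingCat.ofHom_comp,
      ← CommRingCat.ofHom_comp, e.comm])
  obtain ⟨l, hl₁, hl₂⟩ := exists_section_of_ext sq e (g := pullback.snd f sq.bot)
    (isAlgSpace_baseChange hX hY (IsAlgSpace.yon_obj _) sqP) (isSeparatedMor_of_isPullback sqP hf)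
    ψK rfl (pullback.lift sq.top ((yon S).map sq.j) sq.comm) (pullback.lift_snd _ _ _)
    (pullback.lift l' ((yon S).map a) h₂) (pullback.lift_snd _ _ _) (by
      apply pullback.hom_ext
      · simp only [Category.assoc, pullback.lift_fst]
        exact h₁
      · simp only [Category.assoc, pullback.lift_snd, ← Functor.map_comp]
        congr 1
        ext1
        change Spec.map _ ≫ Spec.map _ = Spec.map _ ≫ Spec.map _
        rw [← Spec.map_comp, ← Spec.map_comp, ← CommRingCat.ofHom_comp, ← CommRingCat.ofHom_comp,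
          e.comm])
  refine ⟨l ≫ pullback.fst f sq.bot, ?_, ?_⟩
  · rw [reassoc_of% hl₁, pullback.lift_fst]
  · rw [Category.assoc, pullback.condition, reassoc_of% hl₂]

end Groth.Agent.AlgSpace
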