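import Groth.Agent.Lib.AlgSpace.ValClosed
import Groth.Agent.Lib.AlgSpace.ValExtend
import Groth.Agent.Lib.AlgSpace.PointsBC
import Mathlib.AlgebraicGeometry.PullbackCarrier

/-!
# The refined valuative criterion
-/

universe u

set_option backward.isDefEq.respectTransparency.types false
set_option linter.unusedVariables false

open CategoryTheory CategoryTheory.Limits AlgebraicGeometry Opposite IsLocalRing

namespace Groth.Agent.AlgSpace

open AlgSp Groth.Agent.AlgSpDecent

attribute [local simp] pullback.lift_fst pullback.lift_snd limit.lift_π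

variable {S : Scheme.{u}}

/-- Closedness over an affine target follows from lifting of specializations. -/
theorem isClosedMap_of_specializations {P : Sp S} {T : Over S} [IsAffine T.left] (hP : IsAlgSpace P)
    [CompactSpace (Points P)] {f : P ⟶ (yon S).obj T}
    (h : ∀ (x : Points P) (t y : T.left), Points.map f x = Points.schemeHomeo T t → t ⤳ y →
      ∃ x', x ⤳ x' ∧ Points.map f x' = Points.schemeHomeo T y) :
    IsClosedMap (Points.map f) := by
  obtain ⟨U, p, hU, hpe, hps⟩ := exists_affine_chart ((isQuasiCompactSp_iff hP).2 inferInstance)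
  obtain ⟨φ, hφ⟩ := (yon S).map_surjective (p ≫ f)
  intro C hC
  let hT := Points.schemeHomeo T
  have hpt : ∀ a, Points.map f (Points.ofPt p a) = hT (φ.left a) := fun a => by
    rw [Points.map_ofPt, ← hφ, ofPt_map_eq]
    rfl
  have himg : Points.map f '' C = hT '' (φ.left '' (Points.ofPt p ⁻¹' C)) := by
    ext z
    constructor
    · rintro ⟨x, hx, rfl⟩
      obtain ⟨a, rfl⟩ := surjective_ofPt hps x
      exact ⟨φ.left a, ⟨a, hx, rfl⟩, (hpt a).symm⟩
    · rintro ⟨_, ⟨a, ha, rfl⟩, rfl⟩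
      exact ⟨_, ha, hpt a⟩
  rw [himg]
  refine hT.isClosedMap _ (isClosed_of_closure_subset fun y hy => ?_)
  have : QuasiCompact φ.left := inferInstance
  obtain ⟨a, ha, hay⟩ := GrpdB.exists_specializes_of_mem_closure_image φ.left
    (hC.preimage (Points.continuous_ofPt p)) hy
  obtain ⟨x', hx, hfy⟩ := h (Points.ofPt p a) (φ.left a) y (hpt a) hay
  obtain ⟨a', rfl⟩ := surjective_ofPt hps x'
  exact ⟨a', hx.mem_closed hC ha, hT.injective ((hpt a').symm.trans hfy)⟩

/-- A dense quasi-compact source provides a valuation ring centred at any point. -/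
theorem exists_valuationRing_of_dense {U X : Sp S} (hU : IsAlgSpace U) (hX : IsAlgSpace X) {h : U ⟶ X}
    (hh : IsQuasiCompactMor h) (hd : DenseRange (Points.map h)) {V : Over S} [IsAffine V.left]
    {pV : (yon S).obj V ⟶ X} (hpV : RepWith @Etale pV) (v₀ : V.left) :
    ∃ (K₁ : Type u) (_ : Field K₁) (A₁ : ValuationSubring K₁)
      (i : Spec (CommRingCat.of A₁) ⟶ V.left),
      i (closedPoint A₁) = v₀ ∧
      ∃ t : (yon S).obj (Over.mk (Spec.map (CommRingCat.ofHom A₁.subtype) ≫ i ≫ V.hom)) ⟶ U,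
        t ≫ h = (yon S).map (Over.homMk (Spec.map (CommRingCat.ofHom A₁.subtype) ≫ i)
          (Category.assoc _ _ _)) ≫ pV := by
  have sq := IsPullback.of_hasPullback h pV
  have := compactSpace_yon_of_affine V
  have : CompactSpace (Points (pullback h pV)) :=
    compactSpace_of_isQuasiCompactMor hU hX hh (IsAlgSpace.yon_obj V) sq
  have hUV := isAlgSpace_baseChange hU hX (IsAlgSpace.yon_obj V) sq
  obtain ⟨U', q, hU', hqe, hqs⟩ := exists_affine_chart ((isQuasiCompactSp_iff hUV).2 inferInstance)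
  obtain ⟨π, hπ⟩ := (yon S).map_surjective (q ≫ pullback.snd h pV)
  have hv : v₀ ∈ closure (π.left '' Set.univ) := by
    refine closure_mono (fun v hv => ?_)
      ((isOpenMap_ofPt pV hpV).preimage_closure_subset_closure_preimage
        (show v₀ ∈ Points.ofPt pV ⁻¹' closure (Set.range (Points.map h)) from hd _))
    obtain ⟨x, hx⟩ := hv
    obtain ⟨w, -, hw⟩ := exists_point_lift sq x (Points.ofScheme V v)
      (by rw [← Points.ofPt_eq_map_ofScheme]; exact hx)
    obtain ⟨a, rfl⟩ := surjective_ofPt hqs w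
    rw [Points.map_ofPt, ← hπ, ofPt_map_eq] at hw
    exact ⟨a, trivial, (Points.schemeEquiv V).injective hw⟩
  obtain ⟨a, -, ha⟩ := GrpdB.exists_specializes_of_mem_closure_image π.left isClosed_univ hv
  obtain ⟨A₁, i, hi, hic⟩ := ValSq12.exists_square π.left ha
  let r : Over.mk (Spec.map (CommRingCat.ofHom A₁.subtype) ≫ i ≫ V.hom) ⟶ U' :=
    Over.homMk (U'.left.fromSpecResidueField a) (by
      change _ ≫ U'.hom = Spec.map _ ≫ i ≫ V.hom
      rw [← Over.w π, reassoc_of% hi]
      rfl)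
  refine ⟨U'.left.residueField a, inferInstance, A₁, i, hic,
    (yon S).map r ≫ q ≫ pullback.fst h pV, ?_⟩
  rw [Category.assoc, Category.assoc, pullback.condition, ← reassoc_of% hπ, ← Functor.map_comp_assoc]
  congr 2
  ext1
  exact hi

/-- Two field extensions amalgamate. -/
theorem exists_amalgam {F k L : Type u} [Field F] [Field k] [Field L] (a : F →+* k) (b : F →+* L) :
    ∃ (Ω : Type u) (_ : Field Ω) (α : k →+* Ω) (β : L →+* Ω), α.comp a = β.comp b :=
  FieldPt.exists_amalgamation a b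

lemma exists_factor_residueField {R : Type u} [CommRing R] [IsLocalRing R] {X : Scheme.{u}} (m : Spec (CommRingCat.of R) ⟶ X)
    {K : Type u} [Field K] (θ : R →+* K) [IsLocalHom θ] {x : X} (hx : m (closedPoint R) = x) :
    ∃ ρ : X.residueField x ⟶ CommRingCat.of K,
      Spec.map ρ ≫ X.fromSpecResidueField x = Spec.map (CommRingCat.ofHom θ) ≫ m := by
  subst hx
  let m' := Spec.map (CommRingCat.ofHom θ) ≫ m
  have hpt : m' (closedPoint K) = m (closedPoint R) := by
    rw [Scheme.Hom.comp_apply]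
    exact congrArg _ (IsLocalRing.comap_closedPoint θ)
  rw [← hpt]
  exact ⟨Scheme.descResidueField (Scheme.stalkClosedPointTo m'),
    Scheme.descResidueField_stalkClosedPointTo_fromSpecResidueField K X m'⟩

/-- A composite valuation ring realising a point and a specialisation of its image. -/
structure RefinedDatum {U X Y P : Sp S} {T : Over S} (h : U ⟶ X) (f : X ⟶ Y)
    (g : (yon S).obj T ⟶ Y) (fst : P ⟶ X) (snd : P ⟶ (yon S).obj T) (x : Points P) (y : T.left) :
    Type (u + 1) where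
  K : Type u
  [field : Field K]
  A : ValuationSubring K
  B₃ : ValuationSubring (ResidueField A)
  B : ValuationSubring K
  hBA : B ≤ A
  mem_B : ∀ z, z ∈ B ↔ ∃ hz : z ∈ A, residue A ⟨z, hz⟩ ∈ B₃
  rB : B →+* B₃
  rB_coe : B₃.subtype.comp rB = (residue A).comp (ValuationSubring.inclusion B A hBA)
  str : Spec (CommRingCat.of B) ⟶ S
  bot : (yon S).obj (Over.mk str) ⟶ Y
  v : (yon S).obj (Over.mk
    (Spec.map (CommRingCat.ofHom (ValuationSubring.inclusion B A hBA)) ≫ str)) ⟶ X
  v_comp : v ≫ f = (yon S).map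
    (Over.homMk (Spec.map (CommRingCat.ofHom (ValuationSubring.inclusion B A hBA))) rfl :
      Over.mk (Spec.map (CommRingCat.ofHom (ValuationSubring.inclusion B A hBA)) ≫ str) ⟶
        Over.mk str) ≫ bot
  gen : (yon S).obj (Over.mk (Spec.map (CommRingCat.ofHom B.subtype) ≫ str)) ⟶ U
  gen_comp : gen ≫ h = (yon S).map (Over.homMk (Spec.map (CommRingCat.ofHom A.subtype))
      ((Category.assoc _ _ _).symm.trans (congrArg (· ≫ str) (Spec.map_comp _ _).symm)) :
    Over.mk (Spec.map (CommRingCat.ofHom B.subtype) ≫ str) ⟶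
      Over.mk (Spec.map (CommRingCat.ofHom (ValuationSubring.inclusion B A hBA)) ≫ str)) ≫ v
  bT : Over.mk (Spec.map (CommRingCat.ofHom rB) ≫ str) ⟶ T
  bT_comp : (yon S).map bT ≫ g = (yon S).map
    (Over.homMk (Spec.map (CommRingCat.ofHom rB)) rfl :
      Over.mk (Spec.map (CommRingCat.ofHom rB) ≫ str) ⟶ Over.mk str) ≫ bot
  bT_closed : bT.left (closedPoint B₃) = y
  pt : (yon S).obj (Over.mk (Spec.map (CommRingCat.ofHom (residue A)) ≫
    Spec.map (CommRingCat.ofHom (ValuationSubring.inclusion B A hBA)) ≫ str)) ⟶ P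
  pt_fst : pt ≫ fst = (yon S).map
    (Over.homMk (Spec.map (CommRingCat.ofHom (residue A))) rfl :
      Over.mk (Spec.map (CommRingCat.ofHom (residue A)) ≫
        Spec.map (CommRingCat.ofHom (ValuationSubring.inclusion B A hBA)) ≫ str) ⟶
      Over.mk (Spec.map (CommRingCat.ofHom (ValuationSubring.inclusion B A hBA)) ≫ str)) ≫ v
  pt_snd : pt ≫ snd = (yon S).map
    ((Over.homMk (Spec.map (CommRingCat.ofHom B₃.subtype)) (by
        change Spec.map _ ≫ Spec.map _ ≫ _ = Spec.map _ ≫ Spec.map _ ≫ _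
        rw [← Spec.map_comp_assoc, ← Spec.map_comp_assoc, ← CommRingCat.ofHom_comp, rB_coe,
          CommRingCat.ofHom_comp]) :
      Over.mk (Spec.map (CommRingCat.ofHom (residue A)) ≫
        Spec.map (CommRingCat.ofHom (ValuationSubring.inclusion B A hBA)) ≫ str) ⟶
      Over.mk (Spec.map (CommRingCat.ofHom rB) ≫ str)) ≫ bT)
  pt_eq : x = Points.ofPt pt (closedPoint (ResidueField A))

attribute [instance] RefinedDatum.field

set_option maxHeartbeats 1000000 in
/-- Existence of the composite valuation ring. -/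
theorem exists_refinedDatum {U X Y : Sp S} (hU : IsAlgSpace U) (hX : IsAlgSpace X)
    (hY : IsAlgSpace Y) {f : X ⟶ Y} {h : U ⟶ X} (hh : IsQuasiCompactMor h)
    (hd : DenseRange (Points.map h))
    {T : Over S} {g : (yon S).obj T ⟶ Y} {P : Sp S} {fst : P ⟶ X} {snd : P ⟶ (yon S).obj T}
    (sqP : IsPullback fst snd f g) (x : Points P) (t y : T.left)
    (hxt : Points.map snd x = Points.schemeHomeo T t) (hty : t ⤳ y) :
    Nonempty (RefinedDatum h f g fst snd x y) := by
  -- a chart of `Y` near the target point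
  obtain ⟨W, pW, hW, hpWe, w₀, hw₀⟩ := exists_affine_chart_at hY (Points.ofPt g y)
  obtain ⟨TW, cT, fT, sqT⟩ := (Functor.relativelyRepresentable.of_diag hY.diag pW) g
  obtain ⟨wT, rfl⟩ := (yon S).map_surjective fT
  have : Etale cT.left := hpWe.2 _ _ _ sqT
  obtain ⟨y', -, hy'⟩ := exists_pt_of_isPullback sqT (x := Points.ofScheme W w₀) (t := y)
    (by rw [← Points.ofPt_eq_map_ofScheme]; exact hw₀)
  obtain ⟨s, hs, hst⟩ : ∃ s, s ⤳ y' ∧ cT.left s = t :=
    Flat.generalizingMap cT.left (by rw [hy']; exact hty)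
  -- a chart of `X` and a field over both
  obtain ⟨V, pV, hV, hpVe, v₀, hv₀⟩ := exists_affine_chart_at hX (Points.map fst x)
  have sq₁ := IsPullback.of_hasPullback snd ((yon S).map cT)
  obtain ⟨z₁, hz₁, hz₁'⟩ := exists_point_lift sq₁ x (Points.schemeHomeo TW s) (by
    rw [hxt, Points.map_yon_map_apply, hst])
  have sq₂ := IsPullback.of_hasPullback (pullback.fst snd ((yon S).map cT) ≫ fst) pV
  obtain ⟨z₂, hz₂, hz₂'⟩ := exists_point_lift sq₂ z₁ (Points.ofScheme V v₀) (by
    rw [Points.map_comp, hz₁, ← Points.ofPt_eq_map_ofScheme, hv₀])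
  induction z₂ using Points.ind with
  | h p =>
  let pt := p.pt
  let ρ := p.toHom
  obtain ⟨lS, hlS⟩ := (yon S).map_surjective
    (ρ ≫ pullback.fst (pullback.fst snd ((yon S).map cT) ≫ fst) pV ≫ pullback.snd snd ((yon S).map cT))
  obtain ⟨lV, hlV⟩ := (yon S).map_surjective
    (ρ ≫ pullback.snd (pullback.fst snd ((yon S).map cT) ≫ fst) pV)
  let lP := ρ ≫ pullback.fst (pullback.fst snd ((yon S).map cT) ≫ fst) pV ≫
    pullback.fst snd ((yon S).map cT)
  have hlPV : (yon S).map lV ≫ pV = lP ≫ fst := by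
    rw [hlV, Category.assoc, ← sq₂.w]; simp [lP]
  have hlPS : (yon S).map (lS ≫ cT) = lP ≫ snd := by
    rw [Functor.map_comp, hlS]; simp [lP, sq₁.w]
  have hx : x = Points.ofPt lP (closedPoint p.K) := by
    rw [← hz₁, ← hz₂, ← Points.ofPt_toHom p (closedPoint p.K), Points.map_ofPt, Points.map_ofPt]
    simp [lP, ρ]
  have hsL : lS.left (closedPoint p.K) = s := by
    refine (Points.schemeHomeo TW).injective ?_
    rw [← hz₁', ← hz₂, ← Points.ofPt_toHom p (closedPoint p.K), Points.map_ofPt, Points.map_ofPt,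
      Category.assoc, ← hlS, ofPt_map_eq]
    rfl
  have hvL : lV.left (closedPoint p.K) = v₀ := by
    refine (Points.schemeHomeo V).injective ?_
    have := hz₂'
    rw [← Points.ofPt_toHom p (closedPoint p.K), Points.map_ofPt, ← hlV, ofPt_map_eq] at this
    exact this
  -- a valuation ring reaching `v₀` from `U`
  obtain ⟨K₁, _, A₁, i, hic, t₁, ht₁⟩ := exists_valuationRing_of_dense hU hX hh hd hpVe v₀
  -- move it to the chart of `Y`
  obtain ⟨Q, qV, fQ, sqQ⟩ := (Functor.relativelyRepresentable.of_diag hY.diag pW) (pV ≫ f)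
  obtain ⟨qW, rfl⟩ := (yon S).map_surjective fQ
  have : Etale qV.left := hpWe.2 _ _ _ sqQ
  have hcW : (yon S).map (lS ≫ wT) ≫ pW = (yon S).map lV ≫ pV ≫ f := by
    rw [Functor.map_comp_assoc, sqT.w, ← Functor.map_comp_assoc, hlPS, reassoc_of% hlPV,
      Category.assoc, sqP.w]
  obtain ⟨lQ, hlQ⟩ := (yon S).map_surjective (sqQ.lift _ _ hcW)
  have hlQ₁ : lQ ≫ qW = lS ≫ wT := (yon S).map_injective (by
    rw [Functor.map_comp, hlQ, IsPullback.lift_fst])
  have hlQ₂ : lQ ≫ qV = lV := (yon S).map_injective (by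
    rw [Functor.map_comp, hlQ, IsPullback.lift_snd])
  let q₀ : Q.left := lQ.left (closedPoint p.K)
  have hq₀ : qV.left q₀ = v₀ := by
    rw [← hvL, ← hlQ₂]; rfl
  obtain ⟨r₀, hr₀, hr₀'⟩ := Scheme.Pullback.exists_preimage_pullback (f := qV.left) (g := i) q₀
    (closedPoint A₁) (by rw [hq₀, hic])
  let g₁ : Spec (CommRingCat.of A₁) := Spec.map (CommRingCat.ofHom A₁.subtype) (closedPoint K₁)
  obtain ⟨r₁, hr₁, hr₁'⟩ : ∃ r₁, r₁ ⤳ r₀ ∧ pullback.snd qV.left i r₁ = g₁ :=
    Flat.generalizingMap (pullback.snd qV.left i) (by rw [hr₀']; exact specializes_closedPoint g₁)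
  obtain ⟨A₂, i₂, hi₂, hi₂c⟩ := ValSq12.exists_square (𝟙 (pullback qV.left i)) (x := r₁) (y := r₀) hr₁
  rw [Category.comp_id] at hi₂
  let mQ : Spec (CommRingCat.of A₂) ⟶ Q.left := i₂ ≫ pullback.fst qV.left i
  have hmQ : mQ (closedPoint A₂) = q₀ := by
    rw [Scheme.Hom.comp_apply, hi₂c, hr₀]
  obtain ⟨ρ₂, hρ₂⟩ := exists_factor_residueField mQ (residue A₂) hmQ
  obtain ⟨ρL, hρL⟩ := exists_factor_residueField lQ.left (RingHom.id p.K) (x := q₀) rfl
  obtain ⟨Ω, _, α, β, hαβ⟩ := exists_amalgam ρ₂.hom ρL.hom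
  have : IsLocalHom (α.comp (residue A₂)) := RingHom.isLocalHom_comp _ _
  obtain ⟨K₃, _, A₃, φ₃, ω, hφ₃l, hφ₃i, hω⟩ := exists_valuationRing_residue (α.comp (residue A₂))
  let r₃ : CommRingCat.of A₃ ⟶ CommRingCat.of (ResidueField A₃) := CommRingCat.ofHom (residue A₃)
  let a₃ : Spec (CommRingCat.of A₃) ⟶ Q.left := Spec.map (CommRingCat.ofHom φ₃) ≫ mQ
  let lk : Spec (CommRingCat.of (ResidueField A₃)) ⟶ pt.left :=
    Spec.map (CommRingCat.ofHom (ω.comp β))
  have ha₃ : Spec.map r₃ ≫ a₃ = lk ≫ lQ.left := by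
    have e : CommRingCat.ofHom φ₃ ≫ r₃ =
        CommRingCat.ofHom (residue A₂) ≫ CommRingCat.ofHom (ω.comp α) := by
      ext1; exact (hω.symm.trans (RingHom.comp_assoc _ _ _).symm)
    have e' : ρ₂ ≫ CommRingCat.ofHom (ω.comp α) = ρL ≫ CommRingCat.ofHom (ω.comp β) := by
      ext1; exact (RingHom.comp_assoc _ _ _).trans ((congrArg ω.comp hαβ).trans (RingHom.comp_assoc _ _ _).symm)
    simp only [a₃, lk]
    rw [← Spec.map_comp_assoc, e, Spec.map_comp, Category.assoc, ← hρ₂, ← Spec.map_comp_assoc, e',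
      Spec.map_comp, Category.assoc, hρL]
    simp
  -- the valuation ring on the `T` side
  let mT : Spec (CommRingCat.of (ResidueField A₃)) ⟶ TW.left := lk ≫ lS.left
  have hmT : mT (closedPoint (ResidueField A₃)) ⤳ y' := by
    rw [Scheme.Hom.comp_apply]
    have : lk (closedPoint (ResidueField A₃)) = closedPoint p.K := Subsingleton.elim (α := PrimeSpectrum p.K) _ _
    rw [this, hsL]; exact hs
  obtain ⟨αT, hαT⟩ := ValSq12.exists_fromSpecStalk_fac mT hmT
  obtain ⟨B₃, hB₃, hB₃l⟩ := exists_factor_valuationRing αT.hom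
  let αB : TW.left.presheaf.stalk y' ⟶ CommRingCat.of B₃ :=
    CommRingCat.ofHom (αT.hom.codRestrict B₃.toSubring hB₃)
  let bT : Spec (CommRingCat.of B₃) ⟶ TW.left := Spec.map αB ≫ TW.left.fromSpecStalk y'
  have hbT : Spec.map (CommRingCat.ofHom B₃.subtype) ≫ bT = mT := by
    rw [← hαT]; simp only [bT]; rw [← Spec.map_comp_assoc]; rfl
  have hbTc : bT (closedPoint B₃) = y' := by
    rw [Scheme.Hom.comp_apply]
    have : Spec.map αB (closedPoint B₃) = closedPoint (TW.left.presheaf.stalk y') :=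
      @comap_closedPoint _ _ _ B₃ _ _ αB.hom hB₃l
    rw [this, Scheme.fromSpecStalk_closedPoint]
  -- the composite valuation ring and its map to `W`
  obtain ⟨B, hB⟩ := exists_composite_ring A₃ B₃
  have hBA : B ≤ A₃ := fun z hz => ((hB z).1 hz).1
  have hmax : ∀ z : A₃, z ∈ maximalIdeal A₃ → (z : K₃) ∈ B := fun z hz =>
    (hB _).2 ⟨z.2, by rw [(residue_eq_zero_iff z).2 hz]; exact B₃.zero_mem⟩
  let rB : B →+* B₃ := ((residue A₃).comp (ValuationSubring.inclusion B A₃ hBA)).codRestrict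
    B₃.toSubring fun b => ((hB b).1 b.2).2
  have hrB : Function.Surjective rB := by
    rintro ⟨z, hz⟩
    obtain ⟨⟨w, hw⟩, rfl⟩ := residue_surjective z
    exact ⟨⟨w, (hB w).2 ⟨hw, hz⟩⟩, rfl⟩
  let a₃W := Spec.preimage (a₃ ≫ qW.left ≫ W.left.isoSpec.hom)
  let bW := Spec.preimage (bT ≫ wT.left ≫ W.left.isoSpec.hom)
  have hab : a₃W ≫ r₃ = bW ≫ CommRingCat.ofHom B₃.subtype := Spec.map_injective (by
    simp only [Spec.map_comp, a₃W, bW, Spec.map_preimage]
    rw [reassoc_of% ha₃, reassoc_of% hbT]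
    simp only [mT, Category.assoc]
    have := congrArg CommaMorphism.left hlQ₁
    simp only [Over.comp_left] at this
    rw [reassoc_of% this])
  let aB : Γ(W.left, ⊤) ⟶ CommRingCat.of B :=
    CommRingCat.ofHom ((A₃.subtype.comp a₃W.hom).codRestrict B.toSubring fun c =>
      (hB _).2 ⟨(a₃W.hom c).2, by
        have := congrArg (fun m : Γ(W.left, ⊤) ⟶ CommRingCat.of (ResidueField A₃) => m c) hab
        show residue A₃ (a₃W.hom c) ∈ B₃
        rw [show residue A₃ (a₃W.hom c) = _ from this]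
        exact (bW.hom c).2⟩)
  let mW : Spec (CommRingCat.of B) ⟶ W.left := Spec.map aB ≫ W.left.isoSpec.inv
  let incl : CommRingCat.of B ⟶ CommRingCat.of A₃ :=
    CommRingCat.ofHom (ValuationSubring.inclusion B A₃ hBA)
  have hmW₁ : Spec.map incl ≫ mW = a₃ ≫ qW.left := by
    simp only [mW]
    rw [← Spec.map_comp_assoc, show aB ≫ incl = a₃W from rfl, Spec.map_preimage]
    simp
  have hmW₂ : Spec.map (CommRingCat.ofHom rB) ≫ mW = bT ≫ wT.left := by
    simp only [mW]
    rw [← Spec.map_comp_assoc, show aB ≫ CommRingCat.ofHom rB = bW from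
      CommRingCat.hom_ext (RingHom.ext fun c => Subtype.ext
        (congrArg (fun m : Γ(W.left, ⊤) ⟶ CommRingCat.of (ResidueField A₃) => m c) hab)), Spec.map_preimage]
    simp
  -- the square
  let str := mW ≫ W.hom
  let kB : CommRingCat.of B ⟶ CommRingCat.of K₃ := CommRingCat.ofHom B.subtype
  let k₃ : CommRingCat.of A₃ ⟶ CommRingCat.of K₃ := CommRingCat.ofHom A₃.subtype
  have hK : Spec.map kB = Spec.map k₃ ≫ Spec.map incl := by
    rw [← Spec.map_comp]; rfl
  have hstr : a₃ ≫ qV.left ≫ V.hom = Spec.map incl ≫ str := by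
    simp only [str]; rw [reassoc_of% hmW₁, Over.w qW, Over.w qV]
  let oA : Over.mk (Spec.map incl ≫ str) ⟶ V := Over.homMk (a₃ ≫ qV.left) (by
    change (a₃ ≫ qV.left) ≫ V.hom = _
    rw [Category.assoc, hstr]; rfl)
  let qA : Over.mk (Spec.map incl ≫ str) ⟶ Q := Over.homMk a₃ (by
    change a₃ ≫ Q.hom = Spec.map incl ≫ str
    rw [← Over.w qV]; exact hstr)
  let jA : Over.mk (Spec.map incl ≫ str) ⟶ Over.mk str := Over.homMk (Spec.map incl) rfl
  let jK : Over.mk (Spec.map kB ≫ str) ⟶ Over.mk (Spec.map incl ≫ str) :=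
    Over.homMk (Spec.map k₃) (by
      change Spec.map k₃ ≫ Spec.map incl ≫ str = Spec.map kB ≫ str
      rw [hK, Category.assoc])
  let pt₀ : Over S := Over.mk (Spec.map kB ≫ str)
  obtain ⟨t₀, ht₀⟩ : ∃ t₀ : (yon S).obj pt₀ ⟶ U,
      t₀ ≫ h = (yon S).map jK ≫ (yon S).map oA ≫ pV := by
    -- the generic point comes from `U`
    let toA₁ := Spec.preimage ((pullback qV.left i).fromSpecResidueField r₁ ≫ pullback.snd qV.left i)
    let tA : A₁ →+* (pullback qV.left i).residueField r₁ := toA₁.hom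
    have hinj : Function.Injective tA := by
      rw [RingHom.injective_iff_ker_eq_bot, RingHom.ker_eq_comap_bot]
      have h1 : Spec.map toA₁ (closedPoint _) = g₁ := by
        rw [Spec.map_preimage, Scheme.Hom.comp_apply, Scheme.fromSpecResidueField_apply, hr₁']
      have h2 : (maximalIdeal ((pullback qV.left i).residueField r₁)).comap tA =
          (maximalIdeal K₁).comap A₁.subtype := congrArg PrimeSpectrum.asIdeal h1
      rw [maximalIdeal_eq_bot, maximalIdeal_eq_bot] at h2
      rw [h2, ← RingHom.ker_eq_comap_bot]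
      exact (RingHom.injective_iff_ker_eq_bot _).1 A₁.subtype_injective
    let lK : K₁ →+* (pullback qV.left i).residueField r₁ :=
      IsFractionRing.lift (A := A₁) (K := K₁) hinj
    let toK₁ : CommRingCat.of K₁ ⟶ (pullback qV.left i).residueField r₁ := CommRingCat.ofHom lK
    have htoK : CommRingCat.ofHom A₁.subtype ≫ toK₁ = toA₁ :=
      CommRingCat.hom_ext (RingHom.ext fun a =>
        IsFractionRing.lift_algebraMap (A := A₁) (K := K₁) hinj a)
    have hψi : Function.Injective (A₃.subtype.comp φ₃) := A₃.subtype_injective.comp hφ₃i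
    let ψ₂ : (pullback qV.left i).residueField r₁ ⟶ CommRingCat.of K₃ :=
      CommRingCat.ofHom (IsFractionRing.lift (A := A₂)
        (K := ↑((pullback qV.left i).residueField r₁)) hψi)
    have hψ₂ : CommRingCat.ofHom (algebraMap A₂ ((pullback qV.left i).residueField r₁)) ≫ ψ₂ =
        CommRingCat.ofHom φ₃ ≫ k₃ :=
      CommRingCat.hom_ext (RingHom.ext fun a => IsFractionRing.lift_algebraMap (A := A₂)
        (K := ↑((pullback qV.left i).residueField r₁)) hψi a)
    have hV : Spec.map (toK₁ ≫ ψ₂) ≫ Spec.map (CommRingCat.ofHom A₁.subtype) ≫ i =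
        Spec.map k₃ ≫ a₃ ≫ qV.left := by
      rw [← Spec.map_comp_assoc, ← Category.assoc, htoK, Spec.map_comp, Category.assoc,
        Spec.map_preimage, Category.assoc, ← pullback.condition, hi₂]
      simp only [a₃, mQ, Category.assoc]
      rw [← Spec.map_comp_assoc, hψ₂, Spec.map_comp_assoc]
    let c : pt₀ ⟶ Over.mk (Spec.map (CommRingCat.ofHom A₁.subtype) ≫ i ≫ V.hom) :=
      Over.homMk (Spec.map (toK₁ ≫ ψ₂)) (by
        change Spec.map _ ≫ Spec.map _ ≫ i ≫ V.hom = _
        rw [reassoc_of% hV]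
        exact (congrArg (Spec.map k₃ ≫ ·) hstr).trans
          ((Category.assoc _ _ _).symm.trans (congrArg (· ≫ str) hK.symm)))
    refine ⟨(yon S).map c ≫ t₁, ?_⟩
    rw [Category.assoc, ht₁, ← Functor.map_comp_assoc, ← Functor.map_comp_assoc]
    congr 2
    ext1
    exact hV
  let bT₃ : Over.mk (Spec.map (CommRingCat.ofHom rB) ≫ str) ⟶ TW := Over.homMk bT (by
    change bT ≫ TW.hom = Spec.map _ ≫ str
    rw [← Over.w wT]
    simp only [str]
    rw [reassoc_of% hmW₂])
  let lk' : Over.mk (Spec.map r₃ ≫ Spec.map incl ≫ str) ⟶ pt := Over.homMk lk (by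
    change lk ≫ pt.hom = Spec.map r₃ ≫ Spec.map incl ≫ str
    have h : lQ.left ≫ qV.left = lV.left := by rw [← Over.comp_left, hlQ₂]
    rw [← Over.w lV, ← h, Category.assoc, ← reassoc_of% ha₃, hstr])
  refine ⟨{ K := K₃, A := A₃, B₃ := B₃, B := B, hBA := hBA, mem_B := hB, rB := rB
            rB_coe := RingHom.ext fun _ => rfl
            str := str, bot := (yon S).map (Over.homMk mW rfl : Over.mk str ⟶ W) ≫ pW
            v := (yon S).map oA ≫ pV, v_comp := ?_, gen := t₀, gen_comp := ht₀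
            bT := bT₃ ≫ cT, bT_comp := ?_, bT_closed := ?_
            pt := (yon S).map lk' ≫ lP, pt_fst := ?_, pt_snd := ?_, pt_eq := ?_ }⟩
  · rw [Category.assoc, show oA = qA ≫ qV from rfl, Functor.map_comp_assoc, ← sqQ.w,
      ← Functor.map_comp_assoc, ← Functor.map_comp_assoc]
    congr 2
    ext1
    exact hmW₁.symm
  · rw [Functor.map_comp_assoc, ← sqT.w, ← Functor.map_comp_assoc, ← Functor.map_comp_assoc]
    congr 2
    ext1
    exact hmW₂.symm
  · change cT.left (bT (closedPoint B₃)) = y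
    rw [hbTc, hy']
  · rw [Category.assoc, ← hlPV, ← Functor.map_comp_assoc, ← Functor.map_comp_assoc]
    congr 2
    ext1
    change lk ≫ lV.left = Spec.map r₃ ≫ a₃ ≫ qV.left
    rw [reassoc_of% ha₃, ← hlQ₂]
    rfl
  · rw [Category.assoc, ← hlPS, ← Functor.map_comp]
    congr 1
    ext1
    change lk ≫ lS.left ≫ cT.left = Spec.map (CommRingCat.ofHom B₃.subtype) ≫ bT ≫ cT.left
    rw [reassoc_of% hbT]
    simp only [mT, Category.assoc]
  · rw [hx, ofPt_map_comp]
    exact congrArg _ (Subsingleton.elim (α := PrimeSpectrum p.K) _ _)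

set_option maxHeartbeats 1000000 in
/-- The specialisation cut out by a localised lift. -/
theorem exists_specializes_of_localised {U X Y : Sp S} {f : X ⟶ Y} {h : U ⟶ X}
    {T : Over S} {g : (yon S).obj T ⟶ Y} {P : Sp S} {fst : P ⟶ X} {snd : P ⟶ (yon S).obj T}
    (sqP : IsPullback fst snd f g) {x : Points P} {y : T.left}
    (D : RefinedDatum h f g fst snd x y) {A' : Type u} [CommRing A'] [IsDomain A'] [ValuationRing A']
    {K' : Type u} [Field K'] {A₄ : ValuationSubring K'} (φ : D.B →+* A') [IsLocalHom φ]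
    (φ₄ : D.A →+* A₄) [hφ₄l : IsLocalHom φ₄] (ι : A' →+* A₄)
    (hιφ : ι.comp φ = φ₄.comp (ValuationSubring.inclusion D.B D.A D.hBA))
    (l : (yon S).obj (Over.mk (Spec.map (CommRingCat.ofHom φ) ≫ D.str)) ⟶ X)
    (hl₂ : l ≫ f = (yon S).map (Over.homMk (Spec.map (CommRingCat.ofHom φ)) rfl :
      Over.mk (Spec.map (CommRingCat.ofHom φ) ≫ D.str) ⟶ Over.mk D.str) ≫ D.bot)
    (heq : (yon S).map (Over.homMk (Spec.map (CommRingCat.ofHom ι)) rfl :
        Over.mk (Spec.map (CommRingCat.ofHom ι) ≫ Spec.map (CommRingCat.ofHom φ) ≫ D.str) ⟶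
          Over.mk (Spec.map (CommRingCat.ofHom φ) ≫ D.str)) ≫ l =
      (yon S).map (Over.homMk (Spec.map (CommRingCat.ofHom φ₄)) (by
          change Spec.map _ ≫ Spec.map _ ≫ _ = Spec.map _ ≫ Spec.map _ ≫ _
          rw [← Spec.map_comp_assoc, ← Spec.map_comp_assoc, ← CommRingCat.ofHom_comp,
            ← CommRingCat.ofHom_comp, hιφ]) :
        Over.mk (Spec.map (CommRingCat.ofHom ι) ≫ Spec.map (CommRingCat.ofHom φ) ≫ D.str) ⟶
          Over.mk (Spec.map (CommRingCat.ofHom
            (ValuationSubring.inclusion D.B D.A D.hBA)) ≫ D.str)) ≫ D.v) :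
    ∃ x', x ⤳ x' ∧ Points.map snd x' = Points.schemeHomeo T y := by
  let incl := ValuationSubring.inclusion D.B D.A D.hBA
  let str₄ : Spec (CommRingCat.of A₄) ⟶ S :=
    Spec.map (CommRingCat.ofHom ι) ≫ Spec.map (CommRingCat.ofHom φ) ≫ D.str
  let c₄ : Over.mk str₄ ⟶ Over.mk (Spec.map (CommRingCat.ofHom φ) ≫ D.str) :=
    Over.homMk (Spec.map (CommRingCat.ofHom ι)) rfl
  let v₄ : Over.mk str₄ ⟶ Over.mk (Spec.map (CommRingCat.ofHom incl) ≫ D.str) :=
    Over.homMk (Spec.map (CommRingCat.ofHom φ₄)) (by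
      change Spec.map _ ≫ Spec.map _ ≫ _ = Spec.map _ ≫ Spec.map _ ≫ _
      rw [← Spec.map_comp_assoc, ← Spec.map_comp_assoc, ← CommRingCat.ofHom_comp,
        ← CommRingCat.ofHom_comp, hιφ])
  have hrB : Function.Surjective D.rB := by
    rintro ⟨z, hz⟩
    obtain ⟨⟨w, hw⟩, rfl⟩ := residue_surjective z
    exact ⟨⟨w, (D.mem_B w).2 ⟨hw, hz⟩⟩, Subtype.ext
      (congrArg (fun m : D.B →+* ResidueField D.A => m ⟨w, _⟩) D.rB_coe)⟩
  -- the specialisation
  let m₄ : Ideal A' := (maximalIdeal A₄).comap ι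
  have hm₄ : m₄.IsPrime := Ideal.IsPrime.comap ι
  let Bb := A' ⧸ m₄
  let πB : A' →+* Bb := Ideal.Quotient.mk m₄
  have hker : RingHom.ker D.rB ≤ RingHom.ker (πB.comp φ) := fun b hb => by
    rw [RingHom.mem_ker, RingHom.comp_apply, Ideal.Quotient.eq_zero_iff_mem, Ideal.mem_comap,
      show ι (φ b) = φ₄ (incl b) from congrArg (fun m : D.B →+* A₄ => m b) hιφ,
      IsLocalRing.mem_maximalIdeal, mem_nonunits_iff]
    intro hu
    have h0 : residue D.A (incl b) = 0 :=
      (congrArg (fun m : D.B →+* ResidueField D.A => m b) D.rB_coe).symm.trans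
        (congrArg Subtype.val (RingHom.mem_ker.1 hb))
    exact (residue_ne_zero_iff_isUnit _).2 (hφ₄l.map_nonunit _ hu) h0
  let θ : D.B₃ →+* Bb := RingHom.liftOfSurjective D.rB hrB ⟨πB.comp φ, hker⟩
  have hθ : θ.comp D.rB = πB.comp φ := RingHom.ext fun b =>
    RingHom.liftOfRightInverse_comp_apply D.rB (Function.surjInv hrB)
      (Function.rightInverse_surjInv hrB) ⟨πB.comp φ, hker⟩ b
  let strb : Spec (CommRingCat.of Bb) ⟶ S :=
    Spec.map (CommRingCat.ofHom πB) ≫ Spec.map (CommRingCat.ofHom φ) ≫ D.str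
  let bl : Over.mk strb ⟶ Over.mk (Spec.map (CommRingCat.ofHom φ) ≫ D.str) := Over.homMk (Spec.map (CommRingCat.ofHom πB)) rfl
  let bS : Over.mk strb ⟶ Over.mk (Spec.map (CommRingCat.ofHom D.rB) ≫ D.str) :=
    Over.homMk (Spec.map (CommRingCat.ofHom θ)) (by
      change Spec.map _ ≫ Spec.map _ ≫ D.str = Spec.map _ ≫ Spec.map _ ≫ D.str
      rw [← Spec.map_comp_assoc, ← Spec.map_comp_assoc, ← CommRingCat.ofHom_comp,
        ← CommRingCat.ofHom_comp, hθ])
  have hcomm : ((yon S).map bl ≫ l) ≫ f = (yon S).map (bS ≫ D.bT) ≫ g := by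
    rw [Category.assoc, hl₂, Functor.map_comp_assoc, D.bT_comp, ← Functor.map_comp_assoc,
      ← Functor.map_comp_assoc]
    congr 2
    ext1
    change Spec.map _ ≫ Spec.map _ = Spec.map _ ≫ Spec.map _
    rw [← Spec.map_comp, ← Spec.map_comp, ← CommRingCat.ofHom_comp, ← CommRingCat.ofHom_comp, hθ]
  let L := sqP.lift ((yon S).map bl ≫ l) ((yon S).map (bS ≫ D.bT)) hcomm
  have : Nontrivial Bb := Ideal.Quotient.nontrivial_iff.2 hm₄.ne_top
  have : IsLocalRing Bb := IsLocalRing.of_surjective' πB Ideal.Quotient.mk_surjective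
  refine ⟨Points.ofPt L (closedPoint Bb), ?_, ?_⟩
  · let k' := ResidueField A₄
    let ζ : Bb →+* k' := Ideal.Quotient.lift m₄ ((residue A₄).comp ι) fun b hb =>
      (residue_eq_zero_iff _).2 hb
    let ωL : ResidueField D.A →+* k' := IsLocalRing.ResidueField.map φ₄
    have hζ : ((ζ.comp πB).comp φ) = (ωL.comp (residue D.A)).comp incl := RingHom.ext fun b =>
      congrArg (fun m : D.B →+* A₄ => residue A₄ (m b)) hιφ
    have hζ₃ : ζ.comp θ = ωL.comp D.B₃.subtype := RingHom.ext fun c => by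
      obtain ⟨b, rfl⟩ := hrB c
      change ζ (θ (D.rB b)) = ωL (D.B₃.subtype (D.rB b))
      rw [show θ (D.rB b) = πB (φ b) from congrArg (fun m : D.B →+* Bb => m b) hθ,
        show D.B₃.subtype (D.rB b) = residue D.A (incl b) from
          congrArg (fun m : D.B →+* ResidueField D.A => m b) D.rB_coe]
      exact congrArg (fun m : D.B →+* k' => m b) hζ
    let zk : Over.mk (Spec.map (CommRingCat.ofHom ζ) ≫ strb) ⟶ Over.mk strb :=
      Over.homMk (Spec.map (CommRingCat.ofHom ζ)) rfl
    let zL : Over.mk (Spec.map (CommRingCat.ofHom ζ) ≫ strb) ⟶ Over.mk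
        (Spec.map (CommRingCat.ofHom (residue D.A)) ≫ Spec.map (CommRingCat.ofHom incl) ≫ D.str) :=
      Over.homMk (Spec.map (CommRingCat.ofHom ωL)) (by
        change Spec.map _ ≫ Spec.map _ ≫ Spec.map _ ≫ _ = Spec.map _ ≫ Spec.map _ ≫ Spec.map _ ≫ _
        simp only [← Spec.map_comp_assoc]
        exact congrArg (fun m => Spec.map (CommRingCat.ofHom m) ≫ D.str) hζ.symm)
    let z₄ : Over.mk (Spec.map (CommRingCat.ofHom ζ) ≫ strb) ⟶ Over.mk str₄ :=
      Over.homMk (Spec.map (CommRingCat.ofHom (residue A₄))) (by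
        change Spec.map _ ≫ str₄ = Spec.map _ ≫ strb
        simp only [strb, str₄, ← Spec.map_comp_assoc]
        rfl)
    let q₀ : ↥(Over.mk (Spec.map (CommRingCat.ofHom ζ) ≫ strb)).left := closedPoint k'
    let η : (Over.mk strb).left := zk.left q₀
    have hxη : x = Points.ofPt L η := by
      have hpt : Points.ofPt D.pt (closedPoint (ResidueField D.A)) =
          Points.ofPt ((yon S).map zL ≫ D.pt) q₀ := by
        rw [ofPt_map_comp]
        exact congrArg _ (Subsingleton.elim (α := PrimeSpectrum (ResidueField D.A)) _ _)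
      have hL₁ : L ≫ fst = (yon S).map bl ≫ l := sqP.lift_fst _ _ _
      have hL₂ : L ≫ snd = (yon S).map (bS ≫ D.bT) := sqP.lift_snd _ _ _
      let jr : Over.mk (Spec.map (CommRingCat.ofHom (residue D.A)) ≫
          Spec.map (CommRingCat.ofHom incl) ≫ D.str) ⟶
          Over.mk (Spec.map (CommRingCat.ofHom incl) ≫ D.str) :=
        Over.homMk (Spec.map (CommRingCat.ofHom (residue D.A))) rfl
      have e₁ : zk ≫ bl = z₄ ≫ c₄ := by
        ext1
        change Spec.map _ ≫ Spec.map _ = Spec.map _ ≫ Spec.map _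
        rw [← Spec.map_comp, ← Spec.map_comp]; rfl
      have e₂ : zL ≫ jr = z₄ ≫ v₄ := by
        ext1
        change Spec.map _ ≫ Spec.map _ = Spec.map _ ≫ Spec.map _
        rw [← Spec.map_comp, ← Spec.map_comp]; rfl
      have k₁ : (yon S).map zL ≫ D.pt ≫ fst = (yon S).map zk ≫ L ≫ fst := by
        have a₁ : (yon S).map zk ≫ (yon S).map bl ≫ l = (yon S).map z₄ ≫ (yon S).map c₄ ≫ l := by
          simp only [← Functor.map_comp_assoc, e₁]
        have a₂ : (yon S).map zL ≫ (yon S).map jr ≫ D.v = (yon S).map z₄ ≫ (yon S).map v₄ ≫ D.v := by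
          simp only [← Functor.map_comp_assoc, e₂]
        exact (congrArg ((yon S).map zL ≫ ·) D.pt_fst).trans (a₂.trans
          ((congrArg ((yon S).map z₄ ≫ ·) heq.symm).trans
            (a₁.symm.trans (congrArg ((yon S).map zk ≫ ·) hL₁.symm))))
      let jc : Over.mk (Spec.map (CommRingCat.ofHom (residue D.A)) ≫
          Spec.map (CommRingCat.ofHom incl) ≫ D.str) ⟶
          Over.mk (Spec.map (CommRingCat.ofHom D.rB) ≫ D.str) :=
        Over.homMk (Spec.map (CommRingCat.ofHom D.B₃.subtype)) (by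
          change Spec.map _ ≫ Spec.map _ ≫ _ = Spec.map _ ≫ Spec.map _ ≫ _
          rw [← Spec.map_comp_assoc, ← Spec.map_comp_assoc, ← CommRingCat.ofHom_comp, D.rB_coe,
            CommRingCat.ofHom_comp])
      have e₃ : zL ≫ jc = zk ≫ bS := by
        ext1
        change Spec.map _ ≫ Spec.map _ = Spec.map _ ≫ Spec.map _
        rw [← Spec.map_comp, ← Spec.map_comp]
        exact congrArg (fun m => Spec.map (CommRingCat.ofHom m)) hζ₃.symm
      have k₂ : (yon S).map zL ≫ D.pt ≫ snd = (yon S).map zk ≫ L ≫ snd := by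
        refine (congrArg ((yon S).map zL ≫ ·) D.pt_snd).trans
          (Eq.trans ?_ (congrArg ((yon S).map zk ≫ ·) hL₂.symm))
        change (yon S).map zL ≫ (yon S).map (jc ≫ D.bT) = _
        rw [← Functor.map_comp, ← Functor.map_comp, reassoc_of% e₃]
      have hLz : (yon S).map zL ≫ D.pt = (yon S).map zk ≫ L :=
        sqP.hom_ext ((Category.assoc _ _ _).trans (k₁.trans (Category.assoc _ _ _).symm))
          ((Category.assoc _ _ _).trans (k₂.trans (Category.assoc _ _ _).symm))
      rw [hLz] at hpt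
      exact (D.pt_eq.trans hpt).trans (ofPt_map_comp zk L q₀)
    rw [hxη]
    exact (specializes_closedPoint (R := Bb) η).map (Points.continuous_ofPt L)
  · rw [Points.map_ofPt, IsPullback.lift_snd, ofPt_map_eq]
    change Points.schemeHomeo T (D.bT.left (Spec.map (CommRingCat.ofHom θ) (closedPoint Bb))) = _
    have : IsLocalHom (πB.comp φ) := by
      have : IsLocalHom πB := IsLocalHom.of_surjective πB Ideal.Quotient.mk_surjective
      exact RingHom.isLocalHom_comp _ _
    have : IsLocalHom θ := ⟨fun c hc => by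
      obtain ⟨b, rfl⟩ := hrB c
      have hu : IsUnit ((θ.comp D.rB) b) := hc
      rw [hθ] at hu
      exact (IsLocalHom.map_nonunit (f := πB.comp φ) b hu).map D.rB⟩
    rw [show Spec.map (CommRingCat.ofHom θ) (closedPoint Bb) = closedPoint D.B₃ from
      IsLocalRing.comap_closedPoint θ, D.bT_closed]

set_option maxHeartbeats 1000000 in
/-- The refined criterion: specializations lift. -/
theorem exists_specializes_of_refined {U X Y : Sp S} {f : X ⟶ Y} {h : U ⟶ X}
    (hv : ∀ sq : ValSq f, (∃ t : (yon S).obj sq.ptK ⟶ U, t ≫ h = sq.top) →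
      sq.HasUniq ∧ sq.HasLiftExt)
    {T : Over S} {g : (yon S).obj T ⟶ Y} {P : Sp S} {fst : P ⟶ X} {snd : P ⟶ (yon S).obj T}
    (sqP : IsPullback fst snd f g) (x : Points P) (y : T.left)
    (D : RefinedDatum h f g fst snd x y) :
    ∃ x', x ⤳ x' ∧ Points.map snd x' = Points.schemeHomeo T y := by
  let incl := ValuationSubring.inclusion D.B D.A D.hBA
  let jA : Over.mk (Spec.map (CommRingCat.ofHom incl) ≫ D.str) ⟶ Over.mk D.str :=
    Over.homMk (Spec.map (CommRingCat.ofHom incl)) rfl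
  let jK : Over.mk (Spec.map (CommRingCat.ofHom D.B.subtype) ≫ D.str) ⟶
      Over.mk (Spec.map (CommRingCat.ofHom incl) ≫ D.str) :=
    Over.homMk (Spec.map (CommRingCat.ofHom D.A.subtype))
      ((Category.assoc _ _ _).symm.trans (congrArg (· ≫ D.str) (Spec.map_comp _ _).symm))
  let sq : ValSq f :=
    { A := D.B, K := D.K, str := D.str, top := (yon S).map jK ≫ D.v, bot := D.bot
      comm := by
        rw [Category.assoc, D.v_comp, ← Functor.map_comp_assoc]
        congr 2
        ext1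
        exact (Spec.map_comp _ _).symm }
  obtain ⟨-, e, l, hl₁, hl₂⟩ := hv sq ⟨D.gen, D.gen_comp⟩
  have := e.isLocalHom
  have hmax : ∀ z : D.A, z ∈ maximalIdeal D.A → (z : D.K) ∈ D.B := fun z hz =>
    (D.mem_B _).2 ⟨z.2, by rw [(residue_eq_zero_iff z).2 hz]; exact D.B₃.zero_mem⟩
  obtain ⟨A₄, φ₄, ι, hφ₄l, hφ₄, hι, hιφ⟩ :=
    exists_ext_localization D.hBA hmax (K' := e.K') e.φ e.ψ e.comm
  let str₄ : Spec (CommRingCat.of A₄) ⟶ S :=
    Spec.map (CommRingCat.ofHom ι) ≫ Spec.map (CommRingCat.ofHom e.φ) ≫ D.str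
  let k₄ : CommRingCat.of A₄ ⟶ CommRingCat.of e.K' := CommRingCat.ofHom A₄.subtype
  let c₄ : Over.mk str₄ ⟶ e.ptA' := Over.homMk (Spec.map (CommRingCat.ofHom ι)) rfl
  let v₄ : Over.mk str₄ ⟶ Over.mk (Spec.map (CommRingCat.ofHom incl) ≫ D.str) :=
    Over.homMk (Spec.map (CommRingCat.ofHom φ₄)) (by
      change Spec.map _ ≫ Spec.map _ ≫ _ = Spec.map _ ≫ Spec.map _ ≫ _
      rw [← Spec.map_comp_assoc, ← Spec.map_comp_assoc, ← CommRingCat.ofHom_comp,
        ← CommRingCat.ofHom_comp, hιφ])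
  let a₄ : Over.mk str₄ ⟶ sq.ptA :=
    Over.homMk (Spec.map (CommRingCat.ofHom ι) ≫ Spec.map (CommRingCat.ofHom e.φ))
      (Category.assoc _ _ _)
  have hk₄ : e.ψ.comp D.B.subtype = (A₄.subtype.comp ι).comp e.φ := by
    rw [hι]; exact e.comm.symm
  let kψ : Over.mk (Spec.map k₄ ≫ str₄) ⟶ sq.ptK :=
    Over.homMk (Spec.map (CommRingCat.ofHom e.ψ)) (by
      change Spec.map _ ≫ Spec.map _ ≫ D.str = Spec.map k₄ ≫ Spec.map _ ≫ Spec.map _ ≫ D.str
      simp only [← Spec.map_comp_assoc]
      exact congrArg (fun m => Spec.map (CommRingCat.ofHom m) ≫ D.str) hk₄)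
  have ha₄ : a₄ = v₄ ≫ jA := by
    ext1
    change Spec.map _ ≫ Spec.map _ = Spec.map _ ≫ Spec.map _
    rw [← Spec.map_comp, ← Spec.map_comp, ← CommRingCat.ofHom_comp, ← CommRingCat.ofHom_comp, hιφ]
  have heq : (yon S).map c₄ ≫ l = (yon S).map v₄ ≫ D.v := by
    let sq₄ : ValSq f :=
      { A := A₄, K := e.K', str := str₄, top := (yon S).map kψ ≫ sq.top
        bot := (yon S).map a₄ ≫ sq.bot
        comm := by
          rw [Category.assoc, sq.comm, ← Functor.map_comp_assoc, ← Functor.map_comp_assoc]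
          congr 2
          ext1
          change Spec.map _ ≫ Spec.map _ = Spec.map k₄ ≫ Spec.map _ ≫ Spec.map _
          simp only [← Spec.map_comp]
          exact congrArg (fun m => Spec.map (CommRingCat.ofHom m)) hk₄ }
    refine (hv sq₄ ⟨(yon S).map kψ ≫ D.gen,
      (Category.assoc _ _ _).trans (congrArg ((yon S).map kψ ≫ ·) D.gen_comp)⟩).1 _ _ ?_ ?_ ?_ ?_
    · let c' : Over.mk (Spec.map k₄ ≫ str₄) ⟶ e.ptK' := castOver (by
        simp only [str₄]
        rw [← Spec.map_comp_assoc]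
        exact congrArg (fun m : e.A' →+* e.K' => Spec.map (CommRingCat.ofHom m) ≫
          Spec.map (CommRingCat.ofHom e.φ) ≫ D.str) hι)
      refine Eq.trans ?_ ((congrArg ((yon S).map c' ≫ ·) hl₁).trans ?_)
      · rw [← Functor.map_comp_assoc, ← Functor.map_comp_assoc]
        congr 2
        ext1
        change Spec.map k₄ ≫ Spec.map _ = 𝟙 _ ≫ Spec.map _
        rw [Category.id_comp, ← Spec.map_comp]
        exact congrArg (fun m : e.A' →+* e.K' => Spec.map (CommRingCat.ofHom m)) hι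
      · rw [← Functor.map_comp_assoc]
        congr 2
    · rw [Category.assoc, hl₂, ← Functor.map_comp_assoc]
      congr 2
    · change _ = (yon S).map kψ ≫ (yon S).map jK ≫ D.v
      rw [← Functor.map_comp_assoc, ← Functor.map_comp_assoc]
      congr 2
      ext1
      change Spec.map k₄ ≫ Spec.map _ = Spec.map _ ≫ Spec.map _
      rw [← Spec.map_comp, ← Spec.map_comp, ← CommRingCat.ofHom_comp, ← CommRingCat.ofHom_comp, hφ₄]
    · change ((yon S).map v₄ ≫ D.v) ≫ f = (yon S).map a₄ ≫ D.bot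
      rw [Category.assoc, D.v_comp, ha₄, Functor.map_comp_assoc]
  exact exists_specializes_of_localised sqP D e.φ φ₄ ι hιφ l hl₂ heq

theorem isUnivClosedMor_of_refined {U X Y : Sp S} (hU : IsAlgSpace U) (hX : IsAlgSpace X)
    (hY : IsAlgSpace Y) {f : X ⟶ Y} {h : U ⟶ X} (hf : IsQuasiCompactMor f) (hh : IsQuasiCompactMor h)
    (hd : DenseRange (Points.map h))
    (hv : ∀ sq : ValSq f, (∃ t : (yon S).obj sq.ptK ⟶ U, t ≫ h = sq.top) →
      sq.HasUniq ∧ sq.HasLiftExt) : IsUnivClosedMor f := by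
  refine univSp_of_affine ptsLocal_isClosedMor fun Z hZ g P fst snd sq => ?_
  have := compactSpace_yon_of_affine Z
  have : CompactSpace (Points P) :=
    compactSpace_of_isQuasiCompactMor hX hY hf (IsAlgSpace.yon_obj Z) sq
  exact isClosedMap_of_specializations (isAlgSpace_baseChange hX hY (IsAlgSpace.yon_obj Z) sq)
    fun x t y h₁ h₂ =>
      exists_specializes_of_refined hv sq x y (exists_refinedDatum hU hX hY hh hd sq x t y h₁ h₂).some

/-- The separated part of the refined criterion. -/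
theorem isSeparatedMor_of_refined {U X Y : Sp S} (hU : IsAlgSpace U) (hX : IsAlgSpace X)
    (hY : IsAlgSpace Y) {f : X ⟶ Y} {h : U ⟶ X} (hh : IsQuasiCompactMor h)
    (hd : DenseRange (Points.map h))
    (hv : ∀ sq : ValSq f, (∃ t : (yon S).obj sq.ptK ⟶ U, t ≫ h = sq.top) → sq.HasUniq)
    (hqs : IsQuasiSeparatedMor f) : IsSeparatedMor f := by
  have hXX : IsAlgSpace (pullback f f) :=
    isAlgSpace_baseChange hX hY hX (IsPullback.of_hasPullback f f)
  have hqc : IsQuasiCompactMor (pullback.diagonal f) := (repWith_quasiCompact_iff hX hXX hqs.1).1 hqs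
  have : Mono (pullback.diagonal f) := inferInstance
  have huc : IsUnivClosedMor (pullback.diagonal f) :=
    isUnivClosedMor_of_refined hU hX hXX hqc hh hd fun sq ht =>
      ⟨fun l l' _ h₂ _ h₂' => (cancel_mono (pullback.diagonal f)).1 (h₂.trans h₂'.symm), by
        have e₁ : sq.top = (yon S).map sq.j ≫ sq.bot ≫ pullback.fst f f := by
          simpa [Category.assoc] using sq.comm =≫ pullback.fst f f
        have e₂ : sq.top = (yon S).map sq.j ≫ sq.bot ≫ pullback.snd f f := by
          simpa [Category.assoc] using sq.comm =≫ pullback.snd f f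
        let s : ValSq f :=
          { A := sq.A, K := sq.K, str := sq.str, top := sq.top
            bot := sq.bot ≫ pullback.fst f f ≫ f
            comm := (congrArg (· ≫ f) e₁).trans (by simp only [Category.assoc]) }
        have heq : sq.bot ≫ pullback.fst f f = sq.bot ≫ pullback.snd f f :=
          hv s ht _ _ e₁.symm (Category.assoc _ _ _) e₂.symm
            (by simp [s, pullback.condition])
        have hl : (sq.bot ≫ pullback.fst f f) ≫ pullback.diagonal f = sq.bot := by
          apply pullback.hom_ext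
          · simp
          · simpa using heq
        refine ⟨{ A' := sq.A, K' := sq.K, φ := RingHom.id _, ψ := RingHom.id _, comm := rfl,
                  isLocalHom := ⟨fun a ha => ha⟩ },
          (yon S).map (castOver (by simp)) ≫ sq.bot ≫ pullback.fst f f, ?_, ?_⟩
        · rw [e₁]
          simp only [← Functor.map_comp_assoc]
          congr 2
          ext1
          simp
        · simp only [Category.assoc] at hl ⊢
          rw [hl]
          congr 2
          ext1
          simp⟩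
  refine repWith_mono (P := @UniversallyClosed ⊓ (@LocallyOfFiniteType ⊓
    (@QuasiCompact ⊓ MorphismProperty.monomorphisms Scheme.{u}))) (fun A B n hn => ?_)
    (repWith_inf ((repWith_universallyClosed_iff hqs.1).2 huc)
      (repWith_inf (repWith_diagonal_lft hX f) (repWith_inf hqs (repWith_diagonal_mono hX f))))
  have := hn.1
  have := hn.2.1
  have := hn.2.2.1
  have : Mono n := hn.2.2.2
  have : IsProper n := {}
  exact (IsClosedImmersion.iff_isProper_and_mono n).2 ⟨inferInstance, inferInstance⟩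

end Groth.Agent.AlgSpace
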