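import Groth.Agent.Lib.AlgSpace.ValBasic
import Groth.Agent.Lib.ValSq12.Dense
import Mathlib.RingTheory.Valuation.ValuationSubring

/-!
# Lifts without extension for representable morphisms
-/

universe u

set_option backward.isDefEq.respectTransparency.types false
set_option linter.unusedVariables false

open CategoryTheory CategoryTheory.Limits AlgebraicGeometry Opposite IsLocalRing

namespace Groth.Agent.AlgSpace

open AlgSp

variable {S : Scheme.{u}}

/-- A dominated valuation ring is cut out by the larger one. -/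
theorem mem_range_of_dominated {A K A' K' : Type u} [CommRing A] [IsDomain A] [ValuationRing A]
    [Field K] [Algebra A K] [IsFractionRing A K] [CommRing A'] [IsDomain A'] [ValuationRing A']
    [Field K'] [Algebra A' K'] [IsFractionRing A' K'] (φ : A →+* A') (ψ : K →+* K') [IsLocalHom φ]
    (comm : (algebraMap A' K').comp φ = ψ.comp (algebraMap A K)) {z : K} {c : A'}
    (hc : ψ z = algebraMap A' K' c) : z ∈ Set.range (algebraMap A K) := by
  rcases ValuationRing.isInteger_or_isInteger A z with h | h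
  · exact h
  obtain ⟨a, ha⟩ := h
  by_cases hz : z = 0
  · exact ⟨0, by rw [map_zero, hz]⟩
  have hu : IsUnit (φ a) := by
    refine IsUnit.of_mul_eq_one c (IsFractionRing.injective A' K' ?_)
    rw [map_mul, map_one, ← hc]
    refine (congrArg (· * ψ z) (congrArg (fun t : A →+* K' => t a) comm)).trans ?_
    rw [RingHom.comp_apply, ha, map_inv₀, inv_mul_cancel₀ ((map_ne_zero ψ).2 hz)]
  obtain ⟨u, hu⟩ := IsLocalHom.map_nonunit a hu
  refine ⟨((u⁻¹ : Aˣ) : A), ?_⟩
  have h2 : algebraMap A K ((u⁻¹ : Aˣ) : A) * algebraMap A K a = 1 := by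
    rw [← map_mul, ← hu, Units.inv_mul, map_one]
  rw [ha] at h2
  exact eq_of_div_eq_one (by rw [div_eq_mul_inv]; exact h2)

/-- For a representable morphism a lift after an extension gives a lift. -/
theorem hasLift_of_domExt_of_representable {X Y : Sp S} {f : X ⟶ Y} (hf : Representable f)
    (sq : ValSq f) (e : sq.DomExt) (he : e.HasLift) : sq.HasLift := by
  obtain ⟨l', h₁, h₂⟩ := he
  have sqW := hf.isPullback sq.bot
  obtain ⟨i₁, hi₁⟩ := (yon S).map_surjective (sqW.lift sq.top ((yon S).map sq.j) sq.comm)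
  obtain ⟨k, hk⟩ := (yon S).map_surjective (sqW.lift l'
    ((yon S).map (Over.homMk (Spec.map (CommRingCat.ofHom e.φ)) rfl : e.ptA' ⟶ sq.ptA)) h₂)
  let j' : e.ptK' ⟶ e.ptA' :=
    Over.homMk (Spec.map (CommRingCat.ofHom (algebraMap e.A' e.K'))) rfl
  let ψK : e.ptK' ⟶ sq.ptK := Over.homMk (Spec.map (CommRingCat.ofHom e.ψ)) (by
    change Spec.map _ ≫ Spec.map _ ≫ _ = Spec.map _ ≫ Spec.map _ ≫ _
    rw [← Spec.map_comp_assoc, ← Spec.map_comp_assoc, ← CommRingCat.ofHom_comp,
      ← CommRingCat.ofHom_comp, e.comm])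
  have hjk : j' ≫ k = ψK ≫ i₁ := (yon S).map_injective (sqW.hom_ext (by
    simp only [Functor.map_comp, Category.assoc, hk, hi₁, IsPullback.lift_fst]
    exact h₁) (by
    simp only [Functor.map_comp, Category.assoc, hk, hi₁, IsPullback.lift_snd]
    rw [← Functor.map_comp, ← Functor.map_comp]
    congr 1
    ext1
    change Spec.map _ ≫ Spec.map _ = Spec.map _ ≫ Spec.map _
    rw [← Spec.map_comp, ← Spec.map_comp, ← CommRingCat.ofHom_comp, ← CommRingCat.ofHom_comp,
      e.comm]))
  have hjk' : j'.left ≫ k.left = ψK.left ≫ i₁.left := by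
    rw [← Over.comp_left, hjk, Over.comp_left]
  have hsp : i₁.left (closedPoint sq.K) ⤳ k.left (closedPoint e.A') := by
    have h0 : ψK.left (closedPoint e.K') = closedPoint sq.K :=
      @Subsingleton.elim _ (inferInstanceAs (Subsingleton (PrimeSpectrum sq.K))) _ _
    rw [← h0, ← Scheme.Hom.comp_apply, ← hjk', Scheme.Hom.comp_apply]
    exact (specializes_closedPoint (R := e.A') _).map k.left.continuous
  obtain ⟨α, hα⟩ := ValSq12.exists_fromSpecStalk_fac (R := CommRingCat.of sq.K) i₁.left hsp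
  obtain ⟨β, hβ⟩ := ValSq12.exists_fromSpecStalk_fac (R := CommRingCat.of e.A') k.left specializes_rfl
  have hαβ : α ≫ CommRingCat.ofHom e.ψ = β ≫ CommRingCat.ofHom (algebraMap e.A' e.K') :=
    ValSq12.hom_ext_fromSpecStalk (by
      rw [Spec.map_comp, Spec.map_comp, Category.assoc, Category.assoc, hα, hβ]
      exact hjk'.symm)
  have := e.isLocalHom
  have hmem : ∀ c, α.hom c ∈ Set.range (algebraMap sq.A sq.K) := fun c =>
    mem_range_of_dominated e.φ e.ψ e.comm (c := β.hom c)
      (congrArg (fun m : _ ⟶ CommRingCat.of e.K' => m c) hαβ)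
  let eA : sq.A ≃+* (algebraMap sq.A sq.K).range :=
    RingEquiv.ofBijective (algebraMap sq.A sq.K).rangeRestrict
      ⟨fun a b h => IsFractionRing.injective sq.A sq.K (congrArg Subtype.val h),
        (algebraMap sq.A sq.K).rangeRestrict_surjective⟩
  let αA : _ ⟶ CommRingCat.of sq.A :=
    CommRingCat.ofHom (eA.symm.toRingHom.comp (α.hom.codRestrict _ hmem))
  have hαA : αA ≫ CommRingCat.ofHom (algebraMap sq.A sq.K) = α := by
    ext c
    exact congrArg Subtype.val (eA.apply_symm_apply ⟨α.hom c, hmem c⟩)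
  let L := Spec.map αA ≫ (hf.pullback sq.bot).left.fromSpecStalk (k.left (closedPoint e.A'))
  have hL : L ≫ (hf.snd sq.bot).left = 𝟙 _ := by
    obtain ⟨m, hm⟩ := Spec.map_surjective (L ≫ (hf.snd sq.bot).left)
    have h3 : m ≫ CommRingCat.ofHom (algebraMap sq.A sq.K) =
        CommRingCat.ofHom (algebraMap sq.A sq.K) := Spec.map_injective (by
      rw [Spec.map_comp, hm]
      simp only [L, Category.assoc]
      rw [← Spec.map_comp_assoc, hαA, reassoc_of% hα,
        ← Over.comp_left, (yon S).map_injective (show (yon S).map (i₁ ≫ hf.snd sq.bot) =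
          (yon S).map sq.j by rw [Functor.map_comp, hi₁, IsPullback.lift_snd])]
      rfl)
    rw [← hm, show m = 𝟙 _ from CommRingCat.hom_ext (RingHom.ext fun a =>
      IsFractionRing.injective sq.A sq.K (congrArg (fun t : _ ⟶ CommRingCat.of sq.K => t a) h3)),
      Spec.map_id]
  have hstr : L ≫ (hf.pullback sq.bot).hom = sq.str := by
    rw [← Over.w (hf.snd sq.bot), reassoc_of% hL]
    rfl
  let Lm : sq.ptA ⟶ hf.pullback sq.bot := Over.homMk L hstr
  have hLi : sq.j ≫ Lm = i₁ := by
    ext1
    change Spec.map _ ≫ L = i₁.left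
    simp only [L]
    rw [← Spec.map_comp_assoc, hαA, hα]
  have hLs : Lm ≫ hf.snd sq.bot = 𝟙 _ := by ext1; exact hL
  refine ⟨(yon S).map Lm ≫ hf.fst sq.bot, ?_, ?_⟩
  · rw [← Functor.map_comp_assoc, hLi, hi₁, IsPullback.lift_fst]
  · rw [Category.assoc, sqW.w, ← Functor.map_comp_assoc, hLs, CategoryTheory.Functor.map_id,
      Category.id_comp]

/-- The strict existence part implies the one with extensions. -/
theorem hasLiftExt_of_hasLift {X Y : Sp S} {f : X ⟶ Y} (sq : ValSq f) (h : sq.HasLift) :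
    sq.HasLiftExt := by
  obtain ⟨l, h₁, h₂⟩ := h
  refine ⟨{ A' := sq.A, K' := sq.K, φ := RingHom.id _, ψ := RingHom.id _, comm := rfl,
            isLocalHom := ⟨fun a ha => ha⟩ }, (yon S).map (castOver (by simp)) ≫ l, ?_, ?_⟩
  · rw [← Functor.map_comp_assoc, ← h₁, ← Functor.map_comp_assoc]
    congr 2
    ext1
    simp
  · rw [Category.assoc, h₂]
    congr 2
    ext1
    simp

end Groth.Agent.AlgSpace
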