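import Groth.Agent.Lib.AlgSpace.Sub
import Groth.Agent.Lib.AlgSpace.Glue
import Groth.Agent.Lib.AlgSpace.Points
import Groth.Agent.Lib.AlgSpace.Affine
import Groth.Prelude.Def_AlgSpCov

/-!
# Properties of representable maps are Zariski local on the target space
-/

universe u

set_option backward.isDefEq.respectTransparency.types false
set_option linter.unusedVariables false

open CategoryTheory CategoryTheory.Limits AlgebraicGeometry Opposite

namespace Groth.Agent.AlgSpace

open AlgSp Groth.Agent.AlgSpDecent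

variable {S : Scheme.{u}}

/-- Around every point of a test scheme, the pullback of `f` is a pullback of one of its restrictions. -/
theorem exists_square_of_zarCover {X Y : Sp S} {f : X ⟶ Y} {ι : Type u} {Yi : ι → Sp S}
    {j : ∀ i, Yi i ⟶ Y} (hj : IsZarCover Yi j) {Xi : ι → Sp S} {p : ∀ i, Xi i ⟶ X}
    {q : ∀ i, Xi i ⟶ Yi i} (sq : ∀ i, IsPullback (p i) (q i) f (j i))
    {P : MorphismProperty Scheme.{u}} (h : ∀ i, RepWith P (q i)) {T : Over S}
    (g : (yon S).obj T ⟶ Y) (t : ↥T.left) :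
    ∃ O : T.left.Opens, t ∈ O ∧ ∃ (W : Over S) (w : W ⟶ Over.mk (O.ι ≫ T.hom))
      (fst : (yon S).obj W ⟶ X), IsPullback fst ((yon S).map w) f
        ((yon S).map (overArrow O.ι) ≫ g) ∧ P w.left := by
  obtain ⟨i, y, hy⟩ := hj.2 (Points.ofPt g t)
  have sqj := (hj.1 i).1.isPullback g
  have : IsOpenImmersion ((hj.1 i).1.snd g).left := (hj.1 i).2 g _ _ sqj
  let O : T.left.Opens := ((hj.1 i).1.snd g).left.opensRange
  obtain ⟨v, -, hv⟩ := exists_pt_of_isPullback sqj hy
  let π : Over.mk (O.ι ≫ T.hom) ⟶ T := overArrow O.ι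
  obtain ⟨l, hl⟩ := exists_factor_of_range (hj.1 i) ((yon S).map π ≫ g) (by
    rintro _ ⟨z, rfl⟩
    obtain ⟨o, rfl⟩ := (Points.schemeEquiv _).surjective z
    change Points.map ((yon S).map π ≫ g) (Points.ofScheme _ o) ∈ _
    rw [← Points.ofPt_eq_map_ofScheme, ofPt_map_comp]
    have ho : π.left o ∈ Set.range O.ι := ⟨o, rfl⟩
    rw [O.range_ι] at ho
    obtain ⟨v', hv'⟩ := ho
    rw [← hv']
    exact ⟨_, ofPt_sq sqj.w v'⟩)
  have sqq := (h i).1.isPullback l
  refine ⟨O, ⟨v, hv⟩, _, (h i).1.snd l, (h i).1.fst l ≫ p i, ?_, (h i).2 l _ _ sqq⟩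
  rw [← hl]
  exact sqq.paste_horiz (sq i)

/-- **Zariski descent** for representable maps with a property local on the target. -/
theorem repWith_of_zarCover {P : MorphismProperty Scheme.{u}} [P.IsStableUnderBaseChange]
    [IsZariskiLocalAtTarget P] {X Y : Sp S} {f : X ⟶ Y} {ι : Type u} {Yi : ι → Sp S}
    {j : ∀ i, Yi i ⟶ Y} (hj : IsZarCover Yi j) {Xi : ι → Sp S} {p : ∀ i, Xi i ⟶ X}
    {q : ∀ i, Xi i ⟶ Yi i} (sq : ∀ i, IsPullback (p i) (q i) f (j i))
    (h : ∀ i, RepWith P (q i)) : RepWith P f := by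
  have hrep : Representable f := representable_of_zariski f fun T g t => by
    obtain ⟨O, ht, W, w, fst, sqO, -⟩ := exists_square_of_zarCover hj sq h g t
    exact ⟨O, ht, W, w, fst, sqO⟩
  refine repWith_mk fun T g => ⟨hrep.pullback g, hrep.fst g, hrep.snd g, hrep.isPullback g, ?_⟩
  choose O ht W w fst sqO hP using fun t : ↥T.left => exists_square_of_zarCover hj sq h g t
  refine IsZariskiLocalAtTarget.of_iSup_eq_top (P := P) O
    (top_le_iff.1 fun t _ => TopologicalSpace.Opens.mem_iSup.2 ⟨t, ht t⟩) fun t => ?_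
  have sq₀ := hrep.isPullback g
  let m := sq₀.lift (fst t) ((yon S).map (w t ≫ overArrow (O t).ι))
    (by rw [Functor.map_comp, Category.assoc]; exact (sqO t).w)
  obtain ⟨m', hm⟩ := (yon S).map_surjective m
  have sq₁ : IsPullback ((yon S).map m') ((yon S).map (w t)) ((yon S).map (hrep.snd g))
      ((yon S).map (overArrow (O t).ι)) := by
    rw [hm]
    exact IsPullback.of_right (by rw [sq₀.lift_fst]; exact sqO t)
      (by rw [sq₀.lift_snd, Functor.map_comp]) sq₀
  have sq₂ := (IsPullback.of_map_of_faithful (yon S) sq₁).map (Over.forget S)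
  have sq₃ := (isPullback_morphismRestrict (hrep.snd g).left (O t)).flip
  rw [← sq₃.isoIsPullback_hom_snd _ _ sq₂]
  exact (P.cancel_left_of_respectsIso _ _).2 (hP t)

end Groth.Agent.AlgSpace
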